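import Cfsg.Agent.Grp.Fitting
import Cfsg.Agent.Grp.PNilp
import Cfsg.Agent.Grp.SylowIn
import Cfsg.Agent.Grp.MinNormal
import Cfsg.Agent.Grp.SZConj
import Cfsg.Agent.Loc.PConstr
import Cfsg.Agent.Char.FixedPointFree

/-!
CN-groups (centralisers of non-identity elements are nilpotent): commuting nilpotent subgroups of coprime orders,
maximal nilpotent subgroups, and quotients by solvable normal subgroups.
-/

set_option autoImplicit false

open Cfsg CL.Grp
open scoped Pointwise

namespace CL.CN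

variable {G : Type*} [Group G]

theorem isCN_of_injective {H : Type*} [Group H] (hCN : IsCNGroup G) (f : H →* G) (hf : Function.Injective f) :
    IsCNGroup H := by
  intro x hx
  have := hCN (f x) (fun h => hx (hf (h.trans (map_one f).symm)))
  let φ : Subgroup.centralizer ({x} : Set H) →* Subgroup.centralizer ({f x} : Set G) :=
    (f.comp (Subgroup.subtype _)).codRestrict _ fun y => by
      rw [Subgroup.mem_centralizer_singleton_iff]
      have := Subgroup.mem_centralizer_singleton_iff.mp y.2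
      simpa using congrArg f this
  exact Subgroup.isNilpotent_of_ker_le_center φ (by
    intro y hy
    have : y = 1 := Subtype.ext (hf ((congrArg Subtype.val hy).trans (map_one f).symm))
    rw [this]; exact Subgroup.one_mem _)

theorem isCN_subgroup (hCN : IsCNGroup G) (H : Subgroup G) : IsCNGroup H :=
  isCN_of_injective hCN H.subtype H.subtype_injective

theorem isCN_of_equiv {H : Type*} [Group H] (hCN : IsCNGroup G) (e : G ≃* H) : IsCNGroup H :=
  isCN_of_injective hCN e.symm.toMonoidHom e.symm.injective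

/-- A nontrivial nilpotent subgroup has a non-identity central element. -/
theorem exists_center_ne_one {A : Subgroup G} (hA : Group.IsNilpotent A) (h : A ≠ ⊥) :
    ∃ z ∈ A, z ≠ 1 ∧ ∀ a ∈ A, a * z = z * a := by
  have : Nontrivial A := (Subgroup.nontrivial_iff_ne_bot A).mpr h
  have h1 : Subgroup.center A ≠ ⊥ := Group.IsNilpotent.center_ne_bot A
  obtain ⟨⟨z, hz⟩, hz1⟩ := (Subgroup.ne_bot_iff_exists_ne_one).mp h1
  refine ⟨z, z.2, fun e => hz1 (Subtype.ext (Subtype.ext e)), fun a ha => ?_⟩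
  exact congrArg Subtype.val (Subgroup.mem_center_iff.mp hz ⟨a, ha⟩)

theorem commute_of_mem_nilpotent [Finite G] {C : Subgroup G} (hC : Group.IsNilpotent C) {a b : G} (ha : a ∈ C)
    (hb : b ∈ C) (h : (orderOf a).Coprime (orderOf b)) : a * b = b * a := by
  have := commute_of_coprime_orderOf_of_isNilpotent (G := C) (x := ⟨a, ha⟩) (y := ⟨b, hb⟩)
    (by simpa using h)
  exact congrArg Subtype.val this.eq

/-- Two elements of coprime orders commuting with a non-identity element of a CN-group commute. -/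
theorem commute_of_commute [Finite G] (hCN : IsCNGroup G) {x a b : G} (hx : x ≠ 1) (ha : a * x = x * a)
    (hb : b * x = x * b) (h : (orderOf a).Coprime (orderOf b)) : a * b = b * a :=
  commute_of_mem_nilpotent (hCN x hx) (Subgroup.mem_centralizer_singleton_iff.mpr ha)
    (Subgroup.mem_centralizer_singleton_iff.mpr hb) h

theorem coprime_orderOf_of_mem {A B : Subgroup G} (h : (Nat.card A).Coprime (Nat.card B)) {a b : G} (ha : a ∈ A)
    (hb : b ∈ B) : (orderOf a).Coprime (orderOf b) :=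
  (h.coprime_dvd_left (A.orderOf_dvd_natCard ha)).coprime_dvd_right (B.orderOf_dvd_natCard hb)

/-- In a CN-group two nilpotent subgroups of coprime orders centralise each other as soon as a non-identity element
of one commutes with a non-identity element of the other. -/
theorem commute_of_nilpotent_coprime [Finite G] (hCN : IsCNGroup G) {A B : Subgroup G} (hA : Group.IsNilpotent A)
    (hB : Group.IsNilpotent B) (h : (Nat.card A).Coprime (Nat.card B)) {x y : G} (hx : x ∈ A) (hx1 : x ≠ 1)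
    (hy : y ∈ B) (hy1 : y ≠ 1) (hxy : x * y = y * x) : ∀ a ∈ A, ∀ b ∈ B, a * b = b * a := by
  obtain ⟨z, hz, hz1, hzA⟩ := exists_center_ne_one hA (fun e => hx1 (by rwa [e, Subgroup.mem_bot] at hx))
  obtain ⟨w, hw, hw1, hwB⟩ := exists_center_ne_one hB (fun e => hy1 (by rwa [e, Subgroup.mem_bot] at hy))
  have h1 : z * y = y * z := commute_of_commute hCN hx1 (hzA x hx).symm hxy.symm (coprime_orderOf_of_mem h hz hy)
  have h2 : ∀ a ∈ A, a * y = y * a := fun a ha =>
    commute_of_commute hCN hz1 (hzA a ha) h1.symm (coprime_orderOf_of_mem h ha hy)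
  have h3 : ∀ a ∈ A, a * w = w * a := fun a ha =>
    commute_of_commute hCN hy1 (h2 a ha) (hwB y hy).symm (coprime_orderOf_of_mem h ha hw)
  exact fun a ha b hb => commute_of_commute hCN hw1 (h3 a ha) (hwB b hb) (coprime_orderOf_of_mem h ha hb)

theorem le_normalizer_of_commute {A B : Subgroup G} (h : ∀ a ∈ A, ∀ b ∈ B, a * b = b * a) :
    A ≤ Subgroup.normalizer (B : Set G) :=
  le_normalizer_of_le_centralizer fun a ha => Subgroup.mem_centralizer_iff.mpr fun b hb => (h a ha b hb).symm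

theorem isNilpotent_sup_of_commute [Finite G] {A B : Subgroup G} (hA : Group.IsNilpotent A)
    (hB : Group.IsNilpotent B) (h : ∀ a ∈ A, ∀ b ∈ B, a * b = b * a) : Group.IsNilpotent (A ⊔ B : Subgroup G) :=
  isNilpotent_sup hA hB (le_normalizer_of_commute h) (le_normalizer_of_commute fun b hb a ha => (h a ha b hb).symm)

theorem le_pCoreOf_sup_pPrimeCoreOf [Finite G] {H : Subgroup G} (hH : Group.IsNilpotent H) (p : ℕ) [Fact p.Prime] :
    H ≤ pCoreOf p H ⊔ pPrimeCoreOf p H := by
  have h := fittingSubgroup_le_pCore_sup_pPrimeCore (G := H) p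
  rw [fittingSubgroup_eq_top_iff.mpr hH] at h
  have := Subgroup.map_mono (f := H.subtype) h
  rwa [Subgroup.map_sup, ← MonoidHom.range_eq_map, Subgroup.range_subtype] at this

theorem commute_pCoreOf_pPrimeCoreOf [Finite G] (p : ℕ) {H : Subgroup G} (hH : Group.IsNilpotent H) :
    ∀ a ∈ pCoreOf p H, ∀ b ∈ pPrimeCoreOf p H, a * b = b * a := fun _ ha _ hb =>
  commute_of_mem_nilpotent hH (pCoreOf_le p H ha) (pPrimeCoreOf_le p H hb)
    (coprime_orderOf_of_mem (coprime_card_of_isPGroup (pCoreOf_isPGroup p H) (pPrimeCoreOf_coprime p H)) ha hb)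

theorem mem_pPrimeCoreOf_of_coprime [Finite G] {p : ℕ} [Fact p.Prime] {H : Subgroup G} (hH : Group.IsNilpotent H)
    {x : G} (hx : x ∈ H) (h : (orderOf x).Coprime p) : x ∈ pPrimeCoreOf p H := by
  obtain ⟨a, ha, b, hb, rfl⟩ := (mem_sup_of_le_normalizer (le_normalizer_of_commute
    (commute_pCoreOf_pPrimeCoreOf p hH))).mp (le_pCoreOf_sup_pPrimeCoreOf hH p hx)
  have hc : Commute a b := commute_pCoreOf_pPrimeCoreOf p hH a ha b hb
  have hab : (orderOf a).Coprime (orderOf b) :=
    coprime_orderOf_of_mem (coprime_card_of_isPGroup (pCoreOf_isPGroup p H) (pPrimeCoreOf_coprime p H)) ha hb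
  rw [hc.orderOf_mul_eq_mul_orderOf_of_coprime hab] at h
  rw [eq_one_of_coprime_of_mem (pCoreOf_isPGroup p H) ha (h.coprime_dvd_left (dvd_mul_right _ _)), one_mul]
  exact hb

theorem exists_prime_order_mem [Finite G] {H : Subgroup G} (h : H ≠ ⊥) :
    ∃ (p : ℕ) (x : G), p.Prime ∧ x ∈ H ∧ orderOf x = p := by
  obtain ⟨p, hp, hd⟩ := Nat.exists_prime_and_dvd (Subgroup.one_lt_card_iff_ne_bot H |>.mpr h).ne'
  have := Fact.mk hp
  obtain ⟨x, hx⟩ := exists_prime_orderOf_dvd_card' p hd
  exact ⟨p, x, hp, x.2, by simpa using hx⟩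

theorem ne_one_of_orderOf_prime {x : G} {p : ℕ} (hp : p.Prime) (h : orderOf x = p) : x ≠ 1 := by
  rintro rfl
  rw [orderOf_one] at h
  exact hp.one_lt.ne h

theorem isPGroup_zpowers_of_orderOf {x : G} {p k : ℕ} (h : orderOf x = p ^ k) : IsPGroup p (Subgroup.zpowers x) :=
  IsPGroup.of_card (n := k) (by rw [Nat.card_zpowers, h])

section MaxNilp

/-- `H` is a maximal nilpotent subgroup. -/
def IsMaxNilp (H : Subgroup G) : Prop :=
  Group.IsNilpotent H ∧ ∀ L : Subgroup G, Group.IsNilpotent L → H ≤ L → L = H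

theorem exists_isMaxNilp_ge [Finite G] {A : Subgroup G} (hA : Group.IsNilpotent A) :
    ∃ H : Subgroup G, IsMaxNilp H ∧ A ≤ H := by
  obtain ⟨H, hAH, hH⟩ := Finite.exists_le_maximal (p := fun L : Subgroup G => Group.IsNilpotent L) hA
  exact ⟨H, ⟨hH.1, fun L hL hHL => le_antisymm (hH.2 hL hHL) hHL⟩, hAH⟩

theorem IsMaxNilp.conj {H : Subgroup G} (hH : IsMaxNilp H) (g : G) : IsMaxNilp (MulAut.conj g • H) := by
  refine ⟨isNilpotent_map hH.1 _, fun L hL hle => ?_⟩
  have h1 := hH.2 (MulAut.conj g⁻¹ • L) (isNilpotent_map hL _) (by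
    rw [map_inv]; exact Subgroup.subset_pointwise_smul_iff.mpr (by rwa [inv_inv]))
  rw [← h1, conj_smul_conj_smul, mul_inv_cancel, map_one, one_smul]

theorem IsMaxNilp.le_of_commute [Finite G] {H A : Subgroup G} (hH : IsMaxNilp H) (hA : Group.IsNilpotent A)
    (h : ∀ a ∈ A, ∀ b ∈ H, a * b = b * a) : A ≤ H :=
  le_sup_left.trans (hH.2 _ (isNilpotent_sup_of_commute hA hH.1 h) le_sup_right).le

theorem IsMaxNilp.ne_bot [Finite G] [Nontrivial G] {H : Subgroup G} (hH : IsMaxNilp H) : H ≠ ⊥ := by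
  rintro rfl
  obtain ⟨x, hx⟩ := exists_ne (1 : G)
  have := hH.2 (Subgroup.zpowers x) (isNilpotent_of_isMulCommutative inferInstance) bot_le
  exact hx (Subgroup.zpowers_eq_bot.mp this)

variable [Finite G]

/-- A `p`-subgroup meeting a maximal nilpotent subgroup `H` of a CN-group non-trivially and containing `O_p(H)`, or
meeting it non-trivially when `H` is not a `p`-group, lies in `H`. -/
theorem IsMaxNilp.le_of_isPGroup (hCN : IsCNGroup G) {H : Subgroup G} (hH : IsMaxNilp H) {p : ℕ} [Fact p.Prime]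
    {P : Subgroup G} (hP : IsPGroup p P) (hle : pCoreOf p H ≤ P) (hne : pCoreOf p H ≠ ⊥) : P ≤ H := by
  have hc : ∀ a ∈ P, ∀ b ∈ pPrimeCoreOf p H, a * b = b * a := by
    by_cases h : pPrimeCoreOf p H = ⊥
    · intro a _ b hb
      rw [h, Subgroup.mem_bot] at hb
      rw [hb, mul_one, one_mul]
    · obtain ⟨⟨x, hx⟩, hx1⟩ := Subgroup.ne_bot_iff_exists_ne_one.mp hne
      obtain ⟨⟨y, hy⟩, hy1⟩ := Subgroup.ne_bot_iff_exists_ne_one.mp h
      exact commute_of_nilpotent_coprime hCN hP.isNilpotent (isNilpotent_of_le hH.1 (pPrimeCoreOf_le p H))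
        (coprime_card_of_isPGroup hP (pPrimeCoreOf_coprime p H)) (hle hx) (fun e => hx1 (Subtype.ext e)) hy
        (fun e => hy1 (Subtype.ext e)) (commute_pCoreOf_pPrimeCoreOf p hH.1 x hx y hy)
  have := hH.2 _ (isNilpotent_sup_of_commute hP.isNilpotent (isNilpotent_of_le hH.1 (pPrimeCoreOf_le p H)) hc)
    ((le_pCoreOf_sup_pPrimeCoreOf hH.1 p).trans (sup_le_sup_right hle _))
  exact le_sup_left.trans this.le

theorem pCoreOf_ne_bot_of_dvd {H : Subgroup G} (hH : Group.IsNilpotent H) {p : ℕ} [Fact p.Prime]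
    (hp : p ∣ Nat.card H) : pCoreOf p H ≠ ⊥ := by
  intro h
  have := not_dvd_relIndex_pCoreOf_of_isNilpotent hH p
  rw [h, Subgroup.relIndex_bot_left] at this
  exact this hp

/-- For a prime divisor `p` of the order of a maximal nilpotent subgroup `H` of a CN-group, `O_p(H)` is a Sylow
subgroup of the whole group. -/
theorem IsMaxNilp.exists_sylow_eq (hCN : IsCNGroup G) {H : Subgroup G} (hH : IsMaxNilp H) {p : ℕ} [Fact p.Prime]
    (hp : p ∣ Nat.card H) : ∃ P : Sylow p G, (P : Subgroup G) = pCoreOf p H := by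
  obtain ⟨P, hP⟩ := (pCoreOf_isPGroup p H).exists_le_sylow
  exact ⟨P, le_antisymm (le_pCoreOf_of_isNilpotent hH.1 P.2
    (hH.le_of_isPGroup hCN P.2 hP (pCoreOf_ne_bot_of_dvd hH.1 hp))) hP⟩

theorem IsMaxNilp.coprime (hCN : IsCNGroup G) {H : Subgroup G} (hH : IsMaxNilp H) :
    (Nat.card H).Coprime H.index := by
  refine Nat.coprime_of_dvd fun p hp h1 h2 => ?_
  have := Fact.mk hp
  obtain ⟨P, hP⟩ := hH.exists_sylow_eq hCN h1
  exact P.not_dvd_index (h2.trans (Subgroup.index_dvd_of_le (hP ▸ pCoreOf_le p H)))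

/-- If `x` is an element of order `p` of a maximal nilpotent subgroup `H` of a CN-group and `H` is not a `p`-group,
then `H` contains `O_{p'}(C(x))`. -/
theorem IsMaxNilp.pPrimeCoreOf_centralizer_le (hCN : IsCNGroup G) {H : Subgroup G} (hH : IsMaxNilp H) {p : ℕ}
    [hp : Fact p.Prime] {x : G} (hx : x ∈ H) (hxp : orderOf x = p) :
    pPrimeCoreOf p (Subgroup.centralizer ({x} : Set G)) ≤ H := by
  have hx1 := ne_one_of_orderOf_prime hp.out hxp
  set D := pPrimeCoreOf p (Subgroup.centralizer ({x} : Set G)) with hD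
  by_cases h : D = ⊥
  · rw [h]; exact bot_le
  have hDn : Group.IsNilpotent D := isNilpotent_of_le (hCN x hx1) (pPrimeCoreOf_le _ _)
  obtain ⟨⟨y, hy⟩, hy1⟩ := Subgroup.ne_bot_iff_exists_ne_one.mp h
  have hxH : x ∈ pCoreOf p H := le_pCoreOf_of_isNilpotent hH.1
    (isPGroup_zpowers_of_orderOf (k := 1) (by rw [hxp, pow_one])) (Subgroup.zpowers_le_of_mem hx)
    (Subgroup.mem_zpowers x)
  have hc := commute_of_nilpotent_coprime hCN (pCoreOf_isPGroup p H).isNilpotent hDn
    (coprime_card_of_isPGroup (pCoreOf_isPGroup p H) (pPrimeCoreOf_coprime p _)) hxH hx1 hy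
    (fun e => hy1 (Subtype.ext e)) (Subgroup.mem_centralizer_singleton_iff.mp (pPrimeCoreOf_le _ _ hy)).symm
  have hle : pPrimeCoreOf p H ≤ D := fun b hb => mem_pPrimeCoreOf_of_coprime (hCN x hx1)
    (Subgroup.mem_centralizer_singleton_iff.mpr (commute_pCoreOf_pPrimeCoreOf p hH.1 x hxH b hb).symm)
    ((pPrimeCoreOf_coprime p H).coprime_dvd_left (Subgroup.orderOf_dvd_natCard _ hb))
  have := hH.2 _ (isNilpotent_sup_of_commute (pCoreOf_isPGroup p H).isNilpotent hDn hc)
    ((le_pCoreOf_sup_pPrimeCoreOf hH.1 p).trans (sup_le_sup_left hle _))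
  exact le_sup_right.trans this.le

theorem IsMaxNilp.pPrimeCoreOf_le (hCN : IsCNGroup G) {H K : Subgroup G} (hH : Group.IsNilpotent H)
    (hK : IsMaxNilp K) {p : ℕ} [hp : Fact p.Prime] {x : G} (hx : x ∈ H) (hxK : x ∈ K) (hxp : orderOf x = p) :
    pPrimeCoreOf p H ≤ K := by
  refine le_trans (fun b hb => ?_) (hK.pPrimeCoreOf_centralizer_le hCN hxK hxp)
  have hb' := (pPrimeCoreOf_coprime p H).coprime_dvd_left (Subgroup.orderOf_dvd_natCard _ hb)
  exact mem_pPrimeCoreOf_of_coprime (hCN x (ne_one_of_orderOf_prime hp.out hxp))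
    (Subgroup.mem_centralizer_singleton_iff.mpr
      (commute_of_mem_nilpotent hH (CL.Grp.pPrimeCoreOf_le p H hb) hx (by rwa [hxp]))) hb'

/-- A nilpotent subgroup of a CN-group, not of prime power order, that meets a maximal nilpotent subgroup
non-trivially lies in it. -/
theorem IsMaxNilp.le_of_inf_ne_bot (hCN : IsCNGroup G) {H K : Subgroup G} (hH : Group.IsNilpotent H)
    (hK : IsMaxNilp K) (hpp : ∀ p : ℕ, p.Prime → ¬ IsPGroup p H) (hne : H ⊓ K ≠ ⊥) : H ≤ K := by
  obtain ⟨p, x, hp, hx, hxp⟩ := exists_prime_order_mem hne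
  have := Fact.mk hp
  have h1 := hK.pPrimeCoreOf_le hCN hH hx.1 hx.2 hxp
  have h2 : pPrimeCoreOf p H ≠ ⊥ := by
    intro h
    have := le_pCoreOf_sup_pPrimeCoreOf hH p
    rw [h, sup_bot_eq] at this
    exact hpp p hp ((pCoreOf_isPGroup p H).to_le this)
  obtain ⟨q, y, hq, hy, hyq⟩ := exists_prime_order_mem h2
  have := Fact.mk hq
  have h3 := hK.pPrimeCoreOf_le hCN hH (CL.Grp.pPrimeCoreOf_le p H hy) (h1 hy) hyq
  refine (le_pCoreOf_sup_pPrimeCoreOf hH p).trans (sup_le (le_trans (fun a ha => ?_) h3) h1)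
  refine mem_pPrimeCoreOf_of_coprime hH (pCoreOf_le p H ha) ?_
  rw [← hyq]
  exact coprime_orderOf_of_mem (coprime_card_of_isPGroup (pCoreOf_isPGroup p H) (pPrimeCoreOf_coprime p H)) ha hy

/-- If the centraliser of `x ≠ 1` normalises a maximal nilpotent subgroup of a CN-group containing `x`, it lies
in it. -/
theorem IsMaxNilp.centralizer_le (hCN : IsCNGroup G) {H : Subgroup G} (hH : IsMaxNilp H) {x : G} (hx : x ∈ H)
    (hx1 : x ≠ 1) (hn : Subgroup.centralizer ({x} : Set G) ≤ Subgroup.normalizer (H : Set G)) :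
    Subgroup.centralizer ({x} : Set G) ≤ H := by
  refine le_of_forall_isPGroup_le fun p hp P hPC hP => ?_
  by_cases hd : p ∣ Nat.card H
  · have h1 : IsPGroup p (P ⊔ pCoreOf p H : Subgroup G) :=
      hP.to_sup_of_normal_right' (pCoreOf_isPGroup p H) ((hPC.trans hn).trans (normalizer_le_normalizer_pCoreOf p H))
    exact le_sup_left.trans (hH.le_of_isPGroup hCN h1 le_sup_right (pCoreOf_ne_bot_of_dvd hH.1 hd))
  · by_cases h : P = ⊥
    · rw [h]; exact bot_le
    obtain ⟨⟨y, hy⟩, hy1⟩ := Subgroup.ne_bot_iff_exists_ne_one.mp h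
    exact hH.le_of_commute hP.isNilpotent (commute_of_nilpotent_coprime hCN hP.isNilpotent hH.1
      (coprime_card_of_isPGroup hP ((hp.out.coprime_iff_not_dvd.mpr hd).symm)) hy (fun e => hy1 (Subtype.ext e))
      hx hx1 (Subgroup.mem_centralizer_singleton_iff.mp (hPC hy)))

end MaxNilp

section Quotient

variable [Finite G]

/-- A finite group in which elements of coprime prime power orders commute is nilpotent. -/
theorem isNilpotent_of_commute_primePow {C : Subgroup G}
    (h : ∀ (r s : ℕ), r.Prime → s.Prime → r ≠ s → ∀ a ∈ C, ∀ b ∈ C, (∃ k, orderOf a = r ^ k) →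
      (∃ k, orderOf b = s ^ k) → a * b = b * a) : Group.IsNilpotent C := by
  rw [isNilpotent_iff_sylow_normal]
  intro p hp P
  rw [← Subgroup.normalizer_eq_top_iff]
  refine eq_top_of_forall_sylow_le fun q hq => ?_
  by_cases hpq : q = p
  · subst hpq; exact ⟨P, Subgroup.le_normalizer⟩
  · refine ⟨default, le_normalizer_of_commute fun a ha b hb => Subtype.ext (h q p hq.out hp.out hpq a a.2 b b.2 ?_ ?_)⟩
    · simpa using IsPGroup.iff_orderOf.mp (default : Sylow q C).2 ⟨a, ha⟩
    · simpa using IsPGroup.iff_orderOf.mp P.2 ⟨b, hb⟩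

theorem exists_lift_primePow {Q : Type*} [Group Q] (f : G →* Q) {r : ℕ} (hr : r.Prime) (g : G)
    (h : ∃ k, orderOf (f g) = r ^ k) : ∃ a ∈ Subgroup.zpowers g, (∃ k, orderOf a = r ^ k) ∧ f a = f g := by
  obtain ⟨a, ha, b, hb, ha', hb', e, -⟩ := exists_pPart_mul_pPrimePart hr g
  obtain ⟨k, hk⟩ := h
  have h1 : f b = 1 := by
    refine eq_one_of_coprime_of_mem (isPGroup_zpowers_of_orderOf hk) ?_ (hb'.coprime_dvd_left (orderOf_map_dvd f b))
    obtain ⟨n, rfl⟩ := Subgroup.mem_zpowers_iff.mp hb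
    rw [map_zpow]; exact Subgroup.zpow_mem_zpowers _ _
  exact ⟨a, ha, ha', by conv_rhs => rw [e, map_mul, h1, mul_one]⟩

theorem exists_lift_commute {Q : Type*} [Group Q] {f : G →* Q} (hf : Function.Surjective f) {r : ℕ}
    [Fact r.Prime] (hk : (Nat.card f.ker).Coprime r) {a : G} (ha : ∃ k, orderOf a = r ^ k) {q : Q}
    (hq : q * f a = f a * q) : ∃ g : G, g * a = a * g ∧ f g = q := by
  obtain ⟨k, hk'⟩ := ha
  have h1 := CL.Loc.map_centralizer_eq_of_coprime_ker hf hk (isPGroup_zpowers_of_orderOf hk')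
  have h2 : q ∈ Subgroup.centralizer (((Subgroup.zpowers a).map f : Subgroup Q) : Set Q) := by
    rw [MonoidHom.map_zpowers, Subgroup.mem_centralizer_iff]
    intro y hy
    obtain ⟨n, rfl⟩ := Subgroup.mem_zpowers_iff.mp hy
    exact ((Commute.zpow_right (show Commute q (f a) from hq) n).eq).symm
  rw [← h1] at h2
  obtain ⟨g, hg, rfl⟩ := h2
  exact ⟨g, (Subgroup.mem_centralizer_iff.mp hg a (Subgroup.mem_zpowers a)).symm, rfl⟩

theorem isCN_of_surjective_of_isPGroup (hCN : IsCNGroup G) {Q : Type*} [Group Q] {f : G →* Q}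
    (hf : Function.Surjective f) {p : ℕ} [hp : Fact p.Prime] (hk : IsPGroup p f.ker) : IsCNGroup Q := by
  have : Finite Q := Finite.of_surjective f hf
  by_cases hk1 : f.ker = ⊥
  · exact isCN_of_equiv hCN (MulEquiv.ofBijective f ⟨(MonoidHom.ker_eq_bot_iff f).mp hk1, hf⟩)
  obtain ⟨⟨h, hh⟩, hh1⟩ := Subgroup.ne_bot_iff_exists_ne_one.mp hk1
  have hh1' : h ≠ 1 := fun e => hh1 (Subtype.ext e)
  intro x₀ hx₀
  obtain ⟨q, x, hq, hx, hxq⟩ := exists_prime_order_mem (H := Subgroup.zpowers x₀)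
    (fun e => hx₀ (Subgroup.zpowers_eq_bot.mp e))
  have hx1 := ne_one_of_orderOf_prime hq hxq
  refine isNilpotent_of_le (K := Subgroup.centralizer ({x} : Set Q)) ?_ (fun y hy => ?_)
  swap
  · obtain ⟨n, rfl⟩ := Subgroup.mem_zpowers_iff.mp hx
    exact Subgroup.mem_centralizer_singleton_iff.mpr
      (Commute.zpow_right (Subgroup.mem_centralizer_singleton_iff.mp hy) n).eq
  have hcop : ∀ r : ℕ, r.Prime → r ≠ p → (Nat.card f.ker).Coprime r := fun r hr hrp =>
    coprime_card_of_isPGroup hk ((Nat.coprime_primes hr hp.out).mpr hrp)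
  by_cases hqp : q = p
  swap
  · have := Fact.mk hq
    obtain ⟨g, rfl⟩ := hf x
    obtain ⟨a, -, ha, e⟩ := exists_lift_primePow f hq g ⟨1, by rw [hxq, pow_one]⟩
    have ha1 : a ≠ 1 := fun h => hx1 (by rw [← e, h, map_one])
    refine isNilpotent_of_le (isNilpotent_map (hCN a ha1) f) fun y hy => ?_
    obtain ⟨z, hz, rfl⟩ := exists_lift_commute hf (hcop q hq hqp) ha
      (e ▸ Subgroup.mem_centralizer_singleton_iff.mp hy)
    exact ⟨z, Subgroup.mem_centralizer_singleton_iff.mpr hz, rfl⟩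
  subst hqp
  -- an `r`-element centralising `x` modulo the kernel centralises the preimage of every `p`-group containing `x`
  have key : ∀ r : ℕ, r.Prime → r ≠ q → ∀ a : G, (∃ k, orderOf a = r ^ k) → x * f a = f a * x →
      ∀ A : Subgroup Q, IsPGroup q A → x ∈ A → ∀ b ∈ A.comap f, b * a = a * b := by
    intro r hr hrq a ha hxa A hA hxA b hb
    by_cases ha1 : a = 1
    · rw [ha1, mul_one, one_mul]
    have := Fact.mk hr
    obtain ⟨g, hg, e⟩ := exists_lift_commute hf (hcop r hr hrq) ha hxa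
    obtain ⟨k, hk'⟩ := ha
    have hA' : IsPGroup q (A.comap f) := hA.comap_of_ker_isPGroup f hk
    refine commute_of_nilpotent_coprime hCN hA'.isNilpotent (isPGroup_zpowers_of_orderOf hk').isNilpotent
      (coprime_card_of_isPGroup hA' ?_) (x := g) (show f g ∈ A from e ▸ hxA)
      (fun h => hx1 (by rw [← e, h, map_one])) (Subgroup.mem_zpowers a) ha1 hg b hb a (Subgroup.mem_zpowers a)
    rw [Nat.card_zpowers, hk']
    exact Nat.Coprime.pow_left _ ((Nat.coprime_primes hr hq).mpr hrq)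
  have hxP : IsPGroup q (Subgroup.zpowers x) := isPGroup_zpowers_of_orderOf (k := 1) (by rw [hxq, pow_one])
  have key2 : ∀ r : ℕ, r.Prime → r ≠ q → ∀ a : G, (∃ k, orderOf a = r ^ k) → x * f a = f a * x →
      ∀ b : G, (∃ k, orderOf (f b) = q ^ k) → x * f b = f b * x → b * a = a * b := by
    rintro r hr hrq a ha hxa b ⟨k, hb⟩ hxb
    refine key r hr hrq a ha hxa (Subgroup.zpowers (f b) ⊔ Subgroup.zpowers x)
      ((isPGroup_zpowers_of_orderOf hb).to_sup_of_normal_right' hxP (le_normalizer_of_commute ?_))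
      (Subgroup.mem_sup_right (Subgroup.mem_zpowers x)) b (Subgroup.mem_sup_left (Subgroup.mem_zpowers _))
    intro u hu v hv
    obtain ⟨n, rfl⟩ := Subgroup.mem_zpowers_iff.mp hu
    obtain ⟨m, rfl⟩ := Subgroup.mem_zpowers_iff.mp hv
    exact (Commute.zpow_zpow (show Commute (f b) x from hxb.symm) n m).eq
  refine isNilpotent_of_commute_primePow fun r s hr hs hrs a ha b hb har hbs => ?_
  obtain ⟨a, rfl⟩ := hf a
  obtain ⟨b, rfl⟩ := hf b
  obtain ⟨a', -, ha', ea⟩ := exists_lift_primePow f hr a har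
  obtain ⟨b', -, hb', eb⟩ := exists_lift_primePow f hs b hbs
  rw [← ea] at ha har ⊢
  rw [← eb] at hb hbs ⊢
  have hxa := (Subgroup.mem_centralizer_singleton_iff.mp ha).symm
  have hxb := (Subgroup.mem_centralizer_singleton_iff.mp hb).symm
  rw [← map_mul, ← map_mul]
  congr 1
  by_cases hrq : r = q
  · subst hrq
    exact key2 s hs hrs.symm b' hb' hxb a' har hxa
  by_cases hsq : s = q
  · subst hsq
    exact (key2 r hr hrs a' ha' hxa b' hbs hxb).symm
  have hh' : ∃ k, orderOf (f h) = q ^ k := ⟨0, by rw [show f h = 1 from hh, orderOf_one, pow_zero]⟩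
  have hxh : x * f h = f h * x := by rw [show f h = 1 from hh, mul_one, one_mul]
  obtain ⟨k, ha''⟩ := ha'
  obtain ⟨l, hb''⟩ := hb'
  exact commute_of_commute hCN hh1' (key2 r hr hrq a' ⟨k, ha''⟩ hxa h hh' hxh).symm
    (key2 s hs hsq b' ⟨l, hb''⟩ hxb h hh' hxh).symm
    (by rw [ha'', hb'']; exact Nat.Coprime.pow _ _ ((Nat.coprime_primes hr hs).mpr hrs))

end Quotient

universe u in
/-- The image of a finite CN-group under a homomorphism with solvable kernel is a CN-group. -/
theorem isCN_of_surjective {Q : Type*} [Group Q] (G : Type u) [Group G] [Finite G] :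
    IsCNGroup G → ∀ f : G →* Q, Function.Surjective f → Group.IsSolvable f.ker → IsCNGroup Q := by
  refine induction_on_card (P := fun G _ _ => IsCNGroup G → ∀ f : G →* Q, Function.Surjective f →
    Group.IsSolvable f.ker → IsCNGroup Q) (fun G _ _ ih hCN f hf hs => ?_) G
  by_cases hk1 : f.ker = ⊥
  · exact isCN_of_equiv hCN (MulEquiv.ofBijective f ⟨(MonoidHom.ker_eq_bot_iff f).mp hk1, hf⟩)
  obtain ⟨p, M, hp, hM, hMk, hM1, -, hMp⟩ := exists_abelian_normal_pgroup_le_of_isSolvable f.ker hk1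
  have := Fact.mk hp
  refine ih (G ⧸ M) (card_quotient_lt hM1)
    (isCN_of_surjective_of_isPGroup hCN (QuotientGroup.mk'_surjective M) (by rwa [QuotientGroup.ker_mk']))
    (QuotientGroup.lift M f hMk) (QuotientGroup.lift_surjective_of_surjective M f hf hMk) ?_
  rw [QuotientGroup.ker_lift]
  exact isSolvable_map _ _

theorem isCN_quotient [Finite G] (hCN : IsCNGroup G) (H : Subgroup G) [H.Normal] (hH : Group.IsSolvable H) :
    IsCNGroup (G ⧸ H) :=
  isCN_of_surjective G hCN (QuotientGroup.mk' H) (QuotientGroup.mk'_surjective H) (by rwa [QuotientGroup.ker_mk'])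

end CL.CN
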