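import Cfsg.Agent.Char.Faithful
import Cfsg.Agent.Char.Clifford
import Cfsg.Agent.Char.Constituent

/-! Codegrees of irreducible characters. -/

set_option autoImplicit false
open Cfsg
open scoped ComplexConjugate

namespace CL.Char

variable {G : Type*} [Group G] [Finite G]

theorem codeg_card_ker {χ : G → ℂ} (h : IsCharacter G χ) :
    Nat.card {g : G // χ g = χ 1} = Nat.card (charKer χ) :=
  Nat.card_congr (Equiv.subtypeEquivRight fun _ => h.mem_charKer.symm)

theorem codeg_degree_dvd_index {χ : G → ℂ} (h : IsIrrCharacter G χ) :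
    charDegree χ ∣ (charKer χ).index := by
  have := h.charKer_normal
  obtain ⟨ψ, hψ, he⟩ := h.exists_quotient (charKer χ) le_rfl
  have h1 : charDegree χ = charDegree ψ := by
    symm
    rw [hψ.isCharacter.charDegree_eq_iff, h.cast_charDegree, congrFun he 1]; rfl
  rw [h1]
  exact hψ.charDegree_dvd_card

/-- The codegree `k` of `χ` satisfies `[G : ker χ] = χ(1) k`. -/
theorem codeg_index_eq {χ : G → ℂ} (h : IsIrrCharacter G χ) :
    (charKer χ).index = charDegree χ *
      (Nat.card G / (Nat.card {g : G // χ g = χ 1} * charDegree χ)) := by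
  obtain ⟨k, hk⟩ := codeg_degree_dvd_index h
  have h1 := (charKer χ).card_mul_index
  rw [codeg_card_ker h.isCharacter, ← h1, hk, ← mul_assoc,
    Nat.mul_div_cancel_left _ (Nat.mul_pos Nat.card_pos h.charDegree_pos)]

theorem codeg_dvd_card {χ : G → ℂ} (h : IsIrrCharacter G χ) :
    Nat.card G / (Nat.card {g : G // χ g = χ 1} * charDegree χ) ∣ Nat.card G :=
  (Dvd.intro_left _ (codeg_index_eq h).symm).trans (charKer χ).index_dvd_card

theorem codeg_sq_lt_card {χ : G → ℂ} (h : IsIrrCharacter G χ) (h1 : χ ≠ fun _ => 1) :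
    charDegree χ ^ 2 < Nat.card G := by
  classical
  rw [← sum_charDegree_sq]
  have hne : (⟨χ, h⟩ : IrrCharacter G) ≠ irrOne G := fun h' => h1 (congrArg Subtype.val h')
  have h2 := Finset.add_le_sum (s := Finset.univ)
    (f := fun ψ : IrrCharacter G => charDegree (ψ : G → ℂ) ^ 2) (fun _ _ => Nat.zero_le _)
    (Finset.mem_univ _) (Finset.mem_univ _) hne
  have h3 := Nat.pow_pos (n := 2) (irrOne G).2.charDegree_pos
  simp only at h2
  omega

/-- The degree of an irreducible character is at most the index of a subgroup times the degree of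
any constituent of the restriction. -/
theorem codeg_degree_le_index_mul {χ : G → ℂ} (h : IsIrrCharacter G χ) {H : Subgroup G}
    [Fintype H] {θ : H → ℂ} (hθ : IsCharacter H θ)
    (hne : classInner (fun x : H => χ x) θ ≠ 0) : charDegree χ ≤ H.index * charDegree θ := by
  have := Fintype.ofFinite G
  have h1 := (isCharacter_indFun hθ).charDegree_le_of_classInner_ne_zero h
    (by rwa [classInner_indFun_eq_res hθ h.isCharacter])
  rwa [charDegree_eq_of_eq (χ := indFun H θ) (n := H.index * charDegree θ)
    (by rw [indFun_one, Nat.cast_mul, hθ.cast_charDegree])] at h1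

/-- If `χ(1) = [G : A]` then `A` contains every subgroup `C ≥ A` centralizing it. -/
theorem codeg_le_of_degree_eq_index {χ : G → ℂ} (h : IsIrrCharacter G χ) {A C : Subgroup G}
    (hAC : A ≤ C) (hC : C ≤ Subgroup.centralizer (A : Set G)) (hd : charDegree χ = A.index) :
    C ≤ A := by
  have := Fintype.ofFinite C
  obtain ⟨θ, hθ, hne⟩ := exists_irr_constituent_restrict C h
  have h1 := codeg_degree_le_index_mul h hθ.isCharacter hne
  have h2 := (hθ.charDegree_sq_le_index (Z := A.subgroupOf C) (fun x hx =>
    hθ.center_le_charCenter (Subgroup.mem_center_iff.2 fun y => Subtype.ext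
      ((hC y.2) x (Subgroup.mem_subgroupOf.1 hx)).symm))).1
  have h3 : A.relIndex C * C.index = A.index := Subgroup.relIndex_mul_index hAC
  change _ ≤ A.relIndex C at h2
  have h4 : 0 < C.index := Nat.pos_of_ne_zero Subgroup.index_ne_zero_of_finite
  have h5 : A.relIndex C ≤ charDegree θ := by
    rw [hd, ← h3, mul_comm] at h1
    exact Nat.le_of_mul_le_mul_left h1 h4
  have h6 := hθ.charDegree_pos
  have h7 : charDegree θ = 1 := by nlinarith
  have h8 : A.relIndex C ≠ 0 := Subgroup.index_ne_zero_of_finite
  exact Subgroup.relIndex_eq_one.1 (by omega)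

/-- An irreducible character with `#G = p χ(1)` forces a self-centralizing normal subgroup of
order `p`, of index prime to `p`. -/
theorem codeg_exists_of_prime {χ : G → ℂ} (h : IsIrrCharacter G χ) {p : ℕ} (hp : p.Prime)
    (hc : Nat.card G = p * charDegree χ) :
    ∃ P : Subgroup G, P.Normal ∧ Nat.card P = p ∧ P.index = charDegree χ ∧ charDegree χ < p ∧
      Subgroup.centralizer (P : Set G) ≤ P := by
  have := Fact.mk hp
  have hd0 := h.charDegree_pos
  have hd : charDegree χ < p := by
    by_cases h1 : χ = fun _ => 1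
    · rw [charDegree_eq_of_eq (n := 1) (by simp [h1])]; exact hp.one_lt
    · have h2 := codeg_sq_lt_card h h1
      rw [hc, sq] at h2
      exact lt_of_mul_lt_mul_right h2 (Nat.zero_le _)
  obtain ⟨P⟩ : Nonempty (Sylow p G) := inferInstance
  have hP : Nat.card P = p := by
    rw [P.card_eq_multiplicity, hc, Nat.factorization_mul hp.ne_zero hd0.ne', Finsupp.add_apply,
      hp.factorization_self, Nat.factorization_eq_zero_of_lt hd, add_zero, pow_one]
  have hi : (P : Subgroup G).index = charDegree χ := by
    have h1 := (P : Subgroup G).card_mul_index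
    rw [hc, hP] at h1
    exact Nat.eq_of_mul_eq_mul_left hp.pos h1
  have h1 : Nat.card (Sylow p G) = 1 := by
    have h2 := card_sylow_modEq_one p G
    have h3 := Nat.le_of_dvd (hi ▸ hd0) P.card_dvd_index
    rw [Nat.ModEq, Nat.mod_eq_of_lt (by omega), Nat.mod_eq_of_lt hp.one_lt] at h2
    exact h2
  have : Subsingleton (Sylow p G) := (Nat.card_eq_one_iff_unique.1 h1).1
  refine ⟨P, P.normal_of_subsingleton, hP, hi, hd, ?_⟩
  have hcyc : IsCyclic P := isCyclic_of_prime_card hP
  refine codeg_le_of_degree_eq_index h ?_ le_rfl hi.symm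
  intro x hx y hy
  exact congrArg Subtype.val (hcyc.isMulCommutative.is_comm.comm (⟨y, hy⟩ : P) ⟨x, hx⟩)

end CL.Char
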