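/-
The Glauberman correspondence for a cyclic group of operators (Isaacs, Theorem 13.6), inside an ambient group `Γ`
containing a normal copy `ι G` of `G` and an element `s` of order coprime to `|G|`.
-/
import Cfsg.Agent.Char.GlaubBasic
import Cfsg.Agent.Char.Cover

set_option autoImplicit false

open Cfsg
open scoped ComplexConjugate

namespace CL.Char

variable {Γ G C : Type*} [Group Γ] [Group G] [Group C]

/-- `s` induces the automorphism `α` on the normal subgroup `ι G` of `Γ`, has order coprime to `|G|`, and `j`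
identifies `C` with the fixed points of `α`. -/
structure GlCyc (ι : G →* Γ) (j : C →* G) (s : Γ) (α : MulAut G) : Prop where
  ι_inj : Function.Injective ι
  normal : ι.range.Normal
  ι_aut : ∀ g, ι (α g) = s * ι g * s⁻¹
  cop : (orderOf s).Coprime (Nat.card G)
  j_inj : Function.Injective j
  range_j : ∀ g, g ∈ j.range ↔ α g = g

namespace GlCyc

variable {ι : G →* Γ} {j : C →* G} {s : Γ} {α : MulAut G} (h : GlCyc ι j s α)
include h

theorem conj_pow (k : ℕ) (g : G) : ι ((α ^ k) g) = s ^ k * ι g * (s ^ k)⁻¹ := by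
  induction k with
  | zero => simp
  | succ k ih => rw [pow_succ', MulAut.mul_apply, h.ι_aut, ih, pow_succ']; group

theorem aut_pow_orderOf : α ^ orderOf s = 1 := by
  ext g
  apply h.ι_inj
  rw [h.conj_pow, pow_orderOf_eq_one]
  simp

theorem commute (c : C) : Commute (ι (j c)) s := by
  have h1 := h.ι_aut (j c)
  rw [(h.range_j _).mp ⟨c, rfl⟩] at h1
  change ι (j c) * s = s * ι (j c)
  conv_lhs => rw [h1]
  group

theorem commute_zpowers (c : C) (b : Subgroup.zpowers s) : Commute (ι (j c)) (b : Γ) := by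
  obtain ⟨k, hk⟩ := b.2
  rw [← hk]
  exact (h.commute c).zpow_right k

/-- The multiplication map `C × ⟨s⟩ → Γ`. -/
def prodHom : C × Subgroup.zpowers s →* Γ :=
  MonoidHom.noncommCoprod (ι.comp j) (Subgroup.zpowers s).subtype h.commute_zpowers

theorem prodHom_apply (c : C) (b : Subgroup.zpowers s) : h.prodHom (c, b) = ι (j c) * b := rfl

theorem isClassFunction_coset {ψ : Γ → ℂ} (hψ : IsClassFunction Γ ψ) (b : Subgroup.zpowers s) :
    IsClassFunction C (fun c => ψ (ι (j c) * b)) := by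
  intro c d
  have h1 := hψ (ι (j c) * b) (ι (j d))
  simp only
  rw [← h1]
  congr 1
  simp only [map_mul, map_inv, mul_assoc]
  congr 2
  exact (h.commute_zpowers d b).inv_left.eq

variable [Finite Γ] [Fintype C]

theorem isCharacter_slice {ψ : Γ → ℂ} (hψ : IsCharacter Γ ψ) {β : C → ℂ} (hβ : IsCharacter C β) :
    IsCharacter (Subgroup.zpowers s) (fun b => classInner (fun c => ψ (ι (j c) * b)) β) :=
  gl_isCharacter_slice (hψ.comp h.prodHom) hβ

omit [Finite Γ] in
/-- Inner products on the coset `C s` are computed on the coset `G s`. -/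
theorem classInner_coset [Fintype G] {ψ φ : Γ → ℂ} (hψ : IsClassFunction Γ ψ) (hφ : IsClassFunction Γ φ) :
    classInner (fun c => ψ (ι (j c) * s)) (fun c => φ (ι (j c) * s)) =
      (Nat.card G : ℂ)⁻¹ * ∑ g, ψ (ι g * s) * conj (φ (ι g * s)) := by
  rw [gl_sum_twist α h.aut_pow_orderOf h.cop j h.j_inj h.range_j
    (fun g => ψ (ι g * s) * conj (φ (ι g * s))), classInner_def]
  intro x y
  have : ι (x * y * (α x)⁻¹) * s = ι x * (ι y * s) * (ι x)⁻¹ := by
    rw [map_mul, map_mul, map_inv, h.ι_aut]; group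
  simp only [this, hψ _ _, hφ _ _]

omit [Fintype C] in
/-- Galois invariance of the canonical extension on the coset `C s`. -/
theorem apply_mul_pow {ψ : Γ → ℂ} (hψ : IsIrrCharacter Γ ψ) (hres : IsIrrCharacter G (fun g => ψ (ι g)))
    (hdet : detChar ψ s = 1) {m : ℕ} (hm : m.Coprime (orderOf s)) (c : C) :
    ψ (ι (j c) * s ^ m) = ψ (ι (j c) * s) := by
  have hG : Finite G := Finite.of_injective ι h.ι_inj
  obtain ⟨k, hk1, hk2⟩ := Nat.chineseRemainder h.cop m 1
  have hkc : k.Coprime (orderOf s * Nat.card G) := by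
    refine Nat.Coprime.mul_right ?_ ?_
    · rw [Nat.Coprime, hk1.gcd_eq]; exact hm
    · rw [Nat.Coprime, hk2.gcd_eq]; simp
  obtain ⟨σ, hσ⟩ := exists_ringEquiv_pow (mul_pos (orderOf_pos s) Nat.card_pos).ne' hkc
  have hσ' : ∀ x : Γ, x ^ (orderOf s * Nat.card G) = 1 → σ (ψ x) = ψ (x ^ k) := by
    intro x hx
    refine isChar_map_eq_pow hψ.isCharacter x σ.toRingHom k fun z hz => hσ z ?_
    obtain ⟨t, ht⟩ := orderOf_dvd_of_pow_eq_one hx
    rw [ht, pow_mul, hz, one_pow]
  have hgk : ∀ g : G, g ^ k = g := fun g => by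
    rw [pow_eq_pow_of_modEq hk2 pow_card_eq_one', pow_one]
  have hirr := isIrr_gal hψ σ.toRingHom
  obtain ⟨lam, hl1, hl2⟩ := exists_linear_mul_of_comp_eq ι h.normal hψ.isCharacter hirr.isCharacter hres
    (fun g => by
      change σ (ψ (ι g)) = ψ (ι g)
      rw [hσ', ← map_pow, hgk]
      rw [← map_pow, pow_mul', pow_card_eq_one', one_pow, map_one])
  obtain ⟨d, -, hd⟩ := hψ.exists_nat_one
  have hdvd : d ∣ Nat.card G := isIrr_degree_dvd_card hres (by simpa using hd)
  have e1 := gl_detChar_gal hψ σ.toRingHom s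
  rw [hl2, detChar_linear_mul hψ hd, hdet, map_one] at e1
  simp only [hdet, mul_one] at e1
  have e2 : lam s ^ d = 1 := Units.ext (by simpa using e1)
  have e3 : lam s ^ orderOf s = 1 := by rw [← map_pow, pow_orderOf_eq_one, map_one]
  have e4 : lam s = 1 := by
    have := pow_gcd_eq_one.mpr ⟨e2, e3⟩
    rwa [(Nat.Coprime.coprime_dvd_right hdvd h.cop).symm.gcd_eq_one, pow_one] at this
  have e5 := congrFun hl2 (ι (j c) * s)
  simp only [map_mul, hl1, e4, mul_one, Units.val_one, one_mul] at e5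
  rw [← e5]
  change _ = σ (ψ (ι (j c) * s))
  rw [hσ', (h.commute c).mul_pow, ← map_pow, hgk, pow_eq_pow_of_modEq hk1 (pow_orderOf_eq_one s)]
  rw [(h.commute c).mul_pow, pow_mul s, pow_orderOf_eq_one, one_pow, mul_one, ← map_pow, pow_mul',
    pow_card_eq_one', one_pow, map_one]

theorem isGeneralizedCharacter_coset {ψ : Γ → ℂ} (hψ : IsIrrCharacter Γ ψ)
    (hres : IsIrrCharacter G (fun g => ψ (ι g))) (hdet : detChar ψ s = 1) :
    IsGeneralizedCharacter C (fun c => ψ (ι (j c) * s)) := by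
  rw [isGeneralizedCharacter_iff]
  refine ⟨h.isClassFunction_coset hψ.isClassFunction ⟨s, Subgroup.mem_zpowers s⟩, fun β hβ => ?_⟩
  refine genChar_exists_int_of_forall_pow
    (h.isCharacter_slice hψ.isCharacter hβ.isCharacter).isGeneralizedCharacter
    (g := ⟨s, Subgroup.mem_zpowers s⟩) fun m hm => ?_
  rw [Nat.card_zpowers] at hm
  simp only [SubgroupClass.coe_pow, h.apply_mul_pow hψ hres hdet hm]

/-- On the coset `C s` the canonical extension is `±` an irreducible character of `C`. -/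
theorem exists_sign {ψ : Γ → ℂ} (hψ : IsIrrCharacter Γ ψ) (hres : IsIrrCharacter G (fun g => ψ (ι g)))
    (hdet : detChar ψ s = 1) :
    ∃ (β : IrrCharacter C) (ε : ℤ), (ε = 1 ∨ ε = -1) ∧ ∀ c, ψ (ι (j c) * s) = ε * (β : C → ℂ) c := by
  have hG : Finite G := Finite.of_injective ι h.ι_inj
  have := Fintype.ofFinite G
  have h1 := h.classInner_coset hψ.isClassFunction hψ.isClassFunction
  rw [gl_sum_coset_eq_one ι h.ι_inj h.normal hψ.isCharacter hres] at h1
  rcases (h.isGeneralizedCharacter_coset hψ hres hdet).irr_or_neg_irr h1 with h2 | h2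
  · exact ⟨⟨_, h2⟩, 1, Or.inl rfl, fun c => by simp⟩
  · exact ⟨⟨_, h2⟩, -1, Or.inr rfl, fun c => by simp⟩

/-- Injectivity of the correspondence. -/
theorem res_eq_of_sign {ψ φ : Γ → ℂ} (hψ : IsCharacter Γ ψ) (hφ : IsCharacter Γ φ)
    (hres : IsIrrCharacter G (fun g => ψ (ι g))) (hres' : IsIrrCharacter G (fun g => φ (ι g)))
    {β : C → ℂ} (hβ : IsIrrCharacter C β) {ε ε' : ℂ} (hε : ε ≠ 0) (hε' : ε' ≠ 0)
    (h1 : ∀ c, ψ (ι (j c) * s) = ε * β c) (h2 : ∀ c, φ (ι (j c) * s) = ε' * β c) :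
    (fun g => ψ (ι g)) = fun g => φ (ι g) := by
  have hG : Finite G := Finite.of_injective ι h.ι_inj
  have := Fintype.ofFinite G
  by_contra hne
  have h3 := h.classInner_coset hψ.isClassFunction hφ.isClassFunction
  rw [gl_sum_coset_eq_zero ι h.ι_inj h.normal hψ hφ (hres.classInner_of_ne hres' hne)] at h3
  have e1 : (fun c => ψ (ι (j c) * s)) = ε • β := funext h1
  have e2 : (fun c => φ (ι (j c) * s)) = ε' • β := funext h2
  rw [e1, e2, classInner_smul_left, classInner_smul_right, hβ.classInner_self] at h3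
  simp [hε, hε'] at h3

/-- A constituent of the coset function is a constituent of the restriction. -/
theorem classInner_res_ne_zero {ψ : Γ → ℂ} (hψ : IsCharacter Γ ψ) {β : C → ℂ} (hβ : IsCharacter C β)
    (h1 : classInner (fun c => ψ (ι (j c) * s)) β ≠ 0) : classInner (fun c => ψ (ι (j c))) β ≠ 0 := by
  intro h0
  have h2 := (h.isCharacter_slice hψ hβ).eq_zero_of_one_eq_zero (by simpa using h0)
  exact h1 (congrFun h2 ⟨s, Subgroup.mem_zpowers s⟩)

/-- For a `p`-element `s` the multiplicities in the coset function and in the restriction agree mod `p`. -/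
theorem modEq_res {ψ : Γ → ℂ} (hψ : IsCharacter Γ ψ) {β : C → ℂ} (hβ : IsCharacter C β) {p k : ℕ}
    (hp : p.Prime) (hs : s ^ p ^ k = 1) {a b : ℤ} (ha : classInner (fun c => ψ (ι (j c) * s)) β = a)
    (hb : classInner (fun c => ψ (ι (j c))) β = b) : a ≡ b [ZMOD p] := by
  refine gl_int_modEq_pow (h.isCharacter_slice hψ hβ) hp k ⟨s, Subgroup.mem_zpowers s⟩ ha ?_
  simpa [hs] using hb

end GlCyc

end CL.Char
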