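/-
The Glauberman correspondence: surjectivity in the cyclic case and the correspondence for a `p`-group of
operators (Isaacs 13.6, 13.14).
-/
import Cfsg.Agent.Char.GlaubCyc
import Cfsg.Agent.Char.GlaubRel
import Cfsg.Agent.Char.Extension

set_option autoImplicit false

open Cfsg
open scoped ComplexConjugate

namespace CL.Char

section Ext

variable {Γ G : Type*} [Group Γ] [Group G]

/-- Canonical extension of an invariant irreducible character of a normal Hall subgroup `ι G`. -/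
theorem gl_exists_ext [Finite Γ] (ι : G →* Γ) (hι : Function.Injective ι) (hn : ι.range.Normal)
    (hcop : ι.range.index.Coprime (Nat.card G)) {χ : G → ℂ} (hχ : IsIrrCharacter G χ)
    (hinv : ∀ (x : Γ) (g g' : G), ι g' = x * ι g * x⁻¹ → χ g' = χ g) :
    ∃ ψ, IsIrrCharacter Γ ψ ∧ (∀ g, ψ (ι g) = χ g) ∧ detOrder ψ ∣ Nat.card G := by
  have : Finite G := Finite.of_injective ι hι
  set e := MonoidHom.ofInjective hι with he
  have hirr : IsIrrCharacter ι.range (fun n => χ (e.symm n)) := hχ.comp_mulEquiv e.symm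
  have hcoe : ∀ n : ι.range, ι (e.symm n) = n := fun n => MonoidHom.apply_ofInjective_symm hι n
  obtain ⟨d, -, hd⟩ := hirr.exists_nat_one
  have hcard : Nat.card ι.range = Nat.card G := Nat.card_congr e.symm.toEquiv
  have h1 := detOrder_dvd_card (fun n : ι.range => χ (e.symm n))
  have h2 := isIrr_degree_dvd_card hirr hd
  rw [hcard] at h1 h2
  obtain ⟨ψ, ⟨h3, h4, h5⟩, -⟩ := exists_canonical_extension hirr
    (fun x n => hinv x _ _ (by rw [hcoe, hcoe])) hd
    (Nat.Coprime.mul_right (hcop.coprime_dvd_right h1) (hcop.coprime_dvd_right h2))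
  refine ⟨ψ, h3, fun g => ?_, h5 ▸ h1⟩
  have := h4 (e g)
  rw [MulEquiv.symm_apply_apply] at this
  exact this

theorem gl_detChar_eq_one [Finite Γ] {ψ : Γ → ℂ} {s : Γ} (h : (detOrder ψ).Coprime (orderOf s)) :
    detChar ψ s = 1 := by
  have h1 := detChar_pow_detOrder ψ s
  obtain ⟨δ, hδ⟩ := exists_monoidHom_detChar ψ
  have h2 : detChar ψ s ^ orderOf s = 1 := by
    rw [hδ]
    simp only
    rw [← Units.val_pow_eq_pow_val, ← map_pow, pow_orderOf_eq_one, map_one, Units.val_one]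
  have := pow_gcd_eq_one.mpr ⟨h1, h2⟩
  rwa [h.gcd_eq_one, pow_one] at this

end Ext

namespace GlCyc

variable {Γ G C : Type*} [Group Γ] [Group G] [Group C]
variable {ι : G →* Γ} {j : C →* G} {s : Γ} {α : MulAut G} (h : GlCyc ι j s α)
include h

theorem exists_eq_mul_pow [Finite Γ] (hgen : ι.range ⊔ Subgroup.zpowers s = ⊤) (x : Γ) :
    ∃ (g : G) (k : ℕ), x = ι g * s ^ k := by
  have := h.normal
  have hx : x ∈ ι.range ⊔ Subgroup.zpowers s := hgen ▸ Subgroup.mem_top x
  rw [← SetLike.mem_coe, Subgroup.normal_mul] at hx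
  obtain ⟨_, ⟨g, rfl⟩, b, hb, rfl⟩ := hx
  obtain ⟨k, rfl⟩ := (mem_powers_iff_mem_zpowers.mpr hb : b ∈ Submonoid.powers s)
  exact ⟨g, k, rfl⟩

theorem index_dvd (hgen : ι.range ⊔ Subgroup.zpowers s = ⊤) : ι.range.index ∣ orderOf s := by
  have := h.normal
  rw [← Subgroup.relIndex_top_right, ← hgen, Subgroup.relIndex_sup_left, ← Nat.card_zpowers]
  exact Subgroup.relIndex_dvd_card _ _

theorem invariant_of_aut [Finite Γ] (hgen : ι.range ⊔ Subgroup.zpowers s = ⊤) {χ : G → ℂ}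
    (hχ : IsClassFunction G χ) (hinv : ∀ g, χ (α g) = χ g) (x : Γ) (g g' : G)
    (e : ι g' = x * ι g * x⁻¹) : χ g' = χ g := by
  obtain ⟨y, k, rfl⟩ := h.exists_eq_mul_pow hgen x
  have h1 : g' = y * (α ^ k) g * y⁻¹ := by
    apply h.ι_inj
    rw [e, map_mul, map_mul, h.conj_pow, map_inv]
    group
  rw [h1, hχ]
  clear h1 e
  induction k with
  | zero => simp
  | succ k ih => rw [pow_succ', MulAut.mul_apply, hinv, ih]

theorem exists_ext [Finite Γ] (hgen : ι.range ⊔ Subgroup.zpowers s = ⊤) {χ : G → ℂ}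
    (hχ : IsIrrCharacter G χ) (hinv : ∀ g, χ (α g) = χ g) :
    ∃ ψ, IsIrrCharacter Γ ψ ∧ (∀ g, ψ (ι g) = χ g) ∧ detOrder ψ ∣ Nat.card G :=
  gl_exists_ext ι h.ι_inj h.normal (h.cop.coprime_dvd_left (h.index_dvd hgen)) hχ
    (h.invariant_of_aut hgen hχ.isClassFunction hinv)

/-- Surjectivity of the correspondence in the cyclic case. -/
theorem exists_of_irr [Finite Γ] (hgen : ι.range ⊔ Subgroup.zpowers s = ⊤) {β : C → ℂ}
    (hβ : IsIrrCharacter C β) :
    ∃ (χ : G → ℂ) (ψ : Γ → ℂ) (ε : ℤ), IsIrrCharacter G χ ∧ (∀ g, χ (α g) = χ g) ∧ IsIrrCharacter Γ ψ ∧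
      (∀ g, ψ (ι g) = χ g) ∧ detOrder ψ ∣ Nat.card G ∧ (ε = 1 ∨ ε = -1) ∧
      ∀ c, ψ (ι (j c) * s) = ε * β c := by
  have hG : Finite G := Finite.of_injective ι h.ι_inj
  have hC : Finite C := Finite.of_injective j h.j_inj
  have := Fintype.ofFinite C
  have key : ∀ χ : {χ : IrrCharacter G // ∀ g, (χ : G → ℂ) (α g) = (χ : G → ℂ) g},
      ∃ (β : IrrCharacter C) (ψ : Γ → ℂ) (ε : ℤ), IsIrrCharacter Γ ψ ∧
      (∀ g, ψ (ι g) = (χ.1 : G → ℂ) g) ∧ detOrder ψ ∣ Nat.card G ∧ (ε = 1 ∨ ε = -1) ∧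
      ∀ c, ψ (ι (j c) * s) = ε * (β : C → ℂ) c := by
    intro χ
    obtain ⟨ψ, h1, h2, h3⟩ := h.exists_ext hgen χ.1.2 χ.2
    obtain ⟨β, ε, h4, h5⟩ := h.exists_sign h1 (by simpa only [h2] using χ.1.2)
      (gl_detChar_eq_one (h.cop.symm.coprime_dvd_left h3))
    exact ⟨β, ψ, ε, h1, h2, h3, h4, h5⟩
  choose f ψ ε h1 h2 h3 h4 h5 using key
  have hinj : Function.Injective f := by
    intro χ χ' e
    have hne : ∀ χ, (ε χ : ℂ) ≠ 0 := fun χ => by rcases h4 χ with h | h <;> simp [h]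
    have := h.res_eq_of_sign (h1 χ).isCharacter (h1 χ').isCharacter (by simpa only [h2] using χ.1.2)
      (by simpa only [h2] using χ'.1.2) (f χ).2 (hne χ) (hne χ') (h5 χ) (by rw [e]; exact h5 χ')
    simp only [h2] at this
    exact Subtype.ext (Subtype.ext this)
  have hbij := hinj.bijective_of_nat_card_le
    (gl_card_irr_aut α h.aut_pow_orderOf h.cop j h.j_inj h.range_j).ge
  obtain ⟨χ, hχ⟩ := hbij.2 ⟨β, hβ⟩
  refine ⟨χ.1, ψ χ, ε χ, χ.1.2, χ.2, h1 χ, h2 χ, h3 χ, h4 χ, fun c => ?_⟩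
  rw [h5, hχ]

/-- For a `p`-element `s` the correspondence is given by `χ_C ≡ ± β (mod p)`. -/
theorem glRel_of_sign [Finite Γ] {ψ : Γ → ℂ} (hψ : IsCharacter Γ ψ) {β : C → ℂ} (hβ : IsCharacter C β)
    {p k : ℕ} (hp : p.Prime) (hs : s ^ p ^ k = 1) {ε : ℤ} (hε : ε = 1 ∨ ε = -1)
    (h1 : ∀ c, ψ (ι (j c) * s) = ε * β c) : GlRel p j (fun g => ψ (ι g)) β := by
  have hG : Finite G := Finite.of_injective ι h.ι_inj
  have hC : Finite C := Finite.of_injective j h.j_inj
  have := Fintype.ofFinite C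
  refine glRel_of_mult (hψ.comp (ι.comp j)).isClassFunction hβ.isClassFunction hε hp.ne_zero fun γ hγ => ?_
  obtain ⟨a, ha⟩ := hβ.exists_nat_classInner hγ.isCharacter
  obtain ⟨b, hb⟩ := (hψ.comp (ι.comp j)).exists_nat_classInner hγ.isCharacter
  have e : (fun c => ψ (ι (j c) * s)) = (ε : ℂ) • β := funext h1
  have h2 := h.modEq_res hψ hγ.isCharacter hp hs (a := ε * a) (b := b)
    (by rw [e, classInner_smul_left, ha]; simp) (by simpa using hb)
  obtain ⟨n, hn⟩ := h2.dvd
  refine ⟨n, ?_⟩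
  rw [ha]
  refine hb.trans ?_
  have : (b : ℤ) = ε * a + p * n := by rw [← hn]; ring
  exact_mod_cast this

end GlCyc

section Aut

variable {G C : Type*} [Group G] [Group C]

theorem glCyc_semidirect (α : MulAut G) (hcop : (orderOf α).Coprime (Nat.card G)) (j : C →* G)
    (hj : Function.Injective j) (hC : ∀ g, g ∈ j.range ↔ α g = g) :
    GlCyc (SemidirectProduct.inl : G →* G ⋊[(Subgroup.zpowers α).subtype] Subgroup.zpowers α) j
      (SemidirectProduct.inr ⟨α, Subgroup.mem_zpowers α⟩) α where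
  ι_inj := SemidirectProduct.inl_injective
  normal := by
    rw [SemidirectProduct.range_inl_eq_ker_rightHom]
    infer_instance
  ι_aut g := by
    rw [← map_inv]
    exact SemidirectProduct.inl_aut (φ := (Subgroup.zpowers α).subtype) ⟨α, Subgroup.mem_zpowers α⟩ g
  cop := by
    rwa [orderOf_injective _ SemidirectProduct.inr_injective, Subgroup.orderOf_mk]
  j_inj := hj
  range_j := hC

theorem gl_semidirect_gen (α : MulAut G) :
    (SemidirectProduct.inl : G →* G ⋊[(Subgroup.zpowers α).subtype] Subgroup.zpowers α).range ⊔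
      Subgroup.zpowers (SemidirectProduct.inr ⟨α, Subgroup.mem_zpowers α⟩) = ⊤ := by
  rw [eq_top_iff]
  intro x _
  rw [← SemidirectProduct.inl_left_mul_inr_right x]
  refine Subgroup.mul_mem_sup ⟨_, rfl⟩ ?_
  obtain ⟨k, hk⟩ := x.right.2
  refine ⟨k, ?_⟩
  simp only
  rw [← map_zpow]
  congr 1
  exact Subtype.ext hk

/-- The Glauberman correspondence for one automorphism of `p`-power order of a `p'`-group. -/
theorem isGlCorr_aut [Finite G] {p k : ℕ} (hp : p.Prime) (hG : ¬ p ∣ Nat.card G) (α : MulAut G)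
    (hα : α ^ p ^ k = 1) (j : C →* G) (hj : Function.Injective j) (hC : ∀ g, g ∈ j.range ↔ α g = g) :
    IsGlCorr p j (fun χ => ∀ g, χ (α g) = χ g) (fun _ => True) := by
  have hC' : Finite C := Finite.of_injective j hj
  have := Fintype.ofFinite C
  have hcop : (orderOf α).Coprime (Nat.card G) :=
    Nat.Coprime.coprime_dvd_left (orderOf_dvd_of_pow_eq_one hα)
      (Nat.Coprime.pow_left k ((Nat.Prime.coprime_iff_not_dvd hp).mpr hG))
  have h := glCyc_semidirect α hcop j hj hC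
  have hgen := gl_semidirect_gen α
  have hfin : Finite (G ⋊[(Subgroup.zpowers α).subtype] Subgroup.zpowers α) :=
    Finite.of_equiv _ SemidirectProduct.equivProd.symm
  have hs : (SemidirectProduct.inr ⟨α, Subgroup.mem_zpowers α⟩ :
      G ⋊[(Subgroup.zpowers α).subtype] Subgroup.zpowers α) ^ p ^ k = 1 := by
    rw [← map_pow, ← map_one SemidirectProduct.inr]
    congr 1
    exact Subtype.ext hα
  have key : ∀ χ, IsIrrCharacter G χ → (∀ g, χ (α g) = χ g) → ∃ (β : C → ℂ) (ψ : _ → ℂ) (ε : ℤ),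
      IsIrrCharacter C β ∧ IsIrrCharacter (G ⋊[(Subgroup.zpowers α).subtype] Subgroup.zpowers α) ψ ∧
      (fun g => ψ (SemidirectProduct.inl g)) = χ ∧ (ε = 1 ∨ ε = -1) ∧
      (∀ c, ψ (SemidirectProduct.inl (j c) * SemidirectProduct.inr ⟨α, Subgroup.mem_zpowers α⟩) = ε * β c) ∧
      GlRel p j χ β := by
    intro χ hχ hinv
    obtain ⟨ψ, h1, h2, h3⟩ := h.exists_ext hgen hχ hinv
    obtain ⟨β, ε, h4, h5⟩ := h.exists_sign h1 (by simpa only [h2] using hχ)
      (gl_detChar_eq_one (h.cop.symm.coprime_dvd_left h3))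
    refine ⟨β, ψ, ε, β.2, h1, funext h2, h4, h5, ?_⟩
    simpa only [h2] using h.glRel_of_sign h1.isCharacter β.2.isCharacter hp hs h4 h5
  refine ⟨fun χ hχ hinv => ?_, fun χ χ' β hχ hinv hχ' hinv' hβ r r' => ?_, fun β hβ _ => ?_⟩
  · obtain ⟨β, -, -, h1, -, -, -, -, h2⟩ := key χ hχ hinv
    exact ⟨β, h1, trivial, h2⟩
  · obtain ⟨γ, ψ, ε, h1, h2, rfl, h4, h5, h6⟩ := key χ hχ hinv
    obtain ⟨γ', ψ', ε', h1', h2', rfl, h4', h5', h6'⟩ := key χ' hχ' hinv'
    obtain rfl := h6.unique hp r h1 hβ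
    obtain rfl := h6'.unique hp r' h1' hβ
    exact h.res_eq_of_sign h2.isCharacter h2'.isCharacter hχ hχ' hβ
      (by rcases h4 with h | h <;> simp [h]) (by rcases h4' with h | h <;> simp [h]) h5 h5'
  · obtain ⟨χ, ψ, ε, h1, h2, h3, h4, -, h6, h7⟩ := h.exists_of_irr hgen hβ
    refine ⟨χ, h1, h2, ?_⟩
    simpa only [h4] using h.glRel_of_sign h3.isCharacter hβ.isCharacter hp hs h6 h7

end Aut

section Fix

variable {A G : Type*} [Group A] [Group G]

/-- The fixed points of a subgroup `T` of operators. -/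
def glFix (φ : A →* MulAut G) (T : Subgroup A) : Subgroup G where
  carrier := {g | ∀ t ∈ T, φ t g = g}
  one_mem' := fun _ _ => map_one _
  mul_mem' := fun ha hb t ht => by rw [map_mul, ha t ht, hb t ht]
  inv_mem' := fun ha t ht => by rw [map_inv, ha t ht]

theorem mem_glFix {φ : A →* MulAut G} {T : Subgroup A} {g : G} : g ∈ glFix φ T ↔ ∀ t ∈ T, φ t g = g :=
  Iff.rfl

/-- The action on an invariant subgroup. -/
def glRestrict (φ : A →* MulAut G) (D : Subgroup G) (hD : ∀ a, ∀ g ∈ D, φ a g ∈ D) : A →* MulAut D where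
  toFun a :=
    { toFun := fun g => ⟨φ a g, hD a g g.2⟩
      invFun := fun g => ⟨φ a⁻¹ g, hD a⁻¹ g g.2⟩
      left_inv := fun g => Subtype.ext (by simp)
      right_inv := fun g => Subtype.ext (by simp)
      map_mul' := fun g h => Subtype.ext (by simp) }
  map_one' := by ext; simp
  map_mul' a b := by ext; simp

@[simp] theorem coe_glRestrict (φ : A →* MulAut G) (D : Subgroup G) (hD : ∀ a, ∀ g ∈ D, φ a g ∈ D) (a : A)
    (g : D) : (glRestrict φ D hD a g : G) = φ a g := rfl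

theorem glFix_invariant (φ : A →* MulAut G) (T : Subgroup A) [hT : T.Normal] (a : A) (g : G)
    (hg : g ∈ glFix φ T) : φ a g ∈ glFix φ T := by
  intro t ht
  have := hg (a⁻¹ * t * a⁻¹⁻¹) (hT.conj_mem t ht a⁻¹)
  conv_rhs => rw [← this]
  simp

/-- A correspondence for a normal subgroup `T` of operators restricts to the characters fixed by all operators. -/
theorem IsGlCorr.glFix_fixed [Finite G] {p : ℕ} (hp : p.Prime) (φ : A →* MulAut G) (T : Subgroup A)
    [hT : T.Normal]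
    (h : IsGlCorr p (glFix φ T).subtype (fun χ => ∀ t ∈ T, ∀ g, χ (φ t g) = χ g) (fun _ => True))
    (S : Set A) :
    IsGlCorr p (glFix φ T).subtype (fun χ => (∀ t ∈ T, ∀ g, χ (φ t g) = χ g) ∧ ∀ a ∈ S, ∀ g, χ (φ a g) = χ g)
      (fun β => ∀ a ∈ S, ∀ g, β (glRestrict φ _ (glFix_invariant φ T) a g) = β g) := by
  refine (h.fixed hp (I := S) (fun a χ g => χ (φ a g))
    (fun a β g => β (glRestrict φ _ (glFix_invariant φ T) a g)) (fun a χ h1 h2 => ⟨h1.comp_mulEquiv _, ?_⟩)
    (fun a β h1 => h1.comp_mulEquiv _) (fun a χ β r => r.comp (φ a).toMonoidHom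
      (glRestrict φ _ (glFix_invariant φ T) a).toMonoidHom fun _ => rfl)).congr ?_ ?_
  · intro t ht g
    have := h2 (a * t * (a : A)⁻¹) (hT.conj_mem t ht a) (φ a g)
    simpa using this
  · intro χ _
    simp only [funext_iff, Subtype.forall]
  · intro χ _
    simp only [funext_iff, Subtype.forall, true_and]

end Fix

section PGroup

universe u v

theorem isGlCorr_pgroup_aux {p : ℕ} (hp : p.Prime) (n : ℕ) : ∀ (A : Type v) [Group A] [Finite A],
    Nat.card A = n → IsPGroup p A → ∀ (G : Type u) [Group G] [Finite G], ¬ p ∣ Nat.card G →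
    ∀ (φ : A →* MulAut G), IsGlCorr p (glFix φ ⊤).subtype (fun χ => ∀ a g, χ (φ a g) = χ g) (fun _ => True) := by
  induction n using Nat.strong_induction_on with
  | _ n ih =>
  intro A _ _ hn hA G _ _ hG φ
  have := Fact.mk hp
  rcases subsingleton_or_nontrivial A with hs | hs
  · have htop : ∀ g, g ∈ glFix φ ⊤ := fun g a _ => by rw [Subsingleton.elim a 1]; simp
    have hsurj : Function.Surjective (glFix φ ⊤).subtype := fun g => ⟨⟨g, htop g⟩, rfl⟩
    let e : glFix φ ⊤ ≃* G := MulEquiv.ofBijective _ ⟨Subtype.val_injective, hsurj⟩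
    refine ⟨fun χ hχ _ => ⟨_, hχ.comp_mulEquiv e, trivial, GlRel.of_eq fun _ => rfl⟩,
      fun χ χ' β hχ _ hχ' _ hβ r r' => ?_, fun β hβ _ => ⟨_, hβ.comp_mulEquiv e.symm,
        fun a g => by rw [Subsingleton.elim a 1]; simp, GlRel.of_eq fun c => by
          change β (e.symm (e c)) = _
          simp⟩⟩
    have h1 := r.unique hp (GlRel.of_eq fun _ => rfl) hβ (hχ.comp_mulEquiv e)
    have h2 := r'.unique hp (GlRel.of_eq fun _ => rfl) hβ (hχ'.comp_mulEquiv e)
    funext g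
    exact congrFun (h1.symm.trans h2) ⟨g, htop g⟩
  · obtain ⟨T, hT⟩ := IsCoatomic.exists_coatom (Subgroup A)
    have hnil := hA.isNilpotent
    have hTn : T.Normal := Subgroup.NormalizerCondition.normal_of_coatom T
      Group.normalizerCondition_of_isNilpotent hT
    obtain ⟨a, -, ha⟩ := SetLike.exists_of_lt hT.1.lt_top
    have hsup : T ⊔ Subgroup.zpowers a = ⊤ := hT.2 _ (lt_of_le_of_ne le_sup_left fun e =>
      ha (e ▸ Subgroup.mem_sup_right (Subgroup.mem_zpowers a)))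
    have hall : ∀ {X : Type u} [MulAction A X] (x : X), (∀ t ∈ T, t • x = x) → a • x = x → ∀ b : A, b • x = x := by
      intro X _ x h1 h2 b
      have : (⊤ : Subgroup A) ≤ MulAction.stabilizer A x := by
        rw [← hsup]
        exact sup_le h1 (Subgroup.zpowers_le_of_mem h2)
      exact this (Subgroup.mem_top b)
    have h1 := ih _ (hn ▸ CL.Grp.card_lt_of_ne_top hT.1) T rfl (hA.to_subgroup T) G hG (φ.comp T.subtype)
    have hfix : glFix (φ.comp T.subtype) ⊤ = glFix φ T := by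
      ext g
      simp [mem_glFix]
    rw [hfix] at h1
    have h2 := IsGlCorr.glFix_fixed hp φ T (h1.congr (fun χ _ => by simp) (fun _ _ => Iff.rfl)) {a}
    obtain ⟨k, hk⟩ := hA a
    have hle : glFix φ ⊤ ≤ glFix φ T := fun g hg t _ => hg t (Subgroup.mem_top t)
    have h3 := isGlCorr_aut hp (fun h => hG (h.trans (Subgroup.card_subgroup_dvd_card (glFix φ T))))
      (glRestrict φ _ (glFix_invariant φ T) a) (k := k) (by rw [← map_pow, hk, map_one])
      (Subgroup.inclusion hle) (Subgroup.inclusion_injective hle) (fun g => by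
        constructor
        · rintro ⟨c, rfl⟩
          exact Subtype.ext (c.2 a (Subgroup.mem_top a))
        · intro hg
          let _ := MulAction.compHom G φ
          exact ⟨⟨g, fun b _ => hall (g : G) g.2 (congrArg Subtype.val hg) b⟩, rfl⟩)
    refine (h2.trans hp (h3.congr (fun β _ => by simp) (fun _ _ => Iff.rfl))).congr (fun χ hχ => ?_)
      (fun _ _ => Iff.rfl)
    refine ⟨fun h => ?_, fun h => ⟨fun t _ => h t, fun b _ => h b⟩⟩
    let _ := glIrrAction φ
    refine (glIrrAction_fixed_iff φ ⟨χ, hχ⟩).mp (hall (X := IrrCharacter G) _ (fun t ht => ?_) ?_)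
    · exact Subtype.ext (funext fun g => h.1 t⁻¹ (T.inv_mem ht) g)
    · refine Subtype.ext (funext fun g => ?_)
      have := h.2 a rfl (φ a⁻¹ g)
      change χ (φ a⁻¹ g) = χ g
      rw [← this]
      simp

variable {A G C : Type*} [Group A] [Group G] [Group C]

theorem IsGlCorr.of_mulEquiv {D : Type*} [Group D] {p : ℕ} {j : C →* G} {i : D →* G} (e : D ≃* C)
    (he : ∀ d, j (e d) = i d) {P : (G → ℂ) → Prop} {Q : (C → ℂ) → Prop} (h : IsGlCorr p j P Q) :
    IsGlCorr p i P (fun β => Q (fun c => β (e.symm c))) where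
  ex χ h1 h2 := by
    obtain ⟨β, h3, h4, h5⟩ := h.ex χ h1 h2
    exact ⟨_, h3.comp_mulEquiv e, by simpa using h4, h5.comp (MonoidHom.id G) e.toMonoidHom he⟩
  inj χ χ' β h1 h2 h3 h4 h5 r r' :=
    h.inj χ χ' _ h1 h2 h3 h4 (h5.comp_mulEquiv e.symm)
      (r.comp (MonoidHom.id G) e.symm.toMonoidHom fun c => by simp [← he])
      (r'.comp (MonoidHom.id G) e.symm.toMonoidHom fun c => by simp [← he])
  surj β h1 h2 := by
    obtain ⟨χ, h3, h4, h5⟩ := h.surj _ (h1.comp_mulEquiv e.symm) h2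
    refine ⟨χ, h3, h4, ?_⟩
    simpa using h5.comp (MonoidHom.id G) e.toMonoidHom he

/-- **Glauberman correspondence** for a `p`-group `A` acting on a `p'`-group `G` with fixed points `C`. -/
theorem isGlCorr_pgroup [Finite A] [Finite G] {p : ℕ} (hp : p.Prime) (hA : IsPGroup p A)
    (hG : ¬ p ∣ Nat.card G) (φ : A →* MulAut G) (j : C →* G) (hj : Function.Injective j)
    (hC : ∀ g, g ∈ j.range ↔ ∀ a, φ a g = g) :
    IsGlCorr p j (fun χ => ∀ a g, χ (φ a g) = χ g) (fun _ => True) := by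
  have h := isGlCorr_pgroup_aux hp _ A rfl hA G hG φ
  have hr : j.range = glFix φ ⊤ := by
    ext g
    simp [hC, mem_glFix]
  exact h.of_mulEquiv ((MonoidHom.ofInjective hj).trans (MulEquiv.subgroupCongr hr)) fun _ => rfl

end PGroup

end CL.Char
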