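/-
Glauberman correspondence: operators inside an ambient group, solvable operator groups (counting), and
invariant constituents of induced characters (Isaacs 13.24, 13.29, 13.30).
-/
import Cfsg.Agent.Char.GlaubP

set_option autoImplicit false

open Cfsg
open scoped ComplexConjugate

namespace CL.Char

section Ambient

variable {Γ : Type*} [Group Γ] {G S : Subgroup Γ}

/-- The conjugation action of `S` on a subgroup `G` normalised by `S`. -/
def glConjHom (hnorm : ∀ s ∈ S, ∀ g ∈ G, s * g * s⁻¹ ∈ G) : S →* MulAut G where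
  toFun s :=
    { toFun := fun g => ⟨s * g * s⁻¹, hnorm s s.2 g g.2⟩
      invFun := fun g => ⟨s⁻¹ * g * s⁻¹⁻¹, hnorm _ (s⁻¹).2 g g.2⟩
      left_inv := fun g => Subtype.ext (by simp [mul_assoc])
      right_inv := fun g => Subtype.ext (by simp [mul_assoc])
      map_mul' := fun g h => Subtype.ext (by simp [mul_assoc]) }
  map_one' := by ext; simp
  map_mul' a b := by ext; simp [mul_assoc]

@[simp] theorem coe_glConjHom (hnorm : ∀ s ∈ S, ∀ g ∈ G, s * g * s⁻¹ ∈ G) (s : S) (g : G) :
    (glConjHom hnorm s g : Γ) = s * g * (s : Γ)⁻¹ := rfl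

theorem glConjHom_inv_iff (hnorm : ∀ s ∈ S, ∀ g ∈ G, s * g * s⁻¹ ∈ G) {X : Type*} (χ : G → X) :
    (∀ a g, χ (glConjHom hnorm a g) = χ g) ↔
      ∀ s ∈ S, ∀ g g' : G, (g' : Γ) = s * g * s⁻¹ → χ g' = χ g := by
  refine ⟨fun h s hs g g' e => ?_, fun h a g => h a a.2 g _ rfl⟩
  rw [← h ⟨s, hs⟩ g]
  congr 1
  exact Subtype.ext e

theorem glConjHom_fixed_iff (hnorm : ∀ s ∈ S, ∀ g ∈ G, s * g * s⁻¹ ∈ G) (g : G) :
    (∀ a, glConjHom hnorm a g = g) ↔ (g : Γ) ∈ Subgroup.centralizer (S : Set Γ) := by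
  rw [Subgroup.mem_centralizer_iff]
  refine ⟨fun h s hs => ?_, fun h a => Subtype.ext ?_⟩
  · have := congrArg Subtype.val (h ⟨s, hs⟩)
    exact mul_inv_eq_iff_eq_mul.mp this
  · exact mul_inv_eq_iff_eq_mul.mpr (h a a.2)

theorem glConjHom_range_inclusion (hnorm : ∀ s ∈ S, ∀ g ∈ G, s * g * s⁻¹ ∈ G) {C : Subgroup Γ}
    (hC : C = G ⊓ Subgroup.centralizer (S : Set Γ)) (hCG : C ≤ G) (g : G) :
    g ∈ (Subgroup.inclusion hCG).range ↔ ∀ a, glConjHom hnorm a g = g := by
  rw [glConjHom_fixed_iff]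
  constructor
  · rintro ⟨c, rfl⟩
    have : (c : Γ) ∈ G ⊓ Subgroup.centralizer (S : Set Γ) := hC ▸ c.2
    exact this.2
  · intro h
    exact ⟨⟨g, hC ▸ ⟨g.2, h⟩⟩, rfl⟩

theorem gl_normal_of_sup (hnorm : ∀ s ∈ S, ∀ g ∈ G, s * g * s⁻¹ ∈ G) (htop : G ⊔ S = ⊤) : G.Normal := by
  rw [← Subgroup.normalizer_eq_top_iff, eq_top_iff, ← htop]
  refine sup_le Subgroup.le_normalizer fun s hs => ?_
  rw [Subgroup.mem_normalizer_iff]
  refine fun g => ⟨hnorm s hs g, fun h => ?_⟩
  simpa [mul_assoc] using hnorm _ (S.inv_mem hs) _ h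

/-- The cyclic set-up inside an ambient group. -/
theorem glCyc_ambient [hG : G.Normal] (hnorm : ∀ s ∈ S, ∀ g ∈ G, s * g * s⁻¹ ∈ G)
    (hcop : (Nat.card G).Coprime (Nat.card S)) (s : S) {C : Subgroup Γ}
    (hC : C = G ⊓ Subgroup.centralizer ({(s : Γ)} : Set Γ)) (hCG : C ≤ G) :
    GlCyc G.subtype (Subgroup.inclusion hCG) s (glConjHom hnorm s) where
  ι_inj := Subtype.val_injective
  normal := by rwa [Subgroup.range_subtype]
  ι_aut _ := rfl
  cop := by
    rw [Subgroup.orderOf_coe]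
    exact hcop.symm.coprime_dvd_left (orderOf_dvd_natCard s)
  j_inj := Subgroup.inclusion_injective hCG
  range_j g := by
    constructor
    · rintro ⟨c, rfl⟩
      have : (c : Γ) ∈ G ⊓ Subgroup.centralizer ({(s : Γ)} : Set Γ) := hC ▸ c.2
      exact Subtype.ext (mul_inv_eq_iff_eq_mul.mpr (this.2 _ rfl))
    · intro h
      refine ⟨⟨g, hC ▸ ⟨g.2, ?_⟩⟩, rfl⟩
      rintro _ rfl
      exact mul_inv_eq_iff_eq_mul.mp (congrArg Subtype.val h)

theorem gl_centralizer_zpowers (s : Γ) :
    Subgroup.centralizer ((Subgroup.zpowers s : Subgroup Γ) : Set Γ) = Subgroup.centralizer {s} := by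
  rw [Subgroup.zpowers_eq_closure, Subgroup.centralizer_closure]

end Ambient

section Mult

variable {A G C : Type*} [Group A] [Group G] [Group C]

/-- For an invariant character `α` of `G` and an invariant irreducible `θ` with correspondent `β`, the
multiplicity of `β` in `α_C` is congruent to `±` the multiplicity of `θ` in `α`. -/
theorem gl_mult_congr [Fintype G] [Fintype C] {p : ℕ} (hp : p.Prime) (hA : IsPGroup p A)
    (φ : A →* MulAut G) {j : C →* G} (hC : ∀ a c, φ a (j c) = j c) {Q : (C → ℂ) → Prop}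
    (h : IsGlCorr p j (fun χ => ∀ a g, χ (φ a g) = χ g) Q) {α θ : G → ℂ} {β : C → ℂ}
    (hα : IsCharacter G α) (hαi : ∀ a g, α (φ a g) = α g) (hθ : IsIrrCharacter G θ)
    (hθi : ∀ a g, θ (φ a g) = θ g) (hβ : IsIrrCharacter C β) (r : GlRel p j θ β) {m n : ℕ}
    (hm : classInner α θ = m) (hn : classInner (fun c => α (j c)) β = n) :
    (n : ZMod p) = m ∨ (n : ZMod p) = -m := by
  classical
  have := Fact.mk hp
  obtain ⟨k, hk, hαk⟩ := hα.exists_eq_sum_nat
  have hl : ∀ η : IrrCharacter G, ∃ l : ℕ, classInner (fun c => (η : G → ℂ) (j c)) β = l := fun η =>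
    (η.2.isCharacter.comp j).exists_nat_classInner hβ.isCharacter
  choose l hl using hl
  have h1 : n = ∑ η, k η * l η := by
    have e : (fun c => α (j c)) = ∑ η : IrrCharacter G, (k η : ℂ) • fun c => (η : G → ℂ) (j c) := by
      funext c
      conv_lhs => rw [hαk]
      simp [Finset.sum_apply]
    rw [e, classInner_sum_left] at hn
    simp only [classInner_smul_left, hl] at hn
    exact_mod_cast hn.symm
  let _ := glIrrAction φ
  have h2 := gl_sum_eq_sum_fixed hA (fun η : IrrCharacter G => ((k η * l η : ℕ) : ZMod p)) (fun a η => by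
    have e1 : k (a • η) = k η := by
      have := hk (a • η)
      rw [← classInner_comp_mulEquiv (φ a)] at this
      simp only [hαi, glIrrAction_smul, map_inv, MulAut.inv_apply_self] at this
      exact_mod_cast this.symm.trans (hk η)
    have e2 : l (a • η) = l η := by
      have := hl (a • η)
      simp only [glIrrAction_smul, hC] at this
      exact_mod_cast this.symm.trans (hl η)
    simp only [e1, e2])
  rw [← Nat.cast_sum, ← h1, Finset.sum_eq_single ⟨θ, hθ⟩] at h2
  · have e1 : k ⟨θ, hθ⟩ = m := by exact_mod_cast (hk ⟨θ, hθ⟩).symm.trans hm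
    have e2 := r.mult_self hβ (m := l ⟨θ, hθ⟩) (by simpa using hl ⟨θ, hθ⟩)
    rw [h2, e1, Nat.cast_mul]
    simp only [Int.cast_natCast] at e2
    rcases e2 with e | e <;> simp [e]
  · intro η hη hne
    have hη' := (glIrrAction_fixed_iff φ η).mp (Finset.mem_filter.mp hη).2
    obtain ⟨γ, hγ, -, r'⟩ := h.ex η η.2 hη'
    have hγβ : γ ≠ β := by
      rintro rfl
      exact hne (Subtype.ext (h.inj _ _ _ η.2 hη' hθ hθi hβ r' r))
    have := r'.dvd_mult hγ hβ hγβ (m := l η) (by simpa using hl η)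
    rw [Nat.cast_mul, (ZMod.natCast_eq_zero_iff (l η) p).mpr (by exact_mod_cast this), mul_zero]
  · intro hη
    exact absurd (Finset.mem_filter.mpr ⟨Finset.mem_univ _, (glIrrAction_fixed_iff φ _).mpr hθi⟩) hη

end Mult

section Solvable

universe u v

variable {A G : Type*} [Group A] [Group G]

/-- The action of `A / T` on the fixed points of `T`. -/
def glQuotAct (φ : A →* MulAut G) (T : Subgroup A) [T.Normal] : A ⧸ T →* MulAut (glFix φ T) :=
  QuotientGroup.lift T (glRestrict φ _ (glFix_invariant φ T)) fun t ht => by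
    ext g
    exact g.2 t ht

@[simp] theorem coe_glQuotAct (φ : A →* MulAut G) (T : Subgroup A) [T.Normal] (a : A) (g : glFix φ T) :
    (glQuotAct φ T a g : G) = φ a g := rfl

theorem glQuotAct_mk (φ : A →* MulAut G) (T : Subgroup A) [T.Normal] (a : A) :
    glQuotAct φ T a = glRestrict φ _ (glFix_invariant φ T) a := rfl

/-- The correspondence for a normal `p`-subgroup `T` of operators, restricted to fully invariant characters. -/
theorem isGlCorr_normal [Finite A] [Finite G] {p : ℕ} (hp : p.Prime) (hG : ¬ p ∣ Nat.card G)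
    (φ : A →* MulAut G) (T : Subgroup A) [T.Normal] (hT : IsPGroup p T) :
    IsGlCorr p (glFix φ T).subtype (fun χ => ∀ a g, χ (φ a g) = χ g)
      (fun β => ∀ a g, β (glQuotAct φ T a g) = β g) := by
  have h1 := isGlCorr_pgroup hp hT hG (φ.comp T.subtype) (glFix φ T).subtype Subtype.val_injective
    (fun g => by simp [mem_glFix])
  refine (IsGlCorr.glFix_fixed hp φ T (h1.congr (fun χ _ => by simp) (fun _ _ => Iff.rfl)) Set.univ).congr
    (fun χ _ => ⟨fun h a => h.2 a trivial, fun h => ⟨fun t _ => h t, fun a _ => h a⟩⟩)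
    (fun β _ => ⟨fun h a => ?_, fun h a _ => h a⟩)
  induction a using QuotientGroup.induction_on with
  | H a => exact h a trivial

theorem gl_exists_normal_pgroup [Finite A] [Group.IsSolvable A] [Nontrivial A] {n : ℕ}
    (hcop : (Nat.card A).Coprime n) :
    ∃ (p : ℕ) (T : Subgroup A), p.Prime ∧ T.Normal ∧ T ≠ ⊥ ∧ IsPGroup p T ∧ ¬ p ∣ n := by
  have : Group.IsSolvable (⊤ : Subgroup A) := inferInstance
  obtain ⟨p, T, hp, hT, -, h0, -, hP⟩ :=
    CL.Grp.exists_abelian_normal_pgroup_le_of_isSolvable (⊤ : Subgroup A) top_ne_bot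
  refine ⟨p, T, hp, hT, h0, hP, fun hd => ?_⟩
  have := Fact.mk hp
  have := (Subgroup.nontrivial_iff_ne_bot T).mpr h0
  obtain ⟨k, hk0, hk⟩ := hP.nontrivial_iff_card.mp this
  have h1 : p ∣ Nat.card A := (hk ▸ dvd_pow_self p hk0.ne').trans (Subgroup.card_subgroup_dvd_card T)
  exact hp.one_lt.ne' (Nat.eq_one_of_dvd_coprimes hcop h1 hd)

theorem gl_card_irr_solvable_aux {C : Type*} [Group C] (n : ℕ) : ∀ (A : Type v) [Group A] [Finite A],
    Nat.card A = n → Group.IsSolvable A → ∀ (G : Type u) [Group G] [Finite G],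
    (Nat.card A).Coprime (Nat.card G) → ∀ (φ : A →* MulAut G) (j : C →* G), Function.Injective j →
    (∀ g, g ∈ j.range ↔ ∀ a, φ a g = g) →
    Nat.card {χ : IrrCharacter G // ∀ a g, (χ : G → ℂ) (φ a g) = (χ : G → ℂ) g} =
      Nat.card (IrrCharacter C) := by
  induction n using Nat.strong_induction_on with
  | _ n ih =>
  intro A _ _ hn hA G _ _ hcop φ j hj hC
  have : Finite C := Finite.of_injective j hj
  rcases subsingleton_or_nontrivial A with hs | hs
  · obtain ⟨p, h1, hp⟩ := Nat.exists_infinite_primes (Nat.card G + 1)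
    have h := isGlCorr_pgroup (A := A) hp (fun a => ⟨0, Subsingleton.elim _ _⟩) (fun hd => by
        have := Nat.le_of_dvd Nat.card_pos hd
        omega) φ j hj hC
    rw [h.card_eq hp]
    exact Nat.card_congr (Equiv.subtypeUnivEquiv fun _ => trivial)
  · obtain ⟨p, T, hp, hT, h0, hP, hG⟩ := gl_exists_normal_pgroup hcop
    rw [(isGlCorr_normal hp hG φ T hP).card_eq hp]
    refine ih _ (hn ▸ CL.Grp.card_quotient_lt_of_ne_bot h0) (A ⧸ T) rfl
      inferInstance (glFix φ T) ((hcop.coprime_dvd_left (Subgroup.card_quotient_dvd_card T)).coprime_dvd_right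
        (Subgroup.card_subgroup_dvd_card _)) (glQuotAct φ T)
      (j.codRestrict _ fun c t _ => (hC _).mp ⟨c, rfl⟩ t) (fun c c' e => hj (congrArg Subtype.val e))
      fun g => ⟨?_, fun h => ?_⟩
    · rintro ⟨c, rfl⟩ a
      induction a using QuotientGroup.induction_on with
      | H a => exact Subtype.ext ((hC _).mp ⟨c, rfl⟩ a)
    · obtain ⟨c, hc⟩ := (hC g).mpr fun a => congrArg Subtype.val (h a)
      exact ⟨c, Subtype.ext hc⟩

/-- A solvable group acting coprimely fixes as many irreducible characters as the fixed-point subgroup has. -/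
theorem gl_card_irr_solvable {C : Type*} [Group C] [Finite A] [Finite G] [hA : Group.IsSolvable A]
    (hcop : (Nat.card A).Coprime (Nat.card G)) (φ : A →* MulAut G) (j : C →* G) (hj : Function.Injective j)
    (hC : ∀ g, g ∈ j.range ↔ ∀ a, φ a g = g) :
    Nat.card {χ : IrrCharacter G // ∀ a g, (χ : G → ℂ) (φ a g) = (χ : G → ℂ) g} =
      Nat.card (IrrCharacter C) :=
  gl_card_irr_solvable_aux _ A rfl hA G hcop φ j hj hC

/-- The ramification number divides the degree. -/
theorem gl_mult_dvd_degree {M D : Type*} [Group M] [Group D] [Fintype M] [Finite D] (i : M →* D)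
    (hi : Function.Injective i) (hn : i.range.Normal) {ξ : D → ℂ} (hξ : IsIrrCharacter D ξ) {η : M → ℂ}
    (hη : IsIrrCharacter M η) {e d : ℕ} (he : classInner (fun m => ξ (i m)) η = e) (h0 : e ≠ 0)
    (hd : ξ 1 = d) : e ∣ d := by
  have := Fintype.ofFinite D
  have := Fintype.ofFinite i.range
  have h1 : classInner (fun n : i.range => ξ n) (fun n => η ((MonoidHom.ofInjective hi).symm n)) = e := by
    rw [← he, ← classInner_comp_mulEquiv (MonoidHom.ofInjective hi)]
    simp only [MulEquiv.symm_apply_apply]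
    rfl
  have h2 := clifford_degree hξ (hη.comp_mulEquiv (MonoidHom.ofInjective hi).symm)
    (by rw [h1]; exact_mod_cast h0)
  obtain ⟨f, -, hf⟩ := hη.exists_nat_one
  rw [h1, hd, map_one, hf, mul_assoc] at h2
  exact ⟨_, by exact_mod_cast h2⟩

theorem gl_exists_irr_over_hom {N : Type*} [Group N] [Fintype N] [Finite G] (i : N →* G)
    (hi : Function.Injective i) {θ : N → ℂ} (hθ : IsIrrCharacter N θ) :
    ∃ χ, IsIrrCharacter G χ ∧ classInner (fun n => χ (i n)) θ ≠ 0 := by
  have := Fintype.ofFinite G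
  have := Fintype.ofFinite i.range
  obtain ⟨χ, h1, h2⟩ := exists_irr_over i.range (hθ.comp_mulEquiv (MonoidHom.ofInjective hi).symm)
  refine ⟨χ, h1, ?_⟩
  rw [← classInner_comp_mulEquiv (MonoidHom.ofInjective hi)] at h2
  simp only [MulEquiv.symm_apply_apply] at h2
  exact h2

/-- Compatibility of the correspondence for a `p`-group with restriction to an invariant normal subgroup
(Isaacs 13.29): `χ` lies over `θ` iff the correspondent `ξ` of `χ` lies over the correspondent `η` of `θ`. -/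
theorem gl_over_iff {N D M : Type*} [Group N] [Group D] [Group M] [Finite A] [Finite G] [Fintype N]
    [Fintype M] {p : ℕ} (hp : p.Prime) (hA : IsPGroup p A) (hG : ¬ p ∣ Nat.card G) (φ : A →* MulAut G)
    (ψ : A →* MulAut N) (i : N →* G) (hi : Function.Injective i) (hn : i.range.Normal)
    (hiφ : ∀ a n, i (ψ a n) = φ a (i n)) (j : D →* G) (hj : Function.Injective j) (k : M →* N)
    (hk : Function.Injective k) (hM : ∀ n, n ∈ k.range ↔ ∀ a, ψ a n = n) (l : M →* D)
    (hl : ∀ m, j (l m) = i (k m)) (hln : l.range.Normal) {χ : G → ℂ} (hχ : IsIrrCharacter G χ)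
    (hχi : ∀ a g, χ (φ a g) = χ g) {θ : N → ℂ} (hθ : IsIrrCharacter N θ) (hθi : ∀ a n, θ (ψ a n) = θ n)
    {ξ : D → ℂ} (hξ : IsIrrCharacter D ξ) {η : M → ℂ} (hη : IsIrrCharacter M η) (r : GlRel p j χ ξ)
    (r' : GlRel p k θ η) :
    classInner (fun n => χ (i n)) θ ≠ 0 ↔ classInner (fun m => ξ (l m)) η ≠ 0 := by
  have := Fact.mk hp
  have : Finite D := Finite.of_injective j hj
  have hN : ¬ p ∣ Nat.card N := fun h => hG (h.trans (Subgroup.card_dvd_of_injective i hi))
  have hD : ¬ p ∣ Nat.card D := fun h => hG (h.trans (Subgroup.card_dvd_of_injective j hj))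
  have hli : Function.Injective l := fun m m' e => hk (hi (by rw [← hl, ← hl, e]))
  obtain ⟨m, hm⟩ := (hχ.isCharacter.comp i).exists_nat_classInner hθ.isCharacter
  obtain ⟨n, hn'⟩ := ((hχ.isCharacter.comp i).comp k).exists_nat_classInner hη.isCharacter
  obtain ⟨e, he⟩ := (hξ.isCharacter.comp l).exists_nat_classInner hη.isCharacter
  have h1 := gl_mult_congr hp hA ψ (fun a c => (hM _).mp ⟨c, rfl⟩ a) (isGlCorr_pgroup hp hA hN ψ k hk hM)
    (hχ.isCharacter.comp i) (fun a g => by simp only [hiφ, hχi]) hθ hθi hη r' hm hn'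
  obtain ⟨ε, hε, h2⟩ := (r.comp (MonoidHom.id G) l (j' := i.comp k) hl).exists_classInner
  obtain ⟨t, ht⟩ := h2 η hη.isGeneralizedCharacter
  rw [he] at ht
  have h3 : (n : ℤ) = ε * e + p * t := by exact_mod_cast hn'.symm.trans ht
  have h4 : (n : ZMod p) = e ∨ (n : ZMod p) = -e := by
    have := congrArg (Int.cast : ℤ → ZMod p) h3
    rcases hε with rfl | rfl
    · left; simpa using this
    · right; simpa using this
  have h5 : (m : ZMod p) = 0 ↔ (e : ZMod p) = 0 := by
    constructor <;> intro h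
    · have : (n : ZMod p) = 0 := by rcases h1 with h1 | h1 <;> simp [h1, h]
      rcases h4 with h4 | h4 <;> simpa [this] using h4.symm
    · have : (n : ZMod p) = 0 := by rcases h4 with h4 | h4 <;> simp [h4, h]
      rcases h1 with h1 | h1 <;> simpa [this] using h1.symm
  rw [ZMod.natCast_eq_zero_iff, ZMod.natCast_eq_zero_iff] at h5
  rw [hm, he, Nat.cast_ne_zero, Nat.cast_ne_zero]
  obtain ⟨d, -, hd⟩ := hχ.exists_nat_one
  obtain ⟨d', -, hd'⟩ := hξ.exists_nat_one
  constructor
  · rintro h0 rfl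
    exact hG ((h5.mpr (dvd_zero p)).trans
      ((gl_mult_dvd_degree i hi hn hχ hθ hm h0 hd).trans (isIrr_degree_dvd_card hχ hd)))
  · rintro h0 rfl
    exact hD ((h5.mp (dvd_zero p)).trans
      ((gl_mult_dvd_degree l hli hln hξ hη he h0 hd').trans (isIrr_degree_dvd_card hξ hd')))

theorem gl_exists_inv_over_aux (n : ℕ) : ∀ (A : Type v) [Group A] [Finite A],
    Nat.card A = n → Group.IsSolvable A → ∀ (G N : Type u) [Group G] [Finite G] [Group N] [Fintype N],
    (Nat.card A).Coprime (Nat.card G) → ∀ (φ : A →* MulAut G) (ψ : A →* MulAut N) (i : N →* G),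
    Function.Injective i → i.range.Normal → (∀ a n, i (ψ a n) = φ a (i n)) →
    ∀ θ : N → ℂ, IsIrrCharacter N θ → (∀ a n, θ (ψ a n) = θ n) →
    ∃ χ, IsIrrCharacter G χ ∧ (∀ a g, χ (φ a g) = χ g) ∧ classInner (fun n => χ (i n)) θ ≠ 0 := by
  induction n using Nat.strong_induction_on with
  | _ n ih =>
  intro A _ _ hn hA G N _ _ _ _ hcop φ ψ i hi hin hiφ θ hθ hθi
  rcases subsingleton_or_nontrivial A with hs | hs
  · obtain ⟨χ, h1, h2⟩ := gl_exists_irr_over_hom i hi hθ
    exact ⟨χ, h1, fun a g => by rw [Subsingleton.elim a 1]; simp, h2⟩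
  · obtain ⟨p, T, hp, hT, h0, hP, hG⟩ := gl_exists_normal_pgroup hcop
    have hN : ¬ p ∣ Nat.card N := fun h => hG (h.trans (Subgroup.card_dvd_of_injective i hi))
    obtain ⟨η, hη, hηi, r'⟩ := (isGlCorr_normal hp hN ψ T hP).ex θ hθ hθi
    let l : glFix ψ T →* glFix φ T := (i.comp (glFix ψ T).subtype).codRestrict _ fun m t ht => by
      change φ t (i m) = i m
      rw [← hiφ, m.2 t ht]
    have hl : ∀ m, (l m : G) = i m := fun _ => rfl
    have hln : l.range.Normal := ⟨by
      rintro _ ⟨m, rfl⟩ d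
      obtain ⟨m', hm'⟩ := hin.conj_mem (i m) ⟨m, rfl⟩ d
      refine ⟨⟨m', fun t ht => hi ?_⟩, Subtype.ext hm'⟩
      rw [hiφ, hm']
      exact (d * l m * d⁻¹).2 t ht⟩
    have := Fintype.ofFinite (glFix ψ T)
    obtain ⟨ξ, hξ, hξi, h1⟩ := ih _ (hn ▸ CL.Grp.card_quotient_lt_of_ne_bot h0) (A ⧸ T) rfl
      inferInstance (glFix φ T) (glFix ψ T)
      ((hcop.coprime_dvd_left (Subgroup.card_quotient_dvd_card T)).coprime_dvd_right
        (Subgroup.card_subgroup_dvd_card _)) (glQuotAct φ T) (glQuotAct ψ T) l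
      (fun m m' e => Subtype.ext (hi (congrArg Subtype.val e))) hln (fun a m => by
        induction a using QuotientGroup.induction_on with
        | H a => exact Subtype.ext (hiφ a m)) η hη hηi
    obtain ⟨χ, hχ, hχi, r⟩ := (isGlCorr_normal hp hG φ T hP).surj ξ hξ hξi
    refine ⟨χ, hχ, hχi, ?_⟩
    exact (gl_over_iff hp hP hG (φ.comp T.subtype) (ψ.comp T.subtype) i hi hin (fun a n => hiφ a n)
      (glFix φ T).subtype Subtype.val_injective (glFix ψ T).subtype Subtype.val_injective
      (fun n => by simp [mem_glFix]) l (fun _ => rfl) hln hχ (fun a g => hχi a g) hθ (fun a g => hθi a g)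
      hξ hη r r').mpr h1

/-- Under a coprime action of a solvable group every invariant irreducible character of an invariant normal
subgroup lies under an invariant irreducible character (Isaacs 13.30). -/
theorem gl_exists_inv_over [Finite A] [Finite G] [hA : Group.IsSolvable A]
    (hcop : (Nat.card A).Coprime (Nat.card G)) (φ : A →* MulAut G) (N : Subgroup G) [hN : N.Normal]
    [Fintype N] (hNA : ∀ a, ∀ n ∈ N, φ a n ∈ N) {θ : N → ℂ} (hθ : IsIrrCharacter N θ)
    (hθi : ∀ a (n : N), θ ⟨φ a n, hNA a n n.2⟩ = θ n) :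
    ∃ χ, IsIrrCharacter G χ ∧ (∀ a g, χ (φ a g) = χ g) ∧ classInner (fun n : N => χ n) θ ≠ 0 :=
  gl_exists_inv_over_aux _ A rfl hA G N hcop φ (glRestrict φ N hNA) N.subtype Subtype.val_injective
    (by rwa [Subgroup.range_subtype]) (fun _ _ => rfl) θ hθ hθi

end Solvable

end CL.Char
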