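/-
Invariant constituents under coprime action (Isaacs 13.27, 13.28, 13.30), in a relative form where a normal
subgroup `B` of the operator group acts by inner automorphisms.
-/
import Cfsg.Agent.Char.GlaubSolv
import Cfsg.Agent.Char.Gallagher
import Cfsg.Agent.Char.GoingDown2

set_option autoImplicit false

open Cfsg
open scoped ComplexConjugate commutatorElement

namespace CL.Char

section Quot

variable {A G : Type*} [Group A] [Group G]

/-- The action on the quotient by an invariant normal subgroup. -/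
def glQuotHom (φ : A →* MulAut G) (N : Subgroup G) [N.Normal] (hN : ∀ a, ∀ n ∈ N, φ a n ∈ N) :
    A →* MulAut (G ⧸ N) where
  toFun a :=
    { toFun := QuotientGroup.map N N (φ a).toMonoidHom (hN a)
      invFun := QuotientGroup.map N N (φ a⁻¹).toMonoidHom (hN a⁻¹)
      left_inv := fun q => by
        induction q using QuotientGroup.induction_on with
        | H g => simp
      right_inv := fun q => by
        induction q using QuotientGroup.induction_on with
        | H g => simp
      map_mul' := map_mul _ }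
  map_one' := by
    ext q
    induction q using QuotientGroup.induction_on with
    | H g => simp
  map_mul' a b := by
    ext q
    induction q using QuotientGroup.induction_on with
    | H g => simp

@[simp] theorem glQuotHom_mk (φ : A →* MulAut G) (N : Subgroup G) [N.Normal] (hN : ∀ a, ∀ n ∈ N, φ a n ∈ N)
    (a : A) (g : G) : glQuotHom φ N hN a (g : G ⧸ N) = (φ a g : G ⧸ N) := rfl

/-- The action of `A / B` on `G / N` when `B` acts trivially on `G / N`. -/
def glQuotHom₂ (φ : A →* MulAut G) (N : Subgroup G) [N.Normal] (hN : ∀ a, ∀ n ∈ N, φ a n ∈ N)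
    (B : Subgroup A) [B.Normal] (hB : ∀ b ∈ B, ∀ g, g⁻¹ * φ b g ∈ N) : A ⧸ B →* MulAut (G ⧸ N) :=
  QuotientGroup.lift B (glQuotHom φ N hN) fun b hb => by
    ext q
    induction q using QuotientGroup.induction_on with
    | H g => exact (QuotientGroup.eq.mpr (hB b hb g)).symm

@[simp] theorem glQuotHom₂_mk (φ : A →* MulAut G) (N : Subgroup G) [N.Normal] (hN : ∀ a, ∀ n ∈ N, φ a n ∈ N)
    (B : Subgroup A) [B.Normal] (hB : ∀ b ∈ B, ∀ g, g⁻¹ * φ b g ∈ N) (a : A) (g : G) :
    glQuotHom₂ φ N hN B hB (a : A ⧸ B) (g : G ⧸ N) = (φ a g : G ⧸ N) := rfl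

/-- An action which is trivial on a normal subgroup factors through the quotient. -/
@[reducible] def glQuotMulAction {X : Type*} [MulAction G X] (N : Subgroup G) [N.Normal]
    (h : ∀ n ∈ N, ∀ x : X, n • x = x) : MulAction (G ⧸ N) X :=
  MulAction.compHom X (QuotientGroup.lift N (MulAction.toPermHom G X) fun n hn => Equiv.ext (h n hn))

variable [Finite A] [Finite G] {X : Type*} [MulAction G X] [MulAction A X]

/-- Glauberman's lemma, existence, for actions factoring through coprime quotients. -/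
theorem gl_lemma_fixed (φ : A →* MulAut G) (hc : ∀ (a : A) (g : G) (x : X), a • g • x = φ a g • a • x)
    (N : Subgroup G) [N.Normal] (hN : ∀ a, ∀ n ∈ N, φ a n ∈ N) (B : Subgroup A) [B.Normal]
    (hB : ∀ b ∈ B, ∀ g, g⁻¹ * φ b g ∈ N) (hNX : ∀ n ∈ N, ∀ x : X, n • x = x)
    (hBX : ∀ b ∈ B, ∀ x : X, b • x = x) (hcop : B.index.Coprime N.index)
    (hsolv : Group.IsSolvable (A ⧸ B) ∨ Group.IsSolvable (G ⧸ N)) (y : X) (hy : ∀ a : A, ∃ g : G, a • y = g • y) :
    ∃ g : G, ∀ a : A, a • g • y = g • y := by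
  let _ := MulDistribMulAction.compHom (G ⧸ N) (glQuotHom₂ φ N hN B hB)
  let _ := glQuotMulAction N hNX
  let _ := glQuotMulAction B hBX
  obtain ⟨k, hk⟩ := CL.Grp.act_glauberman_exists_fixed (A := A ⧸ B) (K := G ⧸ N) (X := X)
    (fun a k x => by
      induction a using QuotientGroup.induction_on with
      | H a =>
        induction k using QuotientGroup.induction_on with
        | H k => exact hc a k x) hcop hsolv y
    (fun a => by
      induction a using QuotientGroup.induction_on with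
      | H a =>
        obtain ⟨g, hg⟩ := hy a
        exact ⟨g, hg⟩)
  induction k using QuotientGroup.induction_on with
  | H k => exact ⟨k, fun a => hk a⟩

/-- Glauberman's lemma, conjugacy, for actions factoring through coprime quotients. -/
theorem gl_lemma_conj (φ : A →* MulAut G) (hc : ∀ (a : A) (g : G) (x : X), a • g • x = φ a g • a • x)
    (N : Subgroup G) [N.Normal] (hN : ∀ a, ∀ n ∈ N, φ a n ∈ N) (B : Subgroup A) [B.Normal]
    (hB : ∀ b ∈ B, ∀ g, g⁻¹ * φ b g ∈ N) (hNX : ∀ n ∈ N, ∀ x : X, n • x = x)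
    (hBX : ∀ b ∈ B, ∀ x : X, b • x = x) (hcop : B.index.Coprime N.index)
    (hsolv : Group.IsSolvable (A ⧸ B) ∨ Group.IsSolvable (G ⧸ N)) (y : X) (hy : ∀ a : A, a • y = y) (g : G)
    (hg : ∀ a : A, a • g • y = g • y) : ∃ c : G, (∀ a, c⁻¹ * φ a c ∈ N) ∧ c • y = g • y := by
  let _ := MulDistribMulAction.compHom (G ⧸ N) (glQuotHom₂ φ N hN B hB)
  let _ := glQuotMulAction N hNX
  let _ := glQuotMulAction B hBX
  obtain ⟨k, hk, e⟩ := CL.Grp.act_glauberman_exists_fixed_smul_eq (A := A ⧸ B) (K := G ⧸ N) (X := X)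
    (fun a k x => by
      induction a using QuotientGroup.induction_on with
      | H a =>
        induction k using QuotientGroup.induction_on with
        | H k => exact hc a k x) hcop hsolv y
    (fun a => by
      induction a using QuotientGroup.induction_on with
      | H a => exact hy a) g
    (fun a => by
      induction a using QuotientGroup.induction_on with
      | H a => exact hg a)
  induction k using QuotientGroup.induction_on with
  | H k => exact ⟨k, fun a => QuotientGroup.eq.mp (hk a).symm, e⟩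

end Quot

section Under

variable {A G : Type*} [Group A] [Group G] [Finite A] [Finite G]

omit [Finite A] [Finite G] in
theorem gl_inner_trivial {φ : A →* MulAut G} {N : Subgroup G} [hN : N.Normal] {B : Subgroup A}
    (hB : ∀ b ∈ B, ∃ n ∈ N, ∀ g, φ b g = n * g * n⁻¹) : ∀ b ∈ B, ∀ g, g⁻¹ * φ b g ∈ N := by
  intro b hb g
  obtain ⟨n, hn, h⟩ := hB b hb
  have := N.mul_mem (hN.conj_mem n hn g⁻¹) (N.inv_mem hn)
  rw [h]
  simpa [mul_assoc] using this

omit [Finite A] [Finite G] in
theorem gl_irr_compat (φ : A →* MulAut G) (N : Subgroup G) [N.Normal] (hN : ∀ a, ∀ n ∈ N, φ a n ∈ N) :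
    letI := glIrrAction (MulAut.conjNormal : G →* MulAut N)
    letI := glIrrAction (glRestrict φ N hN)
    ∀ (a : A) (g : G) (x : IrrCharacter N), a • g • x = φ a g • a • x := by
  intro a g x
  refine Subtype.ext (funext fun n => ?_)
  simp only [glIrrAction_smul]
  refine congrArg _ (Subtype.ext ?_)
  simp only [coe_glRestrict, MulAut.conjNormal_apply]
  simp

omit [Finite A] [Finite G] in
theorem gl_irr_inner (N : Subgroup G) [N.Normal] :
    letI := glIrrAction (MulAut.conjNormal : G →* MulAut N)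
    ∀ n ∈ N, ∀ x : IrrCharacter N, n • x = x := fun _ hn x =>
  Subtype.ext (conjChar_of_mem x.2.isClassFunction (N.inv_mem hn))

omit [Finite A] [Finite G] in
theorem gl_irr_inner' {φ : A →* MulAut G} {N : Subgroup G} (hN : ∀ a, ∀ n ∈ N, φ a n ∈ N) {B : Subgroup A}
    (hB : ∀ b ∈ B, ∃ n ∈ N, ∀ g, φ b g = n * g * n⁻¹) :
    letI := glIrrAction (glRestrict φ N hN)
    ∀ b ∈ B, ∀ x : IrrCharacter N, b • x = x := by
  intro b hb x
  obtain ⟨n, hn, h⟩ := hB b⁻¹ (B.inv_mem hb)
  refine Subtype.ext (funext fun m => ?_)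
  rw [glIrrAction_smul, ← x.2.isClassFunction m ⟨n, hn⟩]
  exact congrArg _ (Subtype.ext (h m))

/-- An invariant irreducible character has an invariant constituent on an invariant normal subgroup of coprime
index (Isaacs 13.27). -/
theorem gl_exists_inv_under (φ : A →* MulAut G) (N : Subgroup G) [hNn : N.Normal] [Fintype N]
    (hN : ∀ a, ∀ n ∈ N, φ a n ∈ N) (B : Subgroup A) [B.Normal]
    (hB : ∀ b ∈ B, ∃ n ∈ N, ∀ g, φ b g = n * g * n⁻¹) (hcop : B.index.Coprime N.index)
    (hsolv : Group.IsSolvable (A ⧸ B) ∨ Group.IsSolvable (G ⧸ N)) {χ : G → ℂ} (hχ : IsIrrCharacter G χ)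
    (hχi : ∀ a g, χ (φ a g) = χ g) :
    ∃ θ, IsIrrCharacter N θ ∧ (∀ a (n : N), θ ⟨φ a n, hN a n n.2⟩ = θ n) ∧
      classInner (fun n : N => χ n) θ ≠ 0 := by
  have := Fintype.ofFinite G
  let _ := glIrrAction (MulAut.conjNormal : G →* MulAut N)
  let _ := glIrrAction (glRestrict φ N hN)
  obtain ⟨θ, hθ, h1⟩ := exists_irr_constituent_restrict N hχ
  obtain ⟨g, hg⟩ := gl_lemma_fixed (X := IrrCharacter N) φ (gl_irr_compat φ N hN) N hN B (gl_inner_trivial hB)
    (gl_irr_inner N) (gl_irr_inner' hN hB) hcop hsolv ⟨θ, hθ⟩ fun a => by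
      obtain ⟨g, hg⟩ := exists_conjChar_eq_of_classInner_ne_zero hχ hθ (a • (⟨θ, hθ⟩ : IrrCharacter N)).2 h1
        (by
          rw [← classInner_comp_mulEquiv (glRestrict φ N hN a)]
          simpa only [coe_glRestrict, hχi, glIrrAction_smul, map_inv, MulAut.inv_apply_self] using h1)
      refine ⟨g⁻¹, Subtype.ext (hg.symm.trans (funext fun n => ?_))⟩
      rw [glIrrAction_smul, inv_inv]
      rfl
  refine ⟨_, (g • (⟨θ, hθ⟩ : IrrCharacter N)).2, (glIrrAction_fixed_iff _ _).mp hg, ?_⟩
  exact (classInner_res_conjChar hχ.isClassFunction g⁻¹ θ).symm ▸ h1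

/-- Invariant conjugates of an invariant character are conjugate under the fixed points modulo `N`. -/
theorem gl_exists_fixed_conjChar (φ : A →* MulAut G) (N : Subgroup G) [hNn : N.Normal]
    (hN : ∀ a, ∀ n ∈ N, φ a n ∈ N) (B : Subgroup A) [B.Normal]
    (hB : ∀ b ∈ B, ∃ n ∈ N, ∀ g, φ b g = n * g * n⁻¹) (hcop : B.index.Coprime N.index)
    (hsolv : Group.IsSolvable (A ⧸ B) ∨ Group.IsSolvable (G ⧸ N)) {θ : N → ℂ} (hθ : IsIrrCharacter N θ)
    (hθi : ∀ a (n : N), θ ⟨φ a n, hN a n n.2⟩ = θ n) (g : G)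
    (hg : ∀ a (n : N), conjChar N g θ ⟨φ a n, hN a n n.2⟩ = conjChar N g θ n) :
    ∃ c : G, (∀ a, c⁻¹ * φ a c ∈ N) ∧ conjChar N c θ = conjChar N g θ := by
  let _ := glIrrAction (MulAut.conjNormal : G →* MulAut N)
  let _ := glIrrAction (glRestrict φ N hN)
  have e : ∀ x : G, ((x⁻¹ • (⟨θ, hθ⟩ : IrrCharacter N) : IrrCharacter N) : N → ℂ) = conjChar N x θ := by
    intro x
    funext n
    rw [glIrrAction_smul, inv_inv]
    rfl
  obtain ⟨c, hc, h⟩ := gl_lemma_conj (X := IrrCharacter N) φ (gl_irr_compat φ N hN) N hN B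
    (gl_inner_trivial hB) (gl_irr_inner N) (gl_irr_inner' hN hB) hcop hsolv ⟨θ, hθ⟩
    ((glIrrAction_fixed_iff _ _).mpr hθi) g⁻¹ ((glIrrAction_fixed_iff _ _).mpr (by rw [e]; exact hg))
  refine ⟨c⁻¹, fun a => ?_, ?_⟩
  · have := hNn.conj_mem _ (N.inv_mem (hc a)) c
    simpa [mul_assoc] using this
  · rw [← e, ← e, inv_inv, h]

end Under

section Over

universe u

variable {A G : Type*} [Group A] [Group G]

/-- The linear characters of `G / K` act transitively on the irreducible characters over a given character of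
`K` when `G / K` is abelian. -/
theorem gl_exists_linear_of_res [Finite G] (K : Subgroup G) [K.Normal] [Fintype K] (hK : commutator G ≤ K)
    {χ ψ : G → ℂ} (hχ : IsIrrCharacter G χ) (hψ : IsIrrCharacter G ψ)
    (h : classInner (fun n : K => ψ n) (fun n : K => χ n) ≠ 0) :
    ∃ lam : G ⧸ K →* ℂˣ, ψ = fun g : G => (lam g : ℂ) * χ g := by
  have := Fintype.ofFinite G
  have h1 := isCharacter_cosetAvg (N := K) (hψ.isCharacter.mul hχ.isCharacter.conj)
  obtain ⟨β, hβ, h2⟩ := exists_irr_constituent h1 fun e => h (by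
    rw [← cosetAvg_mul_conj_one, e]; rfl)
  have h3 : K ≤ charKer β := (le_charKer_cosetAvg _).trans (h1.charKer_le_of_classInner_ne_zero hβ h2)
  rw [classInner_cosetAvg_left _ h3, classInner_mul_left] at h2
  obtain ⟨β', hβ', rfl⟩ := hβ.exists_quotient K h3
  obtain ⟨lam, rfl⟩ := hβ'.isCharacter.exists_monoidHom_of_one
    (by simpa using hβ.one_eq_one_iff.mpr (hK.trans h3))
  refine ⟨lam, hψ.eq_of_classInner_ne_zero (hχ.monoidHom_mul (lam.comp (QuotientGroup.mk' K))) ?_⟩
  simpa [mul_comm] using h2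

/-- The action on linear characters. -/
def glDualHom (φ : A →* MulAut G) : A →* MulAut (G →* ℂˣ) where
  toFun a :=
    { toFun := fun lam => lam.comp (φ a⁻¹).toMonoidHom
      invFun := fun lam => lam.comp (φ a).toMonoidHom
      left_inv := fun lam => by ext; simp
      right_inv := fun lam => by ext; simp
      map_mul' := fun _ _ => rfl }
  map_one' := by ext; simp
  map_mul' a b := by ext; simp

@[simp] theorem glDualHom_apply (φ : A →* MulAut G) (a : A) (lam : G →* ℂˣ) (g : G) :
    glDualHom φ a lam g = lam (φ a⁻¹ g) := rfl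

/-- The action of the linear characters of `G / K` on the irreducible characters of `G`. -/
@[reducible] noncomputable def glLinAction [Finite G] (K : Subgroup G) [K.Normal] :
    MulAction (G ⧸ K →* ℂˣ) (IrrCharacter G) where
  smul lam χ := ⟨fun g : G => (lam g : ℂ) * (χ : G → ℂ) g, χ.2.monoidHom_mul (lam.comp (QuotientGroup.mk' K))⟩
  one_smul _ := Subtype.ext (funext fun _ => one_mul _)
  mul_smul _ _ _ := Subtype.ext (funext fun _ => mul_assoc _ _ _)

/-- One abelian step of Isaacs 13.28. -/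
theorem gl_exists_inv_over_abelian [Finite A] [Finite G] (φ : A →* MulAut G) (K : Subgroup G) [K.Normal]
    [Fintype K] (hK : commutator G ≤ K) (hN : ∀ a, ∀ n ∈ K, φ a n ∈ K) (B : Subgroup A) [B.Normal]
    (hB : ∀ b ∈ B, ∃ n ∈ K, ∀ g, φ b g = n * g * n⁻¹) (hcop : B.index.Coprime K.index)
    {θ : K → ℂ} (hθ : IsIrrCharacter K θ) (hθi : ∀ a (n : K), θ ⟨φ a n, hN a n n.2⟩ = θ n) :
    ∃ χ, IsIrrCharacter G χ ∧ (∀ a g, χ (φ a g) = χ g) ∧ classInner (fun n : K => χ n) θ ≠ 0 := by
  have := Fintype.ofFinite G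
  obtain ⟨χ, hχ, h1⟩ := exists_irr_over K hθ
  let _ := glIrrAction φ
  let _ := glLinAction K
  have hmk : ∀ n : K, ((n : G) : G ⧸ K) = 1 := fun n => (QuotientGroup.eq_one_iff _).mpr n.2
  obtain ⟨lam, hlam⟩ := gl_lemma_fixed (X := IrrCharacter G) (G := G ⧸ K →* ℂˣ) (glDualHom (glQuotHom φ K hN))
    (fun _ _ _ => rfl) (⊥ : Subgroup (G ⧸ K →* ℂˣ)) (fun a n hn => by rw [Subgroup.mem_bot.mp hn, map_one]; exact one_mem _) B
    (fun b hb lam => by
      rw [Subgroup.mem_bot, inv_mul_eq_one]
      ext g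
      exact congrArg (fun x => (lam x : ℂ)) (QuotientGroup.eq.mpr (gl_inner_trivial hB b⁻¹ (B.inv_mem hb) g)))
    (fun n hn x => by rw [Subgroup.mem_bot.mp hn, one_smul])
    (fun b hb x => by
      obtain ⟨n, -, h⟩ := hB b⁻¹ (B.inv_mem hb)
      exact Subtype.ext (funext fun g => by rw [glIrrAction_smul, h, x.2.isClassFunction]))
    (by
      rw [Subgroup.index_bot, card_monoidHom_eq_index]
      exact hcop.coprime_dvd_right (Subgroup.index_dvd_card _))
    (Or.inr inferInstance) ⟨χ, hχ⟩ fun a => by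
      obtain ⟨lam, h⟩ := gl_exists_linear_of_res K hK hχ (a • (⟨χ, hχ⟩ : IrrCharacter G)).2
        (classInner_ne_zero_of_common ((a • (⟨χ, hχ⟩ : IrrCharacter G)).2.isCharacter.restrict K)
          (hχ.isCharacter.restrict K) hθ (by
            rw [← classInner_comp_mulEquiv (glRestrict φ K hN a)]
            have e : (fun n : K => θ (glRestrict φ K hN a n)) = θ := funext (hθi a)
            simpa only [e, coe_glRestrict, glIrrAction_smul, map_inv, MulAut.inv_apply_self] using h1) h1)
      exact ⟨lam, Subtype.ext h⟩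
  refine ⟨_, (lam • (⟨χ, hχ⟩ : IrrCharacter G)).2, (glIrrAction_fixed_iff _ _).mp hlam, ?_⟩
  change classInner (fun n : K => (lam (n : G) : ℂ) * χ n) θ ≠ 0
  simpa [hmk] using h1

theorem gl_exists_inv_over_solv_aux [Finite A] {N : Type*} [Group N] [Fintype N] (ψ : A →* MulAut N)
    (B : Subgroup A) [B.Normal] {θ : N → ℂ} (hθ : IsIrrCharacter N θ) (hθi : ∀ a n, θ (ψ a n) = θ n) (k : ℕ) :
    ∀ (G : Type u) [Group G] [Finite G], Nat.card G = k → ∀ (φ : A →* MulAut G) (i : N →* G)
    [i.range.Normal], Function.Injective i → (∀ a n, i (ψ a n) = φ a (i n)) →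
    (∀ b ∈ B, ∃ n, ∀ g, φ b g = i n * g * (i n)⁻¹) → B.index.Coprime i.range.index →
    Group.IsSolvable (G ⧸ i.range) →
    ∃ χ, IsIrrCharacter G χ ∧ (∀ a g, χ (φ a g) = χ g) ∧ classInner (fun n => χ (i n)) θ ≠ 0 := by
  induction k using Nat.strong_induction_on with
  | _ k ih =>
  intro G _ _ hk φ i hin hi hiφ hB hcop hsolv
  by_cases htop : i.range = ⊤
  · let e : N ≃* G := MulEquiv.ofBijective i ⟨hi, MonoidHom.range_eq_top.mp htop⟩
    refine ⟨_, hθ.comp_mulEquiv e.symm, fun a g => ?_, ?_⟩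
    · obtain ⟨n, rfl⟩ := e.surjective g
      have : φ a (e n) = e (ψ a n) := (hiφ a n).symm
      simp only [this, MulEquiv.symm_apply_apply, hθi]
    · have : (fun n => θ (e.symm (i n))) = θ := funext fun n => congrArg θ (e.symm_apply_apply n)
      rw [this, hθ.classInner_self]
      exact one_ne_zero
  · set K := i.range ⊔ commutator G with hK
    have hKt : K ≠ ⊤ := by
      intro h
      have : Nontrivial (G ⧸ i.range) := QuotientGroup.nontrivial_iff.mpr htop
      refine (Group.IsSolvable.commutator_lt_top_of_nontrivial (G ⧸ i.range)).ne ?_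
      rw [eq_top_iff, ← Subgroup.map_top_of_surjective _ (QuotientGroup.mk'_surjective i.range), ← h, hK,
        Subgroup.map_sup, QuotientGroup.map_mk'_self, bot_sup_eq, map_commutator_eq]
      exact Subgroup.commutator_mono le_top le_top
    have hKA : ∀ a, ∀ n ∈ K, φ a n ∈ K := by
      intro a
      change K ≤ K.comap (φ a).toMonoidHom
      refine sup_le ?_ ?_
      · rintro _ ⟨n, rfl⟩
        exact Subgroup.mem_sup_left ⟨ψ a n, hiφ a n⟩
      · refine le_trans ?_ (Subgroup.comap_mono le_sup_right)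
        exact (Subgroup.characteristic_iff_le_comap.mp inferInstance (φ a))
    let i' : N →* K := i.codRestrict K fun n => Subgroup.mem_sup_left ⟨n, rfl⟩
    have hr : i'.range = i.range.subgroupOf K := by
      ext x
      exact ⟨fun ⟨n, e⟩ => ⟨n, congrArg Subtype.val e⟩, fun ⟨n, e⟩ => ⟨n, Subtype.ext e⟩⟩
    have hn' : i'.range.Normal := hr ▸ inferInstance
    obtain ⟨η, hη, hηi, h1⟩ := ih _ (hk ▸ CL.Grp.card_lt_of_ne_top hKt) K rfl (glRestrict φ K hKA) i'
      (fun a b e => hi (congrArg Subtype.val e)) (fun a n => Subtype.ext (hiφ a n))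
      (fun b hb => by
        obtain ⟨n, h⟩ := hB b hb
        exact ⟨n, fun g => Subtype.ext (h g)⟩)
      (hcop.coprime_dvd_right (hr ▸ Subgroup.relIndex_dvd_index_of_normal i.range K))
      (by
        have := isSolvable_quotient_subgroupOf i.range K
        exact Group.isSolvable_of_surjective (f := (QuotientGroup.quotientMulEquivOfEq hr).symm.toMonoidHom)
          (QuotientGroup.quotientMulEquivOfEq hr).symm.surjective)
    have := Fintype.ofFinite K
    obtain ⟨χ, hχ, hχi, h2⟩ := gl_exists_inv_over_abelian φ K le_sup_right hKA B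
      (fun b hb => by
        obtain ⟨n, h⟩ := hB b hb
        exact ⟨i n, Subgroup.mem_sup_left ⟨n, rfl⟩, h⟩)
      (hcop.coprime_dvd_right (Subgroup.index_dvd_of_le le_sup_left)) hη hηi
    exact ⟨χ, hχ, hχi, classInner_comp_ne_zero_of_constituent i' (hχ.isCharacter.restrict K) hη
      hθ.isCharacter h2 h1⟩

/-- Isaacs 13.30 relative to an invariant normal subgroup `M` in the kernel. -/
theorem gl_exists_inv_over_rel [Finite A] [Finite G] (φ : A →* MulAut G) (M : Subgroup G) [M.Normal]
    (hM : ∀ a, ∀ n ∈ M, φ a n ∈ M) (B : Subgroup A) [B.Normal] (hB : ∀ b ∈ B, ∀ g, g⁻¹ * φ b g ∈ M)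
    (hcop : B.index.Coprime M.index) [Group.IsSolvable (A ⧸ B)] (N : Subgroup G) [N.Normal] [Fintype N]
    (hN : ∀ a, ∀ n ∈ N, φ a n ∈ N) {θ : N → ℂ} (hθ : IsIrrCharacter N θ)
    (hθM : M.subgroupOf N ≤ charKer θ) (hθi : ∀ a (n : N), θ ⟨φ a n, hN a n n.2⟩ = θ n) :
    ∃ χ, IsIrrCharacter G χ ∧ (∀ a g, χ (φ a g) = χ g) ∧ M ≤ charKer χ ∧
      classInner (fun n : N => χ n) θ ≠ 0 := by
  set f := (QuotientGroup.mk' M).subgroupMap N
  have hf : Function.Surjective f := (QuotientGroup.mk' M).subgroupMap_surjective N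
  obtain ⟨η, hη, rfl⟩ := hθ.exists_comp_eq f hf (fun x hx => hθM
    ((QuotientGroup.eq_one_iff (x : G)).mp (congrArg Subtype.val hx)))
  have := Subgroup.Normal.map ‹N.Normal› _ (QuotientGroup.mk'_surjective M)
  have := Fintype.ofFinite (N.map (QuotientGroup.mk' M))
  obtain ⟨χ, hχ, hχi, h1⟩ := gl_exists_inv_over hcop (glQuotHom₂ φ M hM B hB) (N.map (QuotientGroup.mk' M))
    (fun a x hx => by
      induction a using QuotientGroup.induction_on with
      | H a =>
        obtain ⟨n, hn, rfl⟩ := hx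
        exact ⟨φ a n, hN a n hn, rfl⟩) hη
    (fun a x => by
      induction a using QuotientGroup.induction_on with
      | H a =>
        obtain ⟨n, rfl⟩ := hf x
        exact hθi a n)
  refine ⟨_, hχ.inflate, fun a g => hχi a g, le_charKer_inflate χ, ?_⟩
  rw [← classInner_comp_of_surjective f hf] at h1
  exact h1

end Over

end CL.Char
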