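import Cfsg.Agent.Char.McK1
import Cfsg.Agent.Char.GlaubSolv
import Cfsg.Agent.Char.GlaubInv
import Cfsg.Agent.Grp.Coprime2

/-! The Okuyama--Wajima argument, in counting form. -/

set_option autoImplicit false
set_option linter.unusedSectionVars false
set_option linter.style.haveILetI false
open Cfsg
open scoped ComplexConjugate commutatorElement IsMulCommutative

namespace CL.Char

variable {G : Type*} [Group G]

/-- Conjugation action of a subgroup of the normalizer. -/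
def mckConj {K U : Subgroup G} (h : U ≤ Subgroup.normalizer (K : Set G)) : U →* MulAut K :=
  K.normalizerMonoidHom.comp (Subgroup.inclusion h)

@[simp] theorem coe_mckConj {K U : Subgroup G} (h : U ≤ Subgroup.normalizer (K : Set G)) (g : U)
    (a : K) : (mckConj h g a : G) = g * a * (g : G)⁻¹ := rfl

theorem nemb_inclusion {K U : Subgroup G} (hKU : K ≤ U) (h : U ≤ Subgroup.normalizer (K : Set G)) :
    NEmb (Subgroup.inclusion hKU) (mckConj h) :=
  ⟨Subgroup.inclusion_injective _, fun _ _ => rfl⟩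

/-- The stabilizer of a function on a subgroup in its normalizer. -/
def istab (K : Subgroup G) (θ : K → ℂ) : Subgroup G :=
  (cstab K.normalizerMonoidHom θ).map (Subgroup.subtype _)

theorem istab_le (K : Subgroup G) (θ : K → ℂ) : istab K θ ≤ Subgroup.normalizer (K : Set G) :=
  Subgroup.map_subtype_le _

theorem mem_istab {K U : Subgroup G} (h : U ≤ Subgroup.normalizer (K : Set G)) {θ : K → ℂ} (g : U) :
    (g : G) ∈ istab K θ ↔ ∀ a, θ (mckConj h g a) = θ a :=
  ⟨fun ⟨x, hx, e⟩ a => by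
    rw [← hx a]
    exact congrArg θ (Subtype.ext (by rw [coe_mckConj, ← e]; rfl)),
  fun h1 => ⟨⟨g, h g.2⟩, h1, rfl⟩⟩

theorem le_istab {K U : Subgroup G} (h : U ≤ Subgroup.normalizer (K : Set G)) {θ : K → ℂ} :
    U ≤ istab K θ ↔ ∀ g a, θ (mckConj h g a) = θ a :=
  ⟨fun h1 g => (mem_istab h g).1 (h1 g.2), fun h1 g hg => (mem_istab h ⟨g, hg⟩).2 (h1 _)⟩

theorem le_istab_iff_cstab {K U : Subgroup G} (h : U ≤ Subgroup.normalizer (K : Set G))
    {θ : K → ℂ} : U ≤ istab K θ ↔ cstab (mckConj h) θ = ⊤ :=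
  (le_istab h).trans ⟨fun h1 => eq_top_iff.2 fun g _ => h1 g,
    fun h1 g => (h1 ▸ Subgroup.mem_top g : g ∈ cstab (mckConj h) θ)⟩

theorem le_istab_self {K : Subgroup G} {θ : K → ℂ} (hθ : IsClassFunction K θ) : K ≤ istab K θ :=
  (le_istab Subgroup.le_normalizer).2 fun g a => hθ a g

theorem mck_glCorr [Finite G] {p : ℕ} (hp : p.Prime) {S K C : Subgroup G} (hS : IsPGroup p S)
    (hK : ¬ p ∣ Nat.card K) (hSK : S ≤ Subgroup.normalizer (K : Set G))
    (hC : C = K ⊓ Subgroup.centralizer (S : Set G)) (hCK : C ≤ K) :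
    IsGlCorr p (Subgroup.inclusion hCK) (fun χ => S ≤ istab K χ) (fun _ => True) :=
  (isGlCorr_pgroup hp hS hK (mckConj hSK) _ (Subgroup.inclusion_injective hCK) fun g => by
    subst hC
    rw [Subgroup.inclusion_range, Subgroup.mem_subgroupOf, Subgroup.mem_inf, and_iff_right g.2,
      Subgroup.mem_centralizer_iff]
    exact ⟨fun h a => Subtype.ext (by rw [coe_mckConj, h a a.2, mul_inv_cancel_right]),
      fun h a ha => mul_inv_eq_iff_eq_mul.1 (congrArg Subtype.val (h ⟨a, ha⟩))⟩).congr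
    (fun _ _ => (le_istab hSK).symm) fun _ _ => Iff.rfl

theorem GlRel.mckConj {p : ℕ} {K C U : Subgroup G} {hCK : C ≤ K} {θ : K → ℂ} {η : C → ℂ}
    (r : GlRel p (Subgroup.inclusion hCK) θ η) (hK : U ≤ Subgroup.normalizer (K : Set G))
    (hC : U ≤ Subgroup.normalizer (C : Set G)) (g : U) :
    GlRel p (Subgroup.inclusion hCK) (fun a => θ (mckConj hK g a)) fun a => η (mckConj hC g a) :=
  r.comp (CL.Char.mckConj hK g).toMonoidHom (CL.Char.mckConj hC g).toMonoidHom fun _ => rfl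

theorem GlRel.le_istab [Finite G] {p : ℕ} (hp : p.Prime) {K C U : Subgroup G} {hCK : C ≤ K}
    {θ : K → ℂ} {η : C → ℂ} (r : GlRel p (Subgroup.inclusion hCK) θ η) (hη : IsIrrCharacter C η)
    (hK : U ≤ istab K θ) (hC : U ≤ Subgroup.normalizer (C : Set G)) : U ≤ istab C η := by
  have := Fintype.ofFinite C
  refine (CL.Char.le_istab hC).2 fun g => congrFun ?_
  have r' := r.mckConj (hK.trans (istab_le _ _)) hC g
  rw [funext ((CL.Char.le_istab _).1 hK g)] at r'
  exact r'.unique hp r (hη.comp_mulEquiv _) hη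

theorem mck_cocyclic [Finite G] {A U M : Subgroup G} (hMU : M < U) (hUU : ⁅U, U⁆ ≤ M)
    (hAU : A ≤ Subgroup.normalizer (U : Set G)) (hAM : A ≤ Subgroup.normalizer (M : Set G))
    (hA : ⁅A, A⁆ ≤ Subgroup.centralizer (U : Set G))
    (hirr : ∀ W : Subgroup G, M ≤ W → W ≤ U → A ≤ Subgroup.normalizer (W : Set G) → W = M ∨ W = U) :
    ∃ B : Subgroup G, B ≤ A ∧ (∃ a ∈ A, B ⊔ Subgroup.zpowers a = A) ∧ ⁅U, B⁆ ≤ M ∧
      A ⊓ Subgroup.centralizer (U : Set G) ≤ B := by
  letI := CL.Grp.conjAction hAU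
  have hcomm : commutator U ≤ M.subgroupOf U := by
    rw [Subgroup.subgroupOf, ← Subgroup.map_le_iff_le_comap, Subgroup.map_subtype_commutator]
    exact hUU
  haveI : (M.subgroupOf U).Normal := Subgroup.Normal.of_commutator_le _ hcomm
  haveI : IsMulCommutative (U ⧸ M.subgroupOf U) :=
    Subgroup.Normal.quotient_commutative_iff_commutator_le.mpr hcomm
  letI := CL.Grp.quotAction (A := A) (M.subgroupOf U) (CL.Grp.invariant_conjAction_subgroupOf hAU hAM)
  haveI : Nontrivial (U ⧸ M.subgroupOf U) := QuotientGroup.nontrivial_iff.mpr (by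
    rw [Ne, Subgroup.subgroupOf_eq_top]; exact hMU.not_ge)
  set f := MulDistribMulAction.toMulAut A (U ⧸ M.subgroupOf U) with hf
  have hker : ∀ a : A, (a : G) ∈ Subgroup.centralizer (U : Set G) → a ∈ f.ker := fun a ha => by
    refine MulEquiv.ext fun q => ?_
    obtain ⟨u, rfl⟩ := QuotientGroup.mk_surjective q
    refine congrArg (fun x : U => (x : U ⧸ M.subgroupOf U)) (Subtype.ext ?_)
    refine (CL.Grp.conjAction_smul_coe hAU a u).trans ?_
    rw [← ha u u.2, mul_inv_cancel_right]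
  haveI : IsMulCommutative f.range := ⟨⟨by
    rintro ⟨_, a, rfl⟩ ⟨_, b, rfl⟩
    refine Subtype.ext (commutatorElement_eq_one_iff_mul_comm.1 ?_)
    rw [← map_commutatorElement]
    exact hker _ (hA (Subgroup.commutator_mem_commutator a.2 b.2))⟩⟩
  obtain ⟨⟨_, a, rfl⟩, ha⟩ := CL.Grp.act_exists_ker_sup_zpowers_of_irreducible (A := f.range)
    (V := U ⧸ M.subgroupOf U) (fun W hW => by
      have hle : M.subgroupOf U ≤ W.comap (QuotientGroup.mk' _) := fun x hx => by
        rw [Subgroup.mem_comap, QuotientGroup.mk'_apply, (QuotientGroup.eq_one_iff x).mpr hx]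
        exact W.one_mem
      rcases hirr ((W.comap (QuotientGroup.mk' _)).map U.subtype)
        ((Subgroup.map_subgroupOf_eq_of_le hMU.le).ge.trans (Subgroup.map_mono hle))
        (Subgroup.map_subtype_le _)
        ((CL.Grp.invariant_conjAction_iff hAU _).mp fun a x hx => hW ⟨f a, a, rfl⟩ _ hx) with h | h
      · left
        rw [← Subgroup.map_comap_eq_self_of_surjective (QuotientGroup.mk'_surjective _) W,
          Subgroup.map_eq_bot_iff, QuotientGroup.ker_mk']
        exact Subgroup.map_le_iff_le_comap.mp h.le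
      · right
        have : W.comap (QuotientGroup.mk' (M.subgroupOf U)) = ⊤ :=
          Subgroup.map_injective U.subtype_injective (h.trans (CL.Grp.top_map_subtype U).symm)
        rw [← Subgroup.map_comap_eq_self_of_surjective (QuotientGroup.mk'_surjective _) W, this,
          Subgroup.map_top_of_surjective _ (QuotientGroup.mk'_surjective _)])
  refine ⟨f.ker.map A.subtype, Subgroup.map_subtype_le _, ⟨a, a.2, ?_⟩, ?_,
    fun x hx => ⟨⟨x, hx.1⟩, hker _ hx.2, rfl⟩⟩
  · have h1 : f.ker ⊔ Subgroup.zpowers a = ⊤ := eq_top_iff.2 fun b _ => by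
      obtain ⟨y, hy, _, ⟨n, rfl⟩, h2⟩ := Subgroup.mem_sup_of_normal_left.1
        (ha ▸ Subgroup.mem_top (⟨f b, b, rfl⟩ : f.range))
      have h3 : y = 1 := Subtype.ext (MulEquiv.ext fun v => DFunLike.congr_fun hy v)
      rw [h3, one_mul] at h2
      refine Subgroup.mem_sup_of_normal_left.2 ⟨b * (a ^ n)⁻¹, ?_, a ^ n, ⟨n, rfl⟩, by group⟩
      rw [MonoidHom.mem_ker, map_mul, map_inv, mul_inv_eq_one, map_zpow]
      exact (congrArg Subtype.val h2).symm
    have := congrArg (Subgroup.map A.subtype) h1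
    rwa [Subgroup.map_sup, MonoidHom.map_zpowers, CL.Grp.top_map_subtype] at this
  · rw [Subgroup.commutator_le]
    rintro u hu _ ⟨b, hb, rfl⟩
    have h1 := DFunLike.congr_fun hb ((⟨u⁻¹, U.inv_mem hu⟩ : U) : U ⧸ M.subgroupOf U)
    have h2 := QuotientGroup.eq.mp h1.symm
    rw [Subgroup.mem_subgroupOf] at h2
    convert h2 using 1
    simp [commutatorElement_def, CL.Grp.conjAction_smul_coe, mul_assoc]

variable [Finite G] {p : ℕ}

theorem mck_disjoint (hp : p.Prime) {S K : Subgroup G} (hS : IsPGroup p S) (hK : ¬ p ∣ Nat.card K) :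
    (Nat.card S).Coprime (Nat.card K) := by
  have := Fact.mk hp
  obtain ⟨n, hn⟩ := hS.exists_card_eq
  exact hn ▸ ((Nat.Prime.coprime_iff_not_dvd hp).2 hK).pow_left n

theorem mck_inf_eq (hp : p.Prime) {S K H C : Subgroup G} (hS : IsPGroup p S) (hK : ¬ p ∣ Nat.card K)
    (hSK : S ≤ Subgroup.normalizer (K : Set G)) (hHS : H ≤ Subgroup.normalizer (S : Set G))
    (hC : C = K ⊓ Subgroup.centralizer (S : Set G)) (hCH : C ≤ H) : K ⊓ H = C :=
  le_antisymm (fun _ hx => hC ▸ ⟨hx.1, CL.Grp.mem_centralizer_of_mem_normalizer_of_disjoint hSK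
    (Subgroup.disjoint_of_coprime_natCard (mck_disjoint hp hS hK)) hx.1 (hHS hx.2)⟩)
    (le_inf (hC ▸ inf_le_left) hCH)

theorem mck_all_inv (hp : p.Prime) {S K D Y : Subgroup G} (hS : IsPGroup p S)
    (hY : ¬ p ∣ Nat.card Y) (hSY : S ≤ Subgroup.normalizer (Y : Set G))
    (hYK : Y ≤ Subgroup.normalizer (K : Set G)) (hDS : D ≤ Subgroup.centralizer (S : Set G))
    (hKD : K ⊔ D = Y) (hKY : K ≤ Y) (hab : ⁅Y, Y⁆ ≤ K) {θ : K → ℂ} (hθ : IsIrrCharacter K θ)
    (hθS : S ≤ istab K θ) (hθY : Y ≤ istab K θ) {φ : Y → ℂ} (hφ : IsIrrCharacter Y φ)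
    (h : Ovr (Subgroup.inclusion hKY) θ φ) : S ≤ istab Y φ := by
  have hSK := hθS.trans (istab_le _ _)
  have := Fintype.ofFinite (K.subgroupOf Y)
  have : (K.subgroupOf Y).Normal := (Subgroup.normal_subgroupOf_iff_le_normalizer hKY).2 hYK
  have h1 : commutator Y ≤ K.subgroupOf Y := by
    rw [Subgroup.subgroupOf, ← Subgroup.map_le_iff_le_comap, Subgroup.map_subtype_commutator]
    exact hab
  have h2 : ∀ a, ∀ n ∈ K.subgroupOf Y, mckConj hSY a n ∈ K.subgroupOf Y := fun a n hn =>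
    (mckConj hSK a ⟨n, hn⟩).2
  obtain ⟨χ, hχ, hχi, h3⟩ := gl_exists_inv_over_abelian (mckConj hSY) _ h1 h2 ⊥
    (fun b hb => ⟨1, one_mem _, fun g => by simp [Subgroup.mem_bot.1 hb]⟩)
    (by
      rw [Subgroup.index_bot]
      exact (mck_disjoint hp hS hY).coprime_dvd_right (Subgroup.index_dvd_card _))
    (hθ.comp_mulEquiv (Subgroup.subgroupOfEquivOfLe hKY))
    fun a n => (le_istab hSK).1 hθS a ⟨n, n.2⟩
  have h4 : Ovr (Subgroup.inclusion hKY) θ χ :=
    (ovr_congr (Subgroup.subgroupOfEquivOfLe hKY) (k' := (K.subgroupOf Y).subtype)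
      (fun _ => rfl) fun _ => rfl).1 (ovr_iff.2 h3)
  have h5 := nemb_inclusion hKY hYK
  have h6 := (le_istab_iff_cstab hYK).1 hθY
  obtain ⟨lam, rfl⟩ := gl_exists_linear_of_res _ h1 hχ hφ (by
    have h7 : ∀ {ζ : Y → ℂ}, IsIrrCharacter Y ζ → Ovr (Subgroup.inclusion hKY) θ ζ →
        (fun n : K.subgroupOf Y => ζ n) =
          (ζ 1 / θ 1) • fun n => θ (Subgroup.subgroupOfEquivOfLe hKY n) := fun hζ h7 =>
      funext fun n => h5.res_eq hζ hθ h6 h7 ⟨n, n.2⟩
    rw [h7 hφ h, h7 hχ h4, classInner_smul_left, classInner_smul_right,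
      (hθ.comp_mulEquiv _).classInner_self]
    simp [hφ.one_ne_zero, hχ.one_ne_zero, hθ.one_ne_zero])
  refine (le_istab hSY).2 fun s y => ?_
  rw [hχi]
  congr 3
  obtain ⟨k, hk, d, hd, h7⟩ := (CL.Grp.mem_sup_iff_of_le_normalizer
    ((le_sup_right.trans hKD.le).trans hYK)).1 (hKD.ge y.2)
  rw [QuotientGroup.eq_iff_div_mem, Subgroup.mem_subgroupOf]
  have h8 := K.mul_mem (mckConj hSK s ⟨k, hk⟩).2 (K.inv_mem hk)
  convert h8 using 1
  simp only [div_eq_mul_inv, Subgroup.coe_mul, coe_mckConj, h7, Subgroup.coe_inv]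
  calc _ = s * k * (d * (s : G)⁻¹) * d⁻¹ * k⁻¹ := by group
    _ = _ := by rw [← hDS hd _ (S.inv_mem s.2)]; group

theorem mck_range_sup {K H X : Subgroup G} (hKX : K ≤ X) (hHX : H ≤ X) (hX : K ⊔ H = X) :
    (Subgroup.inclusion hKX).range ⊔ (Subgroup.inclusion hHX).range = ⊤ := by
  rw [Subgroup.inclusion_range, Subgroup.inclusion_range, ← Subgroup.subgroupOf_sup hKX hHX, hX,
    Subgroup.subgroupOf_self]

theorem ow_step (hp : p.Prime) {S K H C D X : Subgroup G} (hS : IsPGroup p S)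
    (hXp : ¬ p ∣ Nat.card X) (hX : K ⊔ H = X) (hKX : K ≤ X)
    (hHS : H ≤ Subgroup.normalizer (S : Set G)) (hC : C = K ⊓ Subgroup.centralizer (S : Set G))
    (hCK : C ≤ K) (hCH : C ≤ H) (hab : ⁅X, X⁆ ≤ K) (hCD : C ≤ D) (hDH : D ≤ H)
    (hDS : D ≤ Subgroup.centralizer (S : Set G)) {a : G} (ha : a ∈ H)
    (hDa : D ⊔ Subgroup.zpowers a = H) {θ : K → ℂ} (hθ : IsIrrCharacter K θ) (hθS : S ≤ istab K θ)
    (hθH : H ≤ istab K θ) {η : C → ℂ} (hη : IsIrrCharacter C η)
    (r : GlRel p (Subgroup.inclusion hCK) θ η) :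
    mckCnt (fun _ => True) (Subgroup.inclusion hKX) θ =
      mckCnt (fun _ => True) (Subgroup.inclusion hCH) η := by
  have hHX : H ≤ X := le_sup_right.trans hX.le
  have hSK := hθS.trans (istab_le _ _)
  have hθX : X ≤ istab K θ := hX ▸ sup_le (le_istab_self hθ.isClassFunction) hθH
  have hXK := hθX.trans (istab_le _ _)
  have hKp : ¬ p ∣ Nat.card K := fun h => hXp (h.trans (Subgroup.card_dvd_of_le hKX))
  have hKH := mck_inf_eq hp hS hKp hSK hHS hC hCH
  have hYX : K ⊔ D ≤ X := sup_le hKX (hDH.trans hHX)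
  have hYp : ¬ p ∣ Nat.card (K ⊔ D : Subgroup G) := fun h =>
    hXp (h.trans (Subgroup.card_dvd_of_le hYX))
  have hSD : S ≤ Subgroup.normalizer (D : Set G) :=
    CL.Grp.le_normalizer_of_le_centralizer (Subgroup.le_centralizer_iff.1 hDS)
  have hSY := CL.Grp.le_normalizer_sup' hSK hSD
  have hHD : H ≤ Subgroup.normalizer (D : Set G) :=
    Subgroup.le_normalizer_iff_commutator_le_right.2 ((le_inf
      ((Subgroup.commutator_mono hHX (hDH.trans hHX)).trans hab)
      ((Subgroup.commutator_mono le_rfl hDH).trans (Subgroup.commutator_le_self _))).trans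
        (hKH.le.trans hCD))
  have hXY : X ≤ Subgroup.normalizer ((K ⊔ D : Subgroup G) : Set G) := hX ▸
    sup_le (le_sup_left.trans Subgroup.le_normalizer)
      (CL.Grp.le_normalizer_sup' (hHX.trans hXK) hHD)
  have hDK := hDH.trans (hHX.trans hXK)
  have hD : D = (K ⊔ D) ⊓ Subgroup.centralizer (S : Set G) := by
    rw [sup_comm, CL.Grp.dedekind_left hDK hDS, ← hC, sup_eq_left.2 hCD]
  have hYH : (K ⊔ D) ⊓ H = D := by
    rw [sup_comm, CL.Grp.dedekind_left hDK hDH, hKH, sup_eq_left.2 hCD]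
  have hHC : H ≤ Subgroup.normalizer (C : Set G) := hC ▸
    CL.Grp.le_normalizer_inf' (hHX.trans hXK) (CL.Grp.le_normalizer_centralizer' hHS)
  have GY := mck_glCorr hp hS hYp hSY hD le_sup_right
  have hall : ∀ φ, IsIrrCharacter (K ⊔ D : Subgroup G) φ →
      Ovr (Subgroup.inclusion le_sup_left) θ φ → S ≤ istab _ φ := fun φ hφ h =>
    mck_all_inv hp hS hYp hSY (hYX.trans hXK) hDS rfl le_sup_left
      ((Subgroup.commutator_mono hYX hYX).trans hab) hθ hθS (hYX.trans hθX) hφ h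
  have := Fintype.ofFinite K
  have := Fintype.ofFinite C
  have := Fintype.ofFinite D
  have hover : ∀ φ φ', IsIrrCharacter (K ⊔ D : Subgroup G) φ → S ≤ istab _ φ →
      IsIrrCharacter D φ' → GlRel p (Subgroup.inclusion le_sup_right) φ φ' →
      (Ovr (Subgroup.inclusion le_sup_left) θ φ ↔ Ovr (Subgroup.inclusion hCD) η φ') :=
    fun φ φ' hφ hφS hφ' r' => by
      rw [ovr_iff, ovr_iff]
      exact gl_over_iff hp hS hYp (mckConj hSY) (mckConj hSK) (Subgroup.inclusion le_sup_left)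
        (Subgroup.inclusion_injective _) (nemb_inclusion _ (hYX.trans hXK)).normal (fun _ _ => rfl)
        (Subgroup.inclusion le_sup_right) (Subgroup.inclusion_injective _) (Subgroup.inclusion hCK)
        (Subgroup.inclusion_injective hCK) (fun g => by
          subst hC
          rw [Subgroup.inclusion_range, Subgroup.mem_subgroupOf, Subgroup.mem_inf,
            and_iff_right g.2, Subgroup.mem_centralizer_iff]
          exact ⟨fun h a => Subtype.ext (by rw [coe_mckConj, h a a.2, mul_inv_cancel_right]),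
            fun h a ha => mul_inv_eq_iff_eq_mul.1 (congrArg Subtype.val (h ⟨a, ha⟩))⟩)
        (Subgroup.inclusion hCD) (fun _ => rfl) (nemb_inclusion hCD (hDH.trans hHC)).normal hφ
        ((le_istab hSY).1 hφS) hθ ((le_istab hSK).1 hθS) hφ' hη r' r
  have hY := nemb_inclusion hYX hXY
  have hsup : (Subgroup.inclusion hYX).range ⊔ (Subgroup.inclusion hHX).range = ⊤ :=
    mck_range_sup _ _ (by rw [sup_assoc, sup_eq_right.2 hDH, hX])
  refine mck_fib _ hY (nemb_inclusion hDH hHD) (Subgroup.inclusion hHX)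
    (Subgroup.inclusion le_sup_left) (Subgroup.inclusion hCD) rfl rfl hθ.isCharacter hη.isCharacter
    (fun φ φ' => IsIrrCharacter _ φ ∧ IsIrrCharacter _ φ' ∧
      GlRel p (Subgroup.inclusion le_sup_right) φ φ' ∧ Ovr (Subgroup.inclusion le_sup_left) θ φ)
    (fun φ φ' ⟨h1, h2, h3, h4⟩ => ⟨h1, h2, h4, (hover _ _ h1 (hall _ h1 h4) h2 h3).1 h4⟩)
    (fun χ hχ _ h => ?_) (fun χ hχ _ h => ?_) (fun φ φ' x ⟨h1, h2, h3, h4⟩ => ?_)
    (fun φ φ' ψ' h1 h2 => h1.2.2.1.unique hp h2.2.2.1 h1.2.1 h2.2.1)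
    (fun φ ψ φ' h1 h2 => GY.inj _ _ _ h1.1 (hall _ h1.1 h1.2.2.2) h2.1 (hall _ h2.1 h2.2.2.2)
      h1.2.1 h1.2.2.1 h2.2.2.1)
    (fun φ φ' ψ' g h1 _ => hY.exists_conj_of_sup _ hsup h1.1.isClassFunction g)
    fun φ φ' ⟨h1, h2, _, _⟩ hst => ?_
  · obtain ⟨φ, hφ, h1, h2⟩ := Ovr.exists_between (k := Subgroup.inclusion hYX)
      (i := Subgroup.inclusion le_sup_left) h hχ.isClassFunction
    obtain ⟨φ', hφ', -, h3⟩ := GY.ex φ hφ (hall φ hφ h2)
    exact ⟨φ, φ', ⟨hφ, hφ', h3, h2⟩, h1⟩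
  · obtain ⟨φ', hφ', h1, h2⟩ := Ovr.exists_between (k := Subgroup.inclusion hDH)
      (i := Subgroup.inclusion hCD) h hχ.isClassFunction
    obtain ⟨φ, hφ, h3, h4⟩ := GY.surj φ' hφ' trivial
    exact ⟨φ, φ', ⟨hφ, hφ', h4, (hover _ _ hφ h3 hφ' h4).2 h2⟩, h1⟩
  · exact ⟨h1.comp_mulEquiv _, h2.comp_mulEquiv _, h3.mckConj (hHX.trans hXY) hHD x,
      (ovr_congr (mckConj (hHX.trans hXK) x) (fun _ => rfl)
        fun b => ((le_istab _).1 hθH x b).symm).2 h4⟩
  · have := hY.normal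
    have hs : Function.Surjective ((QuotientGroup.mk' (Subgroup.inclusion hYX).range).comp
        (Subgroup.inclusion hHX)) := fun q => by
      obtain ⟨x, rfl⟩ := QuotientGroup.mk_surjective q
      obtain ⟨y, hy, _, ⟨b, rfl⟩, rfl⟩ := Subgroup.mem_sup_of_normal_left.1
        (hsup ▸ Subgroup.mem_top x)
      exact ⟨b, by simp [(QuotientGroup.eq_one_iff y).2 hy]⟩
    have hk : ((QuotientGroup.mk' (Subgroup.inclusion hYX).range).comp
        (Subgroup.inclusion hHX)).ker = (Subgroup.inclusion hDH).range := by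
      ext x
      simp only [MonoidHom.mem_ker, MonoidHom.comp_apply, QuotientGroup.mk'_apply,
        QuotientGroup.eq_one_iff, Subgroup.inclusion_range, Subgroup.mem_subgroupOf,
        Subgroup.coe_inclusion]
      exact ⟨fun h => hYH.le ⟨h, x.2⟩, fun h => Subgroup.mem_sup_right h⟩
    have : IsCyclic (X ⧸ (Subgroup.inclusion hYX).range) := by
      refine isCyclic_iff_exists_zpowers_eq_top.2 ⟨(⟨a, hHX ha⟩ : X), eq_top_iff.2 fun q _ => ?_⟩
      obtain ⟨x, rfl⟩ := hs q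
      obtain ⟨d, hd, _, ⟨n, rfl⟩, h3⟩ := (CL.Grp.mem_sup_iff_of_le_normalizer
        (((Subgroup.zpowers_le).2 ha).trans hHD)).1 (hDa.ge x.2)
      refine ⟨n, ?_⟩
      have h4 : x = ⟨d, hDH hd⟩ * ⟨a, ha⟩ ^ n := Subtype.ext h3
      rw [h4, map_mul, MonoidHom.mem_ker.1 (hk.ge (x := ⟨d, hDH hd⟩) ⟨⟨d, hd⟩, rfl⟩), one_mul, map_zpow]
      rfl
    exact mck_pair_cyclic hY (nemb_inclusion hDH hHD) h1 h2 (QuotientGroup.ker_mk' _) hk
      (Subgroup.inclusion hHX) (fun _ => rfl) hs hst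

theorem ow_abelian (hp : p.Prime) (S : Subgroup G) : ∀ {K H C X : Subgroup G} (_ : IsPGroup p S)
    (_ : ¬ p ∣ Nat.card X) (_ : K ⊔ H = X) (hKX : K ≤ X)
    (_ : H ≤ Subgroup.normalizer (S : Set G)) (_ : C = K ⊓ Subgroup.centralizer (S : Set G))
    (hCK : C ≤ K) (hCH : C ≤ H) (_ : ⁅X, X⁆ ≤ K) {θ : K → ℂ} (_ : IsIrrCharacter K θ)
    (_ : S ≤ istab K θ) (_ : H ≤ istab K θ) {η : C → ℂ} (_ : IsIrrCharacter C η)
    (_ : GlRel p (Subgroup.inclusion hCK) θ η),
    mckCnt (fun _ => True) (Subgroup.inclusion hKX) θ =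
      mckCnt (fun _ => True) (Subgroup.inclusion hCH) η := by
  induction S using WellFoundedLT.induction with | _ S ih => ?_
  intro K H C X hS hXp hX hKX hHS hC hCK hCH hab θ hθ hθS hθH η hη r
  have := Fact.mk hp
  have hHX : H ≤ X := le_sup_right.trans hX.le
  have hSK := hθS.trans (istab_le _ _)
  have hHK := hθH.trans (istab_le _ _)
  have hKp : ¬ p ∣ Nat.card K := fun h => hXp (h.trans (Subgroup.card_dvd_of_le hKX))
  have hKH := mck_inf_eq hp hS hKp hSK hHS hC hCH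
  have := Fintype.ofFinite C
  by_cases hS1 : S = ⊥
  · subst hS1
    obtain rfl : C = K := hC.trans (inf_eq_left.2 (Subgroup.le_centralizer_iff.1 bot_le))
    obtain rfl : H = X := (sup_eq_right.2 hCH).symm.trans hX
    rw [(GlRel.of_eq (p := p) (j := Subgroup.inclusion hCK) (β := θ) fun _ => rfl).unique hp r hθ hη]
  have := hS.isNilpotent
  obtain ⟨M, ⟨hM1, hM2, hM3⟩, hmax⟩ := (wellFounded_gt (α := Subgroup G)).has_min
    {M | ⁅S, S⁆ ≤ M ∧ M < S ∧ H ≤ Subgroup.normalizer (M : Set G)}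
    ⟨⁅S, S⁆, le_rfl, by simpa using CL.Grp.commutator_sup_lt_of_isNilpotent (bot_lt_iff_ne_bot.2 hS1),
      CL.Grp.le_normalizer_commutator' hHS hHS⟩
  obtain ⟨D, hDH, ⟨a, ha, hDa⟩, hSD, hCD⟩ := mck_cocyclic hM2 hM1 hHS hM3
    ((le_inf ((Subgroup.commutator_mono hHX hHX).trans hab) (Subgroup.commutator_le_self _)).trans
      (hKH.le.trans (hC.le.trans inf_le_right))) fun W h1 h2 h3 => by
        by_contra h4
        push Not at h4
        exact hmax W ⟨hM1.trans h1, lt_of_le_of_ne h2 h4.2, h3⟩ (lt_of_le_of_ne h1 h4.1.symm)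
  have hCD' : C ≤ D := (le_inf hCH (hC.le.trans inf_le_right)).trans hCD
  have hHD : H ≤ Subgroup.normalizer (D : Set G) :=
    Subgroup.le_normalizer_iff_commutator_le_right.2 ((le_inf
      ((Subgroup.commutator_mono hHX (hDH.trans hHX)).trans hab)
      ((Subgroup.commutator_mono le_rfl hDH).trans (Subgroup.commutator_le_self _))).trans
        (hKH.le.trans hCD'))
  have hgen : M ⊔ (S ⊓ Subgroup.centralizer (D : Set G)) = S :=
    le_antisymm (sup_le hM2.le inf_le_left) ((CL.Grp.commutator_sup_centralizer_eq (hDH.trans hHS)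
      (mck_disjoint hp hS fun h => hXp (h.trans (Subgroup.card_dvd_of_le (hDH.trans hHX)))).symm
      (Or.inr inferInstance)).ge.trans (sup_le_sup_right hSD _))
  have hSM : S ≤ Subgroup.normalizer (M : Set G) :=
    Subgroup.le_normalizer_iff_commutator_le_right.2
      ((Subgroup.commutator_mono le_rfl hM2.le).trans hM1)
  set K₁ := K ⊓ Subgroup.centralizer (M : Set G) with hK₁
  have hCK₁ : C ≤ K₁ := hC ▸ inf_le_inf_left _ (Subgroup.centralizer_le hM2.le)
  obtain ⟨θ₁, hθ₁, -, r₁⟩ := (mck_glCorr hp (hS.to_le hM2.le) hKp (hM2.le.trans hSK) hK₁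
    inf_le_left).ex θ hθ (hM2.le.trans hθS)
  have hSK₁ : S ≤ Subgroup.normalizer (K₁ : Set G) :=
    CL.Grp.le_normalizer_inf' hSK (CL.Grp.le_normalizer_centralizer' hSM)
  have hθ₁S := r₁.le_istab hp hθ₁ hθS hSK₁
  have hθ₁H := r₁.le_istab hp hθ₁ hθH
    (CL.Grp.le_normalizer_inf' hHK (CL.Grp.le_normalizer_centralizer' hM3))
  have hC₂ : C = K₁ ⊓ Subgroup.centralizer ((S ⊓ Subgroup.centralizer (D : Set G) : Subgroup G) :
      Set G) := by
    refine le_antisymm (le_inf hCK₁ (hC.le.trans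
      (inf_le_right.trans (Subgroup.centralizer_le inf_le_left)))) (le_trans ?_ hC.ge)
    refine le_inf (inf_le_left.trans inf_le_left) (Subgroup.le_centralizer_iff.1 (hgen.ge.trans ?_))
    exact sup_le (Subgroup.le_centralizer_iff.1 (inf_le_left.trans inf_le_right))
      (Subgroup.le_centralizer_iff.1 inf_le_right)
  have hK₁p : ¬ p ∣ Nat.card K₁ := fun h => hKp (h.trans (Subgroup.card_dvd_of_le inf_le_left))
  obtain ⟨η₁, hη₁, -, r₂⟩ := (mck_glCorr hp (hS.to_le inf_le_left) hK₁p (inf_le_left.trans hSK₁) hC₂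
    hCK₁).ex θ₁ hθ₁ (inf_le_left.trans hθ₁S)
  obtain rfl : η₁ = η := (r₁.trans r₂).unique hp r hη₁ hη
  have hH₁X : K₁ ⊔ H ≤ X := sup_le (inf_le_left.trans hKX) hHX
  have hH₁M : K₁ ⊔ H ≤ Subgroup.normalizer (M : Set G) :=
    sup_le (inf_le_right.trans (Subgroup.centralizer_le_normalizer _)) hM3
  refine (ih M hM2 (hS.to_le hM2.le) hXp (by rw [← sup_assoc, hK₁, sup_inf_self, hX]) hKX
    hH₁M hK₁ inf_le_left le_sup_left hab hθ (hM2.le.trans hθS)
    (sup_le (inf_le_left.trans (le_istab_self hθ.isClassFunction)) hθH) hθ₁ r₁).trans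
    (ow_step hp (hS.to_le inf_le_left) (fun h => hXp (h.trans (Subgroup.card_dvd_of_le hH₁X))) rfl
      le_sup_left (CL.Grp.le_normalizer_inf' hHS (CL.Grp.le_normalizer_centralizer' hHD)) hC₂ hCK₁
      hCH ?_ hCD' hDH (Subgroup.le_centralizer_iff.1 inf_le_right) ha hDa hθ₁
      (inf_le_left.trans hθ₁S) hθ₁H hη r₂)
  exact (le_inf ((Subgroup.commutator_mono hH₁X hH₁X).trans hab)
    (Subgroup.commutator_le_self _)).trans
      (mck_inf_eq hp (hS.to_le hM2.le) hKp (hM2.le.trans hSK) hH₁M hK₁ le_sup_left).le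

/-- The Okuyama--Wajima theorem, counting form. -/
theorem ow_count (hp : p.Prime) {S K H C X : Subgroup G} (hS : IsPGroup p S)
    (hXp : ¬ p ∣ Nat.card X) (hX : K ⊔ H = X) (hKX : K ≤ X)
    (hHS : H ≤ Subgroup.normalizer (S : Set G)) (hC : C = K ⊓ Subgroup.centralizer (S : Set G))
    (hCK : C ≤ K) (hCH : C ≤ H) {θ : K → ℂ} (hθ : IsIrrCharacter K θ) (hθS : S ≤ istab K θ)
    (hθH : H ≤ istab K θ) {η : C → ℂ} (hη : IsIrrCharacter C η)
    (r : GlRel p (Subgroup.inclusion hCK) θ η) :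
    mckCnt (fun _ => True) (Subgroup.inclusion hKX) θ =
      mckCnt (fun _ => True) (Subgroup.inclusion hCH) η := by
  have hHX : H ≤ X := le_sup_right.trans hX.le
  have hSK := hθS.trans (istab_le _ _)
  have hθX : X ≤ istab K θ := hX ▸ sup_le (le_istab_self hθ.isClassFunction) hθH
  have hXK := hθX.trans (istab_le _ _)
  have hKp : ¬ p ∣ Nat.card K := fun h => hXp (h.trans (Subgroup.card_dvd_of_le hKX))
  have hKH := mck_inf_eq hp hS hKp hSK hHS hC hCH
  have hHC : H ≤ Subgroup.normalizer (C : Set G) := hC ▸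
    CL.Grp.le_normalizer_inf' (hHX.trans hXK) (CL.Grp.le_normalizer_centralizer' hHS)
  have h1 := nemb_inclusion hKX hXK
  have := h1.normal
  have hs : Function.Surjective ((QuotientGroup.mk' (Subgroup.inclusion hKX).range).comp
      (Subgroup.inclusion hHX)) := fun q => by
    obtain ⟨x, rfl⟩ := QuotientGroup.mk_surjective q
    obtain ⟨y, hy, _, ⟨b, rfl⟩, rfl⟩ := Subgroup.mem_sup_of_normal_left.1
      (mck_range_sup hKX hHX hX ▸ Subgroup.mem_top x)
    exact ⟨b, by simp [(QuotientGroup.eq_one_iff y).2 hy]⟩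
  have hk : ((QuotientGroup.mk' (Subgroup.inclusion hKX).range).comp
      (Subgroup.inclusion hHX)).ker = (Subgroup.inclusion hCH).range := by
    ext x
    simp only [MonoidHom.mem_ker, MonoidHom.comp_apply, QuotientGroup.mk'_apply,
      QuotientGroup.eq_one_iff, Subgroup.inclusion_range, Subgroup.mem_subgroupOf,
      Subgroup.coe_inclusion]
    exact ⟨fun h => hKH.le ⟨h, x.2⟩, fun h => hCK h⟩
  refine mck_mobius h1 (nemb_inclusion hCH hHC) hθ hη ((le_istab_iff_cstab _).1 hθX)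
    ((le_istab_iff_cstab _).1 (r.le_istab hp hη hθH hHC)) (QuotientGroup.mk'_surjective _) hs
    (QuotientGroup.ker_mk' _) hk fun A hA => ?_
  set X' := (A.comap (QuotientGroup.mk' (Subgroup.inclusion hKX).range)).map X.subtype with hX'
  set H' := (A.comap ((QuotientGroup.mk' (Subgroup.inclusion hKX).range).comp
    (Subgroup.inclusion hHX))).map H.subtype with hH'
  have hKX' : K ≤ X' := fun x hx => ⟨_, (mckK (QuotientGroup.ker_mk' _) A ⟨x, hx⟩).2, rfl⟩
  have hCH' : C ≤ H' := fun x hx => ⟨_, (mckK hk A ⟨x, hx⟩).2, rfl⟩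
  have hH'H : H' ≤ H := Subgroup.map_subtype_le _
  have hX'X : X' ≤ X := Subgroup.map_subtype_le _
  rw [mckCnt_congr_range _ (X.subtype.comp (Subgroup.subtype _)) X'.subtype
      (X.subtype_injective.comp (Subgroup.subtype_injective _)) X'.subtype_injective
      (by rw [MonoidHom.range_comp, Subgroup.range_subtype, Subgroup.range_subtype])
      (k' := Subgroup.inclusion hKX') fun _ => rfl,
    mckCnt_congr_range _ (H.subtype.comp (Subgroup.subtype _)) H'.subtype
      (H.subtype_injective.comp (Subgroup.subtype_injective _)) H'.subtype_injective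
      (by rw [MonoidHom.range_comp, Subgroup.range_subtype, Subgroup.range_subtype])
      (k' := Subgroup.inclusion hCH') fun _ => rfl]
  refine ow_abelian hp S hS (fun h => hXp (h.trans (Subgroup.card_dvd_of_le hX'X))) ?_ hKX'
    (hH'H.trans hHS) hC hCK hCH' ?_ hθ hθS (hH'H.trans hθH) hη r
  · refine le_antisymm (sup_le hKX' ?_) ?_
    · rintro _ ⟨x, hx, rfl⟩
      exact ⟨_, hx, rfl⟩
    · rintro _ ⟨x, hx, rfl⟩
      obtain ⟨b, hb⟩ := hs (x : X ⧸ (Subgroup.inclusion hKX).range)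
      obtain ⟨y, hy⟩ := QuotientGroup.eq_iff_div_mem.1 hb.symm
      have h2 : (x : G) = y * b := by
        rw [show (y : G) = x / b from congrArg Subtype.val hy, div_mul_cancel]
      rw [Subgroup.coe_subtype, h2]
      exact Subgroup.mul_mem_sup y.2 ⟨b, (hb ▸ hx : _ ∈ A), rfl⟩
  · rw [Subgroup.commutator_le]
    rintro _ ⟨x, hx, rfl⟩ _ ⟨y, hy, rfl⟩
    have h2 : ⁅x, y⁆ ∈ (Subgroup.inclusion hKX).range := by
      rw [← QuotientGroup.eq_one_iff, ← QuotientGroup.mk'_apply, map_commutatorElement,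
        commutatorElement_eq_one_iff_mul_comm]
      exact congrArg Subtype.val (mul_comm' (⟨_, hx⟩ : A) ⟨_, hy⟩)
    obtain ⟨z, hz⟩ := h2
    rw [← map_commutatorElement, ← hz]
    exact z.2

end CL.Char
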