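import Cfsg.Agent.Char.GlaubInv
import Cfsg.Agent.Char.GlaubSolv

/-! The relative Glauberman correspondence: a `p`-group acting on a group `K` with a normal
`p`-subgroup `Q` of index prime to `p`. -/

set_option autoImplicit false
open Cfsg
open scoped ComplexConjugate

namespace CL.Char

variable {A K : Type*} [Group A] [Group K]

theorem glq_exists_ext [Finite K] {Q : Type*} [Group Q] (ι : Q →* K) (hι : Function.Injective ι)
    (hn : ι.range.Normal) (hcop : ι.range.index.Coprime (Nat.card Q)) {θ : Q → ℂ}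
    (hθ : IsIrrCharacter Q θ) (hinv : ∀ (x : K) (g g' : Q), ι g' = x * ι g * x⁻¹ → θ g' = θ g) :
    ∃ ψ, IsIrrCharacter K ψ ∧ (∀ g, ψ (ι g) = θ g) ∧
      ∀ α : K ≃* K, (∀ g, ψ (α (ι g)) = θ g) → ∀ x, ψ (α x) = ψ x := by
  have : Finite Q := Finite.of_injective ι hι
  set e := MonoidHom.ofInjective hι with he
  have hirr : IsIrrCharacter ι.range (fun n => θ (e.symm n)) := hθ.comp_mulEquiv e.symm
  have hcoe : ∀ n : ι.range, ι (e.symm n) = n := fun n => MonoidHom.apply_ofInjective_symm hι n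
  obtain ⟨d, -, hd⟩ := hirr.exists_nat_one
  have hcard : Nat.card ι.range = Nat.card Q := Nat.card_congr e.symm.toEquiv
  have h1 := detOrder_dvd_card (fun n : ι.range => θ (e.symm n))
  have h2 := isIrr_degree_dvd_card hirr hd
  rw [hcard] at h1 h2
  obtain ⟨ψ, ⟨h3, h4, h5⟩, h6⟩ := exists_canonical_extension hirr
    (fun x n => hinv x _ _ (by rw [hcoe, hcoe])) hd
    (Nat.Coprime.mul_right (hcop.coprime_dvd_right h1) (hcop.coprime_dvd_right h2))
  refine ⟨ψ, h3, fun g => ?_, fun α hα => congrFun (h6 _ (h3.comp_mulEquiv α)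
    (fun n => by rw [← hα, hcoe]) (hcop.coprime_dvd_right (Dvd.dvd.trans ?_ (h5 ▸ h1))))⟩
  · have := h4 (e g)
    rw [MulEquiv.symm_apply_apply] at this
    exact this
  · refine orderOf_dvd_of_pow_eq_one (funext fun g => ?_)
    exact (congrArg (· ^ detOrder ψ) (congrFun (detChar_comp_of_irr h3.isCharacter α.toMonoidHom
      (h3.comp_mulEquiv α)) g)).trans (detChar_pow_detOrder ψ _)

/-- The relative Glauberman correspondence over an invariant character of `Q`. -/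
theorem glq_invariant [Finite A] [Finite K] {p : ℕ} (hp : p.Prime) (hA : IsPGroup p A)
    (φ : A →* MulAut K) {Q C : Type*} [Group Q] [Fintype Q] [Group C] (hQ : IsPGroup p Q)
    (ι : Q →* K) (hι : Function.Injective ι) [hn : ι.range.Normal] (hi : ¬ p ∣ ι.range.index)
    (hN : ∀ a, ∀ n ∈ ι.range, φ a n ∈ ι.range) (j : C →* K) (hj : Function.Injective j)
    (hC : ∀ k, k ∈ j.range ↔ ∀ a, k⁻¹ * φ a k ∈ ι.range) (i : Q →* C) (hij : ∀ q, j (i q) = ι q)
    {θ : Q → ℂ} (hθ : IsIrrCharacter Q θ)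
    (hinv : ∀ (x : K) (g g' : Q), ι g' = x * ι g * x⁻¹ → θ g' = θ g)
    (hinv' : ∀ (a : A) (g g' : Q), ι g' = φ a (ι g) → θ g' = θ g) :
    IsGlCorr p j (fun χ => (∀ a g, χ (φ a g) = χ g) ∧ classInner (fun q => χ (ι q)) θ ≠ 0)
      (fun ξ => classInner (fun q => ξ (i q)) θ ≠ 0) := by
  have := Fact.mk hp
  have : Finite C := Finite.of_injective j hj
  have := Fintype.ofFinite K
  have := Fintype.ofFinite C
  obtain ⟨k, hk⟩ := IsPGroup.iff_card.1 hQ
  obtain ⟨η, hη, he, hηi⟩ := glq_exists_ext ι hι hn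
    (hk ▸ (Nat.Coprime.pow_left k (hp.coprime_iff_not_dvd.2 hi)).symm) hθ hinv
  replace hηi : ∀ a g, η (φ a g) = η g := fun a => hηi (φ a) fun g => by
    obtain ⟨g', hg'⟩ := hN a _ ⟨g, rfl⟩
    rw [← hg', he, hinv' a g g' hg']
  have hii : Function.Injective i := fun a b h => hι (by rw [← hij, ← hij, h])
  have hr : i.range = ι.range.comap j := by
    ext c
    exact ⟨fun ⟨q, hq⟩ => ⟨q, by rw [← hij, hq]⟩, fun ⟨q, hq⟩ => ⟨q, hj (by rw [hij, hq])⟩⟩
  have hin : i.range.Normal := hr ▸ inferInstance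
  let jb : C ⧸ i.range →* K ⧸ ι.range := QuotientGroup.map _ _ j hr.le
  have hjb : ∀ c : C, jb c = j c := fun c => rfl
  have hG := isGlCorr_pgroup hp hA hi (glQuotHom φ ι.range hN) jb
    ((QuotientGroup.injective_lift_iff _ _ _).2 (by
      rw [hr, ← MonoidHom.comap_ker, QuotientGroup.ker_mk'])) fun g => by
      obtain ⟨g, rfl⟩ := QuotientGroup.mk_surjective g
      simp only [glQuotHom_mk, eq_comm (b := (g : K ⧸ ι.range)), QuotientGroup.eq, ← hC]
      refine ⟨fun ⟨c, hc⟩ => ?_, fun ⟨c, hc⟩ => ⟨c, by rw [hjb, hc]⟩⟩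
      obtain ⟨c, rfl⟩ := QuotientGroup.mk_surjective c
      obtain ⟨q, hq⟩ := QuotientGroup.eq.1 hc
      exact ⟨c * i q, by rw [map_mul, hij, hq, mul_inv_cancel_left]⟩
  have h1 : IsIrrCharacter Q fun q => η (ι q) := by simpa only [he] using hθ
  have h2 : IsIrrCharacter Q fun q => η (j (i q)) := by simpa only [hij] using h1
  have h1' := isIrrCharacter_range_of_comp ι hι h1
  have h2' := isIrrCharacter_range_of_comp i hii (χ := fun c => η (j c)) h2
  have hηC := hη.isCharacter.comp j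
  have hrel : ∀ β γ, GlRel p jb β γ → GlRel p j ((fun g : K => β g) * η)
      ((fun c : C => γ c) * fun c => η (j c)) := fun β γ r =>
    (r.comp (QuotientGroup.mk' _) (QuotientGroup.mk' _) fun _ => rfl).mul
      hηC.isGeneralizedCharacter
  have hfac : ∀ χ, IsIrrCharacter K χ → (∀ a g, χ (φ a g) = χ g) →
      classInner (fun q => χ (ι q)) θ ≠ 0 → ∃ β, IsIrrCharacter (K ⧸ ι.range) β ∧
        (∀ a g, β (glQuotHom φ ι.range hN a g) = β g) ∧ χ = (fun g : K => β g) * η := by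
    intro χ hχ hχi h
    obtain ⟨β, hβ, h3, rfl⟩ := gallagher_surj_hom ι hι hn hη.isCharacter h1 hχ (by
      simpa only [he] using h)
    obtain ⟨β, hβ', rfl⟩ := hβ.exists_quotient _ h3
    refine ⟨β, hβ', fun a g => ?_, rfl⟩
    obtain ⟨g, rfl⟩ := QuotientGroup.mk_surjective g
    exact congrFun (gallagher_inj hη.isCharacter h1'
      (le_charKer_inflate fun x => β (glQuotHom φ ι.range hN a x)) h3 (funext fun x => by
        simpa only [Pi.mul_apply, hηi, glQuotHom_mk] using hχi a x)) g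
  have hover : ∀ γ : C ⧸ i.range → ℂ, IsIrrCharacter _ γ →
      IsIrrCharacter C ((fun c : C => γ c) * fun c => η (j c)) ∧
      classInner (fun q => ((fun c : C => γ c) * fun c => η (j c)) (i q)) θ ≠ 0 := fun γ hγ => by
    refine ⟨gallagher_irr hηC h2' hγ.inflate (le_charKer_inflate γ), ?_⟩
    have h3 : (fun q => ((fun c : C => γ c) * fun c => η (j c)) (i q)) = γ 1 • θ := funext fun q => by
      rw [Pi.mul_apply, hij, he, (QuotientGroup.eq_one_iff (N := i.range) _).2 ⟨q, rfl⟩]; rfl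
    rw [h3, classInner_smul_left, hθ.classInner_self, mul_one]
    exact hγ.one_ne_zero
  refine ⟨fun χ hχ ⟨hχi, h⟩ => ?_, fun χ χ' ξ hχ ⟨hχi, h⟩ hχ' ⟨hχi', h'⟩ hξ r r' => ?_,
    fun ξ hξ h => ?_⟩
  · obtain ⟨β, hβ, hβi, rfl⟩ := hfac χ hχ hχi h
    obtain ⟨γ, hγ, -, r⟩ := hG.ex β hβ hβi
    exact ⟨_, (hover γ hγ).1, (hover γ hγ).2, hrel β γ r⟩
  · obtain ⟨β, hβ, hβi, rfl⟩ := hfac χ hχ hχi h
    obtain ⟨β', hβ', hβi', rfl⟩ := hfac χ' hχ' hχi' h'
    obtain ⟨γ, hγ, -, s⟩ := hG.ex β hβ hβi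
    obtain ⟨γ', hγ', -, s'⟩ := hG.ex β' hβ' hβi'
    have h3 := gallagher_inj hηC h2' (le_charKer_inflate γ) (le_charKer_inflate γ')
      (((hrel β γ s).unique hp r (hover γ hγ).1 hξ).trans
        ((hrel β' γ' s').unique hp r' (hover γ' hγ').1 hξ).symm)
    obtain rfl : γ = γ' := funext fun x => by
      obtain ⟨x, rfl⟩ := QuotientGroup.mk_surjective x
      exact congrFun h3 x
    rw [hG.inj β β' γ hβ hβi hβ' hβi' hγ s s']
  · obtain ⟨γ, hγ, h3, rfl⟩ := gallagher_surj_hom i hii hin hηC h2 hξ (by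
      simpa only [hij, he] using h)
    obtain ⟨γ, hγ', rfl⟩ := hγ.exists_quotient _ h3
    obtain ⟨β, hβ, hβi, r⟩ := hG.surj γ hγ' trivial
    refine ⟨_, gallagher_irr hη.isCharacter h1' hβ.inflate (le_charKer_inflate β),
      ⟨fun a g => ?_, ?_⟩, hrel β γ r⟩
    · rw [Pi.mul_apply, Pi.mul_apply, hηi, ← hβi a g]; rfl
    · have h3 : (fun q => ((fun c : K => β c) * η) (ι q)) = β 1 • θ := funext fun q => by
        rw [Pi.mul_apply, he, (QuotientGroup.eq_one_iff (N := ι.range) _).2 ⟨q, rfl⟩]; rfl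
      rw [h3, classInner_smul_left, hθ.classInner_self, mul_one]
      exact hβ.one_ne_zero

variable {C : Type*} [Group C]

/-- `ξ` is the only invariant constituent of `χ ∘ j` with multiplicity prime to `p`, and this
multiplicity is `±1` modulo `p`. -/
def GlqRel [Fintype C] (p : ℕ) (ψ : A →* MulAut C) (j : C →* K) (χ : K → ℂ) (ξ : C → ℂ) : Prop :=
  ∃ ε : ℤ, (ε = 1 ∨ ε = -1) ∧ ∀ η, IsIrrCharacter C η → (∀ a c, η (ψ a c) = η c) →
    ∃ n : ℤ, classInner (fun c => χ (j c)) η = ε * classInner ξ η + p * n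

section Rel

variable [Fintype C] {p : ℕ} {ψ : A →* MulAut C} {j : C →* K} {χ : K → ℂ} {ξ : C → ℂ}

theorem GlqRel.mult_self (h : GlqRel p ψ j χ ξ) (hξ : IsIrrCharacter C ξ)
    (hi : ∀ a c, ξ (ψ a c) = ξ c) {m : ℕ} (hm : classInner (fun c => χ (j c)) ξ = m) :
    (m : ZMod p) = 1 ∨ (m : ZMod p) = -1 := by
  obtain ⟨ε, hε, h⟩ := h
  obtain ⟨n, hn⟩ := h ξ hξ hi
  rw [hm, hξ.classInner_self, mul_one] at hn
  have h1 : (m : ℤ) = ε + p * n := by exact_mod_cast hn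
  have h2 := congrArg (Int.cast : ℤ → ZMod p) h1
  rw [Int.cast_natCast, Int.cast_add, Int.cast_mul, Int.cast_natCast, ZMod.natCast_self, zero_mul,
    add_zero] at h2
  rcases hε with rfl | rfl <;> simp [h2]

theorem GlqRel.dvd_mult (h : GlqRel p ψ j χ ξ) (hξ : IsIrrCharacter C ξ) {η : C → ℂ}
    (hη : IsIrrCharacter C η) (hi : ∀ a c, η (ψ a c) = η c) (hne : ξ ≠ η) {m : ℕ}
    (hm : classInner (fun c => χ (j c)) η = m) : p ∣ m := by
  obtain ⟨ε, -, h⟩ := h
  obtain ⟨n, hn⟩ := h η hη hi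
  rw [hm, hξ.classInner_of_ne hη hne, mul_zero, zero_add] at hn
  exact Int.natCast_dvd_natCast.1 ⟨n, by exact_mod_cast hn⟩

theorem GlqRel.not_dvd_mult (hp : p.Prime) (h : GlqRel p ψ j χ ξ) (hξ : IsIrrCharacter C ξ)
    (hi : ∀ a c, ξ (ψ a c) = ξ c) {m : ℕ} (hm : classInner (fun c => χ (j c)) ξ = m) : ¬ p ∣ m := by
  have := Fact.mk hp
  rw [← ZMod.natCast_eq_zero_iff]
  rcases h.mult_self hξ hi hm with h1 | h1 <;> simp [h1]

theorem GlqRel.classInner_ne_zero (hp : p.Prime) (h : GlqRel p ψ j χ ξ) (hξ : IsIrrCharacter C ξ)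
    (hi : ∀ a c, ξ (ψ a c) = ξ c) : classInner (fun c => χ (j c)) ξ ≠ 0 := fun h0 =>
  h.not_dvd_mult hp hξ hi (m := 0) (by simpa using h0) (dvd_zero p)

theorem GlqRel.unique (hp : p.Prime) (h : GlqRel p ψ j χ ξ) (hχ : IsCharacter K χ) {η : C → ℂ}
    (h' : GlqRel p ψ j χ η) (hξ : IsIrrCharacter C ξ) (hη : IsIrrCharacter C η)
    (hi : ∀ a c, η (ψ a c) = η c) : ξ = η := by
  by_contra hne
  obtain ⟨m, hm⟩ := (hχ.comp j).exists_nat_classInner hη.isCharacter
  exact h'.not_dvd_mult hp hη hi hm (h.dvd_mult hξ hη hi hne hm)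

theorem GlqRel.degree (hp : p.Prime) (hA : IsPGroup p A) (h : GlqRel p ψ j χ ξ)
    (hχ : IsCharacter K χ) (hχi : ∀ a c, χ (j (ψ a c)) = χ (j c)) (hξ : IsIrrCharacter C ξ)
    (hi : ∀ a c, ξ (ψ a c) = ξ c) :
    (charDegree ξ : ZMod p) = charDegree χ ∨ (charDegree ξ : ZMod p) = -charDegree χ := by
  classical
  have := Fact.mk hp
  obtain ⟨m, hm, -⟩ := (hχ.comp j).exists_eq_sum_nat
  have h1 := (hχ.comp j).charDegree_eq_sum m hm
  rw [charDegree_eq_of_eq (n := charDegree χ) (by rw [map_one, hχ.cast_charDegree])] at h1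
  let _ := glIrrAction ψ
  have h2 := gl_sum_eq_sum_fixed hA (fun η : IrrCharacter C => ((m η * charDegree η.1 : ℕ) : ZMod p))
    (fun a η => by
      have e1 : m (a • η) = m η := by
        have := hm (a • η)
        rw [← classInner_comp_mulEquiv (ψ a)] at this
        simp only [hχi, glIrrAction_smul, map_inv, MulAut.inv_apply_self] at this
        exact_mod_cast this.symm.trans (hm η)
      rw [e1, charDegree_eq_of_eq (χ := (a • η).1) (n := charDegree η.1) (by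
        rw [glIrrAction_smul, map_one, η.2.cast_charDegree])])
  rw [← Nat.cast_sum, ← h1, Finset.sum_eq_single ⟨ξ, hξ⟩] at h2
  · rw [h2, Nat.cast_mul]
    rcases h.mult_self hξ hi (hm ⟨ξ, hξ⟩) with e | e <;> simp [e]
  · intro η hη hne
    rw [ZMod.natCast_eq_zero_iff]
    exact (h.dvd_mult hξ η.2 ((glIrrAction_fixed_iff ψ η).1 (Finset.mem_filter.1 hη).2)
      (fun e => hne (Subtype.ext e.symm)) (hm η)).mul_right _
  · exact fun h3 => absurd (Finset.mem_filter.2 ⟨Finset.mem_univ _,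
      (glIrrAction_fixed_iff ψ _).2 hi⟩) h3

theorem GlqRel.conj (h : GlqRel p ψ j χ ξ) :
    GlqRel p ψ j (fun g => conj (χ g)) (fun c => conj (ξ c)) := by
  obtain ⟨ε, hε, h⟩ := h
  refine ⟨ε, hε, fun η hη hi => ?_⟩
  obtain ⟨n, hn⟩ := h _ (isIrr_gal hη (starRingEnd ℂ)) fun a c => by rw [hi]
  have h1 : ∀ α : C → ℂ, classInner (fun c => conj (α c)) η =
      conj (classInner α fun c => conj (η c)) := fun α => by
    rw [conj_classInner, ← classInner_conj_conj]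
    simp
  exact ⟨n, by rw [h1 fun c => χ (j c), h1, hn]; simp⟩

theorem GlqRel.comp (h : GlqRel p ψ j χ ξ) (α : K →* K) (β : C ≃* C) (h1 : ∀ c, j (β c) = α (j c))
    (h2 : ∀ a, ∃ a', ∀ c, ψ a (β c) = β (ψ a' c)) :
    GlqRel p ψ j (fun g => χ (α g)) (fun c => ξ (β c)) := by
  obtain ⟨ε, hε, h⟩ := h
  refine ⟨ε, hε, fun η hη hi => ?_⟩
  obtain ⟨n, hn⟩ := h _ (hη.comp_mulEquiv β.symm) fun a c => by
    obtain ⟨a', ha⟩ := h2 a
    obtain ⟨c, rfl⟩ := β.surjective c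
    rw [ha, β.symm_apply_apply, β.symm_apply_apply, hi]
  rw [← classInner_comp_mulEquiv β, ← classInner_comp_mulEquiv β ξ] at hn
  exact ⟨n, by simpa only [h1, β.symm_apply_apply] using hn⟩

end Rel

/-- A Clifford correspondent accounts for all constituents over `θ`. -/
theorem glq_classInner_res [Fintype K] {Q : Subgroup K} [Q.Normal] [Fintype Q] {θ : Q → ℂ}
    (hθ : IsIrrCharacter Q θ) {T : Subgroup K} (hT : inertia Q θ ≤ T) (hQT : Q ≤ T) {τ : T → ℂ}
    (hτ : IsIrrCharacter T τ) (h : classInner (fun n : Q => τ ⟨n, hQT n.2⟩) θ ≠ 0) {D R : Type*}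
    [Group D] [Fintype D] [Group R] [Fintype R] (k : D →* T) (e : R ≃* Q) (i : R →* D)
    (hik : ∀ q, k (i q) = ⟨e q, hQT (e q).2⟩) {μ : D → ℂ} (hμ : IsIrrCharacter D μ)
    (h' : classInner (fun n => μ (i n)) (fun n => θ (e n)) ≠ 0) :
    classInner (fun d => indFun T τ (k d)) μ = classInner (fun d => τ (k d)) μ := by
  have := Fintype.ofFinite T
  obtain ⟨h1, h2⟩ := clifford_corr hθ hT hQT hτ h
  obtain ⟨β, hβ, h3⟩ := exists_char_eq_add_of_classInner_ne_zero (h1.isCharacter.restrict T) hτ (by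
    rw [← frobenius_reciprocity' τ h1.isClassFunction, h1.classInner_self]; exact one_ne_zero)
  rw [show (fun n : Q => indFun T τ n) = (fun n : Q => τ ⟨n, hQT n.2⟩) + fun n : Q => β ⟨n, hQT n.2⟩
    from funext fun n => congrFun h3 ⟨n, hQT n.2⟩, classInner_add_left, add_eq_left] at h2
  rw [show (fun d => indFun T τ (k d)) = (fun d => τ (k d)) + fun d => β (k d)
    from funext fun d => congrFun h3 (k d), classInner_add_left, add_eq_left]
  by_contra h4
  have h5 := classInner_comp_ne_zero_of_constituent i (hβ.comp k) hμ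
    (hθ.comp_mulEquiv e).isCharacter h4 h'
  simp only [hik] at h5
  exact h5 ((classInner_comp_mulEquiv e (fun n : Q => β ⟨n, hQT n.2⟩) θ).trans h2)

theorem glq_indFun_comp [Fintype K] {T : Subgroup K} (α : K ≃* K) (β : T ≃* T)
    (h : ∀ t, (β t : K) = α t) (τ : T → ℂ) :
    indFun T (fun t => τ (β t)) = fun g => indFun T τ (α g) := funext fun g => by
  rw [indFun_apply, indFun_apply]
  refine congrArg _ (Fintype.sum_equiv α.toEquiv _ _ fun x => ?_)
  rw [MulEquiv.toEquiv_eq_coe, MulEquiv.coe_toEquiv, ← map_inv, ← map_mul, ← map_mul]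
  by_cases h1 : x⁻¹ * g * x ∈ T
  · rw [extendByZero_of_mem _ h1, ← h ⟨_, h1⟩, extendByZero_coe]
  · rw [extendByZero_of_not_mem _ h1, extendByZero_of_not_mem _ fun h2 => h1 ?_]
    obtain ⟨t, ht⟩ := β.surjective ⟨_, h2⟩
    rw [← α.injective ((h t).symm.trans (congrArg Subtype.val ht))]
    exact t.2

/-- The setting of the relative Glauberman correspondence: `C / Q` is the group of fixed points of
`A` on `K / Q`. -/
structure GlqSetup (p : ℕ) (φ : A →* MulAut K) (Q : Subgroup K) (ψ : A →* MulAut C) (j : C →* K) :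
    Prop where
  prime : p.Prime
  pgA : IsPGroup p A
  pgQ : IsPGroup p Q
  index : ¬ p ∣ Q.index
  inv : ∀ a, ∀ n ∈ Q, φ a n ∈ Q
  inj : Function.Injective j
  compat : ∀ a c, j (ψ a c) = φ a (j c)
  range : ∀ k, k ∈ j.range ↔ ∀ a, k⁻¹ * φ a k ∈ Q

namespace GlqSetup

variable {p : ℕ} {φ : A →* MulAut K} {Q : Subgroup K} {ψ : A →* MulAut C} {j : C →* K}
  (h : GlqSetup p φ Q ψ j)
include h

theorem le_range : Q ≤ j.range := fun k hk =>
  (h.range k).2 fun a => Q.mul_mem (Q.inv_mem hk) (h.inv a k hk)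

/-- The copy of `Q` in `C`. -/
noncomputable def equiv : Q.comap j ≃* Q :=
  MulEquiv.ofBijective (j.subgroupComap Q) ⟨fun _ _ e => Subtype.ext (h.inj (congrArg Subtype.val e)),
    fun q => by
      obtain ⟨c, hc⟩ := h.le_range q.2
      exact ⟨⟨c, by rw [Subgroup.mem_comap, hc]; exact q.2⟩, Subtype.ext hc⟩⟩

theorem coe_equiv (x : Q.comap j) : (h.equiv x : K) = j x := rfl

theorem inv_comap (a : A) (c : C) (hc : c ∈ Q.comap j) : ψ a c ∈ Q.comap j := by
  rw [Subgroup.mem_comap, h.compat]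
  exact h.inv a _ hc

theorem coprime [Finite A] : (⊥ : Subgroup A).index.Coprime Q.index := by
  have := Fact.mk h.prime
  obtain ⟨k, hk⟩ := IsPGroup.iff_card.1 h.pgA
  rw [Subgroup.index_bot, hk]
  exact Nat.Coprime.pow_left k (h.prime.coprime_iff_not_dvd.2 h.index)

theorem solvable [Finite A] : Group.IsSolvable (A ⧸ (⊥ : Subgroup A)) :=
  have := Fact.mk h.prime
  have := (h.pgA.to_quotient ⊥).isNilpotent
  inferInstance

theorem over_iff [Fintype Q] [Fintype (Q.comap j)] (χ : K → ℂ) (θ : Q → ℂ) :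
    classInner (fun n : Q.comap j => χ (j n)) (fun n => θ (h.equiv n)) =
      classInner (fun n : Q => χ n) θ :=
  classInner_comp_mulEquiv h.equiv (fun n : Q => χ n) θ

variable [hQ : Q.Normal]

theorem conjChar_equiv (θ : Q → ℂ) (c : C) :
    conjChar (Q.comap j) c (fun n => θ (h.equiv n)) = fun n => conjChar Q (j c) θ (h.equiv n) :=
  funext fun n => congrArg θ (Subtype.ext (by simp [coe_equiv]))

theorem inertia_eq (θ : Q → ℂ) :
    inertia (Q.comap j) (fun n => θ (h.equiv n)) = (inertia Q θ).comap j := by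
  ext c
  rw [Subgroup.mem_comap, mem_inertia_iff, mem_inertia_iff, h.conjChar_equiv]
  exact ⟨fun e => funext fun q => by
    obtain ⟨n, rfl⟩ := h.equiv.surjective q
    exact congrFun e n, fun e => by rw [e]⟩

omit hQ in
theorem exists_under [Finite A] [Finite K] [Q.Normal] [Fintype (Q.comap j)] {ξ : C → ℂ}
    (hξ : IsIrrCharacter C ξ) (hi : ∀ a c, ξ (ψ a c) = ξ c) :
    ∃ θ, IsIrrCharacter Q θ ∧ (∀ a (n : Q), θ ⟨φ a n, h.inv a n n.2⟩ = θ n) ∧
      classInner (fun n : Q.comap j => ξ n) (fun n => θ (h.equiv n)) ≠ 0 := by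
  have : Finite C := Finite.of_injective j h.inj
  obtain ⟨θ, hθ, h1, h2⟩ := gl_exists_inv_under ψ (Q.comap j) h.inv_comap ⊥
    (fun b hb => ⟨1, Subgroup.one_mem _, by simp [Subgroup.mem_bot.1 hb]⟩)
    (h.coprime.coprime_dvd_right (by
      rw [Subgroup.index_comap]; exact Subgroup.relIndex_dvd_index_of_normal _ _))
    (Or.inl h.solvable) hξ hi
  refine ⟨fun q => θ (h.equiv.symm q), hθ.comp_mulEquiv _, fun a q => ?_, by simpa using h2⟩
  obtain ⟨n, rfl⟩ := h.equiv.surjective q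
  beta_reduce
  rw [h.equiv.symm_apply_apply, ← h1 a n]
  exact congrArg θ (h.equiv.symm_apply_eq.2 (Subtype.ext (h.compat a n).symm))

variable [Finite A] [Fintype K] [Fintype C] [Fintype Q] [Fintype (Q.comap j)] {θ : Q → ℂ}
  (hθ : IsIrrCharacter Q θ) (hθi : ∀ a (n : Q), θ ⟨φ a n, h.inv a n n.2⟩ = θ n)
include hθ hθi

omit [Finite A] [Fintype K] [Fintype C] [Fintype Q] [Fintype (Q.comap j)] hθ in
theorem inv_inertia (a : A) (g : K) (hg : g ∈ inertia Q θ) : φ a g ∈ inertia Q θ := fun n => by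
  rw [← hθi a⁻¹, ← hθi a⁻¹ n, ← hg ⟨φ a⁻¹ n, h.inv _ _ n.2⟩]
  exact congrArg θ (Subtype.ext (by simp))

omit [Fintype C] in
theorem isGlCorr_inertia :
    IsGlCorr p (j.subgroupComap (inertia Q θ))
      (fun τ => (∀ a g, τ (glRestrict φ _ (h.inv_inertia hθi) a g) = τ g) ∧
        classInner (fun n : Q => τ ⟨n, le_inertia hθ.isClassFunction n.2⟩) θ ≠ 0)
      (fun μ => classInner (fun n : Q.comap j => μ ⟨n, le_inertia hθ.isClassFunction n.2⟩)
        (fun n => θ (h.equiv n)) ≠ 0) := by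
  have hQT := le_inertia hθ.isClassFunction
  let ι : Q.comap j →* inertia Q θ := (Subgroup.inclusion hQT).comp h.equiv.toMonoidHom
  have hr : ι.range = Q.subgroupOf (inertia Q θ) := by
    ext x
    exact ⟨fun ⟨n, hn⟩ => hn ▸ n.2, fun hx => ⟨h.equiv.symm ⟨x, hx⟩, Subtype.ext
      (congrArg (Subtype.val : Q → K) (h.equiv.apply_symm_apply ⟨x, hx⟩))⟩⟩
  have : ι.range.Normal := hr ▸ inferInstance
  refine (glq_invariant h.prime h.pgA (glRestrict φ _ (h.inv_inertia hθi))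
    (h.pgQ.of_equiv h.equiv.symm) ι ((Subgroup.inclusion_injective hQT).comp h.equiv.injective)
    (fun h1 => h.index ((hr ▸ h1).trans (Subgroup.relIndex_dvd_index_of_le hQT)))
    (fun a n hn => hr ▸ h.inv a n (hr ▸ hn :)) (j.subgroupComap (inertia Q θ))
    (fun _ _ e => Subtype.ext (h.inj (congrArg Subtype.val e))) (fun k => ?_)
    (Subgroup.inclusion (Subgroup.comap_mono hQT)) (fun _ => rfl) (hθ.comp_mulEquiv h.equiv)
    (fun x g g' e => ?_) fun a g g' e => ?_).congr (fun τ _ => and_congr_right fun _ => ?_)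
    fun _ _ => Iff.rfl
  · rw [hr]
    refine Iff.trans ⟨fun ⟨c, hc⟩ => ⟨c, congrArg Subtype.val hc⟩, fun ⟨c, hc⟩ =>
      ⟨⟨c, by rw [Subgroup.mem_comap, hc]; exact k.2⟩, Subtype.ext hc⟩⟩ (h.range k)
  · rw [← x.2 (h.equiv g)]
    exact congrArg θ (Subtype.ext (congrArg (Subtype.val : inertia Q θ → K) e))
  · rw [← hθi a (h.equiv g)]
    exact congrArg θ (Subtype.ext (congrArg (Subtype.val : inertia Q θ → K) e))
  · rw [← classInner_comp_mulEquiv h.equiv (fun n : Q => τ ⟨n, hQT n.2⟩) θ]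
    rfl

theorem rel_indFun {τ : inertia Q θ → ℂ} (hτ : IsIrrCharacter _ τ)
    (h1 : classInner (fun n : Q => τ ⟨n, le_inertia hθ.isClassFunction n.2⟩) θ ≠ 0)
    {μ : (inertia Q θ).comap j → ℂ} (hμ : IsIrrCharacter _ μ)
    (h2 : classInner (fun n : Q.comap j => μ ⟨n, le_inertia hθ.isClassFunction n.2⟩)
      (fun n => θ (h.equiv n)) ≠ 0) (r : GlRel p (j.subgroupComap (inertia Q θ)) τ μ) :
    GlqRel p ψ j (indFun _ τ) (indFun _ μ) := by
  have := Fintype.ofFinite ((inertia Q θ).comap j)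
  have hQT := le_inertia hθ.isClassFunction
  have hθ' := hθ.comp_mulEquiv h.equiv
  obtain ⟨hχ, h3⟩ := clifford_corr hθ le_rfl hQT hτ h1
  obtain ⟨hξ, h4⟩ := clifford_corr hθ' (h.inertia_eq θ).le (Subgroup.comap_mono hQT) hμ h2
  obtain ⟨ε, hε, r⟩ := r.exists_classInner
  refine ⟨ε, hε, fun η hη hηi => ?_⟩
  by_cases h5 : classInner (fun n : Q.comap j => η n) (fun n => θ (h.equiv n)) = 0
  · refine ⟨0, ?_⟩
    rw [hξ.classInner_of_ne hη (by rintro rfl; exact h2 (h4.symm.trans h5)), mul_zero,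
      Int.cast_zero, mul_zero, add_zero]
    by_contra h6
    obtain ⟨θ', hθ'', h7, h8⟩ := h.exists_under hη hηi
    have h9 := classInner_comp_ne_zero_of_constituent (Q.comap j).subtype (hχ.isCharacter.comp j) hη
      (hθ''.comp_mulEquiv h.equiv).isCharacter h6 h8
    obtain ⟨g, rfl⟩ := exists_conjChar_eq_of_classInner_ne_zero hχ hθ hθ'' (h3 ▸ h1)
      (h.over_iff _ θ' ▸ h9)
    obtain ⟨c, hc, h10⟩ := gl_exists_fixed_conjChar φ Q h.inv ⊥
      (fun b hb => ⟨1, Subgroup.one_mem _, by simp [Subgroup.mem_bot.1 hb]⟩) h.coprime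
      (Or.inl h.solvable) hθ hθi g h7
    obtain ⟨c, rfl⟩ := (h.range c).2 hc
    rw [← h10, ← h.conjChar_equiv, classInner_res_conjChar hη.isClassFunction] at h8
    exact h8 h5
  · obtain ⟨ν, hν, rfl, h6⟩ := clifford_corr_surj hθ' (h.inertia_eq θ).le (Subgroup.comap_mono hQT)
      hη h5
    obtain ⟨n, hn⟩ := r ν hν.isGeneralizedCharacter
    refine ⟨n, ?_⟩
    have h7 := glq_classInner_res hθ le_rfl hQT hτ h1 (j.subgroupComap (inertia Q θ)) h.equiv
      (Subgroup.inclusion (Subgroup.comap_mono hQT)) (fun _ => rfl) hν (h6 ▸ h5)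
    have h8 : classInner (indFun _ μ) (indFun _ ν) = classInner μ ν := by
      by_cases h9 : μ = ν
      · rw [h9, hν.classInner_self, hη.classInner_self]
      · rw [hμ.classInner_of_ne hν h9, hξ.classInner_of_ne hη fun e => h9 (clifford_corr_inj hθ'
          (h.inertia_eq θ).le (Subgroup.comap_mono hQT) hμ hν h2 (h6 ▸ h5) e)]
    rw [frobenius_reciprocity' ν (hχ.isClassFunction.comp j), h8, ← hn]
    exact h7

theorem exists_local {χ : K → ℂ} (hχ : IsIrrCharacter K χ) (hχi : ∀ a g, χ (φ a g) = χ g)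
    (h1 : classInner (fun n : Q => χ n) θ ≠ 0) :
    ∃ τ μ, IsIrrCharacter _ τ ∧ (∀ a g, τ (glRestrict φ _ (h.inv_inertia hθi) a g) = τ g) ∧
      classInner (fun n : Q => τ ⟨n, le_inertia hθ.isClassFunction n.2⟩) θ ≠ 0 ∧
      indFun _ τ = χ ∧ IsIrrCharacter _ μ ∧
      classInner (fun n : Q.comap j => μ ⟨n, le_inertia hθ.isClassFunction n.2⟩)
        (fun n => θ (h.equiv n)) ≠ 0 ∧ GlRel p (j.subgroupComap (inertia Q θ)) τ μ ∧
      IsIrrCharacter C (indFun _ μ) ∧ (∀ a c, indFun _ μ (ψ a c) = indFun _ μ c) ∧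
      GlqRel p ψ j χ (indFun _ μ) := by
  have hQT := le_inertia hθ.isClassFunction
  obtain ⟨τ, hτ, rfl, h2⟩ := clifford_corr_surj hθ le_rfl hQT hχ h1
  rw [← h2] at h1
  have h3 : ∀ a g, τ (glRestrict φ _ (h.inv_inertia hθi) a g) = τ g := fun a =>
    congrFun (clifford_corr_inj hθ le_rfl hQT (hτ.comp_mulEquiv _) hτ (by
      rw [← classInner_comp_mulEquiv (glRestrict φ Q h.inv a)] at h1
      simp only [show ∀ n, θ (glRestrict φ Q h.inv a n) = θ n from hθi a] at h1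
      exact h1) h1
      ((glq_indFun_comp (φ a) _ (fun _ => rfl) τ).trans (funext (hχi a))))
  obtain ⟨μ, hμ, h4, r⟩ := (h.isGlCorr_inertia hθ hθi).ex τ hτ ⟨h3, h1⟩
  refine ⟨τ, μ, hτ, h3, h1, rfl, hμ, h4, r, (clifford_corr (hθ.comp_mulEquiv h.equiv)
    (h.inertia_eq θ).le (Subgroup.comap_mono hQT) hμ h4).1, fun a => ?_,
    h.rel_indFun hθ hθi hτ h1 hμ h4 r⟩
  have := Fintype.ofFinite ((inertia Q θ).comap j)
  let β := glRestrict ψ ((inertia Q θ).comap j) (fun a c hc => by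
    rw [Subgroup.mem_comap, h.compat]; exact h.inv_inertia hθi a _ hc) a
  have h5 := r.comp (j' := j.subgroupComap (inertia Q θ))
    (glRestrict φ _ (h.inv_inertia hθi) a).toMonoidHom β.toMonoidHom
    fun c => Subtype.ext (h.compat a c)
  simp only [MulEquiv.coe_toMonoidHom, h3] at h5
  refine congrFun ((glq_indFun_comp (ψ a) β (fun _ => rfl) μ).symm.trans ?_)
  rw [h5.unique h.prime r (hμ.comp_mulEquiv β) hμ]

omit hθ hθi [Fintype Q] [Fintype (Q.comap j)]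

theorem ex {χ : K → ℂ} (hχ : IsIrrCharacter K χ) (hχi : ∀ a g, χ (φ a g) = χ g) :
    ∃ ξ, IsIrrCharacter C ξ ∧ (∀ a c, ξ (ψ a c) = ξ c) ∧ GlqRel p ψ j χ ξ := by
  have := Fintype.ofFinite Q
  have := Fintype.ofFinite (Q.comap j)
  obtain ⟨θ, hθ, hθi, h1⟩ := gl_exists_inv_under φ Q h.inv ⊥
    (fun b hb => ⟨1, Subgroup.one_mem _, by simp [Subgroup.mem_bot.1 hb]⟩) h.coprime
    (Or.inl h.solvable) hχ hχi
  obtain ⟨τ, μ, -, -, -, -, -, -, -, h2⟩ := h.exists_local hθ hθi hχ hχi h1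
  exact ⟨_, h2⟩

theorem injective {χ χ' : K → ℂ} {ξ : C → ℂ} (hχ : IsIrrCharacter K χ)
    (hχi : ∀ a g, χ (φ a g) = χ g) (hχ' : IsIrrCharacter K χ') (hχi' : ∀ a g, χ' (φ a g) = χ' g)
    (hξ : IsIrrCharacter C ξ) (hξi : ∀ a c, ξ (ψ a c) = ξ c) (r : GlqRel p ψ j χ ξ)
    (r' : GlqRel p ψ j χ' ξ) : χ = χ' := by
  have := Fintype.ofFinite Q
  have := Fintype.ofFinite (Q.comap j)
  obtain ⟨θ, hθ, hθi, h1⟩ := h.exists_under hξ hξi
  have h2 : ∀ χ, IsIrrCharacter K χ → GlqRel p ψ j χ ξ → classInner (fun n : Q => χ n) θ ≠ 0 :=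
    fun χ hχ r => h.over_iff χ θ ▸ classInner_comp_ne_zero_of_constituent (Q.comap j).subtype
      (hχ.isCharacter.comp j) hξ (hθ.comp_mulEquiv h.equiv).isCharacter
      (r.classInner_ne_zero h.prime hξ hξi) h1
  obtain ⟨τ, μ, h3, h4, h5, rfl, h6, h7, h8, h9, -, s⟩ := h.exists_local hθ hθi hχ hχi (h2 χ hχ r)
  obtain ⟨τ', μ', h3', h4', h5', rfl, h6', h7', h8', h9', -, s'⟩ :=
    h.exists_local hθ hθi hχ' hχi' (h2 χ' hχ' r')
  obtain rfl : μ = μ' := clifford_corr_inj (hθ.comp_mulEquiv h.equiv) (h.inertia_eq θ).le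
    (Subgroup.comap_mono (le_inertia hθ.isClassFunction)) h6 h6' h7 h7'
    ((s.unique h.prime hχ.isCharacter r h9 hξ hξi).trans
      (s'.unique h.prime hχ'.isCharacter r' h9' hξ hξi).symm)
  rw [(h.isGlCorr_inertia hθ hθi).inj τ τ' μ h3 ⟨h4, h5⟩ h3' ⟨h4', h5'⟩ h6 h8 h8']

theorem surj {ξ : C → ℂ} (hξ : IsIrrCharacter C ξ) (hξi : ∀ a c, ξ (ψ a c) = ξ c) :
    ∃ χ, IsIrrCharacter K χ ∧ (∀ a g, χ (φ a g) = χ g) ∧ GlqRel p ψ j χ ξ := by
  have := Fintype.ofFinite Q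
  have := Fintype.ofFinite (Q.comap j)
  obtain ⟨θ, hθ, hθi, h1⟩ := h.exists_under hξ hξi
  have hQT := le_inertia hθ.isClassFunction
  obtain ⟨μ, hμ, rfl, h2⟩ := clifford_corr_surj (hθ.comp_mulEquiv h.equiv) (h.inertia_eq θ).le
    (Subgroup.comap_mono hQT) hξ h1
  rw [← h2] at h1
  obtain ⟨τ, hτ, ⟨h3, h4⟩, r⟩ := (h.isGlCorr_inertia hθ hθi).surj μ hμ h1
  refine ⟨_, (clifford_corr hθ le_rfl hQT hτ h4).1, fun a => ?_, h.rel_indFun hθ hθi hτ h4 hμ h1 r⟩
  refine congrFun ((glq_indFun_comp (φ a) (glRestrict φ _ (h.inv_inertia hθi) a)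
    (fun _ => rfl) τ).symm.trans ?_)
  simp only [h3]

theorem exists_bijective :
    ∃ f : {χ : IrrCharacter K // ∀ a g, (χ : K → ℂ) (φ a g) = (χ : K → ℂ) g} →
      {ξ : IrrCharacter C // ∀ a c, (ξ : C → ℂ) (ψ a c) = (ξ : C → ℂ) c},
      Function.Bijective f ∧ ∀ χ, GlqRel p ψ j χ.1 (f χ).1 := by
  choose f h1 h2 h3 using fun χ : {χ : IrrCharacter K // ∀ a g, (χ : K → ℂ) (φ a g) = (χ : K → ℂ) g}
    => h.ex χ.1.2 χ.2
  refine ⟨fun χ => ⟨⟨f χ, h1 χ⟩, h2 χ⟩, ⟨fun χ χ' e => Subtype.ext (Subtype.ext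
    (h.injective χ.1.2 χ.2 χ'.1.2 χ'.2 (h1 χ) (h2 χ) (h3 χ) ?_)), fun ξ => ?_⟩, h3⟩
  · rw [show f χ = f χ' from congrArg (fun x => x.1.1) e]
    exact h3 χ'
  · obtain ⟨χ, hχ, h4, r⟩ := h.surj ξ.1.2 ξ.2
    exact ⟨⟨⟨χ, hχ⟩, h4⟩, Subtype.ext (Subtype.ext
      ((h3 ⟨⟨χ, hχ⟩, h4⟩).unique h.prime hχ.isCharacter r (h1 _) ξ.1.2 ξ.2))⟩

end GlqSetup

end CL.Char
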