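import Cfsg.Agent.Char.GalDeg
import Cfsg.Agent.Char.PRational
import Cfsg.Agent.Char.Extension
import Cfsg.Agent.Char.Clifford2
import Cfsg.Agent.Char.Gallagher
import Cfsg.Agent.Char.FSParity
import Cfsg.Agent.Char.FrobSchurOdd
import Cfsg.Agent.Grp.PGroupBasic
import Cfsg.Agent.Grp.MinNormal

/-! Characters fixed by field automorphisms and normal subgroups of coprime (odd) index. -/

set_option autoImplicit false
open Cfsg
open scoped ComplexConjugate

namespace CL.Char

universe u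

variable {G : Type*} [Group G]

/-- `σ` has `p`-power order on the roots of unity relevant for `G`. -/
def GalPow (p : ℕ) (G : Type*) [Group G] (σ : RingAut ℂ) : Prop :=
  ∃ e : ℕ, ∀ (g : G) (z : ℂ), z ^ orderOf g = 1 → (σ ^ p ^ e) z = z

/-- `σ` inverts the roots of unity of odd order relevant for `G`. -/
def GalInvOdd (G : Type*) [Group G] (σ : RingAut ℂ) : Prop :=
  ∀ g : G, Odd (orderOf g) → ∀ z : ℂ, z ^ orderOf g = 1 → σ z = z⁻¹

theorem GalPow.subgroup {p : ℕ} {σ : RingAut ℂ} (h : GalPow p G σ) (H : Subgroup G) :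
    GalPow p H σ := by
  obtain ⟨e, he⟩ := h
  exact ⟨e, fun g z hz => he g z (by rwa [Subgroup.orderOf_coe])⟩

theorem GalInvOdd.subgroup {σ : RingAut ℂ} (h : GalInvOdd G σ) (H : Subgroup G) :
    GalInvOdd H σ := fun g hg z hz =>
  h g (by rwa [Subgroup.orderOf_coe]) z (by rwa [Subgroup.orderOf_coe])

theorem galPow_conj (G : Type*) [Group G] : GalPow 2 G starRingAut :=
  ⟨1, fun _ z _ => by simp [sq]⟩

theorem galInvOdd_conj (G : Type*) [Group G] : GalInvOdd G starRingAut := fun _ hg _ hz =>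
  (inv_eq_conj_of_norm_eq_one (norm_eq_one_of_pow_eq_one' hg.pos.ne' hz)).symm

theorem conj_smul_eq_iff {X : Type*} {χ : X → ℂ} :
    (starRingAut : RingAut ℂ) • χ = χ ↔ ∀ g, (χ g).im = 0 := by
  simp only [funext_iff, ← Complex.conj_eq_iff_im]
  rfl

theorem gal_smul_apply {X : Type*} (σ : RingAut ℂ) (χ : X → ℂ) (x : X) : (σ • χ) x = σ (χ x) := rfl

theorem gal_smul_indFun [Fintype G] {H : Subgroup G} (σ : RingAut ℂ) (θ : H → ℂ) :
    σ • indFun H θ = indFun H (σ • θ) :=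
  funext fun g => (indFun_map (σ : ℂ →+* ℂ) θ g).symm

theorem gal_exists_of_pow [Finite G] {k : ℕ} (hk : k.Coprime (Nat.card G)) :
    ∃ σ : RingAut ℂ, (∀ z : ℂ, z ^ Nat.card G = 1 → σ z = z ^ k) ∧
      ∀ (H : Subgroup G) (χ : H → ℂ), IsGeneralizedCharacter H χ → ∀ g, σ (χ g) = χ (g ^ k) := by
  obtain ⟨σ, hσ⟩ := exists_ringEquiv_pow Nat.card_pos.ne' hk
  refine ⟨σ, hσ, fun H χ hχ g => genChar_map_eq_pow hχ g (σ : ℂ →+* ℂ) k fun z hz => hσ z ?_⟩
  obtain ⟨c, hc⟩ := (orderOf_dvd_natCard g).trans H.card_subgroup_dvd_card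
  rw [hc, pow_mul, hz, one_pow]

theorem galPow_of_pow [Finite G] {p k e : ℕ} {σ : RingAut ℂ}
    (hσ : ∀ z : ℂ, z ^ Nat.card G = 1 → σ z = z ^ k) (hke : k ^ p ^ e ≡ 1 [MOD Nat.card G]) :
    GalPow p G σ := by
  refine ⟨e, fun g z hz => ?_⟩
  have h1 : z ^ Nat.card G = 1 := by
    obtain ⟨c, hc⟩ := orderOf_dvd_natCard g
    rw [hc, pow_mul, hz, one_pow]
  have h2 : ∀ j : ℕ, (σ ^ j) z = z ^ k ^ j := fun j => by
    induction j with
    | zero => simp
    | succ j ih =>
      rw [pow_succ', RingAut.mul_apply, ih, map_pow, hσ z h1, ← pow_mul, ← pow_succ']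
  rw [h2, pow_eq_pow_of_modEq hke h1, pow_one]

theorem galInvOdd_of_pow [Finite G] {k : ℕ} {σ : RingAut ℂ}
    (hσ : ∀ z : ℂ, z ^ Nat.card G = 1 → σ z = z ^ k)
    (hk : ∀ g : G, Odd (orderOf g) → g ^ k = g⁻¹) : GalInvOdd G σ := by
  intro g hg z hz
  have h1 : z ^ Nat.card G = 1 := by
    obtain ⟨c, hc⟩ := orderOf_dvd_natCard g
    rw [hc, pow_mul, hz, one_pow]
  obtain ⟨c, hc⟩ : orderOf g ∣ k + 1 := by
    rw [orderOf_dvd_iff_pow_eq_one, pow_succ, hk g hg, inv_mul_cancel]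
  rw [hσ z h1]
  exact eq_inv_of_mul_eq_one_left (by rw [← pow_succ, hc, pow_mul, hz, one_pow])

theorem GalPow.exists_fixed [Finite G] {p : ℕ} [Fact p.Prime] {σ : RingAut ℂ} (h : GalPow p G σ)
    (S : Finset (G → ℂ)) (h1 : ∀ χ ∈ S, IsGeneralizedCharacter G χ) (h2 : ∀ χ ∈ S, σ • χ ∈ S)
    (h3 : ¬ p ∣ S.card) : ∃ χ ∈ S, σ • χ = χ := by
  obtain ⟨e, he⟩ := h
  let f : S → S := fun χ => ⟨σ • χ.1, h2 _ χ.2⟩
  have hf : Function.Injective f := fun a b hab =>
    Subtype.ext (MulAction.injective σ (congrArg Subtype.val hab))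
  let τ : Equiv.Perm S := Equiv.ofBijective f hf.bijective_of_finite
  have h4 : ∀ (j : ℕ) (χ : S), ((τ ^ j) χ).1 = σ ^ j • χ.1 := fun j χ => by
    induction j with
    | zero => simp
    | succ j ih => rw [pow_succ', pow_succ', Equiv.Perm.mul_apply, mul_smul, ← ih]; rfl
  obtain ⟨χ, hχ⟩ := Equiv.Perm.exists_fixed_point_of_prime (p := p) (n := e) (σ := τ)
    (by rwa [Fintype.card_coe]) (Equiv.ext fun χ => Subtype.ext (by
      rw [h4]
      exact funext fun g => genChar_map_eq_self (h1 _ χ.2) dvd_rfl (he g)))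
  exact ⟨χ, χ.2, congrArg Subtype.val hχ⟩

/-- The constituents on a normal subgroup of `p'`-index of a fixed character are fixed. -/
theorem gal_fixed_of_under [Finite G] {p : ℕ} [Fact p.Prime] {σ : RingAut ℂ} {N : Subgroup G}
    [N.Normal] [Fintype N] (h : GalPow p N σ) (hi : ¬ p ∣ N.index) {χ : G → ℂ}
    (hχ : IsIrrCharacter G χ) (hfix : σ • χ = χ) {θ : N → ℂ} (hθ : IsIrrCharacter N θ)
    (hne : classInner (fun n : N => χ n) θ ≠ 0) : σ • θ = θ := by
  have := Fintype.ofFinite G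
  obtain ⟨φ, hφ, h1⟩ := h.exists_fixed (conjOrbit N θ)
    (fun φ hφ => (isIrrCharacter_of_mem_conjOrbit hθ hφ).isGeneralizedCharacter)
    (fun φ hφ => by
      have h2 := isIrrCharacter_of_mem_conjOrbit hθ hφ
      refine mem_conjOrbit_of_classInner_ne_zero hχ hθ (isIrr_smul h2 σ) hne ?_
      have h3 := classInner_smul_smul (hχ.isGeneralizedCharacter.restrict N)
        h2.isGeneralizedCharacter σ
      obtain ⟨g, rfl⟩ := mem_conjOrbit.1 hφ
      rw [classInner_res_conjChar hχ.isClassFunction] at h3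
      have h4 : (σ • fun n : N => χ n) = fun n : N => χ n := funext fun n => congrFun hfix n
      rwa [← h4, h3])
    (by
      rw [card_conjOrbit]
      exact fun h2 => hi (h2.trans (Subgroup.index_dvd_of_le (le_inertia hθ.isClassFunction))))
  obtain ⟨g, rfl⟩ := mem_conjOrbit.1 hφ
  exact conjChar_injective g h1

theorem exists_odd_lift [Finite G] {N : Subgroup G} [N.Normal] (hodd : Odd N.index) (q : G ⧸ N) :
    ∃ g : G, Odd (orderOf g) ∧ (g : G ⧸ N) = q := by
  obtain ⟨a, m, hm, hc⟩ := Nat.exists_eq_two_pow_mul_odd (Nat.card_pos (α := G)).ne'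
  have hq : (2 ^ a).Coprime (orderOf q) := Nat.Coprime.pow_left _ (Nat.coprime_two_left.2
    (hodd.of_dvd_nat (orderOf_dvd_natCard q)))
  obtain ⟨j, hj⟩ := exists_pow_eq_self_of_coprime hq
  obtain ⟨g, rfl⟩ := QuotientGroup.mk_surjective q
  refine ⟨(g ^ 2 ^ a) ^ j, hm.of_dvd_nat ((orderOf_pow_dvd _).trans ?_), by simpa using hj⟩
  rw [orderOf_dvd_iff_pow_eq_one, ← pow_mul, ← hc, pow_card_eq_one']

theorem GalInvOdd.smul_eq_conj [Finite G] {σ : RingAut ℂ} (h : GalInvOdd G σ) {N : Subgroup G}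
    [N.Normal] (hodd : Odd N.index) {β : G → ℂ} (hβ : IsCharacter G β) (hN : N ≤ charKer β)
    (g : G) : σ (β g) = conj (β g) := by
  obtain ⟨x, hx, hxg⟩ := exists_odd_lift hodd (g : G ⧸ N)
  have h1 : β g = β x := by
    rw [← apply_mul_of_mem_charKer (hN (QuotientGroup.eq.1 hxg)) x, hβ.mul_comm,
      mul_inv_cancel_left]
  rw [h1, hβ.conj_apply]
  refine (genChar_map_eq_pow hβ.isGeneralizedCharacter x (σ : ℂ →+* ℂ) (orderOf x - 1)
    fun z hz => ?_).trans ?_
  · refine (h x hx z hz).trans (eq_inv_of_mul_eq_one_left ?_).symm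
    rw [← pow_succ, Nat.sub_add_cancel hx.pos, hz]
  · congr 1
    refine eq_inv_of_mul_eq_one_left ?_
    rw [← pow_succ, Nat.sub_add_cancel hx.pos, pow_orderOf_eq_one]

/-- An extendible fixed character has exactly one fixed character above it, an extension. -/
theorem gal_of_extension [Finite G] {σ : RingAut ℂ} (h : GalInvOdd G σ) {N : Subgroup G}
    [N.Normal] [Fintype N] (hodd : Odd N.index) {θ : N → ℂ} (hθ : IsIrrCharacter N θ)
    (hfix : σ • θ = θ) {η : G → ℂ} (hη : IsIrrCharacter G η) (he : ∀ n : N, η n = θ n) :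
    ∃ χ, IsIrrCharacter G χ ∧ σ • χ = χ ∧ (∀ n : N, χ n = θ n) ∧ ∀ χ', IsIrrCharacter G χ' →
      σ • χ' = χ' → classInner (fun n : N => χ' n) θ ≠ 0 → χ' = χ := by
  have := Fintype.ofFinite G
  have hηN : IsIrrCharacter N fun n : N => η n := (funext he : _ = θ) ▸ hθ
  obtain ⟨lam, hl, hl'⟩ := exists_linear_mul_of_restrict_eq N hη.isCharacter
    (isIrr_smul hη σ).isCharacter hηN fun n => by
      rw [gal_smul_apply, he, ← gal_smul_apply σ θ, hfix]
  obtain ⟨r, hr⟩ := id hodd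
  have h1 := monoidHom_pow_index_eq_one hl
  set mu := lam ^ (r + 1) with hmu
  have hmuN : ∀ n ∈ N, mu n = 1 := fun n hn => by rw [hmu, MonoidHom.pow_apply, hl n hn, one_pow]
  have h2 : ∀ g, mu g * mu g = lam g := fun g => by
    have h3 := DFunLike.congr_fun h1 g
    rw [MonoidHom.pow_apply, hr, MonoidHom.one_apply] at h3
    rw [hmu, MonoidHom.pow_apply, ← pow_add, show r + 1 + (r + 1) = 2 * r + 1 + 1 by ring,
      pow_succ, h3, one_mul]
  have hχ := hη.monoidHom_mul mu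
  have hχN : ∀ n : N, (mu n : ℂ) * η n = θ n := fun n => by
    rw [hmuN n n.2, Units.val_one, one_mul, he]
  have hχf : (σ • fun g => (mu g : ℂ) * η g) = fun g => (mu g : ℂ) * η g := by
    funext g
    have h3 := h.smul_eq_conj hodd (isIrrCharacter_linear mu).isCharacter
      (by rw [charKer_monoidHom]; exact hmuN) g
    rw [gal_smul_apply, map_mul, h3, ← gal_smul_apply σ η, congrFun hl' g, ← h2, Units.val_mul,
      ← mul_assoc, ← mul_assoc, mul_comm (conj _), monoidHom_mul_conj, one_mul]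
  refine ⟨_, hχ, hχf, hχN, fun χ' hχ' hf hne => ?_⟩
  have hχN' : IsIrrCharacter N fun n : N => (mu n : ℂ) * η n := (funext hχN : _ = θ) ▸ hθ
  obtain ⟨β, hβ, hβN, rfl⟩ := gallagher_surj hχ.isCharacter hχN' hχ' (by rwa [funext hχN])
  have h3 : (fun g => conj (β g)) = β := by
    refine gallagher_inj hχ.isCharacter hχN' (le_charKer_conj hβN) hβN ?_
    rw [← hf]
    funext g
    rw [gal_smul_apply, Pi.mul_apply, Pi.mul_apply, map_mul,
      h.smul_eq_conj hodd hβ.isCharacter hβN]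
    congr 1
    exact (congrFun hχf g).symm
  obtain ⟨ψ, hψ, hβψ⟩ := hβ.exists_quotient N hβN
  have h4 := eq_one_of_real_of_odd hodd hψ fun q => by
    obtain ⟨g, rfl⟩ := QuotientGroup.mk_surjective q
    rw [← congrFun hβψ g]
    exact Complex.conj_eq_iff_im.1 (congrFun h3 g)
  rw [hβψ, h4]
  exact one_mul _

theorem gal_exists_extension_aux (σ : RingAut ℂ) (G : Type u) [Group G] [Finite G] :
    GalInvOdd G σ → ∀ (N : Subgroup G) [hN : N.Normal], Odd N.index → ∀ θ : N → ℂ,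
      IsIrrCharacter N θ → σ • θ = θ →
      (∀ (g : G) (n : N), θ ⟨g * n * g⁻¹, hN.conj_mem n n.2 g⟩ = θ n) →
      ∃ η, IsIrrCharacter G η ∧ ∀ n : N, η n = θ n := by
  refine CL.Grp.induction_on_card (P := fun G _ _ => GalInvOdd G σ →
    ∀ (N : Subgroup G) [hN : N.Normal], Odd N.index → ∀ θ : N → ℂ,
      IsIrrCharacter N θ → σ • θ = θ →
      (∀ (g : G) (n : N), θ ⟨g * n * g⁻¹, hN.conj_mem n n.2 g⟩ = θ n) →
      ∃ η, IsIrrCharacter G η ∧ ∀ n : N, η n = θ n) ?_ G
  intro G _ _ ih h N hN hodd θ hθ hfix hinv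
  have := Fintype.ofFinite N
  have hsub : ∀ (P : Subgroup G) (hNP : N ≤ P), P ≠ ⊤ →
      ∃ η : P → ℂ, IsIrrCharacter P η ∧ ∀ n : N.subgroupOf P,
        η n = θ ⟨(n : P), Subgroup.mem_subgroupOf.mp n.2⟩ := fun P hNP hP =>
    ih P (CL.Grp.card_subgroup_lt hP) (h.subgroup P) (N.subgroupOf P)
      (hodd.of_dvd_nat (Subgroup.relIndex_dvd_index_of_le hNP)) _
      (isIrrCharacter_subgroupOf hNP hθ) (funext fun n => congrFun hfix _)
      fun g n => hinv g ⟨_, Subgroup.mem_subgroupOf.mp n.2⟩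
  by_cases hp : ∃ p : ℕ, p.Prime ∧ p ∣ N.index ∧ IsPGroup p (G ⧸ N)
  · obtain ⟨p, hp, hd, hG⟩ := hp
    have := Fact.mk hp
    obtain ⟨M', hM', -, hi⟩ := CL.Grp.exists_normal_index_eq_ge hG (H := ⊥) (by
      intro h1
      have h2 : Nat.card (G ⧸ N) = 1 := by rw [← Subgroup.card_top, ← h1, Subgroup.card_bot]
      exact hp.one_lt.ne' (Nat.dvd_one.1 (h2 ▸ hd)))
    set M := M'.comap (QuotientGroup.mk' N) with hM
    have hNM : N ≤ M := QuotientGroup.le_comap_mk' N M'
    have hMi : M.index = p := by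
      rw [hM, Subgroup.index_comap_of_surjective _ (QuotientGroup.mk'_surjective N), hi]
    obtain ⟨η, hη, he⟩ := hsub M hNM (by
      intro h1
      rw [h1, Subgroup.index_top] at hMi
      exact hp.one_lt.ne hMi)
    have := Fintype.ofFinite (N.subgroupOf M)
    obtain ⟨ψ, hψ, hψf, hψe, huniq⟩ := gal_of_extension (h.subgroup M)
      (hodd.of_dvd_nat (Subgroup.relIndex_dvd_index_of_le hNM))
      (isIrrCharacter_subgroupOf hNM hθ) (funext fun n => congrFun hfix _) hη he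
    obtain ⟨χ, hχ, hχe⟩ := exists_extension_of_isCyclic (N := M) (θ := ψ)
      (isCyclic_of_prime_card (p := p) hMi) hψ fun g => congrFun
        (huniq (conjChar M g ψ) (isIrrCharacter_conjChar hψ g)
          (funext fun m => congrFun hψf _) (by
            have h1 : (fun n : N.subgroupOf M => conjChar M g ψ n) =
                fun n : N.subgroupOf M => θ ⟨(n : M), Subgroup.mem_subgroupOf.mp n.2⟩ := by
              funext n
              rw [← hinv g]
              exact hψe ⟨⟨_, hNM (hN.conj_mem _ (Subgroup.mem_subgroupOf.mp n.2) g)⟩,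
                hN.conj_mem _ (Subgroup.mem_subgroupOf.mp n.2) g⟩
            rw [h1, (isIrrCharacter_subgroupOf hNM hθ).classInner_self]
            exact one_ne_zero))
    exact ⟨χ, hχ, fun n => (hχe ⟨n, hNM n.2⟩).trans (hψe ⟨⟨n, hNM n.2⟩, n.2⟩)⟩
  · refine exists_extension_of_forall_prime hθ hinv hθ.cast_charDegree.symm fun p hp' _ hd => ?_
    have := Fact.mk hp'
    obtain ⟨Q⟩ : Nonempty (Sylow p (G ⧸ N)) := inferInstance
    have hNP := QuotientGroup.le_comap_mk' N (Q : Subgroup (G ⧸ N))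
    obtain ⟨η, hη, he⟩ := hsub _ hNP fun h1 => hp ⟨p, hp', hd, by
      have h2 : (Q : Subgroup (G ⧸ N)) = ⊤ := by
        rw [← Subgroup.map_comap_eq_self_of_surjective (QuotientGroup.mk'_surjective N)
          (Q : Subgroup (G ⧸ N)), h1,
          Subgroup.map_top_of_surjective _ (QuotientGroup.mk'_surjective N)]
      exact (h2 ▸ Q.isPGroup').of_equiv Subgroup.topEquiv⟩
    refine ⟨_, hNP, η, ?_, hη.isCharacter, fun n => he ⟨⟨n, hNP n.2⟩, n.2⟩⟩
    rw [Subgroup.index_comap_of_surjective _ (QuotientGroup.mk'_surjective N)]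
    exact Q.not_dvd_index

/-- Over a fixed irreducible character of a normal subgroup of odd index there is exactly one
fixed irreducible character; it is induced from an extension to the inertia group. -/
theorem gal_exists_unique_over [Fintype G] {σ : RingAut ℂ} (h : GalInvOdd G σ) {N : Subgroup G}
    [hN : N.Normal] [Fintype N] (hodd : Odd N.index) {θ : N → ℂ} (hθ : IsIrrCharacter N θ)
    (hfix : σ • θ = θ) :
    ∃ χ, IsIrrCharacter G χ ∧ σ • χ = χ ∧ classInner (fun n : N => χ n) θ = 1 ∧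
      ∀ χ', IsIrrCharacter G χ' → σ • χ' = χ' → classInner (fun n : N => χ' n) θ ≠ 0 → χ' = χ := by
  set T := inertia N θ with hT
  have hNT : N ≤ T := le_inertia hθ.isClassFunction
  have := Fintype.ofFinite (N.subgroupOf T)
  have hodd' : Odd (N.subgroupOf T).index :=
    hodd.of_dvd_nat (Subgroup.relIndex_dvd_index_of_le hNT)
  have hθ' := isIrrCharacter_subgroupOf hNT hθ
  obtain ⟨η, hη, he⟩ := gal_exists_extension_aux σ T (h.subgroup T) (N.subgroupOf T) hodd' _ hθ'
    (funext fun n => congrFun hfix _) fun g n =>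
      mem_inertia.1 g.2 ⟨_, Subgroup.mem_subgroupOf.mp n.2⟩
  obtain ⟨ψ, hψ, hψf, hψe, huniq⟩ := gal_of_extension (h.subgroup T) hodd' hθ'
    (funext fun n => congrFun hfix _) hη he
  have h1 : classInner (fun n : N => ψ ⟨n, hNT n.2⟩) θ = 1 := by
    rw [← hθ.classInner_self]
    congr 1
    exact funext fun n => hψe ⟨⟨n, hNT n.2⟩, n.2⟩
  obtain ⟨h2, h3⟩ := clifford_corr hθ le_rfl hNT hψ (h1 ▸ one_ne_zero)
  refine ⟨_, h2, by rw [gal_smul_indFun, hψf], h3.trans h1, fun χ' hχ' hf hne => ?_⟩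
  obtain ⟨ψ', hψ', rfl, h4⟩ := clifford_corr_surj hθ le_rfl hNT hχ' hne
  have h5 : σ • ψ' = ψ' := by
    refine clifford_corr_inj hθ le_rfl hNT (isIrr_smul hψ' σ) hψ' ?_ (h4 ▸ hne)
      (by rw [← gal_smul_indFun, hf])
    have h6 := classInner_smul_smul (hψ'.isGeneralizedCharacter.comp (Subgroup.inclusion hNT))
      hθ.isGeneralizedCharacter σ
    rw [hfix] at h6
    exact fun h7 => (h4 ▸ hne) (h6.symm.trans h7)
  rw [huniq ψ' hψ' h5 (by
    rw [← classInner_subgroupOf hNT] at h4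
    exact fun h7 => hne (h4.symm.trans h7))]

/-- Real version: over a real irreducible character of a normal subgroup of odd index there is
exactly one real irreducible character. -/
theorem exists_unique_real_over [Fintype G] {N : Subgroup G} [hN : N.Normal] [Fintype N]
    (hodd : Odd N.index) {θ : N → ℂ} (hθ : IsIrrCharacter N θ) (hr : ∀ n, (θ n).im = 0) :
    ∃ χ, IsIrrCharacter G χ ∧ (∀ g, (χ g).im = 0) ∧ classInner (fun n : N => χ n) θ = 1 ∧
      ∀ χ', IsIrrCharacter G χ' → (∀ g, (χ' g).im = 0) →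
        classInner (fun n : N => χ' n) θ ≠ 0 → χ' = χ := by
  simpa only [conj_smul_eq_iff] using
    gal_exists_unique_over (galInvOdd_conj G) hodd hθ (conj_smul_eq_iff.2 hr)

theorem real_of_under_real [Finite G] {N : Subgroup G} [N.Normal] [Fintype N] (hodd : Odd N.index)
    {χ : G → ℂ} (hχ : IsIrrCharacter G χ) (hr : ∀ g, (χ g).im = 0) {θ : N → ℂ}
    (hθ : IsIrrCharacter N θ) (hne : classInner (fun n : N => χ n) θ ≠ 0) (n : N) :
    (θ n).im = 0 :=
  conj_smul_eq_iff.1 (gal_fixed_of_under (galPow_conj N)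
    (fun h => Nat.not_even_iff_odd.2 hodd (even_iff_two_dvd.2 h)) hχ (conj_smul_eq_iff.2 hr) hθ
    hne) n

end CL.Char
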