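import Cfsg.Agent.Char.RealPPrime
import Cfsg.Agent.Char.GlaubRelQ
import Cfsg.Agent.S4866

/-! The Isaacs--Navarro bijection for real characters of degree prime to `p`. -/

set_option autoImplicit false
set_option linter.unusedSectionVars false
open Cfsg
open scoped ComplexConjugate commutatorElement Pointwise

namespace CL.Char

variable {G : Type*} [Group G]

theorem rpp_index_modEq [Finite G] {p : ℕ} [hp : Fact p.Prime] (P : Sylow p G) {T : Subgroup G}
    (hT : (P : Subgroup G) ≤ T) :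
    (T.relIndex (Subgroup.normalizer ((P : Subgroup G) : Set G)) : ZMod p) = T.index := by
  have h1 : (((Subgroup.normalizer ((P : Subgroup G) : Set G)).index : ℕ) : ZMod p) = 1 := by
    have h := card_sylow_modEq_one p G
    rw [Sylow.card_eq_index_normalizer P] at h
    exact_mod_cast (ZMod.natCast_eq_natCast_iff _ _ _).2 h
  have h2 : (((Subgroup.normalizer ((P : Subgroup G) : Set G)).relIndex T : ℕ) : ZMod p) = 1 := by
    have h := card_sylow_modEq_one p T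
    rw [Sylow.card_eq_index_normalizer (P.subtype hT)] at h
    have h3 : Subgroup.normalizer ((P.subtype hT : Subgroup T) : Set T) =
        (Subgroup.normalizer ((P : Subgroup G) : Set G)).subgroupOf T :=
      (Subgroup.subgroupOf_normalizer_eq hT).symm
    erw [h3] at h
    exact_mod_cast (ZMod.natCast_eq_natCast_iff _ _ _).2 h
  have h3 := Subgroup.relIndex_mul_index
    (inf_le_left : T ⊓ Subgroup.normalizer ((P : Subgroup G) : Set G) ≤ T)
  have h4 := Subgroup.relIndex_mul_index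
    (inf_le_right : T ⊓ Subgroup.normalizer ((P : Subgroup G) : Set G) ≤ _)
  rw [Subgroup.inf_relIndex_left] at h3
  rw [Subgroup.inf_relIndex_right, ← h3] at h4
  have h5 := congrArg (Nat.cast : ℕ → ZMod p) h4
  rwa [Nat.cast_mul, Nat.cast_mul, h1, h2, mul_one, one_mul] at h5

theorem rpp_exists_conj_normalizer [Finite G] {p : ℕ} [hp : Fact p.Prime] (P : Sylow p G)
    {T : Subgroup G} (hT : (P : Subgroup G) ≤ T) {g : G}
    (hg : ∀ x ∈ (P : Subgroup G), g * x * g⁻¹ ∈ T) :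
    ∃ t ∈ T, t * g ∈ Subgroup.normalizer ((P : Subgroup G) : Set G) := by
  obtain ⟨t, ht, h⟩ := (CL.Grp.isSylowIn_of_le (g • P) (H := T)
    ((CL.Grp.conj_smul_le_iff g _ _).2 hg)).exists_conj_eq (CL.Grp.isSylowIn_of_le P hT)
  refine ⟨t, ht, (CL.Grp.conj_smul_eq_self_iff _ _).1 ?_⟩
  rw [← CL.Grp.conj_smul_conj_smul]
  exact h

section Bij

variable [Fintype G] {p : ℕ} [hp : Fact p.Prime] (P : Sylow p G) (K : Subgroup G) [hK : K.Normal]

/-- The normalizer of a Sylow subgroup. -/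
abbrev rppN {p : ℕ} (P : Sylow p G) : Subgroup G := Subgroup.normalizer ((P : Subgroup G) : Set G)

/-- The action of `P` on `K`. -/
abbrev rppPhi : (P : Subgroup G) →* MulAut K := MulAut.conjNormal.comp (P : Subgroup G).subtype

/-- The action of `P` on `N_K(P)`. -/
abbrev rppPsi : (P : Subgroup G) →* MulAut (K.subgroupOf (rppN P)) :=
  MulAut.conjNormal.comp (Subgroup.inclusion Subgroup.le_normalizer)

/-- The inclusion of `N_K(P)` in `K`. -/
abbrev rppJ : K.subgroupOf (rppN P) →* K := (rppN P).subtype.subgroupComap K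

theorem rpp_setup :
    GlqSetup p (rppPhi P K) ((P : Subgroup G).subgroupOf K) (rppPsi P K) (rppJ P K) where
  prime := hp.out
  pgA := P.isPGroup'
  pgQ := P.isPGroup'.comap_subtype
  index := by
    have h := (CL.Grp.isSylowIn_inf_normal P K).not_dvd
    rwa [Subgroup.inf_relIndex_right] at h
  inv := fun a n hn => P.1.mul_mem (P.1.mul_mem a.2 hn) (P.1.inv_mem a.2)
  inj := fun x y h => Subtype.ext (Subtype.ext (congrArg (fun z : K => (z : G)) h))
  compat := fun a c => rfl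
  range := fun k => by
    constructor
    · rintro ⟨c, rfl⟩ a
      have h1 := (Subgroup.mem_normalizer_iff''.1 c.1.2 a).1 a.2
      change _ * (_ * _ * _) ∈ (P : Subgroup G)
      convert P.1.mul_mem h1 (P.1.inv_mem a.2) using 1
      simp [mul_assoc]
      rfl
    · intro h
      refine ⟨⟨⟨k, ?_⟩, k.2⟩, rfl⟩
      refine (Subgroup.inv_mem_iff _).1 (Subgroup.mem_normalizer_fintype fun a ha => ?_)
      have h1 : (k : G)⁻¹ * (a * k * a⁻¹) ∈ (P : Subgroup G) := h ⟨a, ha⟩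
      have h2 := P.1.mul_mem h1 ha
      rwa [show (k : G)⁻¹ * (a * k * a⁻¹) * a = (k : G)⁻¹ * a * (k : G)⁻¹⁻¹ by group] at h2

variable {P K}

theorem rpp_inv_iff {θ : K → ℂ} :
    (∀ a g, θ (rppPhi P K a g) = θ g) ↔ (P : Subgroup G) ≤ inertia K θ :=
  ⟨fun h a ha => mem_inertia.2 fun n => h ⟨a, ha⟩ n, fun h a n => mem_inertia.1 (h a.2) n⟩

theorem rpp_inv_iff' {η : K.subgroupOf (rppN P) → ℂ} :
    (∀ a g, η (rppPsi P K a g) = η g) ↔ (P : Subgroup G).subgroupOf (rppN P) ≤ inertia _ η :=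
  ⟨fun h a ha => mem_inertia.2 fun n => h ⟨a, ha⟩ n,
    fun h a n => mem_inertia.1 (h (x := ⟨a, Subgroup.le_normalizer a.2⟩) a.2) n⟩

theorem rpp_inv_conj {θ : K → ℂ} (h : ∀ a g, θ (rppPhi P K a g) = θ g) (n : (rppN P)) :
    ∀ a g, conjChar K n θ (rppPhi P K a g) = conjChar K n θ g := fun a g => by
  rw [conjChar_apply, conjChar_apply,
    ← h ⟨n * a * n⁻¹, (Subgroup.mem_normalizer_iff.1 n.2 a).1 a.2⟩ ⟨n * g * (n : G)⁻¹, _⟩]
  congr 1
  apply Subtype.ext
  simp [mul_assoc]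

theorem rpp_inv_conj' {η : K.subgroupOf (rppN P) → ℂ} (h : ∀ a g, η (rppPsi P K a g) = η g) (n : (rppN P)) :
    ∀ a g, conjChar _ n η (rppPsi P K a g) = conjChar _ n η g := fun a g => by
  rw [conjChar_apply, conjChar_apply,
    ← h ⟨n * a * n⁻¹, (Subgroup.mem_normalizer_iff.1 n.2 a).1 a.2⟩ ⟨n * g * n⁻¹, _⟩]
  congr 1
  apply Subtype.ext
  apply Subtype.ext
  simp [mul_assoc]

variable [Fintype K] [Fintype (K.subgroupOf (rppN P))]

theorem rpp_rel_conj {θ : K → ℂ} {η : K.subgroupOf (rppN P) → ℂ}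
    (h : GlqRel p (rppPsi P K) (rppJ P K) θ η) (n : (rppN P)) :
    GlqRel p (rppPsi P K) (rppJ P K) (conjChar K n θ) (conjChar _ n η) :=
  h.comp (MulAut.conjNormal (n : G) : MulAut K).toMonoidHom (MulAut.conjNormal n) (fun _ => rfl)
    fun a => ⟨⟨(n : G)⁻¹ * a * n, (Subgroup.mem_normalizer_iff''.1 n.2 a).1 a.2⟩, fun c =>
      Subtype.ext (Subtype.ext (by simp [mul_assoc]))⟩

variable [Fintype (rppN P)]

/-- The relation between the real characters of `G` and of `N_G(P)`. -/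
def RppRel (P : Sylow p G) (K : Subgroup G) [K.Normal] [Fintype K]
    [Fintype (K.subgroupOf (rppN P))] (χ : G → ℂ)
    (ξ : rppN P → ℂ) : Prop :=
  ∃ θ η, IsIrrCharacter K θ ∧ (∀ a g, θ (rppPhi P K a g) = θ g) ∧ IsIrrCharacter _ η ∧
    (∀ a g, η (rppPsi P K a g) = η g) ∧ GlqRel p (rppPsi P K) (rppJ P K) θ η ∧
    classInner (fun k : K => χ k) θ ≠ 0 ∧
    classInner (fun k : K.subgroupOf (rppN P) => ξ k) η ≠ 0

theorem rpp_bijection (hodd : Odd K.index) (hQ : ((P : Subgroup G).subgroupOf K).Normal)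
    (hR : RealPP p G) :
    ∃ f : {χ : IrrCharacter G // ∀ g : G, ((χ : G → ℂ) g).im = 0} →
      {ξ : IrrCharacter (rppN P) // (∀ n, ((ξ : (rppN P) → ℂ) n).im = 0) ∧ ¬ p ∣ charDegree (ξ : (rppN P) → ℂ)},
      Function.Bijective f ∧ ∀ χ,
        ((charDegree ((f χ).1 : (rppN P) → ℂ) : ZMod p) = (charDegree (χ.1 : G → ℂ) : ZMod p) ∨
        (charDegree ((f χ).1 : (rppN P) → ℂ) : ZMod p) = -(charDegree (χ.1 : G → ℂ) : ZMod p)) := by
  classical
  have S := rpp_setup P K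
  have hodd' : Odd (K.subgroupOf (rppN P)).index :=
    hodd.of_dvd_nat (Subgroup.relIndex_dvd_index_of_normal _ _)
  have hconj : ∀ {X : Type _} {α : X → ℂ}, (∀ g, (α g).im = 0) ↔ (fun g => conj (α g)) = α :=
    ⟨fun h => funext fun g => Complex.conj_eq_iff_im.2 (h g),
      fun h g => Complex.conj_eq_iff_im.1 (congrFun h g)⟩
  have hdeg : ∀ χ ξ, IsIrrCharacter G χ → (∀ g, (χ g).im = 0) → IsIrrCharacter (rppN P) ξ →
      (∀ g, (ξ g).im = 0) → RppRel P K χ ξ → (charDegree ξ : ZMod p) = charDegree χ ∨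
        (charDegree ξ : ZMod p) = -charDegree χ := by
    rintro χ ξ hχ hχr hξ hξr ⟨θ, η, hθ, hθi, hη, hηi, r, h1, h2⟩
    obtain ⟨e, he, hd⟩ := rpp_degree hχ hθ h1
    obtain ⟨e', he', hd'⟩ := rpp_degree hξ hη h2
    obtain ⟨χ', -, -, h3, h4⟩ := exists_unique_real_over hodd hθ (real_of_under_real hodd hχ hχr hθ h1)
    obtain ⟨ξ', -, -, h5, h6⟩ :=
      exists_unique_real_over hodd' hη (real_of_under_real hodd' hξ hξr hη h2)
    rw [← h4 χ hχ hχr h1, he, Nat.cast_eq_one] at h3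
    rw [← h6 ξ hξ hξr h2, he', Nat.cast_eq_one] at h5
    have h7 : inertia _ η = (inertia K θ).subgroupOf (rppN P) := by
      ext n
      rw [Subgroup.mem_subgroupOf, mem_inertia_iff, mem_inertia_iff]
      constructor
      · intro h
        exact S.injective (isIrrCharacter_conjChar hθ _) (rpp_inv_conj hθi n) hθ hθi hη hηi
          (h ▸ rpp_rel_conj r n) r
      · intro h
        have r' := rpp_rel_conj r n
        rw [h] at r'
        exact r'.unique hp.out hθ.isCharacter r (isIrrCharacter_conjChar hη _) hη hηi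
    have h8 : ((inertia _ η).index : ZMod p) = (inertia K θ).index := by
      rw [h7]
      exact rpp_index_modEq P (rpp_inv_iff.1 hθi)
    rw [hd, hd', h3, h5]
    push_cast
    rw [h8]
    rcases r.degree hp.out P.isPGroup' hθ.isCharacter (fun a c => hθi a (rppJ P K c)) hη hηi with h | h
    · left; rw [h]
    · right; rw [h]; ring
  have hex : ∀ χ : {χ : IrrCharacter G // ∀ g : G, ((χ : G → ℂ) g).im = 0},
      ∃ ξ : {ξ : IrrCharacter (rppN P) // (∀ n, ((ξ : (rppN P) → ℂ) n).im = 0) ∧ ¬ p ∣ charDegree (ξ : (rppN P) → ℂ)},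
        RppRel P K χ.1 ξ.1 := by
    rintro ⟨⟨χ, hχ⟩, hχr⟩
    obtain ⟨θ₀, hθ₀, h1⟩ := exists_irr_constituent_restrict K hχ
    obtain ⟨e, -, hd⟩ := rpp_degree hχ hθ₀ h1
    obtain ⟨P', hP'⟩ := rpp_exists_sylow_le (p := p) (T := inertia K θ₀) fun h =>
      hR χ hχ hχr (hd ▸ (h.mul_left _).mul_right _)
    obtain ⟨g, rfl⟩ := MulAction.exists_smul_eq G P P'
    have hθ := isIrrCharacter_conjChar hθ₀ g
    have hθi : ∀ a k, conjChar K g θ₀ (rppPhi P K a k) = conjChar K g θ₀ k :=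
      rpp_inv_iff.2 fun a ha => by
        rw [mem_inertia_iff, ← conjChar_mul, conjChar_eq_conjChar_iff]
        exact hP' (CL.Grp.conj_mem_conj_smul g ha)
    rw [← classInner_res_conjChar hχ.isClassFunction g] at h1
    obtain ⟨η, hη, hηi, r⟩ := S.ex hθ hθi
    have r' := r.conj
    rw [hconj.1 (real_of_under_real hodd hχ hχr hθ h1)] at r'
    obtain ⟨ξ, hξ, hξr, h2, -⟩ := exists_unique_real_over hodd' hη
      (hconj.2 (r'.unique hp.out hθ.isCharacter r hη.conj hη hηi))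
    have R : RppRel P K χ ξ := ⟨_, η, hθ, hθi, hη, hηi, r, h1, h2 ▸ one_ne_zero⟩
    refine ⟨⟨⟨ξ, hξ⟩, hξr, fun h => hR χ hχ hχr ?_⟩, R⟩
    rw [← ZMod.natCast_eq_zero_iff] at h ⊢
    rcases hdeg χ ξ hχ hχr hξ hξr R with h3 | h3
    · exact h3 ▸ h
    · exact neg_eq_zero.1 (h3 ▸ h)
  have huniq : ∀ χ ξ ξ', IsIrrCharacter G χ → IsIrrCharacter (rppN P) ξ → (∀ g, (ξ g).im = 0) →
      IsIrrCharacter (rppN P) ξ' → (∀ g, (ξ' g).im = 0) → RppRel P K χ ξ → RppRel P K χ ξ' → ξ = ξ' := by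
    rintro χ ξ ξ' hχ hξ hξr hξ' hξr' ⟨θ, η, hθ, hθi, hη, hηi, r, h1, h2⟩
      ⟨θ', η', hθ', hθi', hη', hηi', r', h1', h2'⟩
    obtain ⟨g, rfl⟩ := exists_conjChar_eq_of_classInner_ne_zero hχ hθ hθ' h1 h1'
    obtain ⟨t, ht, htg⟩ := rpp_exists_conj_normalizer P (rpp_inv_iff.1 hθi) (g := g) fun x hx => by
      rw [← conjChar_eq_conjChar_iff, conjChar_mul]
      exact mem_inertia_iff.1 (rpp_inv_iff.1 hθi' hx)
    have r'' := rpp_rel_conj r ⟨_, htg⟩
    rw [Subtype.coe_mk, conjChar_mul, mem_inertia_iff.1 ht] at r''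
    rw [← classInner_res_conjChar hξ.isClassFunction ⟨_, htg⟩,
      r''.unique hp.out hθ'.isCharacter r' (isIrrCharacter_conjChar hη _) hη' hηi'] at h2
    obtain ⟨ξ₀, -, -, -, h3⟩ :=
      exists_unique_real_over hodd' hη' (real_of_under_real hodd' hξ hξr hη' h2)
    rw [h3 ξ hξ hξr h2, h3 ξ' hξ' hξr' h2']
  choose f hf using hex
  refine ⟨f, ⟨fun χ χ' h => ?_, ?_⟩, fun χ => hdeg _ _ χ.1.2 χ.2 (f χ).1.2 (f χ).2.1 (hf χ)⟩
  · obtain ⟨θ, η, hθ, hθi, hη, hηi, r, h1, h2⟩ := hf χ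
    obtain ⟨θ', η', hθ', hθi', hη', hηi', r', h1', h2'⟩ := hf χ'
    rw [← h] at h2'
    obtain ⟨n, rfl⟩ := exists_conjChar_eq_of_classInner_ne_zero (f χ).1.2 hη hη' h2 h2'
    rw [← classInner_res_conjChar χ.1.2.isClassFunction (n : G),
      S.injective (isIrrCharacter_conjChar hθ _) (rpp_inv_conj hθi n) hθ' hθi' hη' hηi'
        (rpp_rel_conj r n) r'] at h1
    obtain ⟨χ₀, -, -, -, h3⟩ :=
      exists_unique_real_over hodd hθ' (real_of_under_real hodd χ.1.2 χ.2 hθ' h1)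
    exact Subtype.ext (Subtype.ext ((h3 _ χ.1.2 χ.2 h1).trans (h3 _ χ'.1.2 χ'.2 h1').symm))
  · rintro ⟨⟨ξ, hξ⟩, hξr, hξd⟩
    obtain ⟨η, hη, h1⟩ := exists_irr_constituent_restrict (K.subgroupOf (rppN P)) hξ
    obtain ⟨e, -, hd⟩ := rpp_degree hξ hη h1
    obtain ⟨P', hP'⟩ := rpp_exists_sylow_le (p := p) (T := inertia _ η) fun h =>
      hξd (hd ▸ (h.mul_left _).mul_right _)
    have := Sylow.unique_of_normal (P.subtype Subgroup.le_normalizer) Subgroup.normal_in_normalizer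
    rw [Subsingleton.elim P' (P.subtype Subgroup.le_normalizer)] at hP'
    have hηi := rpp_inv_iff'.2 hP'
    obtain ⟨θ, hθ, hθi, r⟩ := S.surj hη hηi
    have r' := r.conj
    rw [hconj.1 (real_of_under_real hodd' hξ hξr hη h1)] at r'
    obtain ⟨χ, hχ, hχr, h2, -⟩ := exists_unique_real_over hodd hθ
      (hconj.2 (S.injective hθ.conj (fun a g => by rw [hθi]) hθ hθi hη hηi r' r))
    exact ⟨⟨⟨χ, hχ⟩, hχr⟩, Subtype.ext (Subtype.ext (huniq χ _ ξ hχ (f _).1.2 (f _).2.1 hξ hξr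
      (hf ⟨⟨χ, hχ⟩, hχr⟩) ⟨θ, η, hθ, hθi, hη, hηi, r, h2 ▸ one_ne_zero, h1⟩))⟩

end Bij

theorem rpp_exists_conj_of_disjoint [Finite G] {p : ℕ} [hp : Fact p.Prime] (P : Sylow p G)
    {K : Subgroup G} [hK : K.Normal] (hodd : Odd K.index) (hQ : (P : Subgroup G) ⊓ K = ⊥)
    (hR : RealPP p G) {x : G} (hx : IsConj x x⁻¹) : ∃ y ∈ rppN P, IsConj x y := by
  classical
  have := Fintype.ofFinite G
  obtain ⟨f, hf, -⟩ := rpp_bijection (P := P) hodd (by
    rw [← Subgroup.inf_subgroupOf_right, hQ, Subgroup.bot_subgroupOf]; infer_instance) hR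
  have hcent : ∀ a ∈ rppN P, a ∈ K → ∀ x ∈ (P : Subgroup G), x * a = a * x := fun a ha haK x hx => by
    have h1 : x⁻¹ * (a * x * a⁻¹) ∈ (P : Subgroup G) ⊓ K :=
      ⟨P.1.mul_mem (P.1.inv_mem hx) ((Subgroup.mem_normalizer_iff.1 ha x).1 hx), by
        have h2 := K.mul_mem (hK.conj_mem' a haK x) (K.inv_mem haK)
        rwa [show x⁻¹ * a * x * a⁻¹ = x⁻¹ * (a * x * a⁻¹) by group] at h2⟩
    rw [hQ, Subgroup.mem_bot, inv_mul_eq_one, eq_mul_inv_iff_mul_eq] at h1
    exact h1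
  have hodd' : Odd (K.subgroupOf (rppN P)).index :=
    hodd.of_dvd_nat (Subgroup.relIndex_dvd_index_of_normal _ _)
  have h1 : ∀ ξ : IrrCharacter (rppN P), (∀ n, ((ξ : rppN P → ℂ) n).im = 0) →
      ¬ p ∣ charDegree (ξ : rppN P → ℂ) := by
    rintro ⟨ξ, hξ⟩ hξr
    obtain ⟨η, hη, h1⟩ := exists_irr_constituent_restrict (K.subgroupOf (rppN P)) hξ
    obtain ⟨e, he, hd⟩ := rpp_degree hξ hη h1
    obtain ⟨ξ', -, -, h5, h6⟩ :=
      exists_unique_real_over hodd' hη (real_of_under_real hodd' hξ hξr hη h1)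
    rw [← h6 ξ hξ hξr h1, he, Nat.cast_eq_one] at h5
    change ¬ p ∣ charDegree ξ
    rw [hd, h5, one_mul, hp.out.dvd_mul, not_or]
    constructor
    · refine fun h => (P.subtype Subgroup.le_normalizer).not_dvd_index
        (h.trans (Subgroup.index_dvd_of_le (le_trans ?_ (centralizer_le_inertia η))))
      exact fun a ha c hc => Subtype.ext (hcent c c.2 hc a ha).symm
    · refine fun h => (CL.Grp.isSylowIn_inf_normal P K).not_dvd ?_
      rw [hQ, Subgroup.relIndex_bot_left]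
      exact h.trans (hη.charDegree_dvd_card.trans (Subgroup.card_dvd_of_injective (rppJ P K)
        (rpp_setup P K).inj))
  have h2 := (Nat.card_congr (Equiv.ofBijective f hf)).trans
    (Nat.card_congr (Equiv.subtypeEquivRight fun ξ => and_iff_left_of_imp (h1 ξ)))
  rw [Cfsg.Agent.S0160.result, Cfsg.Agent.S0160.result] at h2
  let F : {C : ConjClasses (rppN P) // ∀ g, ConjClasses.mk g = C → IsConj g g⁻¹} →
      {C : ConjClasses G // ∀ g, ConjClasses.mk g = C → IsConj g g⁻¹} := fun C =>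
    ⟨ConjClasses.map (rppN P).subtype C.1, by
      obtain ⟨C, hC⟩ := C
      obtain ⟨x, rfl⟩ := ConjClasses.mk_surjective C
      exact rpp_real_of_mk_eq ((rppN P).subtype.map_isConj (hC x rfl))⟩
  have h3 : Function.Injective F := by
    rintro ⟨C, hC⟩ ⟨D, hD⟩ h
    obtain ⟨a, rfl⟩ := ConjClasses.mk_surjective C
    obtain ⟨b, rfl⟩ := ConjClasses.mk_surjective D
    obtain ⟨g, hg⟩ := isConj_iff.1 (ConjClasses.mk_eq_mk_iff_isConj.1 (congrArg Subtype.val h))
    change g * a * g⁻¹ = b at hg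
    obtain ⟨ha, -⟩ := Cfsg.Agent.S4866.real_in K hodd ((rppN P).subtype.map_isConj (hC a rfl))
    obtain ⟨hb, -⟩ := Cfsg.Agent.S4866.real_in K hodd ((rppN P).subtype.map_isConj (hD b rfl))
    obtain ⟨t, ht, htg⟩ := rpp_exists_conj_normalizer P (T := Subgroup.centralizer {(b : G)})
      (fun x hx => Subgroup.mem_centralizer_singleton_iff.2 (hcent b b.2 hb x hx)) (g := g)
      fun x hx => Subgroup.mem_centralizer_singleton_iff.2 (by
        rw [← hg]
        calc _ = g * (x * a) * g⁻¹ := by group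
          _ = _ := by rw [hcent a a.2 ha x hx]; group)
    refine Subtype.ext (ConjClasses.mk_eq_mk_iff_isConj.2 (isConj_iff.2 ⟨⟨_, htg⟩, Subtype.ext ?_⟩))
    calc _ = t * (g * a * g⁻¹) * t⁻¹ := by simp [mul_assoc]
      _ = _ := by rw [hg, Subgroup.mem_centralizer_singleton_iff.1 ht]; group
  obtain ⟨⟨C, hC⟩, h4⟩ := (h3.bijective_of_nat_card_le h2.le).2
    ⟨ConjClasses.mk x, rpp_real_of_mk_eq hx⟩
  obtain ⟨y, rfl⟩ := ConjClasses.mk_surjective C
  exact ⟨y, y.2, (ConjClasses.mk_eq_mk_iff_isConj.1 (congrArg Subtype.val h4)).symm⟩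

theorem rpp_exists_conj [Finite G] {p : ℕ} [hp : Fact p.Prime] (P : Sylow p G)
    {K : Subgroup G} [hK : K.Normal] (hodd : Odd K.index) [hQ : ((P : Subgroup G) ⊓ K).Normal]
    (hR : RealPP p G) {x : G} (hx : IsConj x x⁻¹) : ∃ y ∈ rppN P, IsConj x y := by
  have hs := QuotientGroup.mk'_surjective ((P : Subgroup G) ⊓ K)
  have := hK.map _ hs
  obtain ⟨y, hy, h⟩ := rpp_exists_conj_of_disjoint (P.mapSurjective hs)
    (hodd.of_dvd_nat (K.index_map_dvd hs)) (by
      rw [eq_bot_iff]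
      rintro _ ⟨⟨a, ha, rfl⟩, b, hb, h⟩
      rw [Subgroup.mem_bot, ← h]
      have h1 : b⁻¹ * a ∈ (P : Subgroup G) ⊓ K := QuotientGroup.eq.1 h
      exact (QuotientGroup.eq_one_iff b).2
        ⟨by
          have h2 := P.1.mul_mem ha (P.1.inv_mem h1.1)
          rwa [mul_inv_rev, mul_inv_cancel_left, inv_inv] at h2, hb⟩) (hR.quotient _)
    ((QuotientGroup.mk' _).map_isConj hx)
  obtain ⟨c, rfl⟩ := isConj_iff.1 h
  obtain ⟨g, rfl⟩ := hs c
  refine ⟨g * x * g⁻¹, ?_, isConj_iff.2 ⟨g, rfl⟩⟩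
  have h1 := Subgroup.comap_normalizer_eq_of_surjective
    (P.mapSurjective hs : Subgroup (G ⧸ ((P : Subgroup G) ⊓ K))) hs
  rw [Sylow.coe_mapSurjective, Subgroup.comap_map_eq, QuotientGroup.ker_mk',
    sup_eq_left.2 inf_le_left] at h1
  rw [rppN, ← h1]
  exact hy

end CL.Char
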