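import Cfsg.Agent.Char.McK2
import Cfsg.Agent.Char.RealPPrime2
import Cfsg.Agent.Loc.PConstr

/-! The relative McKay equality for `p`-solvable groups: the pieces. -/

set_option autoImplicit false
set_option linter.unusedSectionVars false
open Cfsg
open scoped ComplexConjugate commutatorElement

namespace CL.Char

section Ext

variable {K E S : Type*} [Group K] [Group E] [Group S] [Finite E] {p : ℕ} {k : K →* E}
  {c : E →* MulAut K} {σ : S →* E}

theorem mck_exists_retraction (h : NEmb k c) (hs : k.range ⊔ σ.range = ⊤)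
    (hd : ∀ s, σ s ∈ k.range → s = 1) :
    ∃ r : E →* S, (∀ s, r (σ s) = s) ∧ r.ker = k.range := by
  have := h.normal
  have hb : Function.Bijective ((QuotientGroup.mk' k.range).comp σ) :=
    ⟨(injective_iff_map_eq_one _).2 fun s hs => hd s ((QuotientGroup.eq_one_iff _).1 hs), fun q => by
      obtain ⟨x, rfl⟩ := QuotientGroup.mk_surjective q
      obtain ⟨y, hy, _, ⟨b, rfl⟩, rfl⟩ := Subgroup.mem_sup_of_normal_left.1
        (hs ▸ Subgroup.mem_top x)
      exact ⟨b, by simp [(QuotientGroup.eq_one_iff y).2 hy]⟩⟩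
  refine ⟨(MulEquiv.ofBijective _ hb).symm.toMonoidHom.comp (QuotientGroup.mk' _),
    fun s => (MulEquiv.ofBijective _ hb).symm_apply_apply s, ?_⟩
  ext x
  simp [MonoidHom.mem_ker]

theorem mck_index_pow (hp : p.Prime) (hS : IsPGroup p S) (h : NEmb k c)
    (hs : k.range ⊔ σ.range = ⊤) : ∃ n, k.range.index = p ^ n := by
  have := Fact.mk hp
  have := h.normal
  obtain ⟨n, hn⟩ := (hS.of_surjective _ σ.rangeRestrict_surjective).exists_card_eq
  obtain ⟨m, -, hm⟩ := (Nat.dvd_prime_pow hp).1 (hn ▸ Subgroup.relIndex_dvd_card k.range σ.range)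
  exact ⟨m, by rw [← hm, ← Subgroup.relIndex_sup_left, hs, Subgroup.relIndex_top_right]⟩

theorem mck_res_irr (hp : p.Prime) (hS : IsPGroup p S) (h : NEmb k c)
    (hs : k.range ⊔ σ.range = ⊤) {ψ : E → ℂ} (hψ : IsIrrCharacter E ψ) (hd : ¬ p ∣ charDegree ψ) :
    IsIrrCharacter K fun a => ψ (k a) := by
  have := h.normal
  have := Fintype.ofFinite k.range
  obtain ⟨n, hn⟩ := mck_index_pow hp hS h hs
  exact (isIrrCharacter_restrict_of_coprime hψ hψ.cast_charDegree.symm
    (hn ▸ ((Nat.Prime.coprime_iff_not_dvd hp).2 hd).symm.pow_right n)).comp_mulEquiv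
      (MonoidHom.ofInjective h.inj)

theorem mck_pow_inj (hp : p.Prime) (hS : IsPGroup p S) {n : ℕ} (hn : ¬ p ∣ n) (α β : S →* ℂˣ)
    (s : S) (h : α s ^ n = β s ^ n) : α s = β s := by
  obtain ⟨m, hm⟩ := hS s
  refine eq_of_pow_eq_pow_of_coprime (((Nat.Prime.coprime_iff_not_dvd hp).2 hn).pow_left m) ?_ h
  rw [mul_pow, inv_pow, ← map_pow, ← map_pow, hm, map_one, map_one, inv_one, mul_one]

theorem mck_ext_unique (hp : p.Prime) (hS : IsPGroup p S) (h : NEmb k c)
    (hs : k.range ⊔ σ.range = ⊤) {ψ ψ' : E → ℂ} (hψ : IsIrrCharacter E ψ)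
    (hψ' : IsIrrCharacter E ψ') (hd : ¬ p ∣ charDegree ψ) (he : ∀ a, ψ (k a) = ψ' (k a)) {n : ℕ}
    (hn : ¬ p ∣ n) (hdet : ∀ s, detChar ψ (σ s) ^ n = detChar ψ' (σ s) ^ n) : ψ = ψ' := by
  have := h.normal
  have := Fintype.ofFinite k.range
  obtain ⟨m, hm⟩ := mck_index_pow hp hS h hs
  have hc := hm ▸ ((Nat.Prime.coprime_iff_not_dvd hp).2 hd).symm.pow_right m
  have h1 := isIrrCharacter_restrict_of_coprime hψ hψ.cast_charDegree.symm hc
  have h2 : (fun n : k.range => ψ' n) = fun n : k.range => ψ n := funext fun ⟨_, a, rfl⟩ =>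
    (he a).symm
  obtain ⟨μ, hμ⟩ := exists_monoidHom_detChar ψ
  obtain ⟨μ', hμ'⟩ := exists_monoidHom_detChar ψ'
  have h3 : μ' = μ := by
    refine MonoidHom.eq_of_eqOn_dense (s := k.range ∪ σ.range) (by
      rw [Subgroup.closure_union, Subgroup.closure_eq, Subgroup.closure_eq, hs]) ?_
    rintro x (hx | ⟨s, rfl⟩)
    · refine Units.ext ?_
      rw [← congrFun hμ x, ← congrFun hμ' x, ← detChar_restrict_of_irr hψ.isCharacter _ h1 ⟨x, hx⟩,
        ← detChar_restrict_of_irr hψ'.isCharacter _ (h2 ▸ h1) ⟨x, hx⟩, h2]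
    · refine mck_pow_inj hp hS hn (μ'.comp σ) (μ.comp σ) s (Units.ext ?_)
      simpa [hμ, hμ'] using (hdet s).symm
  exact (existsUnique_extension_det h1 hψ.cast_charDegree.symm hc.symm hψ (fun _ => rfl) μ fun n => by
    rw [detChar_restrict_of_irr hψ.isCharacter _ h1, hμ]).unique ⟨hψ, fun _ => rfl, hμ⟩
    ⟨hψ', congrFun h2, h3 ▸ hμ'⟩

theorem mck_ext_exists (hp : p.Prime) (hS : IsPGroup p S) (hK : ¬ p ∣ Nat.card K) (h : NEmb k c)
    (hσ : Function.Injective σ) (hs : k.range ⊔ σ.range = ⊤) {θ : K → ℂ} (hθ : IsIrrCharacter K θ)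
    (hinv : cstab c θ = ⊤) {n : ℕ} (hn : ¬ p ∣ n) (τ : S →* ℂˣ) :
    ∃ ψ, IsIrrCharacter E ψ ∧ (∀ a, ψ (k a) = θ a) ∧ ∀ s, detChar ψ (σ s) ^ n = τ s := by
  have := h.normal
  have := h.finite
  have := Fact.mk hp
  have : Finite S := Finite.of_injective σ hσ
  obtain ⟨m, hm⟩ := mck_index_pow hp hS h hs
  obtain ⟨r, hr, hk⟩ := mck_exists_retraction h hs fun s hs => by
    obtain ⟨l, hl⟩ := IsPGroup.iff_orderOf.1 hS s
    have h1 := Subgroup.orderOf_dvd_natCard _ hs
    rw [orderOf_injective σ hσ, h.card_range] at h1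
    exact orderOf_eq_one_iff.1 (Nat.eq_one_of_dvd_coprimes
      (((Nat.Prime.coprime_iff_not_dvd hp).2 hK).pow_left l) (hl ▸ dvd_rfl) h1)
  have hd := hθ.charDegree_dvd_card
  obtain ⟨ψ, hψ, he⟩ := exists_extension_of_hall (h.tr_irr hθ)
    (inertia_eq_top_iff.1 ((h.tr_inertia θ).trans hinv)) (d := charDegree θ)
    (by rw [hθ.cast_charDegree]; simp [NEmb.tr]) (h.card_range ▸ hd)
    (by rw [hm, h.card_range]; exact ((Nat.Prime.coprime_iff_not_dvd hp).2 hK).symm.pow_right m)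
  have he' : ∀ a, ψ (k a) = θ a := fun a => (he ⟨_, a, rfl⟩).trans (h.tr_apply θ a)
  obtain ⟨μ, hμ⟩ := exists_monoidHom_detChar ψ
  obtain ⟨l, hl⟩ := hS.exists_card_eq
  obtain ⟨e, he⟩ := exists_pow_pow_eq_of_coprime (a := τ * ((μ.comp σ) ^ n)⁻¹) (m := p ^ l)
    (n := charDegree θ * n) (((Nat.Prime.coprime_iff_not_dvd hp).2 fun h1 =>
      (hp.dvd_mul.1 h1).elim (fun h2 => hK (h2.trans hd)) hn).pow_left l)
    (MonoidHom.ext fun s => by
      rw [MonoidHom.pow_apply, ← map_pow, ← hl, pow_card_eq_one', map_one, MonoidHom.one_apply])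
  refine ⟨_, hψ.monoidHom_mul (((τ * ((μ.comp σ) ^ n)⁻¹) ^ e).comp r), fun a => ?_, fun s => ?_⟩
  · rw [MonoidHom.comp_apply, MonoidHom.mem_ker.1 (hk.ge ⟨a, rfl⟩), map_one, he']
    simp
  · rw [detChar_linear_mul hψ (d := charDegree θ) (by rw [hθ.cast_charDegree, ← he', map_one]), hμ]
    have h1 := DFunLike.congr_fun he s
    simp only [MonoidHom.comp_apply, hr, ← Units.val_pow_eq_pow_val, ← Units.val_mul, Units.val_inj]
    rw [mul_pow, ← pow_mul, ← MonoidHom.pow_apply, h1]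
    simp

end Ext

section Central

variable {X Z : Type*} [Group X] [Group Z] [Finite X]

theorem nemb_central {i : Z →* X} (hi : Function.Injective i) (hc : i.range ≤ Subgroup.center X) :
    NEmb i 1 :=
  ⟨hi, fun g a => by
    rw [Subgroup.mem_center_iff.1 (hc ⟨a, rfl⟩) g, mul_inv_cancel_right]; rfl⟩

theorem ovr_central_iff {i : Z →* X} (hi : Function.Injective i) (hc : i.range ≤ Subgroup.center X)
    {ν : Z → ℂ} (hν : IsIrrCharacter Z ν) {χ : X → ℂ} (hχ : IsIrrCharacter X χ) :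
    Ovr i ν χ ↔ ∀ z, χ (i z) / χ 1 = ν z / ν 1 := by
  have h := nemb_central hi hc
  have := h.finite
  have := Fintype.ofFinite Z
  have h1 := hχ.one_ne_zero
  have h2 := hν.one_ne_zero
  refine ⟨fun h3 z => ?_, fun h3 => ?_⟩
  · rw [h.res_eq hχ hν (eq_top_iff.2 fun _ _ _ => rfl) h3]
    field_simp
  · rw [ovr_iff, show (fun z => χ (i z)) = (χ 1 / ν 1) • ν from funext fun z => by
      rw [Pi.smul_apply, smul_eq_mul, ← div_mul_cancel₀ (χ (i z)) h1, h3]; field_simp,
      classInner_smul_left, hν.classInner_self]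
    simp [h1, h2]

theorem mck_det_central {χ : X → ℂ} (hχ : IsIrrCharacter X χ) {z : X} (hz : z ∈ Subgroup.center X) :
    detChar χ z = (χ z / χ 1) ^ charDegree χ := by
  have h1 := hχ.center_le_charCenter hz
  have h2 := hχ.one_ne_zero
  obtain ⟨n, ρ, hρ, rfl⟩ := hχ
  obtain ⟨ω, hω⟩ := (mem_charCenter_character ρ).1 h1
  rw [detChar_character_of_isIrreducible, charDegree_character]
  simp only [Representation.char_one, ne_eq] at h2
  simp only [Representation.character, hω, LinearMap.det_smul, LinearMap.det_id, mul_one, map_smul,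
    LinearMap.trace_id, smul_eq_mul, map_one, LinearMap.trace_one, mul_div_cancel_right₀ _ h2]

theorem mck_central_mul {χ : X → ℂ} (hχ : IsIrrCharacter X χ) {z : X} (hz : z ∈ Subgroup.center X)
    (x : X) : χ (z * x) / χ 1 = χ z / χ 1 * (χ x / χ 1) := by
  rw [apply_mul_of_mem_charCenter hχ.one_ne_zero (hχ.center_le_charCenter hz), mul_div_assoc]

theorem Ovr.central_eq {K : Type*} [Group K] [Finite K] {k : K →* X} {χ : X → ℂ} {θ : K → ℂ}
    (h : Ovr k θ χ) (hχ : IsIrrCharacter X χ) (hθ : IsIrrCharacter K θ) {z : K}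
    (hz : z ∈ Subgroup.center K) (hz' : k z ∈ Subgroup.center X) : χ (k z) / χ 1 = θ z / θ 1 := by
  have := Fintype.ofFinite K
  have h1 := classInner_comp_equiv (Equiv.mulLeft z) (fun a => χ (k a)) θ
  have h2 := norm_apply_of_mem_charCenter (hθ.center_le_charCenter hz)
  have h3 := hθ.one_ne_zero
  simp only [Equiv.coe_mulLeft, map_mul,
    apply_mul_of_mem_charCenter hχ.one_ne_zero (hχ.center_le_charCenter hz'),
    apply_mul_of_mem_charCenter h3 (hθ.center_le_charCenter hz)] at h1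
  have h4 := (classInner_smul_left (χ (k z) / χ 1) (fun a => χ (k a)) ((θ z / θ 1) • θ)).symm.trans h1
  rw [classInner_smul_right, ← mul_assoc, mul_eq_right₀ (ovr_iff.1 h)] at h4
  have h5 : θ z / θ 1 * conj (θ z / θ 1) = 1 := by
    rw [Complex.mul_conj, Complex.normSq_eq_norm_sq, norm_div, h2, div_self (norm_ne_zero_iff.2 h3)]
    simp
  exact mul_right_cancel₀ (right_ne_zero_of_mul_eq_one h5) (h4.trans h5.symm)

end Central

section Cover

variable {Γ X Y L Z : Type*} [Group Γ] [Group X] [Group Y] [Group L] [Group Z] [Finite Γ]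

theorem mckCnt_cover (Q : ℕ → Prop) (π : Γ →* X) (hπ : Function.Surjective π) (ι : L →* Γ)
    (hι : Function.Injective ι) (q : Γ →* Y) (hq : Function.Surjective q) (hk : q.ker = ι.range)
    {ε : Γ → ℂ} (hε : IsCharacter Γ ε) {ν : L → ℂ} (hν : IsIrrCharacter L ν)
    (he : ∀ a, ε (ι a) = ν a) (z : Z →* Γ) (hz : z.range = π.ker) (hc : z.range ≤ Subgroup.center Γ)
    (hzi : Function.Injective (q.comp z)) (lam : Z →* ℂˣ) (hl : ∀ a x, ε (z a * x) = lam a * ε x)
    (hQ : ∀ d, Q (d * charDegree ν) ↔ Q d) {i : L →* X} (hi : ∀ a, π (ι a) = i a) :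
    mckCnt Q i ν = mckCnt Q (q.comp z) fun a => (lam⁻¹ a : ℂ) := by
  have : Finite X := Finite.of_surjective π hπ
  have : Finite Y := Finite.of_surjective q hq
  have : Finite L := Finite.of_injective ι hι
  have := Fintype.ofFinite L
  have := Fintype.ofFinite Γ
  have hn : ι.range.Normal := hk ▸ q.normal_ker
  have h1 : IsIrrCharacter L fun a => ε (ι a) := funext he ▸ hν
  have h2 := isIrrCharacter_range_of_comp ι hι h1
  have h3 : (q.comp z).range ≤ Subgroup.center Y := by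
    rintro _ ⟨a, rfl⟩
    refine Subgroup.mem_center_iff.2 fun y => ?_
    obtain ⟨x, rfl⟩ := hq y
    rw [MonoidHom.comp_apply, ← map_mul, ← map_mul, Subgroup.mem_center_iff.1 (hc ⟨a, rfl⟩)]
  have h4 := fun β (hβ : IsIrrCharacter Y β) => ovr_central_iff hzi h3 (isIrrCharacter_linear lam⁻¹) hβ
  have hε1 : ε 1 = ν 1 := by rw [← he, map_one]
  have hdeg : ∀ (χ : X → ℂ) (β : Y → ℂ), IsIrrCharacter Y β →
      (fun x => χ (π x)) = (fun x => β (q x)) * ε → charDegree χ = charDegree β * charDegree ν :=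
    fun χ β hβ h => charDegree_eq_of_eq (by
      rw [Nat.cast_mul, hβ.cast_charDegree, hν.cast_charDegree, ← hε1]
      simpa using congrFun h 1)
  have h5 : ∀ β : {β : IrrCharacter Y // Q (charDegree (β : Y → ℂ)) ∧
      Ovr (q.comp z) (fun a => (lam⁻¹ a : ℂ)) β}, ∃ χ : {χ : IrrCharacter X //
        Q (charDegree (χ : X → ℂ)) ∧ Ovr i ν χ},
          (fun x => (χ.1 : X → ℂ) (π x)) = (fun x => (β.1 : Y → ℂ) (q x)) * ε := by
    rintro ⟨⟨β, hβ⟩, hβQ, hβo⟩
    have h5 := gallagher_irr hε h2 (hβ.comp_of_surjective q hq) (hk ▸ ker_le_charKer_comp β q)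
    obtain ⟨χ, hχ, h6⟩ := h5.exists_comp_eq π hπ (by
      rw [← hz]
      rintro _ ⟨a, rfl⟩ x
      have h6 := (h4 β hβ).1 hβo a
      simp only [Pi.mul_apply, map_mul, hl]
      erw [apply_mul_of_mem_charCenter hβ.one_ne_zero (hβ.center_le_charCenter (h3 ⟨a, rfl⟩)), h6]
      simp
      field_simp)
    refine ⟨⟨⟨χ, hχ⟩, by rw [hdeg χ β hβ h6.symm, hQ]; exact hβQ, ?_⟩, h6.symm⟩
    rw [ovr_iff, show (fun a => χ (i a)) = β 1 • ν from funext fun a => by
      rw [← hi, ← congrFun h6 (ι a), Pi.mul_apply, MonoidHom.mem_ker.1 (hk.ge ⟨a, rfl⟩), he]; rfl,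
      classInner_smul_left, hν.classInner_self, mul_one]
    exact hβ.one_ne_zero
  choose f hf using h5
  refine (Nat.card_congr (Equiv.ofBijective f ⟨fun β β' h => ?_, fun χ => ?_⟩)).symm
  · have h5 := gallagher_inj hε h2 (hk ▸ ker_le_charKer_comp _ q) (hk ▸ ker_le_charKer_comp _ q)
      ((hf β).symm.trans (h ▸ hf β'))
    exact Subtype.ext (Subtype.ext (funext fun y => by
      obtain ⟨x, rfl⟩ := hq y
      exact congrFun h5 x))
  · obtain ⟨β, hβ, h5, h6⟩ := gallagher_surj_hom ι hι hn hε h1 (χ.1.2.comp_of_surjective π hπ)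
      (by simpa only [hi, he] using ovr_iff.1 χ.2.2)
    obtain ⟨β, hβ', rfl⟩ := hβ.exists_comp_eq q hq (hk ▸ h5)
    refine ⟨⟨⟨β, hβ'⟩, by rw [← hQ, ← hdeg _ β hβ' h6]; exact χ.2.1, (h4 β hβ').2 fun a => ?_⟩,
      Subtype.ext (Subtype.ext (funext fun y => ?_))⟩
    · have h7 := congrFun h6 (z a)
      have h8 := congrFun h6 1
      have h9 := hl a 1
      have h10 := hβ'.one_ne_zero
      have h11 := hν.one_ne_zero
      simp only [Pi.mul_apply, MonoidHom.mem_ker.1 (hz.le ⟨a, rfl⟩), map_one, mul_one] at h7 h8 h9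
      rw [h8, h9, hε1, ← mul_assoc, mul_left_inj' h11] at h7
      have h12 := left_ne_zero_of_mul (h7 ▸ h10)
      simp only [MonoidHom.comp_apply, h7]
      simp
      field_simp
    · obtain ⟨x, rfl⟩ := hπ y
      exact (congrFun (hf _) x).trans (congrFun h6 x).symm

end Cover

end CL.Char
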