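import Cfsg.Agent.Char.Clifford
import Cfsg.Agent.Char.SchurAvg
import Cfsg.Agent.Char.Linear

/-! Counting the irreducible characters over an invariant character by commutator sums;
good classes for central subgroups. -/

set_option autoImplicit false
open Cfsg
open scoped ComplexConjugate

namespace CL.Char

variable {G : Type*} [Group G]

theorem good_sum_sum_comm [Fintype G] {χ : G → ℂ} (hχ : IsIrrCharacter G χ) :
    ∑ g : G, ∑ x : G, χ (x * g * x⁻¹ * g⁻¹) = (Nat.card G : ℂ) ^ 2 / χ 1 := by
  simp only [schurAvg_sum_char_conj_mul hχ]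
  simp only [← hχ.conj_apply, mul_assoc, Complex.mul_conj, Complex.normSq_eq_norm_sq]
  rw [← Finset.sum_div, ← Finset.mul_sum, sq]
  congr 2
  exact_mod_cast hχ.sum_norm_sq

/-- The number of irreducible characters over an invariant irreducible character `θ` of `N`. -/
theorem good_card_irr_over [Fintype G] (N : Subgroup G) [hN : N.Normal] [Fintype N] {θ : N → ℂ}
    (hθ : IsIrrCharacter N θ)
    (hinv : ∀ (g : G) (n : N), θ ⟨g * n * g⁻¹, hN.conj_mem n n.2 g⟩ = θ n) :
    θ 1 * ∑ g : G, ∑ x : G, extendByZero N θ (x * g * x⁻¹ * g⁻¹) =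
      (Nat.card N : ℂ) * Nat.card G *
        Nat.card {χ : IrrCharacter G // classInner (fun n : N => (χ : G → ℂ) n) θ ≠ 0} := by
  classical
  have hG : (Nat.card G : ℂ) ≠ 0 := natCard_ne_zero
  have hN0 : (Nat.card N : ℂ) ≠ 0 := natCard_ne_zero
  have hF : IsClassFunction G (extendByZero N θ) := by
    intro g h
    by_cases hg : g ∈ N
    · rw [extendByZero_of_mem _ (hN.conj_mem g hg h), extendByZero_of_mem _ hg]
      exact hinv h ⟨g, hg⟩
    · rw [extendByZero_of_not_mem _ hg, extendByZero_of_not_mem]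
      intro h'
      exact hg (by simpa [mul_assoc] using hN.conj_mem _ h' h⁻¹)
  have h1 : ∀ χ : IrrCharacter G, θ 1 * classInner (extendByZero N θ) χ =
      if classInner (fun n : N => (χ : G → ℂ) n) θ ≠ 0 then
        (Nat.card N : ℂ) / Nat.card G * (χ : G → ℂ) 1 else 0 := by
    intro χ
    have h2 : classInner (extendByZero N θ) χ =
        (Nat.card N : ℂ) / Nat.card G * classInner (fun n : N => (χ : G → ℂ) n) θ := by
      rw [(χ.2.isCharacter.restrict N).classInner_comm hθ.isCharacter, classInner_def,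
        classInner_def, sum_extendByZero_mul]
      field_simp
    rw [h2]
    split_ifs with h3
    · have h4 := congrFun (clifford_of_invariant χ.2 hθ hinv h3) 1
      simp only [OneMemClass.coe_one, Pi.smul_apply, smul_eq_mul] at h4
      rw [h4]; ring
    · rw [not_not.1 h3, mul_zero, mul_zero]
  simp only [hF.apply_eq_sum_irr]
  simp only [Finset.sum_comm (s := (Finset.univ : Finset G))
    (t := (Finset.univ : Finset (IrrCharacter G))), ← Finset.mul_sum]
  rw [Finset.mul_sum, Nat.card_eq_fintype_card (α := {χ : IrrCharacter G // _}),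
    Fintype.card_subtype, Finset.card_filter, Nat.cast_sum, Finset.mul_sum]
  refine Finset.sum_congr rfl fun χ _ => ?_
  rw [← mul_assoc, h1, good_sum_sum_comm χ.2]
  have := χ.2.one_ne_zero
  split_ifs
  · push_cast; field_simp
  · simp

/-- Summing centralizer orders over a union of classes counts the classes. -/
theorem good_sum_card_centralizer [Fintype G] (T : ConjClasses G → Prop)
    [DecidablePred fun g : G => T (ConjClasses.mk g)] :
    ∑ g : G with T (ConjClasses.mk g), Nat.card (Subgroup.centralizer ({g} : Set G)) =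
      Nat.card G * Nat.card {C : ConjClasses G // T C} := by
  classical
  have := Fintype.ofFinite (ConjClasses G)
  rw [← Finset.sum_fiberwise_of_maps_to (g := ConjClasses.mk) (t := Finset.univ.filter T)
    (fun g hg => by simpa using hg), Nat.card_eq_fintype_card (α := {C // T C}),
    Fintype.card_subtype, mul_comm, ← smul_eq_mul, ← Finset.sum_const]
  refine Finset.sum_congr rfl fun C hC => ?_
  obtain ⟨g, rfl⟩ := ConjClasses.mk_surjective C
  rw [Finset.sum_congr (s₂ := Finset.univ.filter fun x => IsConj g x)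
    (g := fun _ => Nat.card (Subgroup.centralizer ({g} : Set G)))]
  · rw [Finset.sum_const, smul_eq_mul, ← card_isConj_mul_card_centralizer g,
      Nat.card_eq_fintype_card (α := {x // IsConj g x}), Fintype.card_subtype]
  · ext x
    simp only [Finset.mem_filter, Finset.mem_univ, true_and] at hC ⊢
    rw [← ConjClasses.mk_eq_mk_iff_isConj]
    exact ⟨fun h => h.2.symm, fun h => ⟨h ▸ hC, h.symm⟩⟩
  · intro x hx
    exact (card_centralizer_eq_of_isConj (Finset.mem_filter.1 hx).2).symm

/-- For central `N` and a linear character `lam` of `N`, the number of irreducible characters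
over `lam` is the number of `lam`-good classes of `G / N`. -/
theorem good_card_irr_central [Fintype G] (N : Subgroup G) [hN : N.Normal] [Fintype N]
    (hZ : N ≤ Subgroup.center G) (lam : N →* ℂˣ) :
    Nat.card {χ : IrrCharacter G //
        classInner (fun n : N => (χ : G → ℂ) n) (fun n => (lam n : ℂ)) ≠ 0} =
      Nat.card {C : ConjClasses (G ⧸ N) // ∃ g : G, ConjClasses.mk (g : G ⧸ N) = C ∧
        ∀ (x : G) (h : x * g * x⁻¹ * g⁻¹ ∈ N), lam ⟨_, h⟩ = 1} := by
  classical
  have hc : ∀ {n : G}, n ∈ N → ∀ y : G, y * n = n * y := fun h y =>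
    Subgroup.mem_center_iff.1 (hZ h) y
  have hc' : ∀ {n : G}, n ∈ N → ∀ y : G, y * n * y⁻¹ = n := fun h y => by
    rw [hc h, mul_inv_cancel_right]
  set good : G → Prop := fun g => ∀ (x : G) (h : x * g * x⁻¹ * g⁻¹ ∈ N), lam ⟨_, h⟩ = 1 with hgood
  have hgood1 : ∀ g g' : G, ConjClasses.mk (g : G ⧸ N) = ConjClasses.mk (g' : G ⧸ N) →
      good g → good g' := by
    intro g g' h hg x hx
    obtain ⟨c, hc1⟩ := isConj_iff.1 (ConjClasses.mk_eq_mk_iff_isConj.1 h)
    obtain ⟨c, rfl⟩ := QuotientGroup.mk_surjective c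
    rw [← QuotientGroup.mk_inv, ← QuotientGroup.mk_mul, ← QuotientGroup.mk_mul,
      QuotientGroup.eq] at hc1
    obtain ⟨n, hn, rfl⟩ : ∃ n ∈ N, g' = c * g * c⁻¹ * n := ⟨_, hc1, by group⟩
    have h2 : x * (c * g * c⁻¹ * n) * x⁻¹ * (c * g * c⁻¹ * n)⁻¹ =
        c * ((c⁻¹ * x * c) * g * (c⁻¹ * x * c)⁻¹ * g⁻¹) * c⁻¹ := by
      calc _ = x * (c * g * c⁻¹) * (n * x⁻¹) * n⁻¹ * (c * g * c⁻¹)⁻¹ := by group
        _ = _ := by rw [← hc hn]; group
    have h3 : (c⁻¹ * x * c) * g * (c⁻¹ * x * c)⁻¹ * g⁻¹ ∈ N := by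
      have := hN.conj_mem _ (h2 ▸ hx) c⁻¹
      simpa only [inv_inv, mul_assoc, inv_mul_cancel_left, inv_mul_cancel, mul_one] using this
    rw [← hg _ h3]
    congr 1
    exact Subtype.ext (h2.trans (hc' h3 c))
  have h1 := good_card_irr_over N (isIrrCharacter_linear lam) fun g n => by
    congr 2
    exact Subtype.ext (hc' n.2 g)
  have h2 : ∀ g : G, ∑ x : G, extendByZero N (fun n => (lam n : ℂ)) (x * g * x⁻¹ * g⁻¹) =
      if good g then ((Nat.card N * Nat.card (Subgroup.centralizer ({(g : G ⧸ N)} : Set (G ⧸ N))) :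
        ℕ) : ℂ) else 0 := by
    intro g
    set D := (Subgroup.centralizer ({(g : G ⧸ N)} : Set (G ⧸ N))).comap (QuotientGroup.mk' N)
      with hD
    have hmem : ∀ x : G, x ∈ D ↔ x * g * x⁻¹ * g⁻¹ ∈ N := by
      intro x
      rw [hD, Subgroup.mem_comap, Subgroup.mem_centralizer_singleton_iff,
        ← QuotientGroup.eq_one_iff, QuotientGroup.mk'_apply]
      simp only [QuotientGroup.mk_mul, QuotientGroup.mk_inv]
      rw [mul_inv_eq_one, mul_inv_eq_iff_eq_mul]
    let f : D →* N := MonoidHom.mk' (fun x => ⟨_, (hmem x).1 x.2⟩) fun x y => Subtype.ext (by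
      have h3 := hc' ((hmem y).1 y.2) (x : G)
      simp only [Subgroup.coe_mul]
      rw [hc ((hmem y).1 y.2)]
      conv_rhs => rw [← h3]
      group)
    have h3 : ∑ x : G, extendByZero N (fun n => (lam n : ℂ)) (x * g * x⁻¹ * g⁻¹) =
        ∑ x : D, ((lam.comp f) x : ℂ) := by
      rw [← Finset.sum_subset (Finset.subset_univ (Finset.univ.filter (· ∈ D)))
        (fun x _ hx => extendByZero_of_not_mem _ fun h => hx (by simpa using (hmem x).2 h)),
        Finset.sum_subtype _ (p := (· ∈ D)) (by simp)]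
      exact Finset.sum_congr rfl fun x _ => extendByZero_of_mem _ ((hmem x).1 x.2)
    rw [h3]
    split_ifs with h4
    · have h5 : ∀ x : D, (lam.comp f) x = 1 := fun x => h4 x _
      simp only [h5, Units.val_one, Finset.sum_const, Finset.card_univ, nsmul_eq_mul, mul_one,
        ← Nat.card_eq_fintype_card]
      exact congrArg Nat.cast (QuotientGroup.card_preimage_mk N
        (Subgroup.centralizer ({(g : G ⧸ N)} : Set (G ⧸ N)) : Set (G ⧸ N)))
    · refine sum_monoidHom_eq_zero fun h5 => h4 fun x hx => ?_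
      exact DFunLike.congr_fun h5 ⟨x, (hmem x).2 hx⟩
  have := Fintype.ofFinite (G ⧸ N)
  set T : ConjClasses (G ⧸ N) → Prop := fun C => ∃ g : G, ConjClasses.mk (g : G ⧸ N) = C ∧ good g
    with hT
  have h3 : ∀ g : G, good g ↔ T (ConjClasses.mk (g : G ⧸ N)) := fun g =>
    ⟨fun h => ⟨g, rfl, h⟩, fun ⟨g', h, h'⟩ => hgood1 _ _ h h'⟩
  simp only [h2, h3, map_one, Units.val_one, one_mul] at h1
  have h4 := sum_comp_of_surjective (QuotientGroup.mk' N) (QuotientGroup.mk'_surjective N)
    fun q => if T (ConjClasses.mk q) then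
      ((Nat.card N * Nat.card (Subgroup.centralizer ({q} : Set (G ⧸ N))) : ℕ) : ℂ) else 0
  simp only [QuotientGroup.mk'_apply] at h4
  replace h1 := h4.symm.trans (Eq.trans (Finset.sum_congr rfl fun _ _ => if_congr Iff.rfl rfl rfl) h1)
  rw [QuotientGroup.ker_mk', ← Finset.sum_filter, ← Nat.cast_sum, ← Finset.mul_sum,
    good_sum_card_centralizer, Subgroup.card_eq_card_quotient_mul_card_subgroup N] at h1
  have h5 : (Nat.card N : ℂ) ≠ 0 := natCard_ne_zero
  have h6 : (Nat.card (G ⧸ N) : ℂ) ≠ 0 := natCard_ne_zero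
  push_cast at h1
  field_simp at h1
  exact_mod_cast h1.symm

end CL.Char
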