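/-
Brauer's inequality for abelian subgroups whose conjugates have "disjoint" centralizers.
-/
import Cfsg.Agent.Char.Gallagher
import Cfsg.Agent.Char.FixedPointFree
import Cfsg.Agent.Char.Galois
import Cfsg.Agent.Grp.SylowIn
import Cfsg.Agent.Grp.Cores

set_option autoImplicit false
set_option linter.style.haveILetI false

open Module Cfsg
open scoped ComplexConjugate Pointwise

namespace CL.Char

variable {G : Type*} [Group G]

theorem sum_eq_sum_subgroup {M : Type*} [AddCommMonoid M] [Fintype G] (X : Finset G)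
    (N : Subgroup G) [Fintype N] (F : G → M) (hXN : ∀ x ∈ X, x ∈ N)
    (hF : ∀ x ∈ N, x ∉ X → F x = 0) : ∑ x ∈ X, F x = ∑ x : N, F x := by
  classical
  rw [← Finset.sum_subtype (Finset.univ.filter (· ∈ N)) (by simp) F]
  exact Finset.sum_subset (fun x hx => by simpa using hXN x hx)
    (fun x hx hx' => hF x (by simpa using hx) hx')

theorem card_le_sum_norm_sq_of_ne_zero [Fintype G] {β : G → ℂ} (hβ : IsGeneralizedCharacter G β)
    (h0 : β ≠ 0) : (Nat.card G : ℝ) ≤ ∑ g, ‖β g‖ ^ 2 := by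
  obtain ⟨m, hm⟩ := hβ.exists_int_classInner hβ
  have h1 := classInner_self_re_nonneg β
  have h2 : m ≠ 0 := by
    rintro rfl
    exact h0 (classInner_self_eq_zero.mp (by simpa using hm))
  rw [hm, Complex.intCast_re] at h1
  have h3 : (1 : ℝ) ≤ m := by
    have : 0 ≤ m := by exact_mod_cast h1
    exact_mod_cast (by omega : 1 ≤ m)
  rw [classInner_self_eq] at hm
  have h4 : (Nat.card G : ℝ)⁻¹ * ∑ g, ‖β g‖ ^ 2 = m := by exact_mod_cast hm
  have h5 : (0 : ℝ) < Nat.card G := by exact_mod_cast Nat.card_pos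
  rw [← h4, ← div_eq_inv_mul, le_div_iff₀ h5, one_mul] at h3
  exact h3

theorem cosetAvg_subgroupOf {H N : Subgroup G} [Fintype H] [Fintype (H.subgroupOf N)]
    (hHN : H ≤ N) (φ : G → ℂ) (x : N) :
    cosetAvg (H.subgroupOf N) (fun y : N => φ y) x = cosetAvg H φ x := by
  rw [cosetAvg_apply, cosetAvg_apply, Grp.card_subgroupOf_of_le hHN]
  congr 1
  exact Fintype.sum_equiv (Subgroup.subgroupOfEquivOfLe hHN).toEquiv _ _ fun _ => rfl

theorem sum_norm_sq_ge_of_normalizes [Fintype G] {H N : Subgroup G} [Fintype H] (hHN : H ≤ N)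
    (hn : N ≤ Subgroup.normalizer (H : Set G)) {χ : G → ℂ} (hχ : IsCharacter G χ)
    (hker : ∃ h ∈ H, χ h ≠ χ 1) (X : Finset G) (hXN : ∀ x ∈ X, x ∈ N)
    (hX : ∀ x ∈ N, x ∉ X → ∀ h ∈ H, h * x = x * h → h = 1) :
    (Nat.card N : ℝ) + ∑ x ∈ X, ‖cosetAvg H χ x‖ ^ 2 ≤ ∑ x ∈ X, ‖χ x‖ ^ 2 := by
  classical
  haveI := Fintype.ofFinite N
  haveI := Fintype.ofFinite (H.subgroupOf N)
  haveI := Grp.normal_subgroupOf_of_le_normalizer' hn
  set α := cosetAvg H χ with hα
  have hαN : cosetAvg (H.subgroupOf N) (fun y : N => χ y) = fun x : N => α x :=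
    funext fun x => cosetAvg_subgroupOf hHN χ x
  have h1 : IsCharacter N (fun x : N => α x) := hαN ▸ isCharacter_cosetAvg (hχ.restrict N)
  have h2 : H.subgroupOf N ≤ charKer (fun x : N => α x) := hαN ▸ le_charKer_cosetAvg _
  have h3 : ∀ x ∈ N, x ∉ X → χ x - α x = 0 := by
    intro x hx hx'
    have : ∀ h : H, χ (h * x) = χ x := by
      intro h
      obtain ⟨k, -, hk⟩ := exists_conj_eq_mul_of_fpf' H x
        (fun n hn' => (Subgroup.mem_normalizer_iff.mp (hn hx) n).mp hn') (hX x hx hx') h h.2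
      rw [← hk, hχ.isClassFunction]
    rw [hα, cosetAvg_apply]
    simp only [this, Finset.sum_const, Finset.card_univ, nsmul_eq_mul, Fintype.card_eq_nat_card]
    have : (Nat.card H : ℂ) ≠ 0 := natCard_ne_zero
    field_simp
    ring
  have h4 : (Nat.card N : ℝ) ≤ ∑ x ∈ X, ‖χ x - α x‖ ^ 2 := by
    rw [sum_eq_sum_subgroup X N _ hXN (fun x hx hx' => by rw [h3 x hx hx']; simp)]
    refine card_le_sum_norm_sq_of_ne_zero
      ((hχ.restrict N).isGeneralizedCharacter.sub h1.isGeneralizedCharacter) fun e => ?_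
    obtain ⟨h, hh, hne⟩ := hker
    have e' := sub_eq_zero.mp e
    have := apply_eq_one_of_mem_charKer (h2 (show (⟨h, hHN hh⟩ : N) ∈ H.subgroupOf N from hh))
    exact hne ((congrFun e' ⟨h, hHN hh⟩).trans (this.trans (congrFun e' 1).symm))
  have h5 : ∑ x ∈ X, (χ x - α x) * conj (α x) = 0 := by
    rw [sum_eq_sum_subgroup X N _ hXN (fun x hx hx' => by rw [h3 x hx hx']; simp)]
    have h6 := classInner_cosetAvg_left (fun y : N => χ y) h2
    rw [hαN, ← sub_eq_zero, ← neg_eq_zero, neg_sub, ← classInner_sub_left, classInner_def] at h6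
    exact (mul_eq_zero.mp h6).resolve_left (inv_ne_zero natCard_ne_zero)
  have h6 : ∑ x ∈ X, ‖χ x‖ ^ 2 = ∑ x ∈ X, (‖χ x - α x‖ ^ 2 + ‖α x‖ ^ 2 +
      2 * ((χ x - α x) * conj (α x)).re) := by
    refine Finset.sum_congr rfl fun x _ => ?_
    rw [Complex.sq_norm, Complex.sq_norm, Complex.sq_norm, ← Complex.normSq_add, sub_add_cancel]
  rw [h6, Finset.sum_add_distrib, Finset.sum_add_distrib, ← Finset.mul_sum, ← Complex.re_sum, h5]
  simp only [Complex.zero_re, mul_zero, add_zero]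
  linarith

/-- Summation over a set that meets its conjugates by elements outside `N` trivially. -/
theorem card_mul_sum_le_of_TI [Fintype G] (N : Subgroup G) (T S : Finset G)
    (hTI : ∀ (g : G), ∀ t ∈ T, g * t * g⁻¹ ∈ T → g ∈ N) (hS : ∀ (g : G), ∀ t ∈ T, g * t * g⁻¹ ∈ S)
    (f : G → ℝ) (hf0 : ∀ g, 0 ≤ f g) (hf : ∀ g x, f (g * x * g⁻¹) = f x) :
    (Nat.card G : ℝ) * ∑ t ∈ T, f t ≤ Nat.card N * ∑ y ∈ S, f y := by
  classical
  have h1 : (Nat.card G : ℝ) * ∑ t ∈ T, f t =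
      ∑ g : G, ∑ y ∈ S, if g⁻¹ * y * g ∈ T then f y else 0 := by
    rw [Nat.card_eq_fintype_card, ← Finset.card_univ, ← nsmul_eq_mul, ← Finset.sum_const]
    refine Finset.sum_congr rfl fun g _ => ?_
    rw [← Finset.sum_filter]
    refine Finset.sum_bij' (fun t _ => g * t * g⁻¹) (fun y _ => g⁻¹ * y * g) ?_ ?_ ?_ ?_ ?_
    · intro t ht
      rw [Finset.mem_filter]
      exact ⟨hS g t ht, by simpa [mul_assoc] using ht⟩
    · intro y hy
      exact (Finset.mem_filter.mp hy).2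
    · intro t _
      group
    · intro y _
      group
    · intro t _
      exact (hf g t).symm
  rw [h1, Finset.sum_comm, Finset.mul_sum]
  refine Finset.sum_le_sum fun y _ => ?_
  rw [← Finset.sum_filter, Finset.sum_const, nsmul_eq_mul]
  refine mul_le_mul_of_nonneg_right ?_ (hf0 y)
  rcases (Finset.univ.filter fun g : G => g⁻¹ * y * g ∈ T).eq_empty_or_nonempty with h | ⟨g₀, hg₀⟩
  · rw [h]
    simp
  · rw [Nat.cast_le, ← Nat.card_eq_finsetCard]
    refine Nat.card_le_card_of_injective (fun g => (⟨g.1⁻¹ * g₀, hTI _ _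
      (Finset.mem_filter.mp hg₀).2 (by
        simpa [mul_assoc] using (Finset.mem_filter.mp g.2).2)⟩ : N)) fun a b e => ?_
    have := congrArg Subtype.val e
    exact Subtype.ext (by simpa using this)

section

variable [Fintype G] (H : Subgroup G) [Fintype H] (hab : ∀ a ∈ H, ∀ b ∈ H, a * b = b * a)
  (hZ : H ⊓ Subgroup.center G = ⊥)
  (hone : ∀ g : G, g ∉ Subgroup.center G → ∀ a : G, (∃ h ∈ H, h ≠ 1 ∧ h * g = g * h) →
    (∃ h ∈ H, h ≠ 1 ∧ (a * h * a⁻¹) * g = g * (a * h * a⁻¹)) →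
      a ∈ Subgroup.normalizer (H : Set G))
include hab hZ hone

theorem brauer_TI_ineq {χ : G → ℂ} (hχ : IsIrrCharacter G χ) (hker : ∃ h ∈ H, χ h ≠ χ 1) :
    (Nat.card H : ℝ) * (classInner (fun h : H => χ h) (fun _ => 1)).re ^ 2 < (χ 1).re ^ 2 := by
  classical
  set Z := Subgroup.center G with hZdef
  set N := Subgroup.normalizer (H : Set G) with hN
  let X : Finset G := Finset.univ.filter fun x => ∃ h ∈ H, h ≠ 1 ∧ h * x = x * h
  have hXm : ∀ x, x ∈ X ↔ ∃ h ∈ H, h ≠ 1 ∧ h * x = x * h := fun x => by simp [X]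
  have hHZ : ∀ h ∈ H, h ≠ 1 → h ∉ Z := fun h hh h1 hz =>
    h1 (Subgroup.mem_bot.mp (hZ ▸ (⟨hh, hz⟩ : h ∈ H ⊓ Z)))
  have hXN : ∀ x ∈ X, x ∈ N := by
    intro x hx
    obtain ⟨h, hh, h1, hc⟩ := (hXm x).mp hx
    refine hone h (hHZ h hh h1) x ⟨h, hh, h1, rfl⟩ ⟨h, hh, h1, ?_⟩
    rw [← hc, mul_inv_cancel_right]
  have h1 := sum_norm_sq_ge_of_normalizes Subgroup.le_normalizer le_rfl hχ.isCharacter hker X hXN
    (fun x _ hx h hh hc => by
      by_contra h1
      exact hx ((hXm x).mpr ⟨h, hh, h1, hc⟩))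
  obtain ⟨h₀, hh₀, hne⟩ := hker
  have h01 : h₀ ≠ 1 := fun e => hne (by rw [e])
  -- the part outside the centre
  have h2 := card_mul_sum_le_of_TI N (X.filter (· ∉ Z)) (Finset.univ.filter (· ∉ Z))
    (fun g t ht hg => by
      obtain ⟨ht1, ht2⟩ := Finset.mem_filter.mp ht
      obtain ⟨h, hh, h1, hc⟩ := (hXm _).mp (Finset.mem_filter.mp hg).1
      refine inv_mem_iff.mp (hone t ht2 g⁻¹ ((hXm t).mp ht1) ⟨h, hh, h1, ?_⟩)
      calc g⁻¹ * h * g⁻¹⁻¹ * t = g⁻¹ * (h * (g * t * g⁻¹)) * g := by group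
        _ = t * (g⁻¹ * h * g⁻¹⁻¹) := by rw [hc]; group)
    (fun g t ht => by
      refine Finset.mem_filter.mpr ⟨Finset.mem_univ _, fun hz => (Finset.mem_filter.mp ht).2 ?_⟩
      simpa [mul_assoc] using (inferInstance : Z.Normal).conj_mem _ hz g⁻¹)
    (fun g => ‖χ g‖ ^ 2) (fun _ => by positivity) (fun g x => by rw [hχ.isClassFunction])
  have hZs := sum_norm_sq_of_le_charCenter hχ.isCharacter hχ.center_le_charCenter
  have h3 := Finset.sum_filter_add_sum_filter_not Finset.univ (· ∈ Z) (fun g => ‖χ g‖ ^ 2)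
  rw [hχ.sum_norm_sq, hZs] at h3
  have h4 := Finset.sum_filter_add_sum_filter_not X (· ∈ Z) (fun g => ‖χ g‖ ^ 2)
  have h5 : X.filter (· ∈ Z) = Finset.univ.filter (· ∈ Z) := by
    ext z
    simp only [Finset.mem_filter, Finset.mem_univ, true_and, and_iff_right_iff_imp]
    exact fun hz => (hXm z).mpr ⟨h₀, hh₀, h01, Subgroup.mem_center_iff.mp hz h₀⟩
  rw [h5, hZs] at h4
  have hGpos : (0 : ℝ) < Nat.card G := by exact_mod_cast Nat.card_pos
  have hNpos : (0 : ℝ) < Nat.card N := by exact_mod_cast Nat.card_pos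
  have hZpos : (0 : ℝ) < Nat.card Z := by exact_mod_cast Nat.card_pos
  have hd : (0 : ℝ) < charDegree χ := by exact_mod_cast hχ.charDegree_pos
  have h6 : ∑ t ∈ X.filter (· ∉ Z), ‖χ t‖ ^ 2 < Nat.card N := by
    refine lt_of_mul_lt_mul_left (h2.trans_lt ?_) hGpos.le
    rw [mul_comm (Nat.card G : ℝ)]
    refine mul_lt_mul_of_pos_left ?_ hNpos
    have : 0 < (Nat.card Z : ℝ) * (charDegree χ : ℝ) ^ 2 := by positivity
    linarith
  -- the averaged character on `H Z`
  obtain ⟨c, hc⟩ := (hχ.isCharacter.restrict H).exists_nat_classInner isCharacter_one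
  have h7 : ∀ x ∈ H ⊔ Z, ‖cosetAvg H χ x‖ = c := by
    intro x hx
    obtain ⟨h, hh, z, hz, rfl⟩ := Subgroup.mem_sup_of_normal_right.mp hx
    rw [le_charKer_cosetAvg χ hh z]
    obtain ⟨ω, hω, hωz⟩ := mem_charCenter_def.mp (hχ.center_le_charCenter hz)
    have : cosetAvg H χ z = ω * cosetAvg H χ 1 := by
      rw [cosetAvg_apply, cosetAvg_apply, mul_left_comm]
      congr 1
      rw [Finset.mul_sum]
      refine Finset.sum_congr rfl fun k _ => ?_
      rw [Subgroup.mem_center_iff.mp hz, hωz, mul_one]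
    rw [this, cosetAvg_one, hc, norm_mul, hω, one_mul, Complex.norm_natCast]
  have h8 : (Nat.card H : ℝ) * Nat.card Z * c ^ 2 ≤ ∑ x ∈ X, ‖cosetAvg H χ x‖ ^ 2 := by
    have h9 : Finset.univ.filter (· ∈ H ⊔ Z) ⊆ X := by
      intro x hx
      obtain ⟨h, hh, z, hz, rfl⟩ := Subgroup.mem_sup_of_normal_right.mp (Finset.mem_filter.mp hx).2
      refine (hXm _).mpr ⟨h₀, hh₀, h01, ?_⟩
      rw [← mul_assoc, hab h₀ hh₀ h hh, mul_assoc, Subgroup.mem_center_iff.mp hz, mul_assoc]
    refine le_trans (le_of_eq ?_) (Finset.sum_le_sum_of_subset_of_nonneg h9 fun _ _ _ => by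
      positivity)
    rw [Finset.sum_congr rfl fun x hx => by rw [h7 x (Finset.mem_filter.mp hx).2],
      Finset.sum_const, nsmul_eq_mul, ← Nat.cast_mul, ← Grp.card_sup_of_inf_eq_bot
        (by rw [Subgroup.normalizer_eq_top]; exact le_top) hZ, ← Fintype.card_subtype,
      Nat.card_eq_fintype_card]
  rw [hc, hχ.isCharacter.re_one, Complex.natCast_re]
  refine lt_of_mul_lt_mul_left (a := (Nat.card Z : ℝ)) ?_ hZpos.le
  linarith

theorem brauer_TI_card_lt {χ : G → ℂ} (hχ : IsIrrCharacter G χ) (h1 : χ 1 ≠ 1)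
    (hM : ∀ M : Subgroup G, M.Normal → H ≤ M → M = ⊤) :
    (Nat.card H : ℝ) < (1 + (χ 1).re) ^ 2 := by
  classical
  set s := √(Nat.card H : ℝ) with hs
  have hs0 : 0 ≤ s := Real.sqrt_nonneg _
  have hs2 : s ^ 2 = Nat.card H := Real.sq_sqrt (by positivity)
  have key : ∀ θ, IsCharacter G θ → classInner θ (fun _ => 1) = 0 →
      s * (classInner (fun h : H => θ h) (fun _ => 1)).re ≤ (θ 1).re ∧
      (θ ≠ 0 → s * (classInner (fun h : H => θ h) (fun _ => 1)).re < (θ 1).re) := by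
    intro θ hθ
    refine hθ.induction (P := fun θ : G → ℂ => classInner θ (fun _ => 1) = 0 →
      s * (classInner (fun h : H => θ h) (fun _ => 1)).re ≤ (θ 1).re ∧
      (θ ≠ 0 → s * (classInner (fun h : H => θ h) (fun _ => 1)).re < (θ 1).re)) ?_ ?_
    · intro _
      have : (fun h : H => (0 : G → ℂ) h) = 0 := rfl
      rw [this, classInner_zero_left]
      simp
    · intro ψ β hψ hβ ih h0
      have h2 : classInner ψ (fun _ => 1) = 0 := by
        by_contra h
        exact classInner_ne_zero_of_add_left hψ.isCharacter hβ isCharacter_one h h0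
      have h3 := (ih (by rwa [classInner_add_left, h2, zero_add] at h0)).1
      have h4 : ∃ h ∈ H, ψ h ≠ ψ 1 := by
        by_contra h
        push Not at h
        have h5 := hM _ hψ.charKer_normal fun x hx => hψ.mem_charKer.mpr (h x hx)
        rw [hψ.charKer_eq_top_iff.mp h5, isIrrCharacter_one.classInner_self] at h2
        exact one_ne_zero h2
      have h5 := brauer_TI_ineq H hab hZ hone hψ h4
      rw [← hs2, ← mul_pow] at h5
      have h6 := lt_of_pow_lt_pow_left₀ 2 (by rw [hψ.isCharacter.re_one]; positivity) h5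
      have h7 : (fun h : H => (ψ + β) h) = (fun h : H => ψ h) + fun h : H => β h := rfl
      rw [h7, classInner_add_left, Complex.add_re, Pi.add_apply, Complex.add_re, mul_add]
      exact ⟨by linarith, fun _ => by linarith⟩
  have hχχ := hχ.isCharacter.mul hχ.conj.isCharacter
  have h2 : classInner (χ * fun g => conj (χ g)) (fun _ => 1) = 1 := by
    rw [classInner_mul_left]
    simpa using hχ.classInner_self
  have hθ := hχχ.sub_of_classInner_ne_zero isIrrCharacter_one (by rw [h2]; exact one_ne_zero)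
  obtain ⟨n, hn0, hn⟩ := hχ.exists_nat_one
  have hn1 : (1 : ℝ) < n := by
    have : n ≠ 1 := fun e => h1 (by rw [hn, e, Nat.cast_one])
    exact_mod_cast (by omega : 1 < n)
  have h3 : ((χ * (fun g => conj (χ g)) - fun _ => 1 : G → ℂ) 1).re = n ^ 2 - 1 := by
    simp [hn, sq]
  have h4 := (key _ hθ (by
    rw [classInner_sub_left, h2, isIrrCharacter_one.classInner_self, sub_self])).2 (fun e => by
      rw [e] at h3
      simp only [Pi.zero_apply, Complex.zero_re] at h3
      nlinarith)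
  have h5 : (fun h : H => (χ * (fun g => conj (χ g)) - fun _ => 1 : G → ℂ) h) =
      ((fun h : H => χ h) * fun h : H => conj (χ h)) - fun _ => 1 := rfl
  rw [h3, h5, classInner_sub_left, classInner_mul_left, isIrrCharacter_one.classInner_self] at h4
  simp only [RingHomCompTriple.comp_apply, RingHom.id_apply, mul_one, Complex.sub_re,
    Complex.one_re] at h4
  -- the norm of the restriction is at least the degree
  obtain ⟨m, hm, -⟩ := (hχ.isCharacter.restrict H).exists_eq_sum_nat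
  have h6 := classInner_self_eq_sum_sq (hχ.isCharacter.restrict H).isClassFunction
    (fun ψ => (m ψ : ℤ)) (fun ψ => by rw [hm ψ]; simp)
  have h7 := (hχ.isCharacter.restrict H).charDegree_eq_sum m hm
  have h8 : ∀ ψ : IrrCharacter H, charDegree (ψ : H → ℂ) = 1 := fun ψ =>
    charDegree_eq_of_eq (by
      rw [ψ.2.one_eq_one_of_comm fun a b => Subtype.ext (hab a a.2 b b.2), Nat.cast_one])
  simp only [h8, mul_one] at h7
  have h9 : charDegree (fun h : H => χ h) = n := charDegree_eq_of_eq hn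
  have h10 : (n : ℤ) ≤ ∑ ψ : IrrCharacter H, (m ψ : ℤ) ^ 2 := by
    rw [← h9, h7, Nat.cast_sum]
    exact Finset.sum_le_sum fun ψ _ => by exact_mod_cast Nat.le_self_pow two_ne_zero (m ψ)
  rw [h6, Complex.intCast_re] at h4
  have h11 : (n : ℝ) ≤ ((∑ ψ : IrrCharacter H, (m ψ : ℤ) ^ 2 : ℤ) : ℝ) := by exact_mod_cast h10
  have h12 : s * (n - 1) < (n + 1) * (n - 1) := by nlinarith
  have h13 := lt_of_mul_lt_mul_right h12 (by linarith)
  rw [hn, Complex.natCast_re, ← hs2]
  nlinarith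

end

end CL.Char
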