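import Cfsg.Agent.Char.CN1
import Cfsg.Agent.Grp.FrobPartition
import Cfsg.Agent.Grp.PGroupCyc
import Cfsg.Agent.Grp.Hall2
import Cfsg.Agent.Grp.Frob2
import Cfsg.Agent.Grp.Coprime

/-!
CN-groups II: groups acting fixed-point-freely inside a CN-group are nilpotent; the Fitting subgroup of a CN-group;
the trichotomy for solvable CN-groups.
-/

set_option autoImplicit false

open Cfsg CL.Grp
open scoped Pointwise

namespace CL.CN

variable {G : Type*} [Group G]

section FPF

theorem fpf_eq_one {K : Subgroup G} {a k : G} (h : K ⊓ Subgroup.centralizer {a} = ⊥) (hk : k ∈ K)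
    (hc : k * a = a * k) : k = 1 := by
  have : k ∈ K ⊓ Subgroup.centralizer {a} := ⟨hk, Subgroup.mem_centralizer_singleton_iff.mpr hc⟩
  rw [h] at this
  exact Subgroup.mem_bot.mp this

theorem fpf_of_eq_one {K : Subgroup G} {a : G} (h : ∀ k ∈ K, k * a = a * k → k = 1) :
    K ⊓ Subgroup.centralizer {a} = ⊥ := by
  rw [eq_bot_iff]
  rintro k ⟨hk, hc⟩
  exact Subgroup.mem_bot.mpr (h k hk (Subgroup.mem_centralizer_singleton_iff.mp hc))

variable [Finite G] {A K : Subgroup G}

/-- `p`-subgroups of a group acting fixed-point-freely are cyclic or generalised quaternion. -/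
theorem isCyclic_or_quaternion_of_fpf (hK : K ≠ ⊥) (hAK : A ≤ Subgroup.normalizer (K : Set G))
    (hfpf : ∀ a ∈ A, a ≠ 1 → K ⊓ Subgroup.centralizer {a} = ⊥) {p : ℕ} [hp : Fact p.Prime] {P : Subgroup G}
    (hP : IsPGroup p P) (hPA : P ≤ A) :
    IsCyclic P ∨ (p = 2 ∧ ∃ k : ℕ, Nonempty (P ≃* QuaternionGroup (2 ^ (k + 1)))) := by
  refine isCyclic_or_nonempty_quaternion_of_forall_ea hP fun E hE hcard => ?_
  have hle : E.map P.subtype ≤ A := (Subgroup.map_subtype_le E).trans hPA
  have hcomm : IsMulCommutative (E.map P.subtype) := by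
    have := hE.1
    infer_instance
  have hcyc : IsCyclic (E.map P.subtype) :=
    isCyclic_of_fpf hK (hle.trans hAK) (fun a ha => hfpf a (hle ha)) (Or.inl hcomm)
  obtain ⟨g, hg⟩ := hcyc.exists_generator
  have h1 : orderOf g = p ^ 2 := by
    rw [orderOf_eq_card_of_forall_mem_zpowers hg, card_map_subtype, hcard]
  have h2 : g ^ p = 1 := by
    obtain ⟨g, x, hx, rfl⟩ := g
    apply Subtype.ext
    have := congrArg Subtype.val (hE.2 x hx)
    simpa using this
  have h3 := Nat.le_of_dvd hp.out.pos (orderOf_dvd_of_pow_eq_one h2)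
  rw [h1] at h3
  have := hp.out.one_lt
  nlinarith

theorem isCyclic_of_fpf_odd (hK : K ≠ ⊥) (hAK : A ≤ Subgroup.normalizer (K : Set G))
    (hfpf : ∀ a ∈ A, a ≠ 1 → K ⊓ Subgroup.centralizer {a} = ⊥) {p : ℕ} [hp : Fact p.Prime] (hp2 : p ≠ 2)
    {P : Subgroup G} (hP : IsPGroup p P) (hPA : P ≤ A) : IsCyclic P :=
  (isCyclic_or_quaternion_of_fpf hK hAK hfpf hP hPA).resolve_right fun h => hp2 h.1

/-- An involution acting fixed-point-freely inverts. -/
theorem conj_eq_inv_of_fpf {t : G} (ht : t ∈ Subgroup.normalizer (K : Set G)) (ht2 : t * t = 1)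
    (hfpf : K ⊓ Subgroup.centralizer {t} = ⊥) {k : G} (hk : k ∈ K) : t * k * t⁻¹ = k⁻¹ := by
  obtain ⟨y, -, hy⟩ := CL.Char.exists_conj_eq_mul_of_fpf' K t (fun n hn => (Subgroup.mem_normalizer_iff.mp ht n).mp hn)
    (fun n hn hc => fpf_eq_one hfpf hn hc) k hk
  have h1 : (k * t) * (k * t) = 1 := by
    rw [← hy]
    calc y * t * y⁻¹ * (y * t * y⁻¹) = y * (t * t) * y⁻¹ := by group
      _ = 1 := by rw [ht2]; group
  have h2 : t⁻¹ = t := inv_eq_of_mul_eq_one_right ht2
  rw [h2]
  calc t * k * t = k⁻¹ * ((k * t) * (k * t)) := by group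
    _ = k⁻¹ := by rw [h1, mul_one]

/-- A group acting fixed-point-freely has at most one involution. -/
theorem involution_unique_of_fpf (hK : K ≠ ⊥) (hAK : A ≤ Subgroup.normalizer (K : Set G))
    (hfpf : ∀ a ∈ A, a ≠ 1 → K ⊓ Subgroup.centralizer {a} = ⊥) {s t : G} (hs : s ∈ A) (ht : t ∈ A)
    (hs1 : s ≠ 1) (ht1 : t ≠ 1) (hs2 : s * s = 1) (ht2 : t * t = 1) : s = t := by
  by_contra hne
  obtain ⟨⟨k, hk⟩, hk1⟩ := Subgroup.ne_bot_iff_exists_ne_one.mp hK
  have h1 := conj_eq_inv_of_fpf (hAK hs) hs2 (hfpf s hs hs1) hk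
  have h2 := conj_eq_inv_of_fpf (hAK ht) ht2 (hfpf t ht ht1) hk
  have h3 : t⁻¹ * s ≠ 1 := fun h => hne (by rw [inv_mul_eq_one] at h; exact h.symm)
  apply hk1
  apply Subtype.ext
  refine fpf_eq_one (hfpf _ (A.mul_mem (A.inv_mem ht) hs) h3) hk ?_
  calc k * (t⁻¹ * s) = t⁻¹ * (t * k * t⁻¹) * s := by group
    _ = t⁻¹ * (s * k * s⁻¹) * s := by rw [h1, h2]
    _ = t⁻¹ * s * k := by group

theorem isZGroup_of_fpf_of_odd (hK : K ≠ ⊥) (hAK : A ≤ Subgroup.normalizer (K : Set G))
    (hfpf : ∀ a ∈ A, a ≠ 1 → K ⊓ Subgroup.centralizer {a} = ⊥) (hodd : Odd (Nat.card A)) : IsZGroup A := by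
  refine ⟨fun p hp P => ?_⟩
  haveI := Fact.mk hp
  by_cases hp2 : p = 2
  · subst hp2
    have : (P : Subgroup A) = ⊥ := by
      have h1 : ¬ 2 ∣ Nat.card (P : Subgroup A) := fun h =>
        (Nat.not_even_iff_odd.mpr hodd) (even_iff_two_dvd.mpr (h.trans (Subgroup.card_subgroup_dvd_card _)))
      obtain ⟨n, hn⟩ := P.isPGroup'.exists_card_eq
      rcases n with _ | n
      · exact Subgroup.card_eq_one.mp hn
      · exact absurd (hn ▸ dvd_pow_self 2 (Nat.succ_ne_zero n)) h1
    have h2 : Subsingleton (P : Subgroup A) := by rw [this]; infer_instance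
    exact isCyclic_of_subsingleton
  · have h1 : IsCyclic ((P : Subgroup A).map A.subtype) :=
      isCyclic_of_fpf_odd hK hAK hfpf hp2 (P.isPGroup'.map _) (Subgroup.map_subtype_le _)
    exact ((P : Subgroup A).equivMapOfInjective A.subtype A.subtype_injective).isCyclic.mpr h1

/-- In a CN-group, a subgroup acting fixed-point-freely on a nontrivial subgroup is nilpotent. -/
theorem isNilpotent_of_fpf (hCN : IsCNGroup G) (hK : K ≠ ⊥) (hAK : A ≤ Subgroup.normalizer (K : Set G))
    (hfpf : ∀ a ∈ A, a ≠ 1 → K ⊓ Subgroup.centralizer {a} = ⊥) : Group.IsNilpotent A := by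
  by_cases hA : A = ⊥
  · subst hA; infer_instance
  suffices h : ∃ z : G, z ≠ 1 ∧ A ≤ Subgroup.centralizer {z} by
    obtain ⟨z, hz, hle⟩ := h
    exact isNilpotent_of_le (hCN z hz) hle
  rcases Nat.even_or_odd (Nat.card A) with heven | hodd
  · haveI : Fact (Nat.Prime 2) := ⟨Nat.prime_two⟩
    obtain ⟨⟨t, ht⟩, ht2⟩ := exists_prime_orderOf_dvd_card' 2 heven.two_dvd
    rw [← Subgroup.orderOf_coe] at ht2
    have ht1 : t ≠ 1 := ne_one_of_orderOf_prime Nat.prime_two ht2
    have htt : t * t = 1 := by rw [← sq, ← ht2]; exact pow_orderOf_eq_one t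
    refine ⟨t, ht1, fun a ha => Subgroup.mem_centralizer_singleton_iff.mpr ?_⟩
    have := involution_unique_of_fpf hK hAK hfpf (A.mul_mem (A.mul_mem ha ht) (A.inv_mem ha)) ht
      (fun h => ht1 (by simpa using h)) ht1
      (by calc a * t * a⁻¹ * (a * t * a⁻¹) = a * (t * t) * a⁻¹ := by group
            _ = 1 := by rw [htt]; group) htt
    calc a * t = (a * t * a⁻¹) * a := by group
      _ = t * a := by rw [this]
  · haveI := isZGroup_of_fpf_of_odd hK hAK hfpf hodd
    haveI : Nontrivial A := (Subgroup.nontrivial_iff_ne_bot A).mpr hA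
    obtain ⟨M₀, p, hp, hM₀, hea⟩ := exists_isMinNormal_isElementaryAbelian A
    haveI := Fact.mk hp
    haveI := hM₀.normal
    set M := M₀.map A.subtype with hM
    have hMA : M ≤ A := Subgroup.map_subtype_le _
    have hAM : A ≤ Subgroup.normalizer (M : Set G) := le_normalizer_map_subtype M₀
    have hMp : IsPGroup p M := (isPGroup_of_isElementaryAbelian hea).map _
    have hM1 : M ≠ ⊥ := by
      rw [hM, Ne, Subgroup.map_eq_bot_iff_of_injective _ A.subtype_injective]
      exact hM₀.ne_bot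
    have hp2 : p ≠ 2 := by
      rintro rfl
      have h1 : 2 ∣ Nat.card M := hMp.card_eq_or_dvd.resolve_left fun h => hM1 (Subgroup.card_eq_one.mp h)
      exact (Nat.not_even_iff_odd.mpr hodd) (even_iff_two_dvd.mpr (h1.trans (Subgroup.card_dvd_of_le hMA)))
    have hMc : IsCyclic M := isCyclic_of_fpf_odd hK hAK hfpf hp2 hMp hMA
    have hMcard : Nat.card M = p := by
      obtain ⟨g, hg⟩ := hMc.exists_generator
      have h1 := orderOf_eq_card_of_forall_mem_zpowers hg
      have h2 : g ^ p = 1 := by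
        obtain ⟨g, x, hx, rfl⟩ := g
        apply Subtype.ext
        have := congrArg Subtype.val (hea.2 x hx)
        simpa using this
      rcases (Nat.dvd_prime hp).mp (orderOf_dvd_of_pow_eq_one h2) with h | h
      · exact absurd (Subgroup.card_eq_one.mp (h1 ▸ h)) hM1
      · exact h1 ▸ h
    obtain ⟨⟨x, hx⟩, hx1⟩ := Subgroup.ne_bot_iff_exists_ne_one.mp hM1
    have hx1' : x ≠ 1 := fun h => hx1 (Subtype.ext h)
    refine ⟨x, hx1', le_of_forall_isPGroup_le fun r hr P hPA hP => ?_⟩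
    have hcomm : ∀ L : Subgroup G, IsCyclic L → ∀ a ∈ L, ∀ b ∈ L, a * b = b * a := by
      intro L hL a ha b hb
      letI := hL.commGroup
      exact congrArg Subtype.val (mul_comm (⟨a, ha⟩ : L) ⟨b, hb⟩)
    by_cases hrp : r = p
    · subst hrp
      have h1 : IsPGroup r (P ⊔ M : Subgroup G) := hP.to_sup_of_normal_right' hMp (hPA.trans hAM)
      have h2 := isCyclic_of_fpf_odd hK hAK hfpf hp2 h1 (sup_le hPA hMA)
      intro a ha
      exact Subgroup.mem_centralizer_singleton_iff.mpr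
        (hcomm _ h2 a (Subgroup.mem_sup_left ha) x (Subgroup.mem_sup_right hx))
    · by_cases hP1 : P = ⊥
      · rw [hP1]; exact bot_le
      have hrd : r ∣ Nat.card P := hP.card_eq_or_dvd.resolve_left fun h => hP1 (Subgroup.card_eq_one.mp h)
      obtain ⟨⟨y, hy⟩, hyr⟩ := exists_prime_orderOf_dvd_card' r hrd
      rw [← Subgroup.orderOf_coe] at hyr
      have hy1 : y ≠ 1 := ne_one_of_orderOf_prime hr.out hyr
      have hyA : Subgroup.zpowers y ≤ A := (Subgroup.zpowers_le_of_mem hy).trans hPA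
      have hcop : (Nat.card M).Coprime (Nat.card (Subgroup.zpowers y)) := by
        rw [hMcard, Nat.card_zpowers, hyr]
        exact (Nat.coprime_primes hp hr.out).mpr (Ne.symm hrp)
      have hle : M ⊔ Subgroup.zpowers y ≤ A := sup_le hMA hyA
      have h2 : IsCyclic (M ⊔ Subgroup.zpowers y : Subgroup G) :=
        isCyclic_of_fpf hK (hle.trans hAK) (fun a ha => hfpf a (hle ha))
          (Or.inr ⟨p, r, hp, hr.out, by
            rw [card_sup_of_coprime (hyA.trans hAM) hcop, hMcard, Nat.card_zpowers, hyr]⟩)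
      have h3 := hcomm _ h2 y (Subgroup.mem_sup_right (Subgroup.mem_zpowers y)) x (Subgroup.mem_sup_left hx)
      have hcop' : (Nat.card P).Coprime (Nat.card M) := IsPGroup.coprime_card_of_ne r p hrp P M hP hMp
      have h4 := commute_of_nilpotent_coprime hCN hP.isNilpotent hMp.isNilpotent hcop' hy hy1 hx hx1' h3
      intro a ha
      exact Subgroup.mem_centralizer_singleton_iff.mpr (h4 a ha x hx)

/-- A nilpotent group of odd order acting fixed-point-freely is cyclic. -/
theorem isCyclic_of_fpf_of_odd (hK : K ≠ ⊥) (hAK : A ≤ Subgroup.normalizer (K : Set G))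
    (hfpf : ∀ a ∈ A, a ≠ 1 → K ⊓ Subgroup.centralizer {a} = ⊥) (hnil : Group.IsNilpotent A)
    (hodd : Odd (Nat.card A)) : IsCyclic A := by
  haveI := isZGroup_of_fpf_of_odd hK hAK hfpf hodd
  infer_instance

/-- A nilpotent group acting fixed-point-freely is cyclic or (cyclic of odd order) × (generalised quaternion). -/
theorem isCyclic_or_prod_of_fpf (hK : K ≠ ⊥) (hAK : A ≤ Subgroup.normalizer (K : Set G))
    (hfpf : ∀ a ∈ A, a ≠ 1 → K ⊓ Subgroup.centralizer {a} = ⊥) (hnil : Group.IsNilpotent A) :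
    IsCyclic A ∨ ∃ C Q : Subgroup G, C ⊔ Q = A ∧ (∀ a ∈ C, ∀ b ∈ Q, a * b = b * a) ∧ IsCyclic C ∧
      Odd (Nat.card C) ∧ ∃ n : ℕ, Nonempty (Q ≃* QuaternionGroup (2 ^ n)) := by
  haveI : Fact (Nat.Prime 2) := ⟨Nat.prime_two⟩
  have hodd : Odd (Nat.card (pPrimeCoreOf 2 A)) := Nat.coprime_two_right.mp (pPrimeCoreOf_coprime 2 A)
  have hle := pPrimeCoreOf_le 2 A
  have hC : IsCyclic (pPrimeCoreOf 2 A) :=
    isCyclic_of_fpf_of_odd hK (hle.trans hAK) (fun a ha => hfpf a (hle ha)) (isNilpotent_of_le hnil hle) hodd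
  have hsup : pPrimeCoreOf 2 A ⊔ pCoreOf 2 A = A :=
    le_antisymm (sup_le hle (pCoreOf_le 2 A)) (sup_comm (pCoreOf 2 A) _ ▸ le_pCoreOf_sup_pPrimeCoreOf hnil 2)
  rcases isCyclic_or_quaternion_of_fpf hK hAK hfpf (pCoreOf_isPGroup 2 A) (pCoreOf_le 2 A) with h | ⟨-, k, h⟩
  · left
    haveI : IsZGroup A := by
      refine ⟨fun p hp P => ?_⟩
      haveI := Fact.mk hp
      have h1 : IsCyclic ((P : Subgroup A).map A.subtype) := by
        by_cases hp2 : p = 2
        · subst hp2
          have := le_pCoreOf_of_isNilpotent hnil (P.isPGroup'.map A.subtype) (Subgroup.map_subtype_le _)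
          exact Subgroup.isCyclic_of_le this
        · exact isCyclic_of_fpf_odd hK hAK hfpf hp2 (P.isPGroup'.map _) (Subgroup.map_subtype_le _)
      exact ((P : Subgroup A).equivMapOfInjective A.subtype A.subtype_injective).isCyclic.mpr h1
    infer_instance
  · right
    exact ⟨_, _, hsup, fun a ha b hb => (commute_pCoreOf_pPrimeCoreOf 2 hnil b hb a ha).symm, hC, hodd, k + 1, h⟩

end FPF

section Fitting

variable [Finite G]

omit [Finite G] in
theorem centralizer_le_fitting (hCN : IsCNGroup G) {N : Subgroup G} [N.Normal] (hN : N ≠ ⊥) :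
    Subgroup.centralizer (N : Set G) ≤ fittingSubgroup G := by
  obtain ⟨⟨x, hx⟩, hx1⟩ := Subgroup.ne_bot_iff_exists_ne_one.mp hN
  have hx1' : x ≠ 1 := fun h => hx1 (Subtype.ext h)
  exact le_fittingSubgroup (isNilpotent_of_le (hCN x hx1')
    (Subgroup.centralizer_le (Set.singleton_subset_iff.mpr hx)))

omit [Finite G] in
theorem isNilpotent_zpowers (a : G) : Group.IsNilpotent (Subgroup.zpowers a) :=
  isNilpotent_of_isMulCommutative inferInstance

theorem mem_fitting_of_commute (hCN : IsCNGroup G) {N : Subgroup G} [N.Normal] (hN : Group.IsNilpotent N) {a x : G}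
    (hcop : (orderOf a).Coprime (Nat.card N)) (hx : x ∈ N) (hx1 : x ≠ 1) (hc : x * a = a * x) :
    a ∈ fittingSubgroup G := by
  by_cases ha : a = 1
  · rw [ha]; exact Subgroup.one_mem _
  have hN1 : N ≠ ⊥ := fun h => hx1 (by rw [h] at hx; exact Subgroup.mem_bot.mp hx)
  have h := commute_of_nilpotent_coprime hCN hN (isNilpotent_zpowers a) (by rw [Nat.card_zpowers]; exact hcop.symm)
    hx hx1 (Subgroup.mem_zpowers a) ha hc
  exact centralizer_le_fitting hCN hN1 (fun n hn => h n hn a (Subgroup.mem_zpowers a))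

/-- An element of order prime to `|F(G)|` acts fixed-point-freely on `F(G)`. -/
theorem fitting_inf_centralizer (hCN : IsCNGroup G) {a : G} (ha : a ≠ 1)
    (hcop : (orderOf a).Coprime (Nat.card (fittingSubgroup G))) :
    fittingSubgroup G ⊓ Subgroup.centralizer {a} = ⊥ := by
  refine fpf_of_eq_one fun x hx hc => ?_
  by_contra hx1
  have h := mem_fitting_of_commute hCN (fittingSubgroup_isNilpotent G) hcop hx hx1 hc
  exact ha (orderOf_eq_one_iff.mp (Nat.Coprime.eq_one_of_dvd hcop (Subgroup.orderOf_dvd_natCard _ h)))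

theorem pCore_ne_bot_of_dvd_fitting {p : ℕ} [Fact p.Prime] (h : p ∣ Nat.card (fittingSubgroup G)) : pCore p G ≠ ⊥ := by
  rw [← pCoreOf_fittingSubgroup]
  exact pCoreOf_ne_bot_of_dvd (fittingSubgroup_isNilpotent G) h

theorem sylow_le_fitting (hCN : IsCNGroup G) {p q : ℕ} [Fact p.Prime] [Fact q.Prime] (hpq : p ≠ q)
    (hp : pCore p G ≠ ⊥) (hq : pCore q G ≠ ⊥) (P : Sylow p G) : (P : Subgroup G) ≤ fittingSubgroup G := by
  obtain ⟨⟨x, hx⟩, hx1⟩ := Subgroup.ne_bot_iff_exists_ne_one.mp hp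
  obtain ⟨⟨y, hy⟩, hy1⟩ := Subgroup.ne_bot_iff_exists_ne_one.mp hq
  have hx1' : x ≠ 1 := fun h => hx1 (Subtype.ext h)
  have hy1' : y ≠ 1 := fun h => hy1 (Subtype.ext h)
  have hcop : (Nat.card (P : Subgroup G)).Coprime (Nat.card (pCore q G)) :=
    IsPGroup.coprime_card_of_ne p q hpq _ _ P.isPGroup' (pCore_isPGroup q G)
  have hxy : x * y = y * x :=
    commute_of_mem_nilpotent (fittingSubgroup_isNilpotent G) (pCore_le_fittingSubgroup p hx)
      (pCore_le_fittingSubgroup q hy) (coprime_orderOf_of_mem hcop (pCore_le_sylow P hx) hy)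
  have h := commute_of_nilpotent_coprime hCN P.isPGroup'.isNilpotent (pCore_isPGroup q G).isNilpotent hcop
    (pCore_le_sylow P hx) hx1' hy hy1' hxy
  exact fun a ha => centralizer_le_fitting hCN hq fun b hb => (h a ha b hb).symm

theorem coprime_index_of_forall_sylow_le {F : Subgroup G}
    (h : ∀ (p : ℕ) [Fact p.Prime], p ∣ Nat.card F → ∃ P : Sylow p G, (P : Subgroup G) ≤ F) :
    (Nat.card F).Coprime F.index := by
  refine Nat.coprime_of_dvd fun p hp h1 h2 => ?_
  haveI := Fact.mk hp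
  obtain ⟨P, hP⟩ := h p h1
  exact P.not_dvd_index (h2.trans (Subgroup.index_dvd_of_le hP))

/-- In a CN-group the Fitting subgroup is a Hall subgroup or a `p`-group. -/
theorem fitting_hall_or_isPGroup (hCN : IsCNGroup G) :
    (Nat.card (fittingSubgroup G)).Coprime (fittingSubgroup G).index ∨
      ∃ p : ℕ, p.Prime ∧ fittingSubgroup G = pCore p G ∧ pCore p G ≠ ⊥ := by
  by_cases h : ∀ (p : ℕ) [Fact p.Prime], pCore p G ≠ ⊥ → ∃ q : ℕ, q.Prime ∧ p ≠ q ∧ pCore q G ≠ ⊥
  · left
    refine coprime_index_of_forall_sylow_le fun p _ hp => ?_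
    have h1 := pCore_ne_bot_of_dvd_fitting hp
    obtain ⟨q, hq, hpq, h2⟩ := h p h1
    haveI := Fact.mk hq
    obtain ⟨P⟩ : Nonempty (Sylow p G) := inferInstance
    exact ⟨P, sylow_le_fitting hCN hpq h1 h2 P⟩
  · right
    push Not at h
    obtain ⟨p, hp, h1, h2⟩ := h
    refine ⟨p, hp.out, le_antisymm (fittingSubgroup_le_of_forall_pCore_le fun q hq => ?_)
      (pCore_le_fittingSubgroup p), h1⟩
    by_cases hpq : p = q
    · rw [hpq]
    · rw [h2 q hq.out hpq]; exact bot_le

theorem fitting_hall_of_normal_sylow (hCN : IsCNGroup G) {p : ℕ} [Fact p.Prime] (P : Sylow p G)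
    (hP1 : (P : Subgroup G) ≠ ⊥) [(P : Subgroup G).Normal] :
    (Nat.card (fittingSubgroup G)).Coprime (fittingSubgroup G).index := by
  refine coprime_index_of_forall_sylow_le fun q _ hq => ?_
  have h1 := sylow_eq_pCore_of_normal P
  by_cases hpq : q = p
  · subst hpq
    exact ⟨P, h1 ▸ pCore_le_fittingSubgroup q⟩
  · obtain ⟨Q⟩ : Nonempty (Sylow q G) := inferInstance
    exact ⟨Q, sylow_le_fitting hCN hpq (pCore_ne_bot_of_dvd_fitting hq) (h1 ▸ hP1) Q⟩

theorem fittingHall_eq_fitting (h : (Nat.card (fittingSubgroup G)).Coprime (fittingSubgroup G).index) :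
    fittingHall G = fittingSubgroup G :=
  le_antisymm (sSup_le fun N hN => by haveI := hN.1; exact le_fittingSubgroup hN.2.1)
    (le_sSup ⟨inferInstance, fittingSubgroup_isNilpotent G, h⟩)

/-- If `F(G)` is a Hall subgroup of the CN-group `G`, its complements act fixed-point-freely. -/
theorem fpf_of_isComplement' (hCN : IsCNGroup G)
    (h : (Nat.card (fittingSubgroup G)).Coprime (fittingSubgroup G).index) {E : Subgroup G}
    (hE : (fittingSubgroup G).IsComplement' E) :
    ∀ e ∈ E, e ≠ 1 → fittingSubgroup G ⊓ Subgroup.centralizer {e} = ⊥ := by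
  intro e he he1
  refine fitting_inf_centralizer hCN he1 (Nat.Coprime.coprime_dvd_left ?_ h.symm)
  rw [hE.symm.index_eq_card]
  exact Subgroup.orderOf_dvd_natCard E he

theorem exists_compl_of_fitting_hall (hCN : IsCNGroup G)
    (h : (Nat.card (fittingSubgroup G)).Coprime (fittingSubgroup G).index) (h1 : fittingSubgroup G ≠ ⊥) :
    ∃ E : Subgroup G, (fittingSubgroup G).IsComplement' E ∧ Group.IsNilpotent E ∧
      ∀ e ∈ E, e ≠ 1 → fittingSubgroup G ⊓ Subgroup.centralizer {e} = ⊥ := by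
  obtain ⟨E, hE⟩ := Subgroup.exists_right_complement'_of_coprime h
  have hfpf := fpf_of_isComplement' hCN h hE
  exact ⟨E, hE, isNilpotent_of_fpf hCN h1 Subgroup.le_normalizer_of_normal hfpf, hfpf⟩

omit [Finite G] in
theorem isNilpotent_quotient_of_isComplement' {N E : Subgroup G} [N.Normal] (h : N.IsComplement' E)
    (hE : Group.IsNilpotent E) : Group.IsNilpotent (G ⧸ N) :=
  Group.nilpotent_of_mulEquiv h.symm.QuotientMulEquiv.symm

/-- A normal subgroup contains every subgroup of order prime to its index. -/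
theorem le_of_coprime_index {N P : Subgroup G} [N.Normal] (h : (Nat.card P).Coprime N.index) : P ≤ N := by
  rw [← Subgroup.relIndex_eq_one]
  exact Nat.Coprime.eq_one_of_dvd
    (Nat.Coprime.coprime_dvd_left (Subgroup.relIndex_dvd_card N P) h) (Subgroup.relIndex_dvd_index_of_normal N P)

/-- A solvable CN-group whose Fitting subgroup is not a Hall subgroup is a three-step group. -/
theorem isThreeStepGroup_of_not_hall [Group.IsSolvable G] (hCN : IsCNGroup G) {p : ℕ} (hp : p.Prime)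
    (hF : fittingSubgroup G = pCore p G) (h1 : pCore p G ≠ ⊥)
    (hnh : ¬ (Nat.card (fittingSubgroup G)).Coprime (fittingSubgroup G).index) : IsThreeStepGroup p G := by
  haveI := Fact.mk hp
  set O := pCore p G with hO
  have hOp : IsPGroup p O := pCore_isPGroup p G
  have hpi : p ∣ O.index := by
    by_contra hnd
    apply hnh
    rw [hF]
    exact coprime_card_of_isPGroup hOp ((Nat.Prime.coprime_iff_not_dvd hp).mpr hnd).symm
  obtain ⟨A, hA⟩ := exists_piHall_of_solvable ({p}ᶜ : Set ℕ) G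
  obtain ⟨hAp, k, hAk⟩ := (isPiHall_compl_singleton_iff hp).mp hA
  have hAcop : (Nat.card A).Coprime p := ((Nat.Prime.coprime_iff_not_dvd hp).mpr hAp).symm
  have hcopOA : (Nat.card O).Coprime (Nat.card A) := coprime_card_of_isPGroup hOp hAcop
  have hfpf : ∀ a ∈ A, a ≠ 1 → O ⊓ Subgroup.centralizer {a} = ⊥ := by
    intro a ha ha1
    rw [← hF]
    refine fitting_inf_centralizer hCN ha1 ?_
    rw [hF]
    exact Nat.Coprime.coprime_dvd_left (Subgroup.orderOf_dvd_natCard A ha) hcopOA.symm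
  have hAO : A ≤ Subgroup.normalizer (O : Set G) := Subgroup.le_normalizer_of_normal
  have hAnil : Group.IsNilpotent A := isNilpotent_of_fpf hCN h1 hAO hfpf
  -- the quotient
  let π := QuotientGroup.mk' O
  have hπ : Function.Surjective π := QuotientGroup.mk'_surjective O
  have hCNq : IsCNGroup (G ⧸ O) := isCN_quotient hCN O inferInstance
  have hcardq : p ∣ Nat.card (G ⧸ O) := hpi
  haveI : Nontrivial (G ⧸ O) := by
    rw [← Finite.one_lt_card_iff_nontrivial]
    exact lt_of_lt_of_le hp.one_lt (Nat.le_of_dvd Nat.card_pos hcardq)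
  set F := fittingSubgroup (G ⧸ O) with hFq
  have hF1 : F ≠ ⊥ := fittingSubgroup_ne_bot (G ⧸ O)
  have hFp : ¬ p ∣ Nat.card F := fun h => pCore_ne_bot_of_dvd_fitting h (pCore_quotient_pCore p G)
  have hFcop : (Nat.card F).Coprime p := ((Nat.Prime.coprime_iff_not_dvd hp).mpr hFp).symm
  have hAq : IsPiHall ({p}ᶜ : Set ℕ) (A.map π) := isPiHall_map hA hπ
  have hFA : F ≤ A.map π := isPiHall_normal_le hAq ((isPiSubgroup_compl_singleton_iff hp).mpr hFcop)
  have hpfpf : ∀ x : G ⧸ O, x ≠ 1 → (∃ j, orderOf x = p ^ j) → F ⊓ Subgroup.centralizer {x} = ⊥ := by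
    rintro x hx ⟨j, hj⟩
    refine fitting_inf_centralizer hCNq hx ?_
    rw [hj]
    exact Nat.Coprime.pow_left j hFcop.symm
  have hinj : ∀ a ∈ A, π a = 1 → a = 1 := by
    intro a ha h
    have h2 : a ∈ O := (QuotientGroup.eq_one_iff a).mp h
    have h3 : a ∈ O ⊓ A := ⟨h2, ha⟩
    rw [(Subgroup.disjoint_of_coprime_natCard hcopOA).eq_bot] at h3
    exact Subgroup.mem_bot.mp h3
  haveI : Fact (Nat.Prime 2) := ⟨Nat.prime_two⟩
  obtain ⟨x, hx⟩ := exists_prime_orderOf_dvd_card' p hcardq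
  have hx1 : x ≠ 1 := ne_one_of_orderOf_prime hp hx
  have hFodd : ¬ 2 ∣ Nat.card F := by
    intro h2
    obtain ⟨⟨t, ht⟩, ht2⟩ := exists_prime_orderOf_dvd_card' 2 h2
    rw [← Subgroup.orderOf_coe] at ht2
    have ht1 : t ≠ 1 := ne_one_of_orderOf_prime Nat.prime_two ht2
    have htt : t * t = 1 := by rw [← sq, ← ht2]; exact pow_orderOf_eq_one t
    have key : ∀ s ∈ F, s ≠ 1 → s * s = 1 → s = t := by
      intro s hs hs1 hss
      obtain ⟨s', hs', rfl⟩ := hFA hs
      obtain ⟨t', ht', rfl⟩ := hFA ht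
      congr 1
      refine involution_unique_of_fpf h1 hAO hfpf hs' ht' (fun h => hs1 (by rw [h, map_one]))
        (fun h => ht1 (by rw [h, map_one])) (hinj _ (A.mul_mem hs' hs') (by rw [map_mul, hss]))
        (hinj _ (A.mul_mem ht' ht') (by rw [map_mul, htt]))
    have h3 := key (x * t * x⁻¹) (Subgroup.Normal.conj_mem inferInstance t ht x) (fun h => ht1 (by simpa using h))
      (by calc x * t * x⁻¹ * (x * t * x⁻¹) = x * (t * t) * x⁻¹ := by group
            _ = 1 := by rw [htt]; group)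
    refine ht1 (fpf_eq_one (hpfpf x hx1 ⟨1, by rw [hx, pow_one]⟩) ht ?_)
    calc t * x = (x * t * x⁻¹) * x := by rw [h3]
      _ = x * t := by group
  have hCF : Subgroup.centralizer (F : Set (G ⧸ O)) ≤ F := centralizer_fittingSubgroup_le (G ⧸ O)
  have hAodd : Odd (Nat.card A) := by
    by_contra h2
    rw [Nat.not_odd_iff_even] at h2
    obtain ⟨⟨t, ht⟩, ht2⟩ := exists_prime_orderOf_dvd_card' 2 h2.two_dvd
    rw [← Subgroup.orderOf_coe] at ht2
    have ht1 : t ≠ 1 := ne_one_of_orderOf_prime Nat.prime_two ht2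
    have h3 : orderOf (π t) = 2 := by
      have h4 : orderOf (π t) ∣ 2 := ht2 ▸ orderOf_map_dvd π t
      exact ((Nat.dvd_prime Nat.prime_two).mp h4).resolve_left fun h => ht1 (hinj t ht (orderOf_eq_one_iff.mp h))
    have h4 : π t ∈ F := hCF fun f hf =>
      commute_of_mem_nilpotent (isNilpotent_map hAnil π) (hFA hf) (Subgroup.mem_map_of_mem π ht) (by
        rw [h3]
        exact Nat.Coprime.coprime_dvd_left (Subgroup.orderOf_dvd_natCard F hf)
          ((Nat.Prime.coprime_iff_not_dvd Nat.prime_two).mpr hFodd).symm)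
    exact hFodd (h3 ▸ Subgroup.orderOf_dvd_natCard F h4)
  have hAc : IsCyclic A := isCyclic_of_fpf_of_odd h1 hAO hfpf hAnil hAodd
  have hAF : A.map π = F := by
    refine le_antisymm (le_trans ?_ hCF) hFA
    rintro _ ⟨a, ha, rfl⟩ f hf
    obtain ⟨b, hb, rfl⟩ := hFA hf
    rw [← map_mul, ← map_mul]
    congr 1
    letI := hAc.commGroup
    exact congrArg Subtype.val (mul_comm (⟨b, hb⟩ : A) ⟨a, ha⟩)
  have hsup : O ⊔ A = F.comap π := by
    rw [← hAF, Subgroup.comap_map_eq, QuotientGroup.ker_mk', sup_comm]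
  have hidx : ∃ n, (O ⊔ A).index = p ^ n := by
    have : (O ⊔ A).index ∣ p ^ k := hAk ▸ Subgroup.index_dvd_of_le le_sup_right
    obtain ⟨n, -, hn⟩ := (Nat.dvd_prime_pow hp).mp this
    exact ⟨n, hn⟩
  refine ⟨h1, A, ?_, hAc, hAodd, hAcop, by rw [hsup]; infer_instance, ?_, hidx, hfpf, ?_⟩
  · rintro rfl
    rw [Subgroup.map_bot] at hAF
    exact hF1 hAF.symm
  · intro h
    rw [hsup, ← Subgroup.comap_top π] at h
    have h2 : F = ⊤ := Subgroup.comap_injective hπ h
    apply hFp
    rw [h2, Subgroup.card_top]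
    exact hcardq
  · intro y hy a ha ha1 hc
    apply hy
    rw [hsup, Subgroup.mem_comap]
    have ha1' : π a ≠ 1 := fun h => ha1 (hinj a ha h)
    have haF : π a ∈ F := hAF ▸ Subgroup.mem_map_of_mem π ha
    have hle : Subgroup.centralizer {π a} ≤ F := by
      refine le_of_forall_isPGroup_le fun r hr P hPC hP => ?_
      by_cases hrp : r = p
      · subst hrp
        intro u hu
        by_cases hu1 : u = 1
        · rw [hu1]; exact F.one_mem
        obtain ⟨j, hj⟩ := IsPGroup.iff_orderOf.mp hP ⟨u, hu⟩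
        rw [← Subgroup.orderOf_coe] at hj
        exact absurd (fpf_eq_one (hpfpf u hu1 ⟨j, hj⟩) haF
          (Subgroup.mem_centralizer_singleton_iff.mp (hPC hu)).symm) ha1'
      · refine le_of_coprime_index (coprime_card_of_isPGroup hP ?_)
        obtain ⟨n, hn⟩ := hidx
        rw [hsup, Subgroup.index_comap_of_surjective _ hπ] at hn
        rw [hn]
        exact Nat.Coprime.pow_left n ((Nat.coprime_primes hp hr.out).mpr (Ne.symm hrp))
    apply hle
    rw [Subgroup.mem_centralizer_singleton_iff]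
    have h2 : π (y * a * y⁻¹ * a⁻¹) = 1 := (QuotientGroup.eq_one_iff _).mpr hc
    simp only [map_mul, map_inv] at h2
    calc π y * π a = (π y * π a * (π y)⁻¹ * (π a)⁻¹) * (π a * π y) := by group
      _ = π a * π y := by rw [h2, one_mul]

theorem fitting_hall_or_threeStep [Group.IsSolvable G] (hCN : IsCNGroup G) :
    (Nat.card (fittingSubgroup G)).Coprime (fittingSubgroup G).index ∨ ∃ p : ℕ, p.Prime ∧ IsThreeStepGroup p G := by
  by_cases h : (Nat.card (fittingSubgroup G)).Coprime (fittingSubgroup G).index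
  · exact Or.inl h
  · obtain ⟨p, hp, h1, h2⟩ := (fitting_hall_or_isPGroup hCN).resolve_left h
    exact Or.inr ⟨p, hp, isThreeStepGroup_of_not_hall hCN hp h1 h2 h⟩

end Fitting

end CL.CN
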