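import Cfsg.Agent.Grp.Primitive
import Cfsg.Agent.Grp.Comm1
import Cfsg.Agent.Char.Orth2
import Cfsg.Agent.S2904

/-! Camina `p`-groups with a transitive group of operators have class at most two. -/

set_option autoImplicit false
open Cfsg Subgroup
open scoped commutatorElement

namespace CL.Char.CamSolv

variable {G : Type*} [Group G]

theorem card_le_relIndex [Finite G] {P E S : Subgroup G} {x : G}
    (h : ∀ c ∈ S, ∃ y ∈ P, y * x * y⁻¹ = x * c) (hE : E ≤ centralizer {x}) :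
    Nat.card S ≤ E.relIndex P := by
  choose y hy hyc using h
  refine Nat.card_le_card_of_injective (fun c : S =>
    (QuotientGroup.mk ⟨y c c.2, hy c c.2⟩ : P ⧸ E.subgroupOf P)) fun a b hab => ?_
  have h1 : (y a a.2)⁻¹ * y b b.2 ∈ E := mem_subgroupOf.1 (QuotientGroup.eq.1 hab)
  have h2 := mem_centralizer_singleton_iff.1 (hE h1)
  refine Subtype.ext (mul_left_cancel (a := x) ?_)
  rw [← hyc a a.2, ← hyc b b.2]
  calc _ = y a a.2 * (x * ((y a a.2)⁻¹ * y b b.2)) * (y b b.2)⁻¹ := by group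
    _ = _ := by rw [← h2]; group

theorem exists_inj {P S : Subgroup G} {x : G} (h : ∀ y ∈ P, x⁻¹ * (y * x * y⁻¹) ∈ S) :
    ∃ f : P ⧸ (centralizer {x}).subgroupOf P → S, Function.Injective f ∧
      ∀ a, ∃ y ∈ P, y * x * y⁻¹ = x * f a := by
  refine ⟨fun a => ⟨_, h _ a.out.2⟩, fun a b hab => ?_, fun a => ⟨_, a.out.2, by simp⟩⟩
  have h1 := mul_left_cancel (congrArg Subtype.val hab)
  rw [← a.out_eq', ← b.out_eq', QuotientGroup.eq, mem_subgroupOf, mem_centralizer_singleton_iff]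
  push_cast
  calc _ = (a.out : G)⁻¹ * (b.out * x * (b.out : G)⁻¹) * b.out := by group
    _ = _ := by rw [← h1]; group

theorem index_eq_sub [Finite G] {D K : Subgroup G} [hD : D.Normal] [hK : K.Normal] (h : K ≤ D) {g : G}
    (hg : g ∈ D) (hgK : g ∉ K) (hc : ∀ x ∈ D, x ∉ K → IsConj g x) :
    (centralizer {g}).index = Nat.card D - Nat.card K := by
  rw [← card_isConj_eq_index_centralizer]
  refine (congrArg Set.ncard (Set.ext fun v => ⟨fun hv => ?_, fun hv => hc v hv.1 hv.2⟩)).trans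
    (Set.ncard_diff (s := (K : Set G)) (t := D) h)
  obtain ⟨c, rfl⟩ := isConj_iff.1 hv
  exact ⟨hD.conj_mem g hg c, fun e => hgK (by simpa [mul_assoc] using hK.conj_mem' _ e c)⟩

/-- The hypotheses. -/
structure Hyp (p : ℕ) (P Q : Subgroup G) : Prop where
  pg : IsPGroup p P
  lt : Q < P
  ab : ⁅P, P⁆ ≤ Q
  conj : ∀ x ∈ P, x ∉ Q → ∀ y ∈ P, y ∉ Q → IsConj x y
  cam : ∀ x ∈ P, x ∉ Q → ∀ c ∈ Q, ∃ y ∈ P, y * x * y⁻¹ = x * c

variable [Finite G] {p : ℕ} [hp : Fact p.Prime] {P Q : Subgroup G}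

omit hp in
theorem Hyp.bound (h : Hyp p P Q) {A R : Subgroup G} [A.Normal] (hAR : A ≤ R) (hR : R ≤ Q) {x : G}
    (hx : x ∈ P) (hxQ : x ∉ Q) (hc : ∀ r ∈ R, ⁅r, x⁆ ∈ A) : A.relIndex R < Q.relIndex P := by
  let π := QuotientGroup.mk' A
  have hE : R ⊔ zpowers x ≤ P := sup_le (hR.trans h.lt.le) (zpowers_le.2 hx)
  have h1 := card_le_relIndex (P := P.map π) (E := (R ⊔ zpowers x).map π) (S := Q.map π) (x := π x)
    (by
      rintro _ ⟨c, hc, rfl⟩
      obtain ⟨y, hy, e⟩ := h.cam x hx hxQ c hc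
      exact ⟨_, ⟨y, hy, rfl⟩, by rw [← map_inv, ← map_mul, ← map_mul, e, map_mul]⟩) (by
      rw [Subgroup.map_sup, MonoidHom.map_zpowers]
      refine sup_le ?_ (zpowers_le.2 (mem_centralizer_singleton_iff.2 rfl))
      rintro _ ⟨r, hr, rfl⟩
      rw [mem_centralizer_singleton_iff, ← commutatorElement_eq_one_iff_mul_comm,
        ← map_commutatorElement]
      exact (QuotientGroup.eq_one_iff _).2 (hc r hr))
  have hA : A ≤ Q := hAR.trans hR
  rw [Grp.card_map_mk', relIndex_map_map, QuotientGroup.ker_mk',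
    sup_eq_left.2 (hAR.trans le_sup_left), sup_eq_left.2 (hA.trans h.lt.le)] at h1
  have h2 := relIndex_mul_relIndex A Q P hA h.lt.le
  have h3 := relIndex_mul_relIndex A _ P (hAR.trans le_sup_left) hE
  have h4 := relIndex_mul_relIndex A R (R ⊔ zpowers x) hAR le_sup_left
  have h0 : ∀ A B : Subgroup G, 0 < A.relIndex B := fun A B =>
    Nat.pos_of_ne_zero index_ne_zero_of_finite
  have h5 : R.relIndex (R ⊔ zpowers x) ≠ 1 := fun e =>
    hxQ (hR (relIndex_eq_one.1 e (mem_sup_right (mem_zpowers x))))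
  have h6 : 2 ≤ R.relIndex (R ⊔ zpowers x) := by have := h0 R (R ⊔ zpowers x); omega
  have h7 : A.relIndex (R ⊔ zpowers x) ≤ Q.relIndex P := by
    refine Nat.le_of_mul_le_mul_left ?_ (h0 A Q)
    rw [h2, ← h3, mul_comm]
    exact Nat.mul_le_mul_left _ h1
  have := h0 A R
  nlinarith

theorem relIndex_pow {B : Subgroup G} (hB : IsPGroup p B) (A : Subgroup G) :
    ∃ j, A.relIndex B = p ^ j := hB.index _

theorem cent_of_lt {L A B : Subgroup G} [B.Normal] {r n : ℕ} [hr : Fact r.Prime]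
    (hB : IsPGroup p B) (hL : IsPGroup r L) (hrp : r ≠ p)
    (hz : ∀ k, 0 < k → k < n → ¬ r ∣ p ^ k - 1) (hAB : A ≤ B) (hA : A ≤ centralizer (L : Set G))
    (hlt : A.relIndex B < p ^ n) : B ≤ centralizer (L : Set G) := by
  have h1 := Grp.card_modEq_card_inf_centralizer hL (K := B) le_normalizer_of_normal
  obtain ⟨j, hj⟩ := relIndex_pow hB (B ⊓ centralizer (L : Set G))
  obtain ⟨i, hi⟩ := IsPGroup.iff_card.1 (hB.to_le (inf_le_left : B ⊓ centralizer (L : Set G) ≤ B))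
  have h2 : p ^ j ≤ A.relIndex B := hj ▸ Nat.le_of_dvd (Nat.pos_of_ne_zero index_ne_zero_of_finite)
    (relIndex_dvd_of_le_left B (le_inf hAB hA))
  rw [← Grp.card_mul_relIndex (inf_le_left : B ⊓ centralizer (L : Set G) ≤ B), hj, hi] at h1
  have h3 : p ^ j ≡ 1 [MOD r] := Nat.ModEq.cancel_left_of_coprime
    (((Nat.coprime_primes hr.out hp.out).2 hrp).pow_right i) (by rwa [mul_one])
  rcases j.eq_zero_or_pos with rfl | h0
  · exact (relIndex_eq_one.1 hj).trans inf_le_right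
  · exact absurd ((Nat.modEq_iff_dvd' (Nat.one_le_pow _ _ hp.out.pos)).1 h3.symm)
      (hz j h0 ((Nat.pow_lt_pow_iff_right hp.out.one_lt).1 (h2.trans_lt hlt)))

theorem Hyp.central [P.Normal] [Q.Normal] (h : Hyp p P Q) (hp2 : p ≠ 2) :
    Q ≤ centralizer (P : Set G) := by
  by_contra hne
  obtain ⟨R, ⟨hRn, hRQ, hR⟩, hmin⟩ := (Set.toFinite
    {R : Subgroup G | R.Normal ∧ R ≤ Q ∧ ¬ R ≤ centralizer (P : Set G)}).exists_minimal
    ⟨Q, inferInstance, le_rfl, hne⟩
  have hRP := hRQ.trans h.lt.le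
  have hle : ⁅R, P⁆ ≤ R := commutator_le_left _ _
  have hA : ⁅R, P⁆ ≤ centralizer (P : Set G) := by
    by_contra hc
    rw [Grp.eq_bot_of_le_commutator h.pg.isNilpotent hRP
      (hmin ⟨inferInstance, hle.trans hRQ, hc⟩ hle)] at hR
    exact hR bot_le
  have hA0 : ⁅R, P⁆ ≠ ⊥ := fun e => hR (commutator_eq_bot_iff_le_centralizer.1 e)
  obtain ⟨g, hg, hgQ⟩ := SetLike.exists_of_lt h.lt
  have hb : ∀ B ≤ Q, ∀ x ∈ P, x ∉ Q → B ≤ centralizer {x} → Nat.card B < Q.relIndex P :=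
    fun B hB x hx hxQ hc => relIndex_bot_left B ▸ h.bound bot_le hB hx hxQ fun r hr =>
      mem_bot.2 (commutatorElement_eq_one_iff_mul_comm.2 (mem_centralizer_singleton_iff.1 (hc hr)))
  have hAx : ∀ x ∈ P, ⁅R, P⁆ ≤ centralizer {x} := fun x hx =>
    hA.trans (centralizer_le (Set.singleton_subset_iff.2 hx))
  have b1 := hb _ (hle.trans hRQ) g hg hgQ (hAx g hg)
  have b2 := h.bound hle hRQ hg hgQ fun r hr => commutator_mem_commutator hr hg
  obtain ⟨n, hn⟩ := relIndex_pow h.pg Q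
  obtain ⟨i, hi⟩ := IsPGroup.iff_card.1 (h.pg.to_le (hle.trans hRP))
  have hi0 : i ≠ 0 := by
    rintro rfl
    exact hA0 (card_eq_one.1 hi)
  have hin : i < n := (Nat.pow_lt_pow_iff_right hp.out.one_lt).1 (by rwa [← hi, ← hn])
  by_cases hn2 : n = 2
  · obtain ⟨w, hw, hwP⟩ := SetLike.not_le_iff_exists.1 hR
    obtain ⟨f, hf, -⟩ := exists_inj (P := P) (S := ⁅R, P⁆) (x := w) fun y hy => by
      simpa [commutatorElement_def, mul_assoc] using commutator_mem_commutator (R.inv_mem hw) hy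
    have h1 : (centralizer {w}).relIndex P ≤ Nat.card (⁅R, P⁆ : Subgroup G) :=
      Nat.card_le_card_of_injective f hf
    obtain ⟨x, hx, hxQ⟩ : ∃ x ∈ centralizer {w} ⊓ P, x ∉ Q := by
      by_contra hc
      push Not at hc
      have := Nat.le_of_dvd (Nat.pos_of_ne_zero index_ne_zero_of_finite)
        (relIndex_dvd_of_le_left P hc)
      rw [← relIndex, inf_relIndex_right] at this
      omega
    have hB : ⁅R, P⁆ ⊔ zpowers w ≤ R := sup_le hle (zpowers_le.2 hw)
    have b3 := hb _ (hB.trans hRQ) x hx.2 hxQ (sup_le (hAx x hx.2) (zpowers_le.2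
      (mem_centralizer_singleton_iff.2 (mem_centralizer_singleton_iff.1 hx.1).symm)))
    obtain ⟨j, hj⟩ := IsPGroup.iff_card.1 (h.pg.to_le (hB.trans hRP))
    have b4 := Grp.card_lt_card_of_lt (H := ⁅R, P⁆) (K := ⁅R, P⁆ ⊔ zpowers w)
      (lt_of_le_not_ge le_sup_left fun e => hwP (hA (e (mem_sup_right (mem_zpowers w)))))
    rw [hi, hj, Nat.pow_lt_pow_iff_right hp.out.one_lt] at b4
    rw [hn, hj, Nat.pow_lt_pow_iff_right hp.out.one_lt] at b3
    omega
  obtain ⟨r, hr, hd, hz⟩ := Cfsg.Agent.S2904.result p n hp.out.one_lt (by omega)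
    (fun e => hp2 e.1) fun e => hn2 e.1
  haveI := Fact.mk hr
  have hrp : r ≠ p := by
    rintro rfl
    exact hr.not_dvd_one ((Nat.dvd_sub_iff_right (Nat.one_le_pow _ _ hr.pos)
      (dvd_pow_self r (by omega))).1 hd)
  obtain ⟨L⟩ : Nonempty (Sylow r G) := inferInstance
  have c1 := cent_of_lt (h.pg.to_le (hle.trans hRP)) L.isPGroup' hrp hz bot_le bot_le
    (by rwa [relIndex_bot_left, ← hn])
  have c2 := cent_of_lt (h.pg.to_le hRP) L.isPGroup' hrp hz hle c1 (hn ▸ b2)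
  have c3 : ⁅(L : Subgroup G), P⁆ ≤ centralizer (R : Set G) := by
    rw [← commutator_eq_bot_iff_le_centralizer]
    refine commutator_commutator_eq_bot_of_rotate ?_ ?_
    · rw [commutator_comm P, commutator_eq_bot_iff_le_centralizer]; exact c1
    · rw [commutator_eq_bot_iff_le_centralizer.2 c2, commutator_bot_left]
  obtain ⟨x, hx, hxQ⟩ : ∃ x ∈ ⁅(L : Subgroup G), P⁆, x ∉ Q := by
    by_contra hc
    push Not at hc
    let π := QuotientGroup.mk' Q
    have hπ : Function.Surjective π := QuotientGroup.mk'_surjective Q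
    refine (L.mapSurjective hπ).not_dvd_index (hd.trans ?_)
    haveI : (P.map π).Normal := Normal.map inferInstance π hπ
    have h1 := index_eq_sub (D := P.map π) (K := ⊥) bot_le (g := π g) ⟨g, hg, rfl⟩
      (fun e => hgQ ((QuotientGroup.eq_one_iff g).1 e)) (by
        rintro _ ⟨y, hy, rfl⟩ h1
        exact π.map_isConj (h.conj g hg hgQ y hy fun e => h1 ((QuotientGroup.eq_one_iff y).2 e)))
    rw [card_bot, Grp.card_map_mk', hn] at h1
    rw [← h1]
    refine index_dvd_of_le ?_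
    rintro _ ⟨s, hs, rfl⟩
    rw [mem_centralizer_singleton_iff, ← commutatorElement_eq_one_iff_mul_comm,
      ← map_commutatorElement]
    exact (QuotientGroup.eq_one_iff _).2 (hc _ (commutator_mem_commutator hs hg))
  have c4 : ∀ y ∈ P, y ∉ Q → y ∈ centralizer (R : Set G) := fun y hy hyQ => by
    obtain ⟨c, rfl⟩ := isConj_iff.1 (h.conj x (commutator_le_right _ _ hx) hxQ y hy hyQ)
    exact Normal.conj_mem inferInstance _ (c3 hx) c
  refine hR (le_centralizer_iff.1 fun y hy => ?_)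
  by_cases hyQ : y ∈ Q
  · have := mul_mem (c4 _ (P.mul_mem hy hg) fun e => hgQ ((Q.mul_mem_cancel_left hyQ).1 e))
      (inv_mem (c4 g hg hgQ))
    rwa [mul_inv_cancel_right] at this
  · exact c4 y hy hyQ

theorem Hyp.exists_pow [P.Normal] [Q.Normal] (h : Hyp p P Q) (hp2 : p ≠ 2)
    (hexp : ∀ x ∈ P, x ^ p ∈ Q) : ∃ x ∈ P, x ∉ Q ∧ x ^ p = 1 := by
  have hc := h.central hp2
  have h1 : ∀ a ∈ P, ∀ c ∈ Q, Commute a c := fun a ha c hc' => hc hc' a ha
  let f : P →* Q := MonoidHom.mk' (fun a => ⟨(a : G) ^ p, hexp _ a.2⟩) fun a b => Subtype.ext (by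
    have h2 := h.ab (commutator_mem_commutator b.2 a.2)
    refine Grp.mul_pow_prime_of_commute_comm hp.out hp2 (h1 _ a.2 _ h2) (h1 _ b.2 _ h2) ?_
    rw [← Grp.comm_pow_left (h1 _ b.2 _ h2), commutatorElement_eq_one_iff_commute]
    exact (h1 _ a.2 _ (hexp _ b.2)).symm)
  obtain ⟨g, hg, hgQ⟩ := SetLike.exists_of_lt h.lt
  have b := h.bound bot_le le_rfl hg hgQ fun r hr =>
    mem_bot.2 (commutatorElement_eq_one_iff_commute.2 (h1 g hg r hr).symm)
  by_contra hn
  push Not at hn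
  have h2 : f.ker ≤ Q.subgroupOf P := fun a ha => by
    by_contra e
    exact hn a a.2 e (congrArg Subtype.val ha)
  have h3 := Nat.le_of_dvd (Nat.pos_of_ne_zero index_ne_zero_of_finite) (index_dvd_of_le h2)
  rw [index_ker] at h3
  have h4 := f.range.card_le_card_group
  rw [relIndex_bot_left, relIndex] at b
  omega

end CL.Char.CamSolv
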