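import Cfsg.Agent.Char.CamP
import Cfsg.Agent.Char.Linear
import Cfsg.Agent.Transfer.Tate
import Cfsg.Agent.Grp.ThompsonFpf
import Cfsg.Agent.Grp.PGroupFrattini
import Cfsg.Agent.Odd.RelBasic
import Cfsg.Agent.Odd.FT

/-! Groups in which `G' \ K` is a single conjugacy class and `G/K` has one nonlinear character are solvable. -/

set_option autoImplicit false
open Cfsg Subgroup CL.Odd
open scoped commutatorElement ComplexConjugate

namespace CL.Char.CamSolv

universe u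

variable {G : Type u} [Group G] [Finite G]

omit [Finite G] in
theorem mem_of_pow {H : Subgroup G} {x : G} {m n : ℕ} (h : m.Coprime n) (h1 : x ^ m ∈ H) (h2 : x ^ n ∈ H) :
    x ∈ H := by
  have := H.mul_mem (H.zpow_mem h1 (m.gcdA n)) (H.zpow_mem h2 (m.gcdB n))
  rwa [← zpow_natCast, ← zpow_natCast, ← zpow_mul, ← zpow_mul, ← zpow_add, ← Nat.gcd_eq_gcd_ab, h,
    Nat.cast_one, zpow_one] at this

omit [Finite G] in
theorem comm_mem (h x : G) : x⁻¹ * (h * x * h⁻¹) ∈ commutator G := by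
  simpa [commutatorElement_def, mul_assoc, commutator_def] using commutator_mem_commutator (mem_top x⁻¹) (mem_top h)

theorem top_struct {g : G} (hg : g ∈ commutator G) (h1 : g ≠ 1) (hc : ∀ x ∈ commutator G, x ≠ 1 → IsConj g x)
    (ho : ∀ y ∉ commutator G, ∀ d ∈ commutator G, IsConj y (y * d)) :
    ∃ p : ℕ, p.Prime ∧ p ∣ Nat.card (commutator G) ∧ (∀ x ∈ commutator G, x ^ p = 1) ∧
      commutator G ≤ C1[g] ∧ (∀ x ∈ commutator G, C1[g] ≤ C1[x]) ∧
      (∀ x ∈ commutator G, x ≠ 1 → C1[x] ≤ C1[g]) ∧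
      (C1[g] : Subgroup G).index = Nat.card (commutator G) - 1 ∧ (p ≠ 2 → C1[g] ≤ commutator G) := by
  have h0 : commutator G ≠ ⊥ := ne_bot_of_mem hg h1
  obtain ⟨p, hp, hd⟩ := Nat.exists_prime_and_dvd (mt card_eq_one.1 h0)
  haveI := Fact.mk hp
  have hord : ∀ x ∈ commutator G, x ≠ 1 → orderOf x = orderOf g := fun x hx hx1 => by
    obtain ⟨c, rfl⟩ := isConj_iff.1 (hc x hx hx1)
    exact orderOf_conj c g
  have hexp : ∀ x ∈ commutator G, x ^ p = 1 := fun x hx => by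
    obtain ⟨⟨z, hz⟩, e⟩ := exists_prime_orderOf_dvd_card' p hd
    rw [orderOf_mk] at e
    by_cases hx1 : x = 1
    · rw [hx1, one_pow]
    · rw [← e, hord z hz (by rintro rfl; exact hp.one_lt.ne (by simpa using e)), ← hord x hx hx1,
        pow_orderOf_eq_one]
  have hP : IsPGroup p (commutator G) := fun x => ⟨1, Subtype.ext (by simpa using hexp x x.2)⟩
  have hab : commutator G ≤ C1[g] := by
    obtain ⟨z, hz, hz1⟩ := ne_bot_iff.1 (center_ne_bot_of_nil hP.isNilpotent h0)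
    obtain ⟨c, rfl⟩ := isConj_iff.1 (hc z hz.1 hz1).symm
    exact le_c1_iff.2 (Normal.conj_mem inferInstance _ hz.2 c)
  haveI : (C1[g] : Subgroup G).Normal := Normal.of_commutator_le G hab
  have hC : ∀ x ∈ commutator G, x ≠ 1 → C1[x] = C1[g] := fun x hx hx1 => by
    obtain ⟨c, rfl⟩ := isConj_iff.1 (hc x hx hx1)
    rw [← cj_c1, cj_eq_self (le_normalizer_of_normal (mem_top c))]
  have hC' : ∀ x ∈ commutator G, C1[g] ≤ C1[x] := fun x hx => by
    by_cases hx1 : x = 1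
    · rw [hx1, c1_one]; exact le_top
    · exact (hC x hx hx1).ge
  have hi := index_eq_sub (K := ⊥) bot_le hg h1 hc
  rw [card_bot] at hi
  refine ⟨p, hp, hd, hexp, hab, hC', fun x hx hx1 => (hC x hx hx1).le, hi, fun h2 y hy => by_contra fun hy' => ?_⟩
  have hy1 : (C1[y] : Subgroup G).index = Nat.card (commutator G) := by
    rw [← card_isConj_eq_index_centralizer]
    exact Nat.card_congr ⟨fun x => ⟨y⁻¹ * x, by obtain ⟨_, hx⟩ := x; obtain ⟨c, rfl⟩ := isConj_iff.1 hx; exact comm_mem c y⟩,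
      fun d => ⟨y * d, ho y hy' d d.2⟩, fun x => by simp, fun d => by simp⟩
  have hco : (C1[g] : Subgroup G).index.Coprime (C1[y] : Subgroup G).index := by
    rw [hi, hy1]
    exact (Nat.coprime_self_sub_left Nat.card_pos).2 (Nat.coprime_one_left _)
  have hle : C1[y] ≤ C1[g] := fun t ht => by
    obtain ⟨h, e⟩ := isConj_iff.1 (ho y hy' g hg)
    obtain ⟨c, hc, s, hs, rfl⟩ := Grp.exists_mul_eq_of_coprime_index hco h
    have e1 : c * y * c⁻¹ = y * g := by rw [← e, ← mem_c1_iff_conj.1 hs]; conv_lhs => rw [← mem_c1_iff_conj.1 hs]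
                                        group
    have e2 := mem_c1_iff_conj.1 (mem_c1_comm.1 (hC' _ (comm_mem c t) (mul_mem hy (mem_c1_self g))))
    have e3 := mem_c1_iff_conj.1 ht
    rw [mem_c1_iff_conj, ← mul_left_cancel_iff (a := y)]
    calc _ = t * (y * g) * t⁻¹ := by conv_lhs => rw [← e3]
                                     group
      _ = t * (t⁻¹ * (c * t * c⁻¹) * (c * y * c⁻¹) * (t⁻¹ * (c * t * c⁻¹))⁻¹) * t⁻¹ := by rw [e1, e2]
      _ = c * (t * y * t⁻¹) * c⁻¹ := by group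
      _ = _ := by rw [e3, e1]
  have htop : (C1[g] : Subgroup G) = ⊤ := eq_top_iff.2 fun h _ => by
    obtain ⟨c, hc, s, hs, rfl⟩ := Grp.exists_mul_eq_of_coprime_index hco h
    exact mul_mem hc (hle hs)
  rw [htop, index_top] at hi
  rw [show Nat.card (commutator G) = 2 by omega] at hd
  exact h2 ((Nat.prime_dvd_prime_iff_eq hp Nat.prime_two).1 hd)

theorem solvable {K : Subgroup G} [K.Normal] {g : G} (hK : K ≤ commutator G) (hg : g ∈ commutator G) (h1 : g ∉ K)
    (hc : ∀ x ∈ commutator G, x ∉ K → IsConj g x)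
    (ho : ∀ y ∉ commutator G, ∀ d ∈ commutator G, IsConj (y : G ⧸ K) (y * d : G)) : Group.IsSolvable G := by
  let π := QuotientGroup.mk' K
  have hπ : Function.Surjective π := QuotientGroup.mk'_surjective K
  have hπ1 : ∀ x, π x = 1 ↔ x ∈ K := QuotientGroup.eq_one_iff
  have hD : (commutator G).map π = commutator (G ⧸ K) := by
    rw [commutator_def, map_commutator, map_top_of_surjective π hπ, commutator_def]
  have hD' : ∀ x, π x ∈ commutator (G ⧸ K) ↔ x ∈ commutator G := fun x => by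
    rw [← hD, ← mem_comap, comap_map_eq, QuotientGroup.ker_mk', sup_eq_left.2 hK]
  obtain ⟨p, hp, hd, s1, s2, s3, s4, s5, s6⟩ := top_struct (g := π g) ((hD' g).2 hg) (mt (hπ1 g).1 h1)
    (fun x hx hx1 => by
      obtain ⟨x, rfl⟩ := hπ x
      exact π.map_isConj (hc x ((hD' x).1 hx) (mt (hπ1 x).2 hx1)))
    (fun y hy d hd => by
      obtain ⟨y, rfl⟩ := hπ y
      obtain ⟨d, rfl⟩ := hπ d
      exact ho y (mt (hD' y).2 hy) d ((hD' d).1 hd))
  haveI := Fact.mk hp
  have t1 : ∀ x ∈ commutator G, x ^ p ∈ K := fun x hx => (hπ1 _).1 (by rw [map_pow, s1 _ ((hD' x).2 hx)])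
  obtain ⟨a, m, hm, e⟩ := Nat.exists_eq_pow_mul_and_not_dvd (orderOf_pos g).ne' p hp.one_lt.ne'
  have t2 : ∀ x ∈ commutator G, x ∉ K → x ^ p ^ a = 1 := fun x hx hxK => by
    obtain ⟨c, rfl⟩ := isConj_iff.1 (hc x hx hxK)
    obtain ⟨d, e1⟩ := isConj_iff.1 (hc _ (pow_mem hg m) fun h => h1 (mem_of_pow
      ((hp.coprime_iff_not_dvd).2 hm) (t1 g hg) h)).symm
    rw [conj_pow, ← e1, conj_pow, ← pow_mul, mul_comm m, ← e, pow_orderOf_eq_one]
    simp
  obtain ⟨j, -, ej⟩ := (Nat.dvd_prime_pow hp).1 (orderOf_dvd_of_pow_eq_one (t2 g hg h1))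
  obtain ⟨P, hP⟩ := (IsPGroup.of_card (G := zpowers g) ((Nat.card_zpowers g).trans ej)).exists_le_sylow
  haveI : (C1[π g] : Subgroup (G ⧸ K)).Normal := Normal.of_commutator_le _ s2
  have t3 : ∀ y ∈ (P : Subgroup G), g⁻¹ * (y * g * y⁻¹) ∈ K ⊓ P := fun y hy => by
    have hgP := hP (mem_zpowers g)
    refine mem_inf.2 ⟨(hπ1 _).1 ?_, mul_mem (inv_mem hgP) (mul_mem (mul_mem hy hgP) (inv_mem hy))⟩
    obtain ⟨k, hk⟩ := P.isPGroup' ⟨y, hy⟩
    have : π y ∈ (C1[π g] : Subgroup (G ⧸ K)) := mem_of_pow (m := p ^ k) (Nat.Coprime.pow_left k (by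
      rw [s5, hp.coprime_iff_not_dvd, Nat.dvd_sub_iff_right Nat.card_pos hd]
      exact hp.not_dvd_one)) (by rw [← map_pow, show y ^ p ^ k = 1 from congrArg Subtype.val hk, map_one]; exact one_mem _)
      (pow_index_mem _ _)
    rw [map_mul, map_mul, map_mul, map_inv, map_inv, mem_c1_iff_conj.1 this, inv_mul_cancel]
  obtain ⟨f, hf, hf'⟩ := exists_inj t3
  have t4 : Nat.card (K ⊓ P : Subgroup G) ≤ (C1[g] : Subgroup G).relIndex P := by
    have e1 := (C1[g] : Subgroup G).card_mul_index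
    rw [index_eq_sub hK hg h1 hc, ← Grp.card_mul_relIndex hK, ← Nat.mul_sub_one, ← mul_assoc] at e1
    obtain ⟨i, hi⟩ := IsPGroup.iff_card.1 (P.isPGroup'.to_inf_right (H := C1[g]))
    obtain ⟨j, hj⟩ := IsPGroup.iff_card.1 (P.isPGroup'.to_inf_right (H := K))
    have e2 : p ^ (i + j) ∣ Nat.card P := P.pow_dvd_card_of_pow_dvd_card (by
      rw [pow_add, ← hi, ← hj, ← e1]
      exact (mul_dvd_mul (card_dvd_of_le inf_le_left) (card_dvd_of_le inf_le_left)).mul_right _)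
    rw [pow_add, ← hi, ← hj, ← Grp.card_inf_mul_relIndex C1[g] P] at e2
    exact Nat.le_of_dvd (Nat.pos_of_ne_zero index_ne_zero_of_finite) (Nat.dvd_of_mul_dvd_mul_left Nat.card_pos e2)
  have t5 : K ⊓ P ≤ (frattini P).map (P : Subgroup G).subtype := fun c hc => by
    obtain ⟨b, hb⟩ := (hf.bijective_of_nat_card_le t4).2 ⟨c, hc⟩
    obtain ⟨y, hy, e⟩ := hf' b
    exact ⟨_, Grp.commutator_le_frattini P.isPGroup' (comm_mem ⟨y, hy⟩ ⟨g, hP (mem_zpowers g)⟩), by
      rw [hb] at e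
      change g⁻¹ * (y * g * y⁻¹) = c
      rw [e, inv_mul_cancel_left]⟩
  have t6 := CL.Transfer.inf_pResidual_eq_bot_of_le_frattini P K t5
  haveI := CL.Transfer.pResidual_characteristic (G := K) p
  set M := (pResidual p K).map K.subtype
  have hMK : M ≤ K := map_subtype_le _
  have t7 : ¬ p ∣ Nat.card M := by
    have := (Grp.isSylowIn_inf_normal P M).not_dvd
    rwa [inf_comm, t6, relIndex_bot_left] at this
  let σ := QuotientGroup.mk' M
  have hσ : Function.Surjective σ := QuotientGroup.mk'_surjective M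
  have hσ1 : ∀ x, σ x ∈ K.map σ ↔ x ∈ K := fun x => by
    rw [← mem_comap, comap_map_eq, QuotientGroup.ker_mk', sup_eq_left.2 hMK]
  have t8 : IsPGroup p ((commutator G).map σ) := by
    rintro ⟨_, x, hx, rfl⟩
    obtain ⟨k, hk⟩ := CL.Transfer.exists_pow_mem_pResidual p (⟨_, t1 x hx⟩ : K)
    refine ⟨k + 1, Subtype.ext ?_⟩
    change σ x ^ p ^ (k + 1) = 1
    rw [pow_succ', pow_mul, ← map_pow, ← map_pow]
    exact (QuotientGroup.eq_one_iff _).2 ⟨_, hk, rfl⟩
  have t9 : Group.IsSolvable M := by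
    by_cases h2 : p = 2
    · subst h2
      exact feit_thompson (Nat.not_even_iff_odd.1 (mt even_iff_two_dvd.1 t7))
    haveI : ((commutator G).map σ).Normal := Normal.map inferInstance σ hσ
    haveI : (K.map σ).Normal := Normal.map inferInstance σ hσ
    obtain ⟨_, ⟨x, hx, rfl⟩, hxK, e⟩ := Hyp.exists_pow (p := p) (P := (commutator G).map σ) (Q := K.map σ) ⟨t8,
      lt_of_le_not_ge (map_mono hK) fun e => h1 ((hσ1 g).1 (e ⟨g, hg, rfl⟩)), by
        rw [← map_commutator]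
        refine map_mono (commutator_le.2 fun x hx y hy => (hπ1 _).1 ?_)
        rw [map_commutatorElement, commutatorElement_eq_one_iff_mul_comm]
        exact mem_c1.1 (s3 _ ((hD' y).2 hy) (s2 ((hD' x).2 hx))), by
        rintro _ ⟨x, hx, rfl⟩ hxK _ ⟨y, hy, rfl⟩ hyK
        exact σ.map_isConj ((hc x hx (mt (hσ1 x).2 hxK)).symm.trans (hc y hy (mt (hσ1 y).2 hyK))), by
        rintro _ ⟨x, hx, rfl⟩ hxK _ ⟨c, hcK, rfl⟩
        have hxK' := mt (hσ1 x).2 hxK
        obtain ⟨h, e⟩ := isConj_iff.1 ((hc x hx hxK').symm.trans (hc _ (mul_mem hx (hK hcK))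
          fun e => hxK' ((K.mul_mem_cancel_right hcK).1 e)))
        refine ⟨_, ⟨h, (hD' h).1 (s6 h2 (s4 _ ((hD' x).2 hx) (mt (hπ1 x).1 hxK') (mem_c1_iff_conj.2 ?_))), rfl⟩,
          by rw [← map_inv, ← map_mul, ← map_mul, e, map_mul]⟩
        rw [← map_inv, ← map_mul, ← map_mul, e, map_mul, (hπ1 c).2 hcK, mul_one]⟩ h2 (by
        rintro _ ⟨x, hx, rfl⟩
        exact ⟨_, t1 x hx, map_pow σ x p⟩)
    have hxK' := mt (hσ1 x).2 hxK
    have hM1 : ∀ c ∈ M, c ^ p ^ a = 1 → c = 1 := fun c hc e => orderOf_eq_one_iff.1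
      (Nat.eq_one_of_dvd_coprimes ((hp.coprime_iff_not_dvd.2 t7).pow_left a) (orderOf_dvd_of_pow_eq_one e)
        (M.orderOf_dvd_natCard hc))
    have e1 : x ^ p = 1 := hM1 _ ((QuotientGroup.eq_one_iff _).1 ((map_pow σ x p).trans e)) (by
      rw [← pow_mul, mul_comm, pow_mul, t2 x hx hxK', one_pow])
    refine sol_of_nil (Grp.isNilpotent_of_fpf_prime (a := x) (by
      rwa [orderOf_eq_prime e1 (by rintro rfl; exact hxK' (one_mem _))]) (le_normalizer_of_normal (mem_top x))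
      (eq_bot_iff.2 fun c hc => hM1 c hc.1 ?_))
    have e2 := t2 _ (mul_mem (hK (hMK hc.1)) hx) fun e => hxK' ((K.mul_mem_cancel_left (hMK hc.1)).1 e)
    rwa [(mem_c1_iff_commute.1 hc.2).mul_pow, t2 x hx hxK', mul_one] at e2
  refine (Group.isSolvable_iff_subgroup_quotient M).2 ⟨t9, (Group.isSolvable_iff_subgroup_quotient
    (commutator (G ⧸ M))).2 ⟨?_, Group.isSolvable_of_comm (Normal.quotient_commutative_iff_commutator_le.2 le_rfl).1.1⟩⟩
  rw [_root_.commutator_def, map_commutator, map_top_of_surjective σ hσ] at t8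
  exact sol_of_isPGroup hp t8

open Classical in
theorem sum_lin (x : G) : ∑ ψ ∈ Finset.univ.filter (fun ψ : IrrCharacter G => (ψ : G → ℂ) 1 = 1), (ψ : G → ℂ) x =
    if x ∈ commutator G then ((commutator G).index : ℂ) else 0 := by
  have h := sum_irr_comp (QuotientGroup.mk' (commutator G)) (QuotientGroup.mk'_surjective _)
    (fun φ => φ x * conj (φ 1))
  rw [Finset.filter_congr (q := fun ψ : IrrCharacter G => (ψ : G → ℂ) 1 = 1) fun ψ _ => by
    rw [QuotientGroup.ker_mk', ψ.2.one_eq_one_iff]] at h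
  rw [Finset.sum_congr rfl (g := fun ψ : IrrCharacter G => (ψ : G → ℂ) x * conj ((ψ : G → ℂ) 1)) fun ψ hψ => by
    rw [(Finset.mem_filter.1 hψ).2, map_one, mul_one], ← h]
  refine (sum_irr_mul_conj _ _).trans ?_
  rw [map_one, c1_one, card_top]
  split_ifs with hx
  · rw [classInd_of_isConj (by rw [QuotientGroup.mk'_apply, (QuotientGroup.eq_one_iff x).2 hx]), mul_one]; rfl
  · rw [QuotientGroup.mk'_apply, classInd_of_not_isConj fun e => hx ((QuotientGroup.eq_one_iff x).1 (isConj_one_right.1 e)), mul_zero]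

theorem main {g : G} (hg : g ≠ 1) (χ : IrrCharacter G) (h1 : (χ : G → ℂ) 1 ≠ 1) (h2 : (χ : G → ℂ) g ≠ 0)
    (h3 : ∀ ψ : IrrCharacter G, (ψ : G → ℂ) 1 ≠ 1 → ψ ≠ χ → (ψ : G → ℂ) g = 0) :
    g ∈ commutator G ∧ (χ : G → ℂ) g = -(((commutator G).index : ℂ) / (χ : G → ℂ) 1) ∧
    ((commutator G : Set G) = {x : G | (χ : G → ℂ) x = (χ : G → ℂ) 1} ∪ {h : G | IsConj g h}) ∧
    (∀ x : G, x ∉ commutator G → (χ : G → ℂ) x = 0) ∧
    (∀ ψ : IrrCharacter G, (ψ : G → ℂ) 1 ≠ 1 →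
      (∀ x : G, (χ : G → ℂ) x = (χ : G → ℂ) 1 → (ψ : G → ℂ) x = (ψ : G → ℂ) 1) → ψ = χ) ∧
    Group.IsSolvable G := by
  classical
  letI := Fintype.ofFinite G
  have split : ∀ F : IrrCharacter G → ℂ, (∀ ψ : IrrCharacter G, (ψ : G → ℂ) g = 0 → F ψ = 0) → ∑ ψ, F ψ =
      ∑ ψ ∈ Finset.univ.filter (fun ψ : IrrCharacter G => (ψ : G → ℂ) 1 = 1), F ψ + F χ := fun F hF => by
    rw [← Finset.sum_filter_add_sum_filter_not _ (fun ψ : IrrCharacter G => (ψ : G → ℂ) 1 = 1),
      Finset.sum_eq_single_of_mem (s := Finset.univ.filter fun ψ : IrrCharacter G => ¬ (ψ : G → ℂ) 1 = 1) χ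
        (by simpa using h1) fun ψ hψ e => hF ψ (h3 ψ (by simpa using hψ) e)]
  have d1 : ∀ ψ : IrrCharacter G, conj ((ψ : G → ℂ) 1) = (ψ : G → ℂ) 1 ∧ (ψ : G → ℂ) 1 ≠ 0 := fun ψ => by
    rw [← ψ.2.cast_charDegree]
    exact ⟨Complex.conj_natCast _, Nat.cast_ne_zero.2 ψ.2.charDegree_pos.ne'⟩
  have e1 := split _ (fun ψ h => show (ψ : G → ℂ) g * conj ((ψ : G → ℂ) 1) = 0 by rw [h, zero_mul])
  rw [sum_irr_mul_conj_of_not_isConj (mt isConj_one_left.1 hg), Finset.sum_congr rfl fun ψ hψ => by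
    rw [(Finset.mem_filter.1 hψ).2, map_one, mul_one], sum_lin, (d1 χ).1] at e1
  have hD : g ∈ commutator G := by_contra fun h => by
    rw [if_neg h, zero_add] at e1
    exact mul_ne_zero h2 (d1 χ).2 e1.symm
  rw [if_pos hD] at e1
  have hχ : (χ : G → ℂ) g = -(((commutator G).index : ℂ) / (χ : G → ℂ) 1) := by
    have := (d1 χ).2
    field_simp
    linear_combination -e1
  have hm : ((commutator G).index : ℂ) ≠ 0 := Nat.cast_ne_zero.2 index_ne_zero_of_finite
  have e2 : ∀ x, ¬ IsConj g x → (χ : G → ℂ) x = if x ∈ commutator G then (χ : G → ℂ) 1 else 0 := fun x hx => by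
    have e := split _ (fun ψ h => show (ψ : G → ℂ) x * conj ((ψ : G → ℂ) g) = 0 by rw [h, map_zero, mul_zero])
    rw [sum_irr_mul_conj_of_not_isConj (mt IsConj.symm hx), Finset.sum_congr rfl fun ψ hψ => by
      rw [apply_eq_one_of_mem_charKer (ψ.2.one_eq_one_iff.1 (Finset.mem_filter.1 hψ).2 hD),
        (Finset.mem_filter.1 hψ).2, map_one, mul_one], sum_lin, hχ, map_neg, map_div₀, Complex.conj_natCast,
      (d1 χ).1] at e
    have := (d1 χ).2
    split_ifs at e ⊢ <;> field_simp at e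
    · exact mul_left_cancel₀ hm (by linear_combination e)
    · exact mul_left_cancel₀ hm (by linear_combination e)
  have e3 : ∀ x, IsConj g x → x ∈ commutator G := fun x hx => by
    obtain ⟨c, rfl⟩ := isConj_iff.1 hx
    exact Normal.conj_mem inferInstance g hD c
  have e4 : ∀ x ∉ commutator G, (χ : G → ℂ) x = 0 := fun x hx => by rw [e2 x (mt (e3 x) hx), if_neg hx]
  have e5 : ∀ x, (χ : G → ℂ) x = (χ : G → ℂ) 1 → x ∈ commutator G := fun x hx =>
    by_contra fun h => (d1 χ).2 (hx.symm.trans (e4 x h))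
  have e6 : ∀ x ∈ commutator G, (χ : G → ℂ) x ≠ (χ : G → ℂ) 1 → IsConj g x := fun x hx h =>
    by_contra fun h' => h (by rw [e2 x h', if_pos hx])
  have e7 : ∀ ψ : IrrCharacter G, (ψ : G → ℂ) 1 ≠ 1 →
      (∀ x : G, (χ : G → ℂ) x = (χ : G → ℂ) 1 → (ψ : G → ℂ) x = (ψ : G → ℂ) 1) → ψ = χ := fun ψ hψ h => by
    by_contra hne
    have s1 : ∑ x, ∑ θ ∈ Finset.univ.filter (fun ψ : IrrCharacter G => (ψ : G → ℂ) 1 = 1),
        (θ : G → ℂ) x * conj ((ψ : G → ℂ) x) = 0 := by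
      rw [Finset.sum_comm]
      refine Finset.sum_eq_zero fun θ hθ => ?_
      have := θ.2.classInner_of_ne ψ.2 fun e => hψ (e ▸ (Finset.mem_filter.1 hθ).2)
      exact (mul_eq_zero.1 this).resolve_left (inv_ne_zero (Nat.cast_ne_zero.2 Nat.card_pos.ne'))
    rw [Finset.sum_congr rfl (g := fun x => if (χ : G → ℂ) x = (χ : G → ℂ) 1 then
      ((commutator G).index : ℂ) * (ψ : G → ℂ) 1 else 0) fun x _ => by
        rw [← Finset.sum_mul, sum_lin]
        by_cases hx : (χ : G → ℂ) x = (χ : G → ℂ) 1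
        · rw [if_pos (e5 x hx), if_pos hx, h x hx, (d1 ψ).1]
        · rw [if_neg hx]
          split_ifs with hx'
          · rw [← ψ.2.isCharacter.isClassFunction.apply_eq_of_isConj (e6 x hx' hx), h3 ψ hψ hne, map_zero, mul_zero]
          · rw [zero_mul], ← Finset.sum_filter, Finset.sum_const, nsmul_eq_mul] at s1
    exact mul_ne_zero (Nat.cast_ne_zero.2 (Finset.card_ne_zero.2 ⟨1, by simp⟩)) (mul_ne_zero hm (d1 ψ).2) s1
  refine ⟨hD, hχ, Set.ext fun x => ⟨fun hx => ?_, fun hx => hx.elim (e5 x) (e3 x)⟩, e4, e7, ?_⟩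
  · by_cases h : (χ : G → ℂ) x = (χ : G → ℂ) 1
    exacts [Or.inl h, Or.inr (e6 x hx h)]
  haveI := χ.2.charKer_normal
  refine solvable (K := charKer (χ : G → ℂ)) (fun x hx => e5 x (χ.2.mem_charKer.1 hx)) hD (fun h => ?_)
    (fun x hx h => e6 x hx (mt χ.2.mem_charKer.2 h)) fun y hy d hd => (isConj_iff_forall_irr _ _).2 fun ψ => ?_
  · rw [χ.2.mem_charKer.1 h, ← χ.2.cast_charDegree] at e1
    have : 0 = (commutator G).index + charDegree (χ : G → ℂ) * charDegree (χ : G → ℂ) := by exact_mod_cast e1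
    exact index_ne_zero_of_finite (H := commutator G) (by omega)
  · have hψ := ψ.2.inflate
    by_cases h : (ψ : G ⧸ charKer (χ : G → ℂ) → ℂ) (1 : G) = 1
    · have := hψ.isCharacter.map_mul_of_one_eq_one h y d
      rw [this, apply_eq_one_of_mem_charKer (hψ.one_eq_one_iff.1 h hd), h, mul_one]
    · have := congrArg Subtype.val (e7 ⟨_, hψ⟩ h fun x hx =>
        apply_eq_one_of_mem_charKer (le_charKer_inflate _ (χ.2.mem_charKer.2 hx)))
      exact (congrFun this y).trans ((e4 y hy).trans ((congrFun this (y * d)).trans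
        (e4 _ (mt ((commutator G).mul_mem_cancel_right hd).1 hy))).symm)

end CL.Char.CamSolv
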