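/-
Kernels of irreducible characters and the Fitting subgroup (Isaacs 12.19 - 12.21).
-/
import Cfsg.Agent.Char.DegJust
import Cfsg.Agent.Grp.SylowIn

set_option autoImplicit false

open Cfsg
open scoped ComplexConjugate commutatorElement

namespace CL.Char

universe u

variable {G : Type*} [Group G]

theorem exists_larger_or_vanish [Finite G] {χ : G → ℂ} (hχ : IsIrrCharacter G χ) {H : Subgroup G}
    (hH : IsCoatom H) (hK : ¬ charKer χ ≤ H) :
    (∃ ψ, IsIrrCharacter G ψ ∧ charDegree χ < charDegree ψ ∧ charKer ψ < charKer χ) ∨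
      ∀ h ∈ H, χ h ≠ 0 → h ∈ H.normalCore := by
  let _ := Fintype.ofFinite G
  let _ := Fintype.ofFinite H
  have hres : ∀ ψ, IsIrrCharacter G ψ → ¬ charKer ψ ≤ H → IsIrrCharacter H (fun x : H => ψ x) :=
    fun ψ hψ h => isIrrCharacter_restrict_of_charCenter H hψ
      (CL.Grp.sup_eq_top_of_isCoatom hH (fun h' => h ((charKer_le_charCenter ψ).trans h')))
  have hθ := hres χ hχ hK
  by_cases hall : ∀ ψ, IsIrrCharacter G ψ → classInner (indFun H (fun x : H => χ x)) ψ ≠ 0 →
      ∀ x : H, ψ x = χ x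
  · exact Or.inr (fun h hh h0 => mem_normalCore_of_forall_res_eq hθ.isCharacter hall ⟨h, hh⟩ h0)
  left
  push Not at hall
  obtain ⟨ψ, hψ, hc, x, hx⟩ := hall
  rw [classInner_indFun_eq_res hθ.isCharacter hψ.isCharacter] at hc
  have hne : (fun x : H => ψ x) ≠ fun x : H => χ x := fun h => hx (congrFun h x)
  have hψH := hψ.isCharacter.restrict H
  have hL : charKer ψ ≤ H := by
    by_contra h
    exact hne ((hres ψ hψ h).eq_of_classInner_ne_zero hθ hc)
  refine ⟨ψ, hψ, lt_of_le_of_ne (hψH.charDegree_le_of_classInner_ne_zero hθ hc) (fun h => hne ?_),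
    lt_of_le_of_ne (fun y hy => ?_) (fun h => hK (h ▸ hL))⟩
  · refine hψH.eq_of_classInner_ne_zero_of_one_eq hθ hc ?_
    change ψ 1 = χ 1
    rw [← hψ.cast_charDegree, ← hχ.cast_charDegree, h]
  · have h1 : (⟨y, hL hy⟩ : H) ∈ charKer (fun x : H => ψ x) :=
      hψH.mem_charKer.mpr (apply_eq_one_of_mem_charKer hy)
    exact hχ.mem_charKer.mpr
      (apply_eq_one_of_mem_charKer (χ := fun x : H => χ x) (hψH.charKer_le_of_classInner_ne_zero hθ hc h1))

/-- The Frattini argument in the form used below. -/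
theorem not_normal_inf_of_normalizer_le [Finite G] {p : ℕ} [Fact p.Prime] {P M H : Subgroup G}
    (hP : CL.Grp.IsSylowIn p P M) (hH : H ≠ ⊤) (hle : Subgroup.normalizer (P : Set G) ≤ H) :
    ¬ (M ⊓ H).Normal := by
  intro hn
  have h1 := hP.of_le (le_inf hP.le (Subgroup.le_normalizer.trans hle)) inf_le_left
  have h2 := CL.Grp.normalizer_sup_eq_top_of_not_dvd h1.isPGroup h1.le h1.not_dvd
  exact hH (top_unique (h2 ▸ sup_le hle inf_le_right))

theorem exists_isSylowIn_not_normal [Finite G] {M : Subgroup G} (hM : ¬ Group.IsNilpotent M) :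
    ∃ (p : ℕ) (_ : Fact p.Prime) (P : Subgroup G), CL.Grp.IsSylowIn p P M ∧
      Subgroup.normalizer (P : Set G) ≠ ⊤ := by
  by_contra h
  push Not at h
  refine hM (CL.Grp.isNilpotent_of_forall_le_pCoreOf fun p _ P hPM hP => ?_)
  obtain ⟨S, hS, hPS⟩ := CL.Grp.exists_isSylowIn_ge hP hPM
  exact hPS.trans (CL.Grp.le_pCoreOf hS.le (by rw [h p inferInstance S hS]; exact le_top) hS.isPGroup)

/-- Isaacs 12.19 (a). -/
theorem exists_larger_of_not_le_fitting [Finite G] {χ : G → ℂ} (hχ : IsIrrCharacter G χ)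
    (h : ¬ charKer χ ≤ fittingSubgroup G) :
    ∃ ψ, IsIrrCharacter G ψ ∧ charDegree χ < charDegree ψ ∧ charKer ψ < charKer χ := by
  have := hχ.charKer_normal
  obtain ⟨p, _, P, hP, hne⟩ := exists_isSylowIn_not_normal (M := charKer χ)
    (fun hn => h (CL.Grp.le_fittingSubgroup hn))
  obtain ⟨H, hH, hle⟩ := (eq_top_or_exists_le_coatom _).resolve_left hne
  have h1 := not_normal_inf_of_normalizer_le hP hH.1 hle
  refine (exists_larger_or_vanish hχ hH (fun h2 => h1 ?_)).resolve_right (fun h2 => h1 ?_)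
  · rwa [inf_eq_left.mpr h2]
  · have : charKer χ ⊓ H = charKer χ ⊓ H.normalCore := le_antisymm
      (fun x hx => ⟨hx.1, h2 x hx.2 (by rw [apply_eq_one_of_mem_charKer hx.1]; exact hχ.one_ne_zero)⟩)
      (inf_le_inf_left _ H.normalCore_le)
    rw [this]
    infer_instance

/-- An irreducible character vanishing on `M ∖ ker χ` has `M` in its kernel. -/
theorem le_charKer_of_vanish [Finite G] {χ : G → ℂ} (hχ : IsIrrCharacter G χ) {M : Subgroup G} [M.Normal]
    (h : ∀ x ∈ M, x ∉ charKer χ → χ x = 0) : M ≤ charKer χ := by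
  let _ := Fintype.ofFinite M
  let _ := Fintype.ofFinite ((charKer χ).subgroupOf M)
  have h1 := classInner_res_of_vanish ((charKer χ).subgroupOf M) (φ := fun x : M => χ x) (ψ := fun _ => 1)
    (fun x hx => h x x.2 hx)
  have h2 : (fun k : (charKer χ).subgroupOf M => χ (k : M)) = χ 1 • fun _ => (1 : ℂ) := by
    funext k
    simpa using apply_eq_one_of_mem_charKer (Subgroup.mem_subgroupOf.mp k.2)
  rw [h2, classInner_smul_left, isIrrCharacter_one.classInner_self, mul_one] at h1
  intro x hx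
  exact hχ.mem_charKer.mpr (apply_eq_one_of_classInner_res_one_ne_zero hχ
    (fun h0 => hχ.one_ne_zero (by rw [h1, h0, mul_zero])) hx)

/-- Isaacs 12.19 (b). -/
theorem exists_larger_of_eq_fitting [Finite G] {χ : G → ℂ} (hχ : IsIrrCharacter G χ)
    (h : charKer χ = fittingSubgroup G) (hs : Group.IsSolvable (G ⧸ fittingSubgroup G))
    (ht : fittingSubgroup G ≠ ⊤) :
    ∃ ψ, IsIrrCharacter G ψ ∧ charDegree χ < charDegree ψ ∧ charKer ψ < charKer χ := by
  set K := fittingSubgroup G with hKdef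
  have : Nontrivial (G ⧸ K) := QuotientGroup.nontrivial_iff.mpr ht
  obtain ⟨B, hB⟩ := CL.Grp.exists_isMinNormal (G ⧸ K)
  obtain ⟨p, d, hp, -, hcard⟩ := hB.exists_card_eq_pow inferInstance
  have : Fact p.Prime := ⟨hp⟩
  have := hB.normal
  set M := B.comap (QuotientGroup.mk' K) with hMdef
  have hKM : K < M := lt_comap_mk' hB.ne_bot
  have hmap : M.map (QuotientGroup.mk' K) = B :=
    Subgroup.map_comap_eq_self_of_surjective (QuotientGroup.mk'_surjective K) B
  obtain ⟨P, hP⟩ := CL.Grp.exists_isSylowIn p M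
  have hKP : ∀ x ∈ M, ∃ k ∈ K, ∃ s ∈ P, x = k * s := fun x hx =>
    hP.exists_mul_eq_of_relIndex_pow (n := d) (by rw [← CL.Grp.card_map_mk', hmap, hcard]) hx
  have hne : Subgroup.normalizer (P : Set G) ≠ ⊤ := by
    intro h0
    have := Subgroup.normalizer_eq_top_iff.mp h0
    refine hKM.not_ge (fun x hx => ?_)
    obtain ⟨k, hk, s, hs, rfl⟩ := hKP x hx
    exact K.mul_mem hk (CL.Grp.le_fittingSubgroup hP.isPGroup.isNilpotent hs)
  obtain ⟨H, hH, hle⟩ := (eq_top_or_exists_le_coatom _).resolve_left hne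
  have hPH : P ≤ H := Subgroup.le_normalizer.trans hle
  have h1 := not_normal_inf_of_normalizer_le hP hH.1 hle
  refine (exists_larger_or_vanish hχ hH (fun h2 => h1 ?_)).resolve_right (fun h2 => ?_)
  · have h3 : M ≤ H := fun x hx => by
      obtain ⟨k, hk, s, hs, rfl⟩ := hKP x hx
      exact H.mul_mem (h2 (h ▸ hk)) (hPH hs)
    rw [inf_eq_left.mpr h3]
    infer_instance
  · have hn : ((M ⊓ H.normalCore).map (QuotientGroup.mk' K)).Normal :=
      Subgroup.Normal.map inferInstance _ (QuotientGroup.mk'_surjective K)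
    rcases hB.min _ hn (hmap ▸ Subgroup.map_mono inf_le_left) with h3 | h3
    · rw [Subgroup.map_eq_bot_iff, QuotientGroup.ker_mk'] at h3
      refine hKM.not_ge (h ▸ le_charKer_of_vanish hχ (fun x hx hxK => ?_))
      obtain ⟨k, hk, s, hs, rfl⟩ := hKP x hx
      have hk' : k ∈ charKer χ := h ▸ hk
      rw [apply_mul_of_mem_charKer hk']
      by_contra h0
      exact hxK (h ▸ K.mul_mem hk (h3 ⟨hP.le hs, h2 s (hPH hs) h0⟩))
    · apply h1
      have : M ⊓ H = M ⊓ H.normalCore := by
        refine le_antisymm (fun x hx => ⟨hx.1, ?_⟩) (inf_le_inf_left _ H.normalCore_le)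
        have h4 : QuotientGroup.mk' K x ∈ (M ⊓ H.normalCore).map (QuotientGroup.mk' K) := by
          rw [h3]; exact hx.1
        obtain ⟨y, hy, hxy⟩ := h4
        have h5 : y⁻¹ * x ∈ K := QuotientGroup.eq.mp hxy
        have h5' : y⁻¹ * x ∈ charKer χ := h ▸ h5
        have h6 := h2 _ (H.mul_mem (H.inv_mem (H.normalCore_le hy.2)) hx.2) (by
          rw [apply_eq_one_of_mem_charKer h5']; exact hχ.one_ne_zero)
        simpa using H.normalCore.mul_mem hy.2 h6
      rw [this]
      infer_instance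

/-- Isaacs 12.20: for a solvable non-nilpotent group, `G / F(G)` has fewer character degrees. -/
theorem card_cdSet_quotient_fitting_lt [Finite G] (hs : Group.IsSolvable (G ⧸ fittingSubgroup G))
    (ht : fittingSubgroup G ≠ ⊤) : (cdSet (G ⧸ fittingSubgroup G)).card < (cdSet G).card := by
  refine Finset.card_lt_card (Finset.ssubset_iff_subset_ne.mpr ⟨cdSet_quotient_subset _, fun he => ?_⟩)
  have hmax : (cdSet G).max' ⟨1, one_mem_cdSet⟩ ∈ cdSet (G ⧸ fittingSubgroup G) := by
    rw [he]; exact Finset.max'_mem (cdSet G) ⟨1, one_mem_cdSet⟩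
  obtain ⟨ψ, hψ, hd⟩ := mem_cdSet.mp hmax
  have hχ := hψ.inflate
  have key : ¬ ∃ η, IsIrrCharacter G η ∧ charDegree (fun g : G => ψ g) < charDegree η ∧
      charKer η < charKer (fun g : G => ψ g) := by
    rintro ⟨η, hη, h1, -⟩
    have h2 := Finset.le_max' _ _ hη.charDegree_mem_cdSet
    have h3 : charDegree (fun g : G => ψ g) = charDegree ψ := rfl
    omega
  by_cases h : charKer (fun g : G => ψ g) ≤ fittingSubgroup G
  · exact key (exists_larger_of_eq_fitting hχ (le_antisymm h (le_charKer_inflate ψ)) hs ht)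
  · exact key (exists_larger_of_not_le_fitting hχ h)

theorem isNilpotent_section_comap {Q : Type*} [Group Q] {f : G →* Q} (hf : Function.Surjective f)
    (A B : Subgroup Q) [A.Normal] (h : Group.IsNilpotent (B ⧸ A.subgroupOf B)) :
    Group.IsNilpotent (B.comap f ⧸ (A.comap f).subgroupOf (B.comap f)) := by
  let φ : B.comap f →* B ⧸ A.subgroupOf B := (QuotientGroup.mk' _).comp (f.subgroupComap B)
  have hφ : Function.Surjective φ :=
    (QuotientGroup.mk'_surjective _).comp (f.subgroupComap_surjective_of_surjective B hf)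
  have hk : (A.comap f).subgroupOf (B.comap f) = φ.ker := by
    ext x
    simp only [φ, MonoidHom.mem_ker, MonoidHom.comp_apply, QuotientGroup.mk'_apply,
      QuotientGroup.eq_one_iff, Subgroup.mem_subgroupOf, Subgroup.mem_comap]
    rfl
  let e := (QuotientGroup.quotientMulEquivOfEq hk).trans (QuotientGroup.quotientKerEquivOfSurjective φ hφ)
  exact Group.nilpotent_of_surjective e.symm.toMonoidHom e.symm.surjective

/-- Isaacs 12.21: the Fitting height of a solvable group is at most the number of degrees. -/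
theorem exists_nilpotent_series_of_cdSet (n : ℕ) : ∀ (G : Type u) [Group G] [Finite G],
    Group.IsSolvable G → (Subsingleton G ∨ (cdSet G).card ≤ n) →
    ∃ N : ℕ → Subgroup G, N 0 = ⊥ ∧ N n = ⊤ ∧ Monotone N ∧ ∃ _ : ∀ i, (N i).Normal,
      ∀ i, Group.IsNilpotent (N (i + 1) ⧸ (N i).subgroupOf (N (i + 1))) := by
  have triv : ∀ (n : ℕ) (G : Type u) [Group G] [Finite G], Subsingleton G →
      ∃ N : ℕ → Subgroup G, N 0 = ⊥ ∧ N n = ⊤ ∧ Monotone N ∧ ∃ _ : ∀ i, (N i).Normal,
      ∀ i, Group.IsNilpotent (N (i + 1) ⧸ (N i).subgroupOf (N (i + 1))) := by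
    intro n G _ _ _
    refine ⟨fun _ => ⊥, rfl, Subsingleton.elim _ _, monotone_const, fun _ => inferInstance, fun i => ?_⟩
    have : Subsingleton ((⊥ : Subgroup G) ⧸ (⊥ : Subgroup G).subgroupOf (⊥ : Subgroup G)) :=
      (QuotientGroup.mk_surjective).subsingleton
    infer_instance
  induction n with
  | zero =>
    intro G _ _ _ h
    refine triv 0 G (h.resolve_right fun h => ?_)
    have := Finset.card_pos.mpr ⟨1, one_mem_cdSet (G := G)⟩
    omega
  | succ n ih =>
    intro G _ _ hs h
    rcases h with h | h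
    · exact triv _ G h
    set F := fittingSubgroup G with hF
    obtain ⟨N, h0, hn, hm, hN, hnil⟩ := ih (G ⧸ F) inferInstance (by
      by_cases ht : F = ⊤
      · exact Or.inl (QuotientGroup.subsingleton_iff.mpr ht)
      · have := card_cdSet_quotient_fitting_lt (G := G) inferInstance ht
        exact Or.inr (Nat.lt_succ_iff.mp (this.trans_le h)))
    refine ⟨fun i => Nat.casesOn i ⊥ (fun j => (N j).comap (QuotientGroup.mk' F)), rfl, ?_,
      monotone_nat_of_le_succ ?_, ?_, ?_⟩
    · simp [hn]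
    · rintro (_ | i)
      · exact bot_le
      · exact Subgroup.comap_mono (hm (Nat.le_succ i))
    · rintro (_ | i)
      · exact Subgroup.normal_bot
      · exact Subgroup.Normal.comap (hN i) _
    · rintro (_ | i)
      · have h1 : (N 0).comap (QuotientGroup.mk' F) = F := by
          rw [h0, MonoidHom.comap_bot, QuotientGroup.ker_mk']
        have h2 : Group.IsNilpotent ((N 0).comap (QuotientGroup.mk' F)) := by
          rw [h1]; exact CL.Grp.fittingSubgroup_isNilpotent G
        change Group.IsNilpotent ((N 0).comap (QuotientGroup.mk' F) ⧸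
          (⊥ : Subgroup G).subgroupOf ((N 0).comap (QuotientGroup.mk' F)))
        infer_instance
      · exact isNilpotent_section_comap (QuotientGroup.mk'_surjective F) (N i) (N (i + 1)) (hnil i)

end CL.Char
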