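/-
Relative character degrees: lemmas of Taketa type for normal subgroups (Isaacs-Knutson).
-/
import Cfsg.Agent.Char.DegThree
import Cfsg.Agent.Char.DegKer

set_option autoImplicit false

open Cfsg
open scoped ComplexConjugate commutatorElement

namespace CL.Char.D4

variable {G : Type*} [Group G]

theorem le_ker_of_under [Finite G] {H K : Subgroup G} [K.Normal] [Fintype H] (hKH : K ≤ H) {θ : H → ℂ}
    (hθ : IsIrrCharacter H θ) {χ : G → ℂ} (hχ : IsIrrCharacter G χ)
    (hc : classInner (fun x : H => χ x) θ ≠ 0) (h : ∀ x (hx : x ∈ K), θ ⟨x, hKH hx⟩ = θ 1) :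
    K ≤ charKer χ := by
  let _ := Fintype.ofFinite G
  rw [← classInner_indFun_eq_res hθ.isCharacter hχ.isCharacter] at hc
  exact (le_charKer_indFun hθ.isCharacter hKH h).trans
    ((isCharacter_indFun hθ.isCharacter).charKer_le_of_classInner_ne_zero hχ hc)

theorem mem_ker_of_under [Finite G] {H : Subgroup G} [Fintype H] {θ : H → ℂ}
    (hθ : IsIrrCharacter H θ) {χ : G → ℂ} (hχ : IsIrrCharacter G χ)
    (hc : classInner (fun x : H => χ x) θ ≠ 0) {x : H} (hx : (x : G) ∈ charKer χ) : x ∈ charKer θ :=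
  (hχ.isCharacter.restrict H).charKer_le_of_classInner_ne_zero hθ hc
    ((hχ.isCharacter.restrict H).mem_charKer.mpr (apply_eq_one_of_mem_charKer hx))

theorem exists_constituent_not_dvd [Fintype G] {α : G → ℂ} (hα : IsCharacter G α) {m : ℕ}
    (h : ¬ m ∣ charDegree α) : ∃ ψ, IsIrrCharacter G ψ ∧ classInner α ψ ≠ 0 ∧ ¬ m ∣ charDegree ψ := by
  by_contra hn
  push Not at hn
  obtain ⟨c, hc, -⟩ := hα.exists_eq_sum_nat
  refine h ?_
  rw [hα.charDegree_eq_sum c hc]
  refine Finset.dvd_sum fun ξ _ => ?_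
  by_cases h0 : c ξ = 0
  · simp [h0]
  · exact (hn ξ ξ.2 (by rw [hc]; exact_mod_cast h0)).mul_left _

/-- Taketa's argument. -/
theorem lemT [Finite G] {N T : Subgroup G} (h : ¬ N ≤ T) :
    ∃ ξ, IsIrrCharacter G ξ ∧ ¬ N ≤ charKer ξ ∧ charDegree ξ < T.index := by
  let _ := Fintype.ofFinite G
  let _ := Fintype.ofFinite T
  have hπ := isCharacter_indFun_one T
  have h1 : classInner (indFun T (fun _ => 1)) (fun _ => 1) = 1 := by
    rw [frobenius_reciprocity _ (isClassFunction_const 1), isIrrCharacter_one.classInner_self]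
  obtain ⟨β, hβ, hβ'⟩ := exists_char_eq_add_of_classInner_ne_zero hπ isIrrCharacter_one
    (by rw [h1]; exact one_ne_zero)
  have hβ1 : charDegree β + 1 = T.index := by
    have := congrFun hβ' 1
    rw [indFun_one, Pi.add_apply, ← hβ.cast_charDegree, mul_one, add_comm] at this
    exact_mod_cast this.symm
  by_contra hn
  push Not at hn
  refine h (le_trans ?_ (charKer_indFun_le isCharacter_one one_ne_zero))
  rw [hβ', charKer_add isCharacter_one hβ]
  refine le_inf ?_ fun g hg => ?_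
  · rw [isIrrCharacter_one.charKer_eq_top_iff.mpr rfl]
    exact le_top
  · rw [hβ.mem_charKer_iff_forall]
    intro ψ hψ hne
    have := hβ.charDegree_le_of_classInner_ne_zero hψ hne
    by_contra hg'
    have := hn ψ hψ (fun h' => hg' (h' hg))
    omega

theorem inv_or_smaller [Finite G] {B : Subgroup G} (M : Subgroup G) [B.Normal] [Fintype B] {θ : B → ℂ}
    (hθ : IsIrrCharacter B θ) {χ : G → ℂ} (hχ : IsIrrCharacter G χ)
    (hc : classInner (fun x : B => χ x) θ ≠ 0) :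
    M ≤ inertia B θ ∨ ∃ ξ, IsIrrCharacter G ξ ∧ ¬ M ≤ charKer ξ ∧ charDegree ξ < charDegree χ := by
  by_cases h : M ≤ inertia B θ
  · exact Or.inl h
  obtain ⟨ξ, h1, h2, h3⟩ := lemT h
  obtain ⟨e, he, -, hd⟩ := exists_charDegree_eq_inertia hθ hχ hc
  refine Or.inr ⟨ξ, h1, h2, h3.trans_le (Nat.le_of_dvd hχ.charDegree_pos ?_)⟩
  rw [hd]
  exact (dvd_mul_left _ _).mul_right _

theorem one_of_comm_le [Finite G] {B : Subgroup G} [Fintype B] {θ : B → ℂ}
    (hθ : IsIrrCharacter B θ) {χ : G → ℂ} (hχ : IsIrrCharacter G χ)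
    (hc : classInner (fun x : B => χ x) θ ≠ 0) (hB : ⁅B, B⁆ ≤ charKer χ) : θ 1 = 1 := by
  rw [hθ.one_eq_one_iff]
  intro x hx
  refine mem_ker_of_under hθ hχ hc (hB ?_)
  rw [← Subgroup.map_subtype_commutator]
  exact ⟨x, hx, rfl⟩

theorem comm_le_of_one [Finite G] {B : Subgroup G} [B.Normal] [Fintype B] {θ : B → ℂ}
    (hθ : IsIrrCharacter B θ) {χ : G → ℂ} (hχ : IsIrrCharacter G χ)
    (hc : classInner (fun x : B => χ x) θ ≠ 0) (h1 : θ 1 = 1) : ⁅B, B⁆ ≤ charKer χ := by
  refine le_ker_of_under (Subgroup.commutator_le_left B B) hθ hχ hc (fun x hx => ?_)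
  rw [← Subgroup.map_subtype_commutator] at hx
  obtain ⟨y, hy, rfl⟩ := hx
  exact apply_eq_one_of_mem_charKer (hθ.one_eq_one_iff.mp h1 hy)

theorem lemH [Finite G] {B : Subgroup G} (M : Subgroup G) [B.Normal] [M.Normal] {χ : G → ℂ}
    (hχ : IsIrrCharacter G χ) (hB : ⁅B, B⁆ ≤ charKer χ) :
    ⁅B, M⁆ ≤ charKer χ ∨ ∃ ξ, IsIrrCharacter G ξ ∧ ¬ M ≤ charKer ξ ∧ charDegree ξ < charDegree χ := by
  let _ := Fintype.ofFinite G
  let _ := Fintype.ofFinite B
  obtain ⟨θ, hθ, hc⟩ := exists_irr_constituent_restrict B hχ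
  refine (inv_or_smaller M hθ hχ hc).imp_left fun h => ?_
  obtain ⟨lam, rfl⟩ := hθ.isCharacter.exists_monoidHom_of_one (one_of_comm_le hθ hχ hc hB)
  have hle : ⁅B, M⁆ ≤ lam.ker.map B.subtype := by
    rw [Subgroup.commutator_le]
    intro b hb m hm
    have h1 := mem_inertia.mp (h hm) ⟨b⁻¹, B.inv_mem hb⟩
    refine ⟨⟨b, hb⟩ * ⟨m * b⁻¹ * m⁻¹, ‹B.Normal›.conj_mem _ (B.inv_mem hb) m⟩, ?_, ?_⟩
    · have h2 : lam ⟨m * b⁻¹ * m⁻¹, ‹B.Normal›.conj_mem _ (B.inv_mem hb) m⟩ = lam ⟨b, hb⟩⁻¹ := Units.ext h1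
      rw [SetLike.mem_coe, MonoidHom.mem_ker, map_mul, h2, map_inv, mul_inv_cancel]
    · simp [commutatorElement_def, mul_assoc]
  refine le_ker_of_under (Subgroup.commutator_le_left B M) hθ hχ hc (fun x hx => ?_)
  obtain ⟨y, hy, rfl⟩ := hle hx
  have : lam y = 1 := hy
  simp only [map_one]
  exact congrArg _ this

theorem comm_le_ker_ind [Fintype G] {N T : Subgroup G} [N.Normal] (h : N ≤ T) (lam : T →* ℂˣ) :
    ⁅N, N⁆ ≤ charKer (indFun T fun t => (lam t : ℂ)) := by
  refine le_charKer_indFun (isCharacter_unitsHom lam) ((Subgroup.commutator_le_left N N).trans h) fun g hg => ?_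
  have hle : ⁅N, N⁆ ≤ lam.ker.map T.subtype := by
    rw [Subgroup.commutator_le]
    intro a ha b hb
    refine ⟨⁅(⟨a, h ha⟩ : T), ⟨b, h hb⟩⁆, ?_, rfl⟩
    simp [MonoidHom.mem_ker, map_commutatorElement, commutatorElement_eq_one_iff_mul_comm, mul_comm]
  obtain ⟨y, hy, rfl⟩ := hle hg
  have : lam y = 1 := hy
  simp only [map_one]
  exact congrArg _ this

/-- For a normal `p`-subgroup `N`, below each member of `Irr(G | N')` there is a member of `Irr(G | N)` whose
degree has a smaller `p`-part. -/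
theorem lemP [Finite G] {p : ℕ} [hp : Fact p.Prime] {N : Subgroup G} [N.Normal] (hN : IsPGroup p N)
    {χ : G → ℂ} (hχ : IsIrrCharacter G χ) (h : ¬ ⁅N, N⁆ ≤ charKer χ) :
    ∃ ξ, IsIrrCharacter G ξ ∧ ¬ N ≤ charKer ξ ∧
      (charDegree ξ).factorization p < (charDegree χ).factorization p := by
  let _ := Fintype.ofFinite G
  obtain ⟨S, hS⟩ := hN.exists_le_sylow
  let _ := Fintype.ofFinite (S : Subgroup G)
  set k := (charDegree χ).factorization p with hk
  obtain ⟨ψ, hψ, hc, hd⟩ := exists_constituent_not_dvd (hχ.isCharacter.restrict S) (m := p ^ (k + 1))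
    (Nat.pow_succ_factorization_not_dvd hχ.charDegree_pos.ne' hp.out)
  have := S.isPGroup'.isNilpotent
  obtain ⟨T, lam, hT⟩ := isMonomialChar_of_isNilpotent hψ
  have hNT : ¬ N.subgroupOf S ≤ T := by
    intro hle
    refine h (le_ker_of_under ((Subgroup.commutator_le_left N N).trans hS) hψ hχ hc fun x hx => ?_)
    have h1 : ⁅N, N⁆ = (⁅N.subgroupOf S, N.subgroupOf S⁆ : Subgroup (S : Subgroup G)).map
        (S : Subgroup G).subtype := by
      rw [Subgroup.map_commutator, Subgroup.subgroupOf_map_subtype, inf_eq_left.mpr hS]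
    rw [h1] at hx
    obtain ⟨y, hy, rfl⟩ := hx
    exact apply_eq_one_of_mem_charKer (hT ▸ comm_le_ker_ind hle lam hy)
  obtain ⟨η, hη, hη1, hη2⟩ := lemT hNT
  have hψd : charDegree ψ = T.index := by
    rw [hT]; exact charDegree_eq_of_eq (by simp [indFun_one])
  obtain ⟨i, hi⟩ := hη.exists_charDegree_eq_pow S.isPGroup'
  obtain ⟨j, hj⟩ := hψ.exists_charDegree_eq_pow S.isPGroup'
  rw [← hψd, hi, hj, Nat.pow_lt_pow_iff_right hp.out.one_lt] at hη2
  rw [hj, Nat.pow_dvd_pow_iff_le_right hp.out.one_lt] at hd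
  obtain ⟨ξ, hξ, hc', hd'⟩ := exists_constituent_not_dvd (isCharacter_indFun hη.isCharacter) (m := p ^ k) (by
    rw [charDegree_indFun hη.isCharacter, hi]
    intro h1
    have h2 := (Nat.Coprime.pow_left k ((Nat.Prime.coprime_iff_not_dvd hp.out).mpr
      S.not_dvd_index)).dvd_of_dvd_mul_left h1
    rw [Nat.pow_dvd_pow_iff_le_right hp.out.one_lt] at h2
    omega)
  rw [classInner_indFun_eq_res hη.isCharacter hξ.isCharacter] at hc'
  refine ⟨ξ, hξ, fun hle => hη1 fun x hx => mem_ker_of_under hη hξ hc' (hle hx), ?_⟩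
  rwa [hp.out.pow_dvd_iff_le_factorization hξ.charDegree_pos.ne', not_le] at hd'

theorem larger_of_fitting_le [Finite G] [Group.IsSolvable G] {χ : G → ℂ} (hχ : IsIrrCharacter G χ)
    (h : fittingSubgroup G ≤ charKer χ) (ht : fittingSubgroup G ≠ ⊤) :
    ∃ ψ, IsIrrCharacter G ψ ∧ charDegree χ < charDegree ψ ∧ charKer ψ < charKer χ := by
  by_cases h' : charKer χ ≤ fittingSubgroup G
  · exact exists_larger_of_eq_fitting hχ (le_antisymm h' h) inferInstance ht
  · exact exists_larger_of_not_le_fitting hχ h'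

/-- A variant of Isaacs 12.19 (b). -/
theorem larger_of_chief [Finite G] {χ : G → ℂ} (hχ : IsIrrCharacter G χ) {K : Subgroup G} [K.Normal]
    (h : charKer χ = K) {B : Subgroup (G ⧸ K)} (hB : CL.Grp.IsMinNormal B) {p : ℕ} [Fact p.Prime]
    (hp : IsPGroup p B) (hF : ∀ P : Subgroup G, P.Normal → IsPGroup p P → P ≤ K) :
    ∃ ψ, IsIrrCharacter G ψ ∧ charDegree χ < charDegree ψ ∧ charKer ψ < charKer χ := by
  obtain ⟨d, hcard⟩ := IsPGroup.iff_card.mp hp
  have := hB.normal
  set M := B.comap (QuotientGroup.mk' K) with hMdef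
  have hKM : K < M := lt_comap_mk' hB.ne_bot
  have hmap : M.map (QuotientGroup.mk' K) = B :=
    Subgroup.map_comap_eq_self_of_surjective (QuotientGroup.mk'_surjective K) B
  obtain ⟨P, hP⟩ := CL.Grp.exists_isSylowIn p M
  have hKP : ∀ x ∈ M, ∃ k ∈ K, ∃ s ∈ P, x = k * s := fun x hx =>
    hP.exists_mul_eq_of_relIndex_pow (n := d) (by rw [← CL.Grp.card_map_mk', hmap, hcard]) hx
  have hne : Subgroup.normalizer (P : Set G) ≠ ⊤ := by
    intro h0
    have := Subgroup.normalizer_eq_top_iff.mp h0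
    refine hKM.not_ge (fun x hx => ?_)
    obtain ⟨k, hk, s, hs, rfl⟩ := hKP x hx
    exact K.mul_mem hk (hF P this hP.isPGroup hs)
  obtain ⟨H, hH, hle⟩ := (eq_top_or_exists_le_coatom _).resolve_left hne
  have hPH : P ≤ H := Subgroup.le_normalizer.trans hle
  have h1 := not_normal_inf_of_normalizer_le hP hH.1 hle
  refine (exists_larger_or_vanish hχ hH (fun h2 => h1 ?_)).resolve_right (fun h2 => ?_)
  · have h3 : M ≤ H := fun x hx => by
      obtain ⟨k, hk, s, hs, rfl⟩ := hKP x hx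
      exact H.mul_mem (h2 (h ▸ hk)) (hPH hs)
    rw [inf_eq_left.mpr h3]
    infer_instance
  · have hn : ((M ⊓ H.normalCore).map (QuotientGroup.mk' K)).Normal :=
      Subgroup.Normal.map inferInstance _ (QuotientGroup.mk'_surjective K)
    rcases hB.min _ hn (hmap ▸ Subgroup.map_mono inf_le_left) with h3 | h3
    · rw [Subgroup.map_eq_bot_iff, QuotientGroup.ker_mk'] at h3
      refine hKM.not_ge (h ▸ le_charKer_of_vanish hχ (fun x hx hxK => ?_))
      obtain ⟨k, hk, s, hs, rfl⟩ := hKP x hx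
      have hk' : k ∈ charKer χ := h ▸ hk
      rw [apply_mul_of_mem_charKer hk']
      by_contra h0
      exact hxK (h ▸ K.mul_mem hk (h3 ⟨hP.le hs, h2 s (hPH hs) h0⟩))
    · apply h1
      have : M ⊓ H = M ⊓ H.normalCore := by
        refine le_antisymm (fun x hx => ⟨hx.1, ?_⟩) (inf_le_inf_left _ H.normalCore_le)
        have h4 : QuotientGroup.mk' K x ∈ (M ⊓ H.normalCore).map (QuotientGroup.mk' K) := by
          rw [h3]; exact hx.1
        obtain ⟨y, hy, hxy⟩ := h4
        have h5 : y⁻¹ * x ∈ K := QuotientGroup.eq.mp hxy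
        have h5' : y⁻¹ * x ∈ charKer χ := h ▸ h5
        have h6 := h2 _ (H.mul_mem (H.inv_mem (H.normalCore_le hy.2)) hx.2) (by
          rw [apply_eq_one_of_mem_charKer h5']; exact hχ.one_ne_zero)
        simpa using H.normalCore.mul_mem hy.2 h6
      rw [this]
      infer_instance

end CL.Char.D4
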