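/-
Normal subgroups with at most two relative character degrees (Isaacs-Knutson): auxiliary lemmas and
the case of one degree.
-/
import Cfsg.Agent.Char.Deg4a
import Cfsg.Agent.Grp.Comm1

set_option autoImplicit false

open Cfsg
open scoped ComplexConjugate commutatorElement

namespace CL.Char.D4

variable {G : Type*} [Group G]

/-- All degrees of irreducible characters not containing `M` in the kernel satisfy `P`. -/
def Rel (M : Subgroup G) (P : ℕ → Prop) : Prop :=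
  ∀ χ : G → ℂ, IsIrrCharacter G χ → ¬ M ≤ charKer χ → P (charDegree χ)

theorem not_le_ker_inflate [Finite G] {M U : Subgroup G} [U.Normal] {ψ : G ⧸ U → ℂ}
    (h : ¬ M.map (QuotientGroup.mk' U) ≤ charKer ψ) : ¬ M ≤ charKer (fun g : G => ψ g) := by
  intro h'
  refine h (Subgroup.map_le_iff_le_comap.mpr ?_)
  rwa [← charKer_comp_of_surjective ψ _ (QuotientGroup.mk'_surjective U)]

theorem Rel.quot [Finite G] {M : Subgroup G} {P : ℕ → Prop} (h : Rel M P) (U : Subgroup G) [U.Normal] :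
    Rel (M.map (QuotientGroup.mk' U)) P := fun _ hψ hM => h _ hψ.inflate (not_le_ker_inflate hM)

theorem exists_monolith [Finite G] [Group.IsSolvable G] {D : Subgroup G} [D.Normal] (hD : D ≠ ⊥) :
    ∃ (U : Subgroup G) (_ : U.Normal) (p : ℕ), p.Prime ∧ ¬ D ≤ U ∧
      ∀ C : Subgroup (G ⧸ U), C.Normal → Group.IsNilpotent C → IsPGroup p C := by
  obtain ⟨U, hU, h1, h2⟩ := exists_maximal_normal (fun K : Subgroup G => ¬ D ≤ K) (K₀ := ⊥)
    (by rwa [le_bot_iff])
  have hle : ∀ C : Subgroup (G ⧸ U), C.Normal → C ≠ ⊥ → D.map (QuotientGroup.mk' U) ≤ C := fun C hC hne =>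
    Subgroup.map_le_iff_le_comap.mpr (not_not.mp (h2 _ (hC.comap _) (lt_comap_mk' hne)))
  have hne : D.map (QuotientGroup.mk' U) ≠ ⊥ := by
    rwa [Ne, Subgroup.map_eq_bot_iff, QuotientGroup.ker_mk']
  have hmin : CL.Grp.IsMinNormal (D.map (QuotientGroup.mk' U)) :=
    ⟨Subgroup.Normal.map inferInstance _ (QuotientGroup.mk'_surjective U), hne, fun K hK hle' => by
      by_cases h0 : K = ⊥
      · exact Or.inl h0
      · exact Or.inr (le_antisymm hle' (hle K hK h0))⟩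
  obtain ⟨p, hp, hP, -⟩ := hmin.exists_isPGroup inferInstance
  have : Fact p.Prime := ⟨hp⟩
  refine ⟨U, hU, p, hp, h1, fun C hC hn => ?_⟩
  refine CL.Grp.isPGroup_of_le_pCore ((CL.Grp.le_fittingSubgroup hn).trans
    (CL.Grp.fittingSubgroup_le_of_forall_pCore_le fun q hq => ?_))
  by_cases hqp : q = p
  · subst hqp; exact le_rfl
  · by_cases h0 : pCore q (G ⧸ U) = ⊥
    · rw [h0]; exact bot_le
    · exact absurd ((IsPGroup.disjoint_of_ne p q (Ne.symm hqp) _ _ hP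
        (CL.Grp.pCore_isPGroup q _)).eq_bot_of_le (hle _ inferInstance h0)) hne

theorem exists_irr_not_le [Finite G] {D : Subgroup G} (hD : D ≠ ⊥) :
    ∃ χ, IsIrrCharacter G χ ∧ ¬ D ≤ charKer χ := by
  obtain ⟨x, hx, hx1⟩ := (Subgroup.bot_or_exists_ne_one D).resolve_left hD
  obtain ⟨χ, hχ, h⟩ := exists_irr_not_mem_charKer hx1
  exact ⟨χ, hχ, fun h' => h (h' hx)⟩

theorem R1_core [Finite G] [Group.IsSolvable G] {p : ℕ} [Fact p.Prime]
    (hF : ∀ C : Subgroup G, C.Normal → Group.IsNilpotent C → IsPGroup p C) {M : Subgroup G} [M.Normal]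
    {n : ℕ} (h : Rel M (· = n)) : ⁅M, M⁆ = ⊥ := by
  have hM : M ≤ fittingSubgroup G := by
    intro x hx
    by_contra hxF
    obtain ⟨χ, hχ, h1, h2⟩ := exists_irr_le_charKer_not_mem _ hxF
    obtain ⟨ψ, hψ, h3, h4⟩ := larger_of_fitting_le hχ h1 (fun h0 => hxF (h0 ▸ Subgroup.mem_top x))
    have h5 := h χ hχ (fun h' => h2 (h' hx))
    have h6 := h ψ hψ (fun h' => h2 (h4.le (h' hx)))
    simp only at h5 h6
    omega
  by_contra hne
  obtain ⟨χ, hχ, h1⟩ := exists_irr_not_le hne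
  obtain ⟨ξ, hξ, h2, h3⟩ := lemP (hF M inferInstance (CL.Grp.isNilpotent_of_le_fittingSubgroup hM)) hχ h1
  have h5 := h χ hχ (fun h' => h1 ((Subgroup.commutator_le_left M M).trans h'))
  have h6 := h ξ hξ h2
  simp only at h5 h6
  rw [h5, h6] at h3
  exact lt_irrefl _ h3

/-- One relative degree: `M` is abelian. -/
theorem R1 [Finite G] [Group.IsSolvable G] {M : Subgroup G} [M.Normal] {n : ℕ} (h : Rel M (· = n)) :
    ⁅M, M⁆ = ⊥ := by
  by_contra hne
  obtain ⟨U, _, p, hp, h1, h2⟩ := exists_monolith hne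
  have : Fact p.Prime := ⟨hp⟩
  have : (M.map (QuotientGroup.mk' U)).Normal :=
    Subgroup.Normal.map inferInstance _ (QuotientGroup.mk'_surjective U)
  have h3 := R1_core h2 (h.quot U)
  rw [← Subgroup.map_commutator, Subgroup.map_eq_bot_iff, QuotientGroup.ker_mk'] at h3
  exact h1 h3

theorem eq_one_of_pow_of_isPGroup {p : ℕ} [hp : Fact p.Prime] {c : G} {j k : ℕ} (h1 : c ^ p ^ j = 1)
    (h2 : c ^ k = 1) (hk : ¬ p ∣ k) : c = 1 := by
  have h3 := pow_gcd_eq_one.mpr ⟨h1, h2⟩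
  rwa [((Nat.Prime.coprime_iff_not_dvd hp.out).mpr hk).pow_left j, pow_one] at h3

theorem pow_relIndex_mem {P M : Subgroup G} [P.Normal] {x : G} (hx : x ∈ M) : x ^ P.relIndex M ∈ P :=
  Subgroup.mem_subgroupOf.mp (Subgroup.pow_index_mem (H := P.subgroupOf M) ⟨x, hx⟩)

theorem comm_le_comm {p : ℕ} [Fact p.Prime] {P M : Subgroup G} [P.Normal] [M.Normal] (hP : IsPGroup p P)
    (hk : ¬ p ∣ P.relIndex M) (h : ⁅M, M⁆ ≤ P) : ⁅M, M⁆ ≤ ⁅P, M⁆ := by
  rw [Subgroup.commutator_le]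
  intro x hx y hy
  have hc : ⁅x, y⁆ ∈ P := h (Subgroup.commutator_mem_commutator hx hy)
  obtain ⟨j, hj⟩ := hP ⟨_, hc⟩
  have hj' : ⁅x, y⁆ ^ p ^ j = 1 := congrArg Subtype.val hj
  let π := QuotientGroup.mk' ⁅P, M⁆
  have hπ : ∀ z, π z = 1 ↔ z ∈ ⁅P, M⁆ := fun z => QuotientGroup.eq_one_iff z
  rw [← hπ]
  refine eq_one_of_pow_of_isPGroup (p := p) (j := j) (by rw [← map_pow, hj', map_one]) ?_ hk
  have h1 : Commute (π x) ⁅π x, π y⁆ := by
    rw [← map_commutatorElement]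
    symm
    rw [← commutatorElement_eq_one_iff_commute, ← map_commutatorElement, hπ]
    exact Subgroup.commutator_mem_commutator hc hx
  rw [map_commutatorElement, ← CL.Grp.comm_pow_left h1, ← map_pow, ← map_commutatorElement, hπ]
  exact Subgroup.commutator_mem_commutator (pow_relIndex_mem hx) hy

/-- Over a linear character of `p'`-order there is a character whose degree has the least possible `p`-part. -/
theorem lemE [Finite G] {p : ℕ} [hp : Fact p.Prime] {M : Subgroup G} [M.Normal] [Fintype M] (μ : M →* ℂˣ)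
    (hμ : ¬ p ∣ orderOf μ) {k : ℕ} (hk : ¬ p ^ k ∣ (inertia M fun x => (μ x : ℂ)).index) :
    ∃ ξ, IsIrrCharacter G ξ ∧ classInner (fun x : M => ξ x) (fun x => (μ x : ℂ)) ≠ 0 ∧
      ¬ p ^ k ∣ charDegree ξ := by
  let _ := Fintype.ofFinite G
  set I := inertia M fun x => (μ x : ℂ) with hI
  have hMI : M ≤ I := le_inertia (isIrrCharacter_linear μ).isClassFunction
  obtain ⟨P, hP⟩ := CL.Grp.exists_isSylowIn p I
  have hSI : M ⊔ P ≤ I := sup_le hMI hP.le
  let _ := Fintype.ofFinite (M ⊔ P : Subgroup G)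
  obtain ⟨a, ha⟩ := IsPGroup.iff_card.mp hP.isPGroup
  obtain ⟨b, -, hb⟩ := (Nat.dvd_prime_pow hp.out).mp (ha ▸ Subgroup.relIndex_dvd_card M P)
  let lam : M.subgroupOf (M ⊔ P) →* ℂˣ :=
    μ.comp (Subgroup.subgroupOfEquivOfLe (le_sup_left : M ≤ M ⊔ P)).toMonoidHom
  obtain ⟨ν, hν, -⟩ := exists_linear_extension_of_coprime lam
    (fun g n => Units.ext (mem_inertia.mp (hSI g.2) ⟨_, Subgroup.mem_subgroupOf.mp n.2⟩)) (by
      change (M.relIndex (M ⊔ P)).Coprime _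
      rw [Subgroup.relIndex_sup_left, hb]
      refine Nat.Coprime.pow_left _ ((Nat.Prime.coprime_iff_not_dvd hp.out).mpr fun h => hμ (h.trans ?_))
      refine orderOf_dvd_of_pow_eq_one (MonoidHom.ext fun x => ?_)
      exact DFunLike.congr_fun (pow_orderOf_eq_one μ) _)
  obtain ⟨ξ, hξ, hc, hd⟩ := exists_constituent_not_dvd (isCharacter_indFun_unitsHom ν) (m := p ^ k) (by
    rw [charDegree_indFun (isCharacter_unitsHom ν), charDegree_monoidHom, mul_one,
      ← Subgroup.relIndex_mul_index hSI]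
    exact fun h => hk ((Nat.Coprime.pow_left k ((Nat.Prime.coprime_iff_not_dvd hp.out).mpr
      (hP.not_dvd_relIndex_of_le le_sup_right hSI))).dvd_of_dvd_mul_left h))
  rw [classInner_indFun_eq_res (isCharacter_unitsHom ν) hξ.isCharacter] at hc
  refine ⟨ξ, hξ, classInner_comp_ne_zero_of_constituent (Subgroup.inclusion (le_sup_left : M ≤ M ⊔ P))
    (hξ.isCharacter.restrict _) (isIrrCharacter_linear ν) (isCharacter_unitsHom μ) hc ?_, hd⟩
  have : (fun x : M => (ν (Subgroup.inclusion (le_sup_left : M ≤ M ⊔ P) x) : ℂ)) = fun x => (μ x : ℂ) :=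
    funext fun x => congrArg Units.val (hν ⟨_, x.2⟩)
  rw [this, (isIrrCharacter_linear μ).classInner_self]
  exact one_ne_zero

theorem exists_mu [Finite G] {p : ℕ} [hp : Fact p.Prime] {P : Subgroup G} [P.Normal] (hP : IsPGroup p P)
    (hk : ¬ p ∣ P.index) (hc : commutator G ≤ P) (ht : P ≠ ⊤) {η : G → ℂ} (hη : IsIrrCharacter G η)
    {a : ℕ} (ha : η 1 = (p ^ a : ℕ)) :
    ∃ φ, IsIrrCharacter G φ ∧ (∀ x ∈ P, φ x = η x) ∧ ∃ μ : G →* ℂˣ, μ ≠ 1 ∧ P ≤ μ.ker ∧
      ∀ g, (μ g : ℂ) = detChar φ g ^ Nat.card P := by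
  obtain ⟨δ, hδ⟩ := exists_monoidHom_detChar η
  have hker : ∀ ν : G →* ℂˣ, P ≤ (ν ^ Nat.card P).ker := fun ν x hx => by
    rw [MonoidHom.mem_ker, MonoidHom.pow_apply, ← map_pow]
    have : x ^ Nat.card P = 1 := congrArg Subtype.val (pow_card_eq_one' (x := (⟨x, hx⟩ : P)))
    rw [this, map_one]
  by_cases h : δ ^ Nat.card P = 1
  swap
  · exact ⟨η, hη, fun _ _ => rfl, δ ^ Nat.card P, h, hker δ, fun g => by rw [hδ]; simp⟩
  obtain ⟨g, hg⟩ : ∃ g, g ∉ P := by
    by_contra hn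
    push Not at hn
    exact ht (eq_top_iff.mpr fun g _ => hn g)
  obtain ⟨ν, hν, hνg⟩ := exists_monoidHom_of_not_mem hc hg
  obtain ⟨b, hb⟩ := IsPGroup.iff_card.mp hP
  refine ⟨_, hη.monoidHom_mul ν, fun x hx => by simp [MonoidHom.mem_ker.mp (hν hx)],
    (ν ^ p ^ a * δ) ^ Nat.card P, fun h0 => hνg ?_, hker _, fun x => ?_⟩
  · have h1 : (ν g ^ p ^ a * δ g) ^ Nat.card P = 1 := DFunLike.congr_fun h0 g
    have h2 : δ g ^ Nat.card P = 1 := DFunLike.congr_fun h g
    rw [mul_pow, h2, mul_one, ← pow_mul, hb, ← pow_add] at h1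
    refine eq_one_of_pow_of_isPGroup (p := p) (j := a + b) h1 ?_ hk
    rw [← map_pow]
    exact hν (Subgroup.pow_index_mem P g)
  · rw [detChar_linear_mul hη ha, hδ]
    simp

end CL.Char.D4
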