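/-
A normal subgroup of a solvable group with at most two relative character degrees is metabelian
(Isaacs-Knutson).
-/
import Cfsg.Agent.Char.Deg4b

set_option autoImplicit false

open Cfsg
open scoped ComplexConjugate commutatorElement

namespace CL.Char.D4

variable {G : Type*} [Group G]

theorem larger_of_pprime [Finite G] [Group.IsSolvable G] {p : ℕ} [hp : Fact p.Prime]
    (hF : ∀ C : Subgroup G, C.Normal → Group.IsNilpotent C → IsPGroup p C) {M P : Subgroup G} [M.Normal]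
    [P.Normal] (hk : ¬ p ∣ P.relIndex M) {ξ : G → ℂ} (hξ : IsIrrCharacter G ξ) (h1 : P ≤ charKer ξ)
    (h2 : ¬ M ≤ charKer ξ) :
    ∃ ψ, IsIrrCharacter G ψ ∧ charDegree ξ < charDegree ψ ∧ charKer ψ < charKer ξ := by
  have := hξ.charKer_normal
  have : (M.map (QuotientGroup.mk' (charKer ξ))).Normal :=
    Subgroup.Normal.map inferInstance _ (QuotientGroup.mk'_surjective _)
  obtain ⟨B, hB, hBM⟩ := CL.Grp.exists_isMinNormal_le (M.map (QuotientGroup.mk' (charKer ξ)))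
    (by rwa [Ne, Subgroup.map_eq_bot_iff, QuotientGroup.ker_mk'])
  obtain ⟨q, hq, hBq, -⟩ := hB.exists_isPGroup inferInstance
  have : Fact q.Prime := ⟨hq⟩
  have hqp : p ≠ q := by
    rintro rfl
    refine hB.ne_bot (eq_bot_iff.mpr fun b hb => ?_)
    obtain ⟨j, hj⟩ := hBq ⟨b, hb⟩
    obtain ⟨x, hx, rfl⟩ := hBM hb
    refine eq_one_of_pow_of_isPGroup (j := j) (congrArg Subtype.val hj) ?_ hk
    rw [← map_pow]
    exact (QuotientGroup.eq_one_iff _).mpr (h1 (pow_relIndex_mem hx))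
  refine larger_of_chief hξ rfl hB hBq fun Q hQ hQq => ?_
  rw [(IsPGroup.disjoint_of_ne p q hqp Q Q (hF Q hQ hQq.isNilpotent) hQq).eq_bot_of_le le_rfl]
  exact bot_le

theorem inertia_le_of_det [Finite G] {M : Subgroup G} [M.Normal] {φ : M → ℂ} (hφ : IsIrrCharacter M φ)
    {μ : M →* ℂˣ} {c : ℕ} (h : ∀ g, (μ g : ℂ) = detChar φ g ^ c) :
    inertia M φ ≤ inertia M fun x => (μ x : ℂ) := by
  intro g hg
  rw [mem_inertia]
  intro n
  have h1 := detChar_comp_of_irr hφ.isCharacter (MulAut.conjNormal g).toMonoidHom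
    (isIrrCharacter_conjChar hφ g)
  have h2 : (fun x => φ ((MulAut.conjNormal g).toMonoidHom x)) = φ := mem_inertia_iff.mp hg
  rw [h2] at h1
  rw [h, h, congrFun h1 n]
  rfl

theorem R2_core [Finite G] [Group.IsSolvable G] {p : ℕ} [hp : Fact p.Prime]
    (hF : ∀ C : Subgroup G, C.Normal → Group.IsNilpotent C → IsPGroup p C) {M : Subgroup G} [M.Normal]
    {m n : ℕ} (hmn : m < n) (h : Rel M fun d => d = m ∨ d = n) : ⁅⁅M, M⁆, ⁅M, M⁆⁆ = ⊥ := by
  let _ := Fintype.ofFinite G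
  let _ := Fintype.ofFinite M
  by_contra hne
  have h' : ∀ χ, IsIrrCharacter G χ → ¬ M ≤ charKer χ → charDegree χ = m ∨ charDegree χ = n := h
  have hbig : ∀ χ, IsIrrCharacter G χ → ¬ M ≤ charKer χ →
      (∃ ψ, IsIrrCharacter G ψ ∧ charDegree χ < charDegree ψ ∧ charKer ψ < charKer χ) → charDegree χ = m := by
    rintro χ hχ h1 ⟨ψ, hψ, h2, h3⟩
    have h4 := h' χ hχ h1
    have h5 := h' ψ hψ (fun h' => h1 (h'.trans h3.le))
    omega
  have hM' : ⁅M, M⁆ ≤ fittingSubgroup G := by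
    by_cases ht : fittingSubgroup G = ⊤
    · rw [ht]; exact le_top
    have : (M.map (QuotientGroup.mk' (fittingSubgroup G))).Normal :=
      Subgroup.Normal.map inferInstance _ (QuotientGroup.mk'_surjective _)
    have h1 := R1 (M := M.map (QuotientGroup.mk' (fittingSubgroup G))) (n := m) (fun ψ hψ hM =>
      hbig _ hψ.inflate (not_le_ker_inflate hM) (larger_of_fitting_le hψ.inflate (le_charKer_inflate ψ) ht))
    rwa [← Subgroup.map_commutator, Subgroup.map_eq_bot_iff, QuotientGroup.ker_mk'] at h1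
  have hM'p : IsPGroup p (⁅M, M⁆ : Subgroup G) :=
    hF _ inferInstance (CL.Grp.isNilpotent_of_le_fittingSubgroup hM')
  have hMM := Subgroup.commutator_le_left M M
  obtain ⟨χ, hχ, hχ1⟩ := exists_irr_not_le hne
  obtain ⟨ξ, hξ, hξ1, hlt⟩ := lemP hM'p hχ hχ1
  obtain ⟨P, hP, hMP⟩ := CL.Grp.exists_isSylowIn_ge hM'p hMM
  have hPn : P.Normal := by
    rw [← Subgroup.normalizer_eq_top_iff, eq_top_iff]
    intro g _
    obtain ⟨x, hx, hxg⟩ := hP.frattini (H := ⊤) (by rw [Subgroup.normalizer_eq_top]) (Subgroup.mem_top g)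
    have h1 : x ∈ Subgroup.normalizer (P : Set G) :=
      Subgroup.le_normalizer_iff_commutator_le_right.mpr ((Subgroup.commutator_mono le_rfl hP.le).trans hMP) hx
    simpa using Subgroup.mul_mem _ (Subgroup.inv_mem _ h1) hxg
  let _ := Fintype.ofFinite P
  have hχP : ¬ ⁅P, P⁆ ≤ charKer χ := fun h1 => hχ1 ((Subgroup.commutator_mono hMP hMP).trans h1)
  have hPP : ⁅P, P⁆ ≤ M := (Subgroup.commutator_le_left P P).trans hP.le
  have hu := h' χ hχ (fun h1 => hχP (hPP.trans h1))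
  have hv := h' ξ hξ (fun h1 => hξ1 (hMM.trans h1))
  have huv : charDegree χ ≠ charDegree ξ := fun h1 => by rw [h1] at hlt; exact lt_irrefl _ hlt
  have hlow : ∀ ψ, IsIrrCharacter G ψ → ¬ ⁅P, P⁆ ≤ charKer ψ → charDegree ψ ≠ charDegree ξ := by
    intro ψ hψ h1 h2
    obtain ⟨ζ, hζ, h3, h4⟩ := lemP hP.isPGroup hψ h1
    have h5 := h' ζ hζ (fun h6 => h3 (hP.le.trans h6))
    have h6 : charDegree ζ = charDegree χ ∨ charDegree ζ = charDegree ξ := by omega
    rcases h6 with h6 | h6 <;> rw [h6, h2] at h4 <;> omega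
  have hξP : ⁅P, P⁆ ≤ charKer ξ := by
    by_contra h1
    exact hlow ξ hξ h1 rfl
  have hMP' : ¬ M ≤ P := fun h1 => hξ1 ((Subgroup.commutator_mono h1 h1).trans hξP)
  obtain ⟨ζ, hζ, hζ1, hζ2⟩ := (lemH M hξ hξP).resolve_left
    (fun h1 => hξ1 ((comm_le_comm hP.isPGroup hP.not_dvd hMP).trans h1))
  have hvn : charDegree ξ = n := by have := h' ζ hζ hζ1; omega
  have hum : charDegree χ = m := by omega
  obtain ⟨θ, hθ, hc⟩ := exists_irr_constituent_restrict P hχ
  have hinv : M ≤ inertia P θ := (inv_or_smaller M hθ hχ hc).resolve_right (by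
    rintro ⟨ψ, hψ, h1, h2⟩
    have := h' ψ hψ h1
    omega)
  have hθ1 : θ 1 ≠ 1 := fun h1 => hχP (comm_le_of_one hθ hχ hc h1)
  obtain ⟨a, ha⟩ := hθ.exists_charDegree_eq_pow hP.isPGroup
  have ha' : θ 1 = (p ^ a : ℕ) := by rw [← hθ.cast_charDegree, ha]
  have ha0 : a ≠ 0 := by
    rintro rfl
    exact hθ1 (by simpa using ha')
  have hN : IsPGroup p (P.subgroupOf M) := hP.isPGroup.comap_subtype
  obtain ⟨b, hb⟩ := IsPGroup.iff_card.mp hN
  obtain ⟨η, hη, hηθ⟩ := exists_extension_of_hall (isIrrCharacter_subgroupOf hP.le hθ)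
    (fun g x => mem_inertia.mp (hinv g.2) ⟨_, Subgroup.mem_subgroupOf.mp x.2⟩) (d := p ^ a) ha'
    (by rw [CL.Grp.card_subgroupOf_of_le hP.le, ← ha]; exact hθ.charDegree_dvd_card)
    (by rw [hb]; exact ((Nat.Prime.coprime_iff_not_dvd hp.out).mpr hP.not_dvd).pow_left b)
  have hη1 : η 1 = θ 1 := hηθ 1
  obtain ⟨φ, hφ, hφη, μ, hμ1, hμk, hμ⟩ := exists_mu hN hP.not_dvd
    (fun x hx => hMP (by rw [← Subgroup.map_subtype_commutator]; exact ⟨x, hx, rfl⟩))
    (fun h1 => hMP' (Subgroup.subgroupOf_eq_top.mp h1)) hη (hη1.trans ha')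
  have hφθ : ∀ x : P, φ ⟨x, hP.le x.2⟩ = θ x := fun x => (hφη _ x.2).trans (hηθ ⟨⟨x, hP.le x.2⟩, x.2⟩)
  have hφ1 : φ 1 = θ 1 := hφθ 1
  obtain ⟨χ', hχ', hc'⟩ := exists_irr_over M hφ
  have hχ'P : ¬ ⁅P, P⁆ ≤ charKer χ' := by
    intro h1
    refine hθ1 (hθ.one_eq_one_iff.mpr fun x hx => hθ.mem_charKer.mpr ?_)
    rw [← hφθ, ← hφ1]
    refine apply_eq_one_of_mem_charKer (mem_ker_of_under hφ hχ' hc' (h1 ?_))
    rw [← Subgroup.map_subtype_commutator]
    exact ⟨x, hx, rfl⟩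
  have hχ'm : charDegree χ' = m := by
    have h1 := hlow χ' hχ' hχ'P
    have h2 := h' χ' hχ' (fun h2 => hχ'P (hPP.trans h2))
    omega
  obtain ⟨e, -, -, he⟩ := exists_charDegree_eq_inertia hφ hχ' hc'
  rw [hχ'm, charDegree_eq_of_eq (hφ1.trans ha')] at he
  have hord : ¬ p ∣ orderOf μ := fun h1 => hP.not_dvd (h1.trans (orderOf_dvd_of_pow_eq_one
    (MonoidHom.ext fun x => by
      rw [MonoidHom.pow_apply, ← map_pow]
      exact hμk (Subgroup.pow_index_mem _ x))))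
  obtain ⟨τ, hτ, hτc, hτd⟩ := lemE μ hord
    (Nat.pow_succ_factorization_not_dvd Subgroup.FiniteIndex.index_ne_zero hp.out)
  have hτP : P ≤ charKer τ := le_ker_of_under hP.le (isIrrCharacter_linear μ) hτ hτc fun x hx => by
    have : μ ⟨x, hP.le hx⟩ = 1 := hμk hx
    simp [this]
  have hτM : ¬ M ≤ charKer τ := fun h1 => hμ1 (MonoidHom.ext fun x => by
    have h2 := mem_ker_of_under (isIrrCharacter_linear μ) hτ hτc (h1 x.2)
    rwa [charKer_monoidHom] at h2)
  rw [hbig τ hτ hτM (larger_of_pprime hF hP.not_dvd hτ hτP hτM), he, pow_succ] at hτd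
  exact hτd (mul_dvd_mul (((Nat.ordProj_dvd _ p).trans
    (Subgroup.index_dvd_of_le (inertia_le_of_det hφ hμ))).mul_left e) (dvd_pow_self p ha0))

/-- Two relative degrees: `M` is metabelian. -/
theorem R2 [Finite G] [Group.IsSolvable G] {M : Subgroup G} [M.Normal] {m n : ℕ}
    (h : Rel M fun d => d = m ∨ d = n) : ⁅⁅M, M⁆, ⁅M, M⁆⁆ = ⊥ := by
  wlog hmn : m ≤ n generalizing m n
  · exact this (fun χ hχ hM => (h χ hχ hM).symm) (le_of_not_ge hmn)
  rcases hmn.eq_or_lt with rfl | hmn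
  · rw [R1 (n := m) (fun χ hχ hM => (or_self_iff.mp (h χ hχ hM))), Subgroup.commutator_bot_left]
  by_contra hne
  obtain ⟨U, _, p, hp, h1, h2⟩ := exists_monolith hne
  have : Fact p.Prime := ⟨hp⟩
  have : (M.map (QuotientGroup.mk' U)).Normal :=
    Subgroup.Normal.map inferInstance _ (QuotientGroup.mk'_surjective U)
  have h3 := R2_core h2 hmn (h.quot U)
  rw [← Subgroup.map_commutator, ← Subgroup.map_commutator, Subgroup.map_eq_bot_iff,
    QuotientGroup.ker_mk'] at h3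
  exact h1 h3

end CL.Char.D4
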