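/-
Garrison's theorem: a solvable group with at most four character degrees has derived length at most four.
-/
import Cfsg.Agent.Char.Deg4c

set_option autoImplicit false

open Cfsg
open scoped ComplexConjugate commutatorElement

namespace CL.Char.D4

universe u

variable {G : Type*} [Group G]

theorem eq_one_of_card_le_one [Finite G] (h : (cdSet G).card ≤ 1) : ∀ d ∈ cdSet G, d = 1 :=
  fun _ hd => Finset.card_le_one.mp h _ hd _ one_mem_cdSet

theorem dl_le [Finite G] {n : ℕ} (hn : n ≤ 3) (h : (cdSet G).card ≤ n) : derivedSeries G n = ⊥ := by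
  have h0 := Finset.card_pos.mpr ⟨1, one_mem_cdSet (G := G)⟩
  interval_cases n
  · omega
  · rw [derivedSeries_one]
    exact commutator_eq_bot_of_cdSet (eq_one_of_card_le_one h)
  · have h1 : ((cdSet G).erase 1).card ≤ 1 := by rw [Finset.card_erase_of_mem one_mem_cdSet]; omega
    obtain ⟨m, hm⟩ := Finset.card_le_one_iff_subset_singleton.mp h1
    refine derivedSeries_two_eq_bot_of_cdSet (m := m) fun d hd => ?_
    by_cases hd1 : d = 1
    · exact Or.inl hd1
    · exact Or.inr (Finset.mem_singleton.mp (hm (Finset.mem_erase.mpr ⟨hd1, hd⟩)))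
  · exact derivedSeries_three_eq_bot_of_card h

theorem caseA {G : Type u} [Group G] [Finite G] {p : ℕ} [hp : Fact p.Prime]
    (hA : ∀ d ∈ cdSet G, d ≠ 1 → p ∣ d) (h : (cdSet G).card ≤ 4)
    (ih : ∀ M : Subgroup G, M ≠ ⊤ → (cdSet M).card ≤ 4 → derivedSeries M 4 = ⊥) : derivedSeries G 4 = ⊥ := by
  classical
  have hMp := CL.Grp.hasNormalPComplement_iff_not_dvd_pResidual.mp (thompson_of_cdSet hA)
  set M := pResidual p G with hM
  obtain ⟨a, ha⟩ := CL.Grp.index_pResidual p G
  have hsum := Finset.card_filter_add_card_filter_not (s := cdSet G) (fun d => ordCompl[p] d = 1)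
  have hj : 0 < ((cdSet G).filter (fun d => ordCompl[p] d = 1)).card :=
    Finset.card_pos.mpr ⟨1, Finset.mem_filter.mpr ⟨one_mem_cdSet, by simp⟩⟩
  have hcdM : (cdSet M).card ≤ ((cdSet G).filter (fun d => ¬ ordCompl[p] d = 1)).card + 1 := by
    refine le_trans (Finset.card_le_card (t := insert 1 (((cdSet G).filter
      (fun d => ¬ ordCompl[p] d = 1)).image fun d => ordCompl[p] d)) fun e he => ?_)
      ((Finset.card_insert_le _ _).trans (Nat.add_le_add_right Finset.card_image_le 1))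
    obtain ⟨j, hj1, hj⟩ := exists_dvd_of_mem_cdSet_normal he
    obtain ⟨i, -, rfl⟩ := (Nat.dvd_prime_pow hp.out).mp (ha ▸ hj1)
    have hpe : ¬ p ∣ e := fun hd => hMp (hd.trans (dvd_card_of_mem_cdSet he))
    have h2 : ordCompl[p] (p ^ i * e) = e := by
      rw [Nat.ordCompl_mul, Nat.ordCompl_self_pow hp.out, one_mul]
      exact (Nat.ordCompl_eq_self_iff_zero_or_not_dvd e hp.out).mpr (Or.inr hpe)
    by_cases he1 : e = 1
    · exact Finset.mem_insert.mpr (Or.inl he1)
    · exact Finset.mem_insert_of_mem (Finset.mem_image.mpr ⟨_, Finset.mem_filter.mpr ⟨hj, by rwa [h2]⟩, h2⟩)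
  have hcdQ : (cdSet (G ⧸ (commutator M).map M.subtype)).card ≤
      ((cdSet G).filter (fun d => ordCompl[p] d = 1)).card := by
    refine Finset.card_le_card fun d hd => ?_
    obtain ⟨i, -, rfl⟩ := (Nat.dvd_prime_pow hp.out).mp (ha ▸ dvd_index_of_mem_cdSet_quotient M hd)
    exact Finset.mem_filter.mpr ⟨cdSet_quotient_subset _ hd, Nat.ordCompl_self_pow hp.out⟩
  generalize ((cdSet G).filter (fun d => ordCompl[p] d = 1)).card = j at hsum hj hcdQ
  generalize ((cdSet G).filter (fun d => ¬ ordCompl[p] d = 1)).card = k at hsum hcdM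
  by_cases h4 : j = 4
  · exact derivedSeries_eq_bot_of_abelian_nilpotent M
      (comm_of_cdSet_subgroup (eq_one_of_card_le_one (by omega)))
      (CL.Grp.isPGroup_quotient_pResidual p G).isNilpotent h
  have h1 : derivedSeries G j ≤ (derivedSeries M 1).map M.subtype := by
    rw [derivedSeries_one]
    exact derivedSeries_le_of_quotient (dl_le (by omega) hcdQ)
  have h2 : j + (4 - j) = 4 := by omega
  rw [← h2]
  refine derivedSeries_add_eq_bot h1 ?_
  by_cases hj1 : j = 1
  · subst hj1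
    by_cases ht : M = ⊤
    · refine le_bot_iff.mp ((derivedSeries_antitone M (by norm_num : 1 ≤ 1 + (4 - 1))).trans ?_)
      rw [derivedSeries_one, le_bot_iff]
      refine commutator_eq_bot_of_cdSet fun d hd => ?_
      obtain ⟨i, hi1, hi⟩ := exists_dvd_of_mem_cdSet_normal hd
      rw [ht, Subgroup.index_top, Nat.dvd_one] at hi1
      rw [hi1, one_mul] at hi
      by_contra hd1
      exact hMp ((hA d hi hd1).trans (dvd_card_of_mem_cdSet hd))
    · exact ih M ht (by omega)
  · exact dl_le (by omega) (by omega)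

theorem qpart [Finite G] (hA : ∀ p : ℕ, p.Prime → ∃ d ∈ cdSet G, d ≠ 1 ∧ ¬ p ∣ d) (h : (cdSet G).card ≤ 4)
    {Q : Type*} [Group Q] (f : G →* Q) (hf : Function.Surjective f) (hJ : JustNonab Q)
    (hn : Group.IsNilpotent Q) :
    ∃ q e : ℕ, q.Prime ∧ IsPGroup q Q ∧ ∀ d ∈ cdSet G, ordProj[q] d = 1 ∨ ordProj[q] d = q ^ e := by
  let _ := Fintype.ofFinite G
  obtain ⟨q, hq, hQ, Z, _, φ, k, hφ, -, hk, hφk, hZi, hprod⟩ :=
    (justNonab_degree_dichotomy f hf hJ inferInstance).resolve_right (fun h1 => h1.1 hn)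
  refine ⟨q, k, hq, hQ, ?_⟩
  obtain ⟨x, hx, hx1, hxq⟩ := hA q hq
  obtain ⟨χ, hχ, rfl⟩ := mem_cdSet.mp hx
  have hco := ((Nat.Prime.coprime_iff_not_dvd hq).mpr hxq).pow_left k
  have h2 := (hprod χ hχ.isCharacter (isIrrCharacter_restrict_of_coprime hχ hχ.cast_charDegree.symm
    (by rw [hZi, hφk]; exact hco.symm.pow_right 2))).charDegree_mem_cdSet
  rw [charDegree_mul hχ.isCharacter hφ.isCharacter, hφk] at h2
  have h3 := hφk ▸ hφ.charDegree_mem_cdSet
  have h4 : 1 < q ^ k := Nat.one_lt_pow hk.ne' hq.one_lt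
  have h5 : 1 < charDegree χ := by have := hχ.charDegree_pos; omega
  generalize charDegree χ = x at *
  have h6 : x ≠ q ^ k := fun h7 => hxq (h7 ▸ dvd_pow_self q hk.ne')
  have h7 : x < x * q ^ k := by nlinarith
  have h8 : q ^ k < x * q ^ k := by nlinarith
  have hsub : ({1, q ^ k, x, x * q ^ k} : Finset ℕ) ⊆ cdSet G := by
    intro d hd
    simp only [Finset.mem_insert, Finset.mem_singleton] at hd
    rcases hd with rfl | rfl | rfl | rfl
    exacts [one_mem_cdSet, h3, hx, h2]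
  have hcard : ({1, q ^ k, x, x * q ^ k} : Finset ℕ).card = 4 := by
    rw [Finset.card_insert_of_notMem (by simp only [Finset.mem_insert, Finset.mem_singleton]; omega),
      Finset.card_insert_of_notMem (by simp only [Finset.mem_insert, Finset.mem_singleton]; omega),
      Finset.card_pair h7.ne]
  rw [← Finset.eq_of_subset_of_card_le hsub (by omega)]
  have hx0 : x.factorization q = 0 := Nat.factorization_eq_zero_of_not_dvd hxq
  intro d hd
  simp only [Finset.mem_insert, Finset.mem_singleton] at hd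
  rcases hd with rfl | rfl | rfl | rfl
  · left; simp
  · right; rw [hq.factorization_pow]; simp
  · left; rw [hx0, pow_zero]
  · right
    rw [Nat.factorization_mul (by omega) (by omega), hq.factorization_pow]
    simp [hx0]

theorem lemQ [Finite G] [Group.IsSolvable G] {q e a : ℕ} (hq : q.Prime)
    (hF : IsMulCommutative (fittingSubgroup G)) {Y : Subgroup G} [Y.Normal]
    (h1 : (fittingSubgroup G).relIndex Y = q ^ a) (h2 : ¬ q ∣ Y.index)
    (h : ∀ d ∈ cdSet G, ordProj[q] d = 1 ∨ ordProj[q] d = q ^ e) : ⁅Y, Y⁆ ≤ fittingSubgroup G := by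
  have hle : fittingOf Y ≤ fittingSubgroup G :=
    CL.Grp.le_fittingSubgroup (CL.Grp.fittingOf_isNilpotent Y)
  refine le_trans ?_ hle
  rw [← Subgroup.map_subtype_commutator]
  refine Subgroup.map_mono ?_
  by_cases ht : fittingSubgroup Y = ⊤
  · rw [ht]; exact le_top
  have h3 : (cdSet Y).card ≤ 2 := by
    refine le_trans (Finset.card_le_card (t := {1, q ^ e}) fun d hd => ?_) Finset.card_le_two
    obtain ⟨k, hk1, hk⟩ := exists_dvd_of_mem_cdSet_normal hd
    obtain ⟨θ, hθ, rfl⟩ := mem_cdSet.mp hd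
    have h4 := isIrr_degree_dvd_index_of_abelian_normal hθ hθ.cast_charDegree.symm
      ((fittingSubgroup G).subgroupOf Y) (fun x hx y hy => Subtype.ext (show (x : G) * y = y * x from
        congrArg Subtype.val (hF.is_comm.comm (⟨x, hx⟩ : fittingSubgroup G) ⟨y, hy⟩)))
    obtain ⟨i, -, hi⟩ := (Nat.dvd_prime_pow hq).mp (h4.trans (dvd_of_eq h1))
    have h5 := h _ hk
    have hk0 : k ≠ 0 := fun h0 => h2 (by rw [h0, zero_dvd_iff] at hk1; rw [hk1]; exact dvd_zero q)
    rw [hi, Nat.factorization_mul hk0 (pow_ne_zero _ hq.ne_zero), hq.factorization_pow, Finsupp.add_apply,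
      Nat.factorization_eq_zero_of_not_dvd (fun h6 => h2 (h6.trans hk1)), Finsupp.single_eq_same,
      zero_add] at h5
    rw [hi]
    simpa using h5
  have h4 := card_cdSet_quotient_fitting_lt (G := Y) inferInstance ht
  rw [← derivedSeries_one]
  exact derivedSeries_le_of_quotient (dl_le (by norm_num) (by omega))

theorem exists_frob [Finite G] [Group.IsSolvable G]
    (hA : ∀ p : ℕ, p.Prime → ∃ d ∈ cdSet G, d ≠ 1 ∧ ¬ p ∣ d) (h : (cdSet G).card ≤ 4)
    (hn : ¬ Group.IsNilpotent G) :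
    ∃ (K : Subgroup G) (_ : K.Normal), JustNonab (G ⧸ K) ∧ ¬ Group.IsNilpotent (G ⧸ K) := by
  obtain ⟨K, hK, ⟨_, h1⟩, h2⟩ := exists_maximal_normal
    (fun K : Subgroup G => ∃ _ : K.Normal, ¬ Group.IsNilpotent (G ⧸ K)) (K₀ := ⊥)
    ⟨inferInstance, fun h' => hn (Group.nilpotent_of_mulEquiv QuotientGroup.quotientBot)⟩
  refine ⟨K, hK, ?_, h1⟩
  have h3 : ∀ (M : Subgroup (G ⧸ K)) [M.Normal], M ≠ ⊥ → Group.IsNilpotent ((G ⧸ K) ⧸ M) := by
    intro M hM hne
    have := h2 _ (hM.comap _) (lt_comap_mk' hne)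
    push Not at this
    have h4 := this (hM.comap _)
    refine Group.nilpotent_of_surjective (QuotientGroup.map (M.comap (QuotientGroup.mk' K)) M
      (QuotientGroup.mk' K) le_rfl) (fun q => ?_)
    obtain ⟨q, rfl⟩ := QuotientGroup.mk_surjective q
    obtain ⟨g, rfl⟩ := QuotientGroup.mk_surjective q
    exact ⟨g, rfl⟩
  have hΦ : frattini (G ⧸ K) = ⊥ := by
    by_contra h0
    exact h1 (CL.Grp.isNilpotent_of_quotient_le_frattini le_rfl (h3 _ h0))
  have hF := CL.Grp.isMulCommutative_fittingSubgroup_of_frattini_eq_bot hΦ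
  have : Nontrivial (G ⧸ K) := by
    by_contra h0
    rw [not_nontrivial_iff_subsingleton] at h0
    exact h1 inferInstance
  have hnil := h3 _ (CL.Grp.fittingSubgroup_ne_bot (G ⧸ K))
  set F := fittingSubgroup (G ⧸ K) with hFdef
  have hle : commutator (G ⧸ K) ≤ F := by
    by_contra h0
    obtain ⟨L, _, hL⟩ := exists_justNonab_quotient (G := (G ⧸ K) ⧸ F) (by
      rwa [← map_commutator_of_surjective _ (QuotientGroup.mk'_surjective F), Ne, Subgroup.map_eq_bot_iff,
        QuotientGroup.ker_mk'])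
    obtain ⟨q, e, hq, hQ, hd⟩ := qpart hA h
      ((QuotientGroup.mk' L).comp ((QuotientGroup.mk' F).comp (QuotientGroup.mk' K)))
      ((QuotientGroup.mk'_surjective L).comp
        ((QuotientGroup.mk'_surjective F).comp (QuotientGroup.mk'_surjective K))) hL inferInstance
    have : Fact q.Prime := ⟨hq⟩
    obtain ⟨S⟩ : Nonempty (Sylow q ((G ⧸ K) ⧸ F)) := inferInstance
    have hSn : (S : Subgroup ((G ⧸ K) ⧸ F)).Normal := CL.Grp.isNilpotent_iff_sylow_normal.mp hnil q this S
    obtain ⟨a, ha⟩ := IsPGroup.iff_card.mp S.isPGroup'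
    have hmap := Subgroup.map_comap_eq_self_of_surjective (QuotientGroup.mk'_surjective F)
      (S : Subgroup ((G ⧸ K) ⧸ F))
    have h4 := lemQ (Y := (S : Subgroup ((G ⧸ K) ⧸ F)).comap (QuotientGroup.mk' F)) (a := a) hq hF
      (by rw [← CL.Grp.card_map_mk', hmap, ha])
      (by rw [Subgroup.index_comap_of_surjective _ (QuotientGroup.mk'_surjective F)]; exact S.not_dvd_index)
      (fun d hd' => hd d (cdSet_quotient_subset K hd'))
    have h5 : ⁅(S : Subgroup ((G ⧸ K) ⧸ F)), (S : Subgroup ((G ⧸ K) ⧸ F))⁆ = ⊥ := by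
      rw [← hmap, ← Subgroup.map_commutator, Subgroup.map_eq_bot_iff, QuotientGroup.ker_mk']
      exact h4
    have h6 : (S : Subgroup ((G ⧸ K) ⧸ F)).map (QuotientGroup.mk' L) = ⊤ := by
      obtain ⟨i, hi⟩ := hQ.index ((S : Subgroup ((G ⧸ K) ⧸ F)).map (QuotientGroup.mk' L))
      have h7 := Subgroup.index_map_dvd (S : Subgroup ((G ⧸ K) ⧸ F)) (QuotientGroup.mk'_surjective L)
      rcases i with _ | i
      · exact Subgroup.index_eq_one.mp (by rw [hi, pow_zero])
      · exact absurd ((dvd_pow_self q i.succ_ne_zero).trans (hi ▸ h7)) S.not_dvd_index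
    exact hL.ne_bot (by rw [commutator_def, ← h6, ← Subgroup.map_commutator, h5, Subgroup.map_bot])
  exact justNonab_of_minimal_not_nilpotent h1 h3 fun a ha b hb => congrArg Subtype.val
    (hF.is_comm.comm (⟨a, hle ha⟩ : F) ⟨b, hle hb⟩)

theorem exists_pair {s : Finset ℕ} {a b : ℕ} (h : s.card ≤ 4) (ha : a ∈ s) (hb : b ∈ s) (hab : a ≠ b) :
    ∃ y u, ∀ d ∈ s, d = a ∨ d = b ∨ d = y ∨ d = u := by
  have h1 : ((s.erase a).erase b).card ≤ 2 := by
    rw [Finset.card_erase_of_mem (Finset.mem_erase.mpr ⟨hab.symm, hb⟩), Finset.card_erase_of_mem ha]; omega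
  have h2 : ∃ m n, ∀ d ∈ (s.erase a).erase b, d = m ∨ d = n := by
    generalize (s.erase a).erase b = t at h1
    interval_cases hs : t.card
    · exact ⟨0, 0, by simp [Finset.card_eq_zero.mp hs]⟩
    · obtain ⟨a, rfl⟩ := Finset.card_eq_one.mp hs
      exact ⟨a, a, by simp⟩
    · obtain ⟨a, b, -, rfl⟩ := Finset.card_eq_two.mp hs
      exact ⟨a, b, by simp⟩
  obtain ⟨m, n, h2⟩ := h2
  refine ⟨m, n, fun d hd => ?_⟩
  by_cases h3 : d = a
  · exact Or.inl h3
  by_cases h4 : d = b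
  · exact Or.inr (Or.inl h4)
  exact Or.inr (Or.inr (h2 d (Finset.mem_erase.mpr ⟨h4, Finset.mem_erase.mpr ⟨h3, hd⟩⟩)))

theorem caseF [Finite G] [Group.IsSolvable G]
    (hA : ∀ p : ℕ, p.Prime → ∃ d ∈ cdSet G, d ≠ 1 ∧ ¬ p ∣ d) (h : (cdSet G).card ≤ 4)
    (hn : ¬ Group.IsNilpotent G) : derivedSeries G 4 = ⊥ := by
  let _ := Fintype.ofFinite G
  obtain ⟨K, _, hK, hKn⟩ := exists_frob hA h hn
  have := Finite.of_surjective _ (QuotientGroup.mk'_surjective K)
  obtain ⟨-, N, _, r, k, hr, hk, hc, -, h3, h4, h5, -, h6⟩ :=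
    (justNonab_degree_dichotomy _ (QuotientGroup.mk'_surjective K) hK inferInstance).resolve_left (by
      rintro ⟨p, hp, hP, -⟩
      have : Fact p.Prime := ⟨hp⟩
      exact hKn hP.isNilpotent)
  let _ := Fintype.ofFinite N
  refine derivedSeries_add_eq_bot_of_le (M := N) (j := 1) (k := 3) (by rwa [derivedSeries_one]) ?_
  obtain ⟨y, u, hyu⟩ := exists_pair h one_mem_cdSet h4 h3.ne
  by_cases hf : ∃ χ, IsIrrCharacter G χ ∧ ¬ ⁅N, N⁆ ≤ charKer χ ∧ charDegree χ = N.index
  swap
  · have h7 := R2 (M := ⁅N, N⁆) (m := y) (n := u) fun χ hχ hM => by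
      rcases hyu _ hχ.charDegree_mem_cdSet with h8 | h8 | h8
      · exact absurd ((Subgroup.commutator_mono le_top le_top).trans
          (hχ.one_eq_one_iff.mp (hχ.isCharacter.charDegree_eq_one_iff.mp h8))) hM
      · exact absurd ⟨χ, hχ, hM, h8⟩ hf
      · exact h8
    rw [← Subgroup.map_eq_bot_iff_of_injective _ N.subtype_injective]
    simp only [derivedSeries_succ, derivedSeries_zero, Subgroup.map_commutator, ← MonoidHom.range_eq_map,
      Subgroup.range_subtype]
    exact h7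
  obtain ⟨χ, hχ, hχN, hχf⟩ := hf
  obtain ⟨ψ, hψ, hcψ⟩ := exists_irr_constituent_restrict N hχ
  obtain ⟨j, -, hj⟩ := exists_charDegree_eq_mul hψ hχ hcψ
  have hs1 : charDegree ψ ≠ 1 := fun h7 =>
    hχN (comm_le_of_one hψ hχ hcψ (hψ.isCharacter.charDegree_eq_one_iff.mp h7))
  have hs0 := hψ.charDegree_pos
  have hsm := hψ.charDegree_mem_cdSet
  have hrd : ∀ d, r ^ k ∣ d ^ 2 → r ∣ d := fun d h7 => hr.dvd_of_dvd_pow ((dvd_pow_self r hk.ne').trans h7)
  generalize charDegree ψ = s at *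
  have hrs : ¬ r ∣ s := fun h7 => h5 (by rw [← hχf, hj]; exact h7.mul_left j)
  have hfs := (h6 s hsm).resolve_right (fun h7 => hrs (hrd s h7))
  set f := N.index with hf
  have hlt : f < f * s := by
    have : 1 < s := by omega
    nlinarith
  obtain ⟨w, hw⟩ : ∃ w, ∀ d ∈ cdSet G, d = 1 ∨ d = f ∨ d = f * s ∨ d = w := by
    rcases hyu _ hfs with h7 | h7 | h7 | h7
    · omega
    · omega
    · exact ⟨u, fun d hd => by have := hyu d hd; omega⟩
    · exact ⟨y, fun d hd => by have := hyu d hd; omega⟩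
  have hr1 : ∀ d ∈ cdSet N, r ∣ d → ∃ i, i ∣ f ∧ i * d = w := by
    intro d hd h7
    obtain ⟨i, hi1, hi⟩ := exists_dvd_of_mem_cdSet_normal hd
    refine ⟨i, hi1, ?_⟩
    have h8 : r ∣ i * d := h7.mul_left i
    rcases hw _ hi with h9 | h9 | h9 | h9
    · exact absurd (h9 ▸ h8) hr.not_dvd_one
    · exact absurd (h9 ▸ h8) h5
    · exact absurd ((hr.dvd_mul.mp (h9 ▸ h8)).resolve_left h5) hrs
    · exact h9
  have hr2 : ∀ d, f * d ∈ cdSet G → d = 1 ∨ d = s ∨ f * d = w := by
    intro d hd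
    rcases hw _ hd with h9 | h9 | h9 | h9
    · exact Or.inl (Nat.eq_one_of_mul_eq_one_left h9)
    · exact Or.inl (Nat.eq_of_mul_eq_mul_left (by omega) (h9.trans (mul_one _).symm))
    · exact Or.inr (Or.inl (Nat.eq_of_mul_eq_mul_left (by omega) h9))
    · exact Or.inr (Or.inr h9)
  by_cases hco : f.Coprime w
  · refine derivedSeries_three_eq_bot N s w fun d hd => ?_
    rcases h6 d hd with h7 | h7
    · rcases hr2 d h7 with h8 | h8 | h8
      · exact Or.inl h8
      · exact Or.inr (Or.inl h8)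
      · exact absurd (Nat.Coprime.eq_one_of_dvd hco ⟨d, h8.symm⟩) h3.ne'
    · obtain ⟨i, hi1, hi⟩ := hr1 d hd (hrd d h7)
      rw [Nat.eq_one_of_dvd_coprimes hco hi1 ⟨d, hi.symm⟩, one_mul] at hi
      exact Or.inr (Or.inr hi)
  · obtain ⟨p, hp, hpf, hpw⟩ := Nat.Prime.not_coprime_iff_dvd.mp hco
    obtain ⟨d, hd, hd1, hpd⟩ := hA p hp
    rcases hw d hd with h9 | rfl | rfl | rfl
    · exact absurd h9 hd1
    · exact absurd hpf hpd
    · exact absurd (hpf.mul_right s) hpd
    · exact absurd hpw hpd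

/-- Garrison's theorem. -/
theorem garrison (G : Type u) [Group G] [Finite G] :
    Group.IsSolvable G → (cdSet G).card ≤ 4 → derivedSeries G 4 = ⊥ := by
  refine CL.Grp.induction_on_card (P := fun G _ _ => Group.IsSolvable G → (cdSet G).card ≤ 4 →
    derivedSeries G 4 = ⊥) ?_ G
  intro G _ _ ih hs h
  by_cases hA : ∀ p : ℕ, p.Prime → ∃ d ∈ cdSet G, d ≠ 1 ∧ ¬ p ∣ d
  · by_cases hn : Group.IsNilpotent G
    · let _ := Fintype.ofFinite G
      exact derivedSeries_card_cdSet_eq_bot (fun χ hχ => isMonomialChar_of_isNilpotent hχ) h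
    · exact caseF hA h hn
  · push Not at hA
    obtain ⟨p, hp, hA⟩ := hA
    have : Fact p.Prime := ⟨hp⟩
    exact caseA hA h fun M hM h' => ih M (CL.Grp.card_subgroup_lt hM) inferInstance h'

end CL.Char.D4
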