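/-
The degree graph of a solvable group has at most two components.
-/
import Cfsg.Agent.Char.DegJust
import Cfsg.Agent.Char.DegTaketa
import Cfsg.Prelude.Def_DegreeGraph

set_option autoImplicit false

open Cfsg

namespace CL.Char

theorem card_components_le_two {V : Type*} (Γ : SimpleGraph V) (P Q : V → Prop) (h : ∀ v, P v ∨ Q v)
    (hP : ∀ v w, P v → P w → Γ.Reachable v w) (hQ : ∀ v w, Q v → Q w → Γ.Reachable v w) :
    Nat.card Γ.ConnectedComponent ≤ 2 := by
  let f : Γ.ConnectedComponent → Prop := fun c => ∃ v, Γ.connectedComponentMk v = c ∧ P v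
  have hf : Function.Injective f := by
    intro c d e
    by_cases hc : f c
    · have hd : f d := e ▸ hc
      obtain ⟨v, rfl, h1⟩ := hc
      obtain ⟨w, rfl, h2⟩ := hd
      exact SimpleGraph.ConnectedComponent.eq.2 (hP v w h1 h2)
    · have hd : ¬ f d := e ▸ hc
      induction c using SimpleGraph.ConnectedComponent.ind with | _ v =>
      induction d using SimpleGraph.ConnectedComponent.ind with | _ w =>
      exact SimpleGraph.ConnectedComponent.eq.2 (hQ v w ((h v).resolve_left fun h1 => hc ⟨v, rfl, h1⟩)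
        ((h w).resolve_left fun h1 => hd ⟨w, rfl, h1⟩))
  simpa using Nat.card_le_card_of_injective f hf

variable {G : Type*} [Group G] [Finite G]

theorem degGraph_reach {d : ℕ} (hd : d ∈ cdSet G) (v w : degreePrimes G) (hv : v.1 ∣ d) (hw : w.1 ∣ d) :
    ((degreeGraph G).induce (degreePrimes G)).Reachable v w := by
  by_cases e : v = w
  · rw [e]
  · have hne : v.1 ≠ w.1 := fun h => e (Subtype.ext h)
    refine SimpleGraph.Adj.reachable ?_
    exact ⟨hne, v.2.1, w.2.1, d, mem_charDegrees_iff.2 hd,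
      Nat.Coprime.mul_dvd_of_dvd_of_dvd ((Nat.coprime_primes v.2.1 w.2.1).2 hne) hv hw⟩

theorem degGraph_two (r q : ℕ) (h : ∀ v : degreePrimes G, (r.Prime ∧ ∃ d ∈ cdSet G, v.1 ∣ d ∧ r ∣ d) ∨
      (q.Prime ∧ ∃ d ∈ cdSet G, v.1 ∣ d ∧ q ∣ d)) :
    Nat.card ((degreeGraph G).induce (degreePrimes G)).ConnectedComponent ≤ 2 := by
  have key : ∀ (r : ℕ) (v w : degreePrimes G), (r.Prime ∧ ∃ d ∈ cdSet G, v.1 ∣ d ∧ r ∣ d) →
      (r.Prime ∧ ∃ d ∈ cdSet G, w.1 ∣ d ∧ r ∣ d) → ((degreeGraph G).induce (degreePrimes G)).Reachable v w := by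
    rintro r v w ⟨hr, d, hd, h1, h2⟩ ⟨-, e, he, h3, h4⟩
    exact (degGraph_reach hd v ⟨r, hr, d, mem_charDegrees_iff.2 hd, h2⟩ h1 h2).trans
      (degGraph_reach he ⟨r, hr, d, mem_charDegrees_iff.2 hd, h2⟩ w h4 h3)
  exact card_components_le_two _ _ _ h (key r) (key q)

theorem degGraph_solvable (hs : Group.IsSolvable G) :
    Nat.card ((degreeGraph G).induce (degreePrimes G)).ConnectedComponent ≤ 2 := by
  by_cases hc : commutator G = ⊥
  · refine degGraph_two 2 2 fun v => ?_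
    obtain ⟨hv, d, hd, h1⟩ := v.2
    rw [comm_iff_cdSet_subset.1 (commutator_eq_bot_iff_comm.1 hc) d (mem_charDegrees_iff.1 hd)] at h1
    exact absurd (Nat.dvd_one.1 h1) hv.ne_one
  obtain ⟨K, hK, hJ⟩ := exists_justNonab_quotient hc
  rcases justNonab_degree_dichotomy (QuotientGroup.mk' K) (QuotientGroup.mk'_surjective K) hJ inferInstance with
    ⟨p, hp, -, Z, hZ, φ, k, hφ, -, hk, hd, hi, hm⟩ | ⟨-, N, hN, q, k, hq, hk, -, -, h1, h2, -, -, h3⟩
  · refine degGraph_two p p fun v => Or.inl ⟨hp, ?_⟩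
    obtain ⟨hv, d, hd', h1⟩ := v.2
    by_cases h2 : p ∣ d
    · exact ⟨d, mem_charDegrees_iff.1 hd', h1, h2⟩
    obtain ⟨χ, hχ, rfl⟩ := mem_cdSet.1 (mem_charDegrees_iff.1 hd')
    have h3 : (charDegree χ).Coprime Z.index := by
      rw [hi, hd, ← pow_mul]
      exact Nat.Coprime.pow_right _ ((Nat.Prime.coprime_iff_not_dvd hp).2 h2).symm
    have h4 := hm χ hχ.isCharacter (isIrrCharacter_restrict_of_coprime hχ hχ.cast_charDegree.symm h3)
    refine ⟨_, h4.charDegree_mem_cdSet, ?_, ?_⟩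
    · rw [charDegree_mul hχ.isCharacter hφ.isCharacter]; exact h1.mul_right _
    · rw [charDegree_mul hχ.isCharacter hφ.isCharacter, hd]; exact (dvd_pow_self p hk.ne').mul_left _
  · obtain ⟨r, hr, hr'⟩ := Nat.exists_prime_and_dvd h1.ne'
    refine degGraph_two r q fun v => ?_
    obtain ⟨hv, d, hd', h4⟩ := v.2
    obtain ⟨j, e, hj, he, rfl⟩ := exists_mem_cdSet_normal N (mem_charDegrees_iff.1 hd')
    rcases (Nat.Prime.dvd_mul hv).1 h4 with h5 | h5
    · exact Or.inl ⟨hr, _, h2, h5.trans hj, hr'⟩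
    rcases h3 e he with h6 | h6
    · exact Or.inl ⟨hr, _, h6, h5.mul_left _, hr'.mul_right _⟩
    · exact Or.inr ⟨hq, _, mem_charDegrees_iff.1 hd', h4,
        (hq.dvd_of_dvd_pow ((dvd_pow_self q hk.ne').trans h6)).mul_left _⟩

end CL.Char
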