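/-
Groups with few irreducible characters of degree divisible by a prime.
-/
import Cfsg.Agent.Char.DegThree
import Cfsg.Agent.Char.GlaubSolv
import Cfsg.Agent.Char.ExtraspecialChar
import Cfsg.Agent.Grp.ExtraBasic
import Cfsg.Agent.Fgs.ClassBasic

set_option autoImplicit false

open Cfsg
open scoped ComplexConjugate commutatorElement

namespace CL.Char

universe u

variable {G : Type*} [Group G]

theorem exists_unique_of_card_dvd_eq_one {p : ℕ}
    (h : Nat.card {χ : IrrCharacter G // p ∣ charDegree (χ : G → ℂ)} = 1) :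
    ∃ χ, IsIrrCharacter G χ ∧ p ∣ charDegree χ ∧
      ∀ ψ, IsIrrCharacter G ψ → p ∣ charDegree ψ → ψ = χ := by
  obtain ⟨⟨χ, hχ⟩, h⟩ := Nat.card_eq_one_iff_exists.mp h
  exact ⟨χ, χ.2, hχ, fun ψ hψ hp => congrArg (fun x => (x.1 : G → ℂ)) (h ⟨⟨ψ, hψ⟩, hp⟩)⟩

theorem eq_top_of_unique_dvd [Finite G] {p : ℕ} {P : Subgroup G} [P.Normal] {χ : G → ℂ}
    (hχ : IsIrrCharacter G χ) (hp : p ∣ charDegree χ) (hP : charKer χ ⊔ P = ⊤)
    (h : ∀ ψ, IsIrrCharacter G ψ → p ∣ charDegree ψ → ψ = χ) : P = ⊤ := by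
  by_contra h0
  obtain ⟨g, hg⟩ : ∃ g, g ∉ P := by
    by_contra h1
    push Not at h1
    exact h0 (eq_top_iff.mpr fun g _ => h1 g)
  obtain ⟨η, hη, hPη, hgη⟩ := exists_irr_le_charKer_not_mem P hg
  have hres := isIrrCharacter_restrict_of_charCenter P hχ
    (top_unique (hP ▸ sup_le_sup_right (charKer_le_charCenter χ) P))
  have h1 := h _ (gallagher_irr hχ.isCharacter hres hη hPη)
    (by rw [charDegree_mul hη.isCharacter hχ.isCharacter]; exact hp.mul_left _)
  have h2 : η = fun _ => 1 := gallagher_inj hχ.isCharacter hres hPη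
    (by rw [isIrrCharacter_one.charKer_eq_top_iff.mpr rfl]; exact le_top) (by rw [h1]; funext x; simp)
  exact hgη (by rw [hη.charKer_eq_top_iff.mpr h2]; trivial)

theorem exists_irr_dvd_le_charKer [Finite G] {p : ℕ} [Fact p.Prime] {N : Subgroup G} [N.Normal]
    (hN : IsPGroup p (G ⧸ N)) (h : ¬ commutator G ≤ N) :
    ∃ χ, IsIrrCharacter G χ ∧ p ∣ charDegree χ ∧ N ≤ charKer χ := by
  have h1 : ¬ ∀ a b : G ⧸ N, a * b = b * a := fun h1 => h (by
    have := commutator_eq_bot_iff_comm.mpr h1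
    rw [← map_commutator_of_surjective _ (QuotientGroup.mk'_surjective N), Subgroup.map_eq_bot_iff,
      QuotientGroup.ker_mk'] at this
    exact this)
  obtain ⟨φ, hφ, hφ1⟩ := exists_irr_charDegree_ne_one h1
  exact ⟨_, hφ.inflate, hφ.prime_dvd_charDegree hN (fun h0 => hφ1 (charDegree_eq_of_eq (by simpa using h0))),
    le_charKer_inflate φ⟩

theorem comm_of_commutator_le_of_disjoint {N P : Subgroup G} (h : commutator G ≤ N) (hd : Disjoint N P) :
    ∀ a ∈ P, ∀ b ∈ P, a * b = b * a := fun a ha b hb =>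
  commutatorElement_eq_one_iff_mul_comm.mp (Subgroup.disjoint_def.mp hd
    (h (Subgroup.commutator_mem_commutator (Subgroup.mem_top a) (Subgroup.mem_top b)))
    (P.mul_mem (P.mul_mem (P.mul_mem ha hb) (P.inv_mem ha)) (P.inv_mem hb)))

theorem isExtraspecial_of_unique_dvd [Finite G] {p : ℕ} [hp : Fact p.Prime] (hG : IsPGroup p G) {χ : G → ℂ}
    (hχ : IsIrrCharacter G χ) (hd : p ∣ charDegree χ)
    (h : ∀ ψ, IsIrrCharacter G ψ → p ∣ charDegree ψ → ψ = χ) : p = 2 ∧ IsExtraspecial 2 G := by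
  classical
  have hχ1 : charDegree χ ≠ 1 := fun h0 => hp.out.one_lt.ne' (Nat.dvd_one.mp (h0 ▸ hd))
  have h1 := sum_charDegree_sq (G := G)
  rw [← Finset.add_sum_erase _ _ (Finset.mem_univ (⟨χ, hχ⟩ : IrrCharacter G))] at h1
  have h2 : ∀ ψ : IrrCharacter G, ψ ∈ Finset.univ.erase (⟨χ, hχ⟩ : IrrCharacter G) ↔ (ψ : G → ℂ) 1 = 1 := by
    intro ψ
    rw [Finset.mem_erase, and_iff_left (Finset.mem_univ _)]
    constructor
    · intro h0
      by_contra h3
      exact h0 (Subtype.ext (h ψ ψ.2 (ψ.2.prime_dvd_charDegree hG h3)))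
    · rintro h0 rfl
      exact hχ1 (charDegree_eq_of_eq (by simpa using h0))
  have h3 : (Finset.univ.erase (⟨χ, hχ⟩ : IrrCharacter G)).card = (commutator G).index := by
    rw [← card_linear_irr, ← Nat.card_eq_finsetCard]
    exact Nat.card_congr (Equiv.subtypeEquivRight h2)
  rw [Finset.sum_congr rfl (fun ψ hψ => by
    rw [charDegree_eq_of_eq (n := 1) (by simpa using (h2 ψ).mp hψ)]), Finset.sum_const, h3, one_pow, smul_eq_mul,
    mul_one] at h1
  change charDegree χ ^ 2 + _ = _ at h1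
  obtain ⟨k, hk⟩ := hχ.exists_charDegree_eq_pow hG
  obtain ⟨j, hj⟩ := (hG.to_subgroup (commutator G)).exists_card_eq
  have h4 := (commutator G).card_mul_index
  have h5 : 0 < (commutator G).index := Nat.pos_of_ne_zero Subgroup.FiniteIndex.index_ne_zero
  have hpos := hχ.charDegree_pos
  obtain ⟨m, hm⟩ : ∃ m, Nat.card (commutator G) = m + 1 := ⟨_, (Nat.succ_pred_eq_of_pos Nat.card_pos).symm⟩
  have h6 : m * (commutator G).index = p ^ (k * 2) := by
    rw [pow_mul, ← hk]
    rw [hm] at h4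
    nlinarith
  have hj0 : j ≠ 0 := by
    rintro rfl
    rw [hm, pow_zero] at hj
    have : m = 0 := by omega
    rw [this, zero_mul] at h6
    exact (pow_pos hp.out.pos _).ne h6
  have h7 : p ∣ m + 1 := hm ▸ hj ▸ dvd_pow_self p hj0
  have h8 : m = 1 := by
    obtain ⟨i, -, hi⟩ := (Nat.dvd_prime_pow hp.out).mp (Dvd.intro _ h6)
    rcases i with _ | i
    · simpa using hi
    · exact absurd ((Nat.dvd_add_right (hi ▸ dvd_pow_self p i.succ_ne_zero)).mp h7)
        (fun h0 => hp.out.one_lt.ne' (Nat.dvd_one.mp h0))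
  subst h8
  have hp2 : p = 2 := (Nat.prime_dvd_prime_iff_eq hp.out Nat.prime_two).mp h7
  subst hp2
  have hc : commutator G ≤ Subgroup.center G := by
    intro x hx
    obtain ⟨y, hy1, hy⟩ := (Nat.card_eq_two_iff' (1 : commutator G)).mp hm
    by_cases hx1 : x = 1
    · exact hx1 ▸ Subgroup.one_mem _
    refine Subgroup.mem_center_iff.mpr fun g => ?_
    have h9 := hy ⟨x, hx⟩ (fun h0 => hx1 (congrArg Subtype.val h0))
    have h10 := hy ⟨g * x * g⁻¹, Subgroup.Normal.conj_mem inferInstance x hx g⟩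
      (fun h0 => hx1 (by simpa using congrArg Subtype.val h0))
    exact mul_inv_eq_iff_eq_mul.mp (congrArg Subtype.val (h10.trans h9.symm))
  refine ⟨rfl, CL.Grp.isExtraspecial_of_center (le_antisymm ?_ (hm.ge.trans (Subgroup.card_le_of_le hc))) hc
    (fun h0 => hχ1 (charDegree_eq_one_of_comm (fun a b => h0.is_comm.comm a b) hχ)) hG⟩
  have h9 := hχ.charDegree_sq_le_index_center
  have h10 := (Subgroup.center G).card_mul_index
  rw [hm] at h4
  have h11 : 0 < charDegree χ ^ 2 := by positivity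
  nlinarith

theorem card_dvd_eq_one_iff_of_isNilpotent [Finite G] [Group.IsNilpotent G] (p : ℕ) [hp : Fact p.Prime] :
    Nat.card {χ : IrrCharacter G // p ∣ charDegree (χ : G → ℂ)} = 1 ↔ (p = 2 ∧ IsExtraspecial 2 G) := by
  constructor
  · intro h
    obtain ⟨χ, hχ, hd, hu⟩ := exists_unique_of_card_dvd_eq_one h
    obtain ⟨P, N, hN, hc⟩ := CL.Grp.hasNormalPComplement_of_isNilpotent (G := G) (p := p)
    have hP : (P : Subgroup G).Normal := inferInstance
    have hq : IsPGroup p (G ⧸ N) := by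
      obtain ⟨k, hk⟩ := P.isPGroup'.exists_card_eq
      exact IsPGroup.of_card (hc.symm.index_eq_card.trans hk)
    have h1 : ¬ commutator G ≤ N := fun h0 =>
      (ito_normal_abelian_sylow_iff (CL.Loc.isPSolvable_of_isSolvable inferInstance) P).mp
        ⟨hP, comm_of_commutator_le_of_disjoint h0 hc.disjoint⟩ χ hχ hd
    obtain ⟨φ, hφ, hφd, hφN⟩ := exists_irr_dvd_le_charKer hq h1
    have h2 := eq_top_of_unique_dvd hχ hd (top_unique (hc.sup_eq_top ▸ sup_le_sup_right (hu φ hφ hφd ▸ hφN) _)) hu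
    exact isExtraspecial_of_unique_dvd
      (P.isPGroup'.of_equiv ((MulEquiv.subgroupCongr h2).trans Subgroup.topEquiv)) hχ hd hu
  · rintro ⟨rfl, h⟩
    obtain ⟨n, hn, hcard⟩ := CL.Grp.extra_card h
    refine Eq.trans (Nat.card_congr (Equiv.subtypeEquivRight fun χ => ?_)) (extraspecial_card_nonlinear h hcard)
    constructor
    · intro h1
      refine extraspecial_irr_degree h hcard χ.2 (fun h2 => ?_)
      rw [charDegree_eq_of_eq (n := 1) (by simpa using (extraspecial_irr_one_eq_one_iff h χ.2).mpr h2)] at h1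
      omega
    · intro h1
      rw [charDegree_eq_of_eq (n := 2 ^ n) (by simpa using h1)]
      exact dvd_pow_self 2 (by omega)

section NormalComplement

variable [Finite G] {p : ℕ} [hp : Fact p.Prime] {N : Subgroup G} [hN : N.Normal]

/-- With an abelian `p`-quotient over a normal `p'`-subgroup the characters of `p'`-degree are the
extensions of the invariant characters. -/
theorem card_not_dvd_eq_mul (h1 : (Nat.card N).Coprime p) {k : ℕ} (h2 : N.index = p ^ k)
    (h3 : commutator G ≤ N) :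
    Nat.card {χ : IrrCharacter G // ¬ p ∣ charDegree (χ : G → ℂ)} =
      Nat.card {θ : IrrCharacter N // inertia N (θ : N → ℂ) = ⊤} * N.index := by
  let _ := Fintype.ofFinite N
  have hext : ∀ θ : {θ : IrrCharacter N // inertia N (θ : N → ℂ) = ⊤},
      ∃ χ, IsIrrCharacter G χ ∧ ∀ n : N, χ n = (θ.1 : N → ℂ) n := fun θ =>
    exists_extension_of_hall θ.1.2 (inertia_eq_top_iff.mp θ.2) θ.1.2.cast_charDegree.symm
      θ.1.2.charDegree_dvd_card (h2 ▸ h1.pow_right k)
  choose E hE hEN using hext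
  have hEN' : ∀ θ, (fun n : N => E θ n) = (θ.1 : N → ℂ) := fun θ => funext (hEN θ)
  have hcomm : ∀ a b : G ⧸ N, a * b = b * a := commutator_eq_bot_iff_comm.mp (by
    rw [← map_commutator_of_surjective _ (QuotientGroup.mk'_surjective N), Subgroup.map_eq_bot_iff,
      QuotientGroup.ker_mk']
    exact h3)
  have hirr : ∀ θ (β : IrrCharacter (G ⧸ N)), IsIrrCharacter G ((fun g : G => (β : G ⧸ N → ℂ) g) * E θ) :=
    fun θ β => gallagher_irr (hE θ).isCharacter (hEN' θ ▸ θ.1.2) β.2.inflate (le_charKer_inflate _)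
  have hres : ∀ θ (β : IrrCharacter (G ⧸ N)),
      (fun n : N => ((fun g : G => (β : G ⧸ N → ℂ) g) * E θ) n) = (θ.1 : N → ℂ) := by
    intro θ β
    rw [res_mul_of_le_charKer (le_charKer_inflate _), hEN']
    change (β : G ⧸ N → ℂ) 1 • _ = _
    rw [β.2.one_eq_one_of_comm hcomm, one_smul]
  have hdeg : ∀ θ (β : IrrCharacter (G ⧸ N)),
      ¬ p ∣ charDegree ((fun g : G => (β : G ⧸ N → ℂ) g) * E θ) := by
    intro θ β h0
    rw [← charDegree_restrict _ N, hres] at h0
    exact hp.out.coprime_iff_not_dvd.mp h1.symm (h0.trans θ.1.2.charDegree_dvd_card)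
  rw [Subgroup.index, ← card_irr_of_comm hcomm, ← Nat.card_prod]
  symm
  refine Nat.card_eq_of_bijective (fun x => ⟨⟨_, hirr x.1 x.2⟩, hdeg x.1 x.2⟩) ⟨?_, ?_⟩
  · rintro ⟨θ, β⟩ ⟨θ', β'⟩ h
    have h4 : (fun g : G => (β : G ⧸ N → ℂ) g) * E θ = (fun g : G => (β' : G ⧸ N → ℂ) g) * E θ' :=
      congrArg (fun x => (x.1 : G → ℂ)) h
    have h5 : θ = θ' := Subtype.ext (Subtype.ext (by rw [← hres θ β, ← hres θ' β', h4]))
    subst h5
    have h6 := gallagher_inj (hE θ).isCharacter (hEN' θ ▸ θ.1.2) (le_charKer_inflate _) (le_charKer_inflate _) h4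
    refine Prod.ext rfl (Subtype.ext (funext fun x => ?_))
    obtain ⟨g, rfl⟩ := QuotientGroup.mk_surjective x
    exact congrFun h6 g
  · rintro ⟨χ, hχ⟩
    have h4 := isIrrCharacter_restrict_of_coprime (N := N) χ.2 χ.2.cast_charDegree.symm
      (h2 ▸ (hp.out.coprime_iff_not_dvd.mpr hχ).symm.pow_right k)
    let θ : {θ : IrrCharacter N // inertia N (θ : N → ℂ) = ⊤} :=
      ⟨⟨_, h4⟩, inertia_eq_top_iff.mpr fun g n => χ.2.isClassFunction n g⟩
    obtain ⟨β, hβ, hβN, h5⟩ := gallagher_surj (hE θ).isCharacter (hEN' θ ▸ θ.1.2) χ.2 (by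
      rw [hEN']
      exact h4.classInner_self ▸ one_ne_zero)
    obtain ⟨γ, hγ, rfl⟩ := hβ.exists_quotient N hβN
    exact ⟨(θ, ⟨γ, hγ⟩), Subtype.ext (Subtype.ext h5.symm)⟩

/-- With an abelian Sylow `p`-subgroup `P` and a normal `p`-complement `N` the classes of `p'`-size
are counted by the classes of `C_N(P)` and the elements of `P`. -/
theorem card_class_not_dvd_eq_mul (P : Sylow p G) (hc : N.IsComplement' (P : Subgroup G))
    (h3 : commutator G ≤ N) :
    Nat.card {K : ConjClasses G // ¬ p ∣ Nat.card K.carrier} =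
      Nat.card (ConjClasses (N ⊓ Subgroup.centralizer ((P : Subgroup G) : Set G) : Subgroup G)) *
        Nat.card (P : Subgroup G) := by
  set C := N ⊓ Subgroup.centralizer ((P : Subgroup G) : Set G) with hC
  have hab := comm_of_commutator_le_of_disjoint h3 hc.disjoint
  have hcop : (Nat.card (P : Subgroup G)).Coprime (Nat.card N) := by
    obtain ⟨k, hk⟩ := P.isPGroup'.exists_card_eq
    rw [hk, ← hc.index_eq_card]
    exact (hp.out.coprime_iff_not_dvd.mpr P.not_dvd_index).pow_left k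
  have hcu : ∀ (c : C) (u : (P : Subgroup G)), ∀ y ∈ (P : Subgroup G), y * (c * u : G) = c * u * y := by
    intro c u y hy
    rw [← mul_assoc, c.2.2 y hy, mul_assoc, hab y hy u u.2, mul_assoc]
  have hdeg : ∀ (c : C) (u : (P : Subgroup G)), ¬ p ∣ Nat.card (ConjClasses.mk (c * u : G)).carrier := by
    intro c u
    rw [CL.Fgs.card_carrier_mk]
    exact CL.Fgs.not_dvd_index_of_sylow_le P fun y hy => Subgroup.mem_centralizer_singleton_iff.mpr (hcu c u y hy)
  have hout : ∀ K : ConjClasses C, ∃ c, ConjClasses.mk c = K := fun K => K.exists_rep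
  choose r hr using hout
  obtain ⟨m, hm1, hm2⟩ := Nat.chineseRemainder hcop 0 1
  have hpow : ∀ (c : C) (u : (P : Subgroup G)), (c * u : G) ^ m = c := by
    intro c u
    have h1 : Commute (c : G) u := (c.2.2 u u.2).symm
    have h2 : (u : G) ^ m = 1 := by
      have := pow_eq_pow_iff_modEq.mpr ((hm1.of_dvd (orderOf_dvd_natCard u)))
      simpa using congrArg Subtype.val this
    have h4 : (c : G) ^ m = c := by
      have := pow_eq_pow_iff_modEq.mpr ((hm2.of_dvd (orderOf_dvd_natCard (⟨c, c.2.1⟩ : N))))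
      simpa using congrArg Subtype.val this
    rw [h1.mul_pow, h2, h4, mul_one]
  have hdec : ∀ g : G, ∃ n ∈ N, ∃ y ∈ (P : Subgroup G), n * y = g := fun g => by
    obtain ⟨⟨n, y⟩, h⟩ := hc.2 g
    exact ⟨n, n.2, y, y.2, h⟩
  rw [← Nat.card_prod]
  symm
  refine Nat.card_eq_of_bijective (fun x => ⟨ConjClasses.mk (r x.1 * x.2 : G), hdeg _ _⟩) ⟨?_, ?_⟩
  · rintro ⟨K, u⟩ ⟨L, v⟩ h
    obtain ⟨g, hg⟩ := isConj_iff.mp (ConjClasses.mk_eq_mk_iff_isConj.mp (congrArg Subtype.val h))
    obtain ⟨n, hn, y, hy, rfl⟩ := hdec g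
    have h4 : n * (r K * u : G) * n⁻¹ = r L * v := by
      rw [← hg, mul_assoc n y, hcu _ _ y hy]
      group
    have h5 : n * (r K : G) * n⁻¹ = r L := by
      rw [← hpow (r L) v, ← h4, conj_pow, hpow]
    have hnorm : ∀ s ∈ (P : Subgroup G), ∀ g ∈ N, s * g * s⁻¹ ∈ N := fun s _ g hg => hN.conj_mem g hg s
    obtain ⟨c, hc1, hc2⟩ := gl_exists_fixed_conj_eq (glConjHom hnorm) hcop
      (Or.inl (by have := P.isPGroup'.isNilpotent; infer_instance))
      (x := ⟨r K, (r K).2.1⟩) (y := ⟨r L, (r L).2.1⟩) ((glConjHom_fixed_iff hnorm _).mpr (r K).2.2)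
      ((glConjHom_fixed_iff hnorm _).mpr (r L).2.2) (isConj_iff.mpr ⟨⟨n, hn⟩, Subtype.ext h5⟩)
    refine Prod.ext ?_ (Subtype.ext ?_)
    · change K = L
      rw [← hr K, ← hr L, ConjClasses.mk_eq_mk_iff_isConj]
      exact isConj_iff.mpr ⟨⟨c, c.2, (glConjHom_fixed_iff hnorm _).mp hc1⟩,
        Subtype.ext (congrArg (Subtype.val : N → G) hc2)⟩
    · have h6 : n * (u : G) * n⁻¹ = v := by
        refine mul_left_cancel (a := (r L : G)) ?_
        rw [← h4, ← h5]
        group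
      refine mul_inv_eq_one.mp (Subgroup.disjoint_def.mp hc.disjoint ?_
        ((P : Subgroup G).mul_mem u.2 ((P : Subgroup G).inv_mem v.2)))
      rw [← h6, show (u : G) * (n * u * n⁻¹)⁻¹ = (u * n * (u : G)⁻¹) * n⁻¹ by group]
      exact N.mul_mem (hN.conj_mem n hn u) (N.inv_mem hn)
  · rintro ⟨K, hK⟩
    obtain ⟨x, rfl⟩ := K.exists_rep
    rw [CL.Fgs.card_carrier_mk] at hK
    obtain ⟨g, hg⟩ := CL.Fgs.exists_conj_mem_centralizer_of_not_dvd_cs hK P
    obtain ⟨n, hn, y, hy, hny⟩ := hdec (g * x * g⁻¹)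
    have h4 : n ∈ C := ⟨hn, by
      rw [eq_mul_inv_of_mul_eq hny]
      exact Subgroup.mul_mem _ hg (Subgroup.inv_mem _ fun z hz => hab z hz y hy)⟩
    obtain ⟨c, hc'⟩ := isConj_iff.mp (ConjClasses.mk_eq_mk_iff_isConj.mp (hr (ConjClasses.mk ⟨n, h4⟩)))
    refine ⟨(ConjClasses.mk ⟨n, h4⟩, ⟨y, hy⟩), Subtype.ext (ConjClasses.mk_eq_mk_iff_isConj.mpr ?_)⟩
    refine isConj_iff.mpr ⟨g⁻¹ * c, ?_⟩
    have h5 : (c : G) * r (ConjClasses.mk ⟨n, h4⟩) * (c : G)⁻¹ = n := congrArg Subtype.val hc'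
    have h6 : y * (c : G) = c * y := c.2.2 y hy
    generalize (r (ConjClasses.mk ⟨n, h4⟩) : G) = w at h5
    calc g⁻¹ * c * (w * y) * (g⁻¹ * c)⁻¹ = g⁻¹ * ((c * w * (c : G)⁻¹) * (c * y * (c : G)⁻¹)) * g := by group
      _ = x := by rw [h5, ← h6, mul_inv_cancel_right, hny]; group

theorem card_not_dvd_eq_card_class (P : Sylow p G) (hc : N.IsComplement' (P : Subgroup G))
    (h3 : commutator G ≤ N) :
    Nat.card {χ : IrrCharacter G // ¬ p ∣ charDegree (χ : G → ℂ)} =
      Nat.card {K : ConjClasses G // ¬ p ∣ Nat.card K.carrier} := by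
  obtain ⟨k, hk⟩ := P.isPGroup'.exists_card_eq
  have h1 : (Nat.card N).Coprime p := by
    rw [← hc.index_eq_card]
    exact (hp.out.coprime_iff_not_dvd.mpr P.not_dvd_index).symm
  have hnorm : ∀ s ∈ (P : Subgroup G), ∀ g ∈ N, s * g * s⁻¹ ∈ N := fun s _ g hg => hN.conj_mem g hg s
  have hs : Group.IsSolvable (P : Subgroup G) := by have := P.isPGroup'.isNilpotent; infer_instance
  have h4 := gl_card_irr_solvable (hk ▸ h1.symm.pow_left k) (glConjHom hnorm)
    (Subgroup.inclusion (inf_le_left : N ⊓ Subgroup.centralizer ((P : Subgroup G) : Set G) ≤ N))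
    (Subgroup.inclusion_injective _) (glConjHom_range_inclusion hnorm rfl _)
  rw [card_not_dvd_eq_mul h1 (hc.symm.index_eq_card.trans hk) h3, card_class_not_dvd_eq_mul P hc h3,
    hc.symm.index_eq_card, ← card_irr_eq_card_conjClasses, ← h4]
  congr 1
  refine Nat.card_congr (Equiv.subtypeEquivRight fun θ => ⟨fun h a g => inertia_eq_top_iff.mp h a g, fun h => ?_⟩)
  exact top_unique (hc.sup_eq_top ▸ sup_le (le_inertia θ.2.isClassFunction) fun a ha g => h ⟨a, ha⟩ g)

theorem card_class_dvd_eq_one (hnil : ¬ Group.IsNilpotent G) (h1 : (Nat.card N).Coprime p) {k : ℕ}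
    (h2 : N.index = p ^ k) (h : Nat.card {χ : IrrCharacter G // p ∣ charDegree (χ : G → ℂ)} = 1) :
    Nat.card {K : ConjClasses G // p ∣ Nat.card K.carrier} = 1 := by
  classical
  let _ := Fintype.ofFinite N
  let _ := Fintype.ofFinite G
  obtain ⟨χ, hχ, hd, hu⟩ := exists_unique_of_card_dvd_eq_one h
  obtain ⟨P⟩ : Nonempty (Sylow p G) := inferInstance
  obtain ⟨j, hj⟩ := P.isPGroup'.exists_card_eq
  have hc : N.IsComplement' (P : Subgroup G) := by
    refine Subgroup.isComplement'_of_coprime ?_ (hj ▸ h1.pow_right j)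
    rw [P.card_eq_multiplicity, ← N.card_mul_index, h2, Nat.factorization_mul_apply_of_coprime (h1.pow_right k),
      Nat.factorization_eq_zero_of_not_dvd (hp.out.coprime_iff_not_dvd.mp h1.symm), zero_add,
      Nat.factorization_pow_self hp.out]
  have h3 : commutator G ≤ N := by
    by_contra h3
    obtain ⟨φ, hφ, hφd, hφN⟩ := exists_irr_dvd_le_charKer (IsPGroup.of_card h2) h3
    obtain rfl := hu φ hφ hφd
    have h4 : (P : Subgroup G) ≤ Subgroup.centralizer (N : Set G) := by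
      refine le_centralizer_of_forall_le_inertia (hj ▸ h1.symm.pow_left j)
        (Or.inl (by have := P.isPGroup'.isNilpotent; infer_instance)) fun θ hθ => ?_
      by_contra h5
      obtain ⟨ψ, hψ, hψθ⟩ := exists_irr_over N hθ
      obtain ⟨e, -, -, he⟩ := exists_charDegree_eq_inertia hθ hψ hψθ
      obtain ⟨i, -, hi⟩ := (Nat.dvd_prime_pow hp.out).mp
        (h2 ▸ Subgroup.index_dvd_of_le (le_inertia hθ.isClassFunction))
      have hi0 : i ≠ 0 := by
        rintro rfl
        exact h5 (by rw [Subgroup.index_eq_one.mp hi]; exact le_top)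
      obtain rfl := hu ψ hψ (by rw [he, hi]; exact ((dvd_pow_self p hi0).mul_left _).mul_right _)
      have h6 := (hψ.isCharacter.restrict N).charKer_le_of_classInner_ne_zero hθ hψθ
      refine h5 (fun g _ n => ?_)
      have h7 : ∀ n : N, θ n = θ 1 := fun n => apply_eq_one_of_mem_charKer (h6
        ((hψ.isCharacter.restrict N).mem_charKer.mpr (apply_eq_one_of_mem_charKer (hφN n.2))))
      rw [h7, h7 n]
    have : (P : Subgroup G).Normal := CL.Grp.normal_of_sup_le_normalizer hc.sup_eq_top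
      (CL.Grp.le_normalizer_of_le_centralizer (Subgroup.le_centralizer_iff.mp h4)) Subgroup.le_normalizer
    have h5 := eq_top_of_unique_dvd hχ hd (top_unique (hc.sup_eq_top ▸ sup_le_sup_right hφN _)) hu
    exact hnil (P.isPGroup'.of_equiv ((MulEquiv.subgroupCongr h5).trans Subgroup.topEquiv)).isNilpotent
  have h4 := card_not_dvd_eq_card_class P hc h3
  have h5 := card_irr_eq_card_conjClasses (G := G)
  rw [← Nat.card_congr (Equiv.sumCompl fun χ : IrrCharacter G => p ∣ charDegree (χ : G → ℂ)),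
    ← Nat.card_congr (Equiv.sumCompl fun K : ConjClasses G => p ∣ Nat.card K.carrier), Nat.card_sum,
    Nat.card_sum] at h5
  omega

end NormalComplement

theorem derivedSeries_eq_bot_of_injective {H : Type*} [Group H] (f : H →* G) (hf : Function.Injective f)
    {k : ℕ} (h : derivedSeries G k = ⊥) : derivedSeries H k = ⊥ := by
  rw [← Subgroup.map_eq_bot_iff_of_injective _ hf, eq_bot_iff, ← h]
  exact map_derivedSeries_le_derivedSeries f k

theorem derivedSeries_eq_bot_of_sylow [Finite G] {p : ℕ} [Fact p.Prime] (S : Sylow p G) {k : ℕ}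
    (h : derivedSeries (S : Subgroup G) k = ⊥) {P : Subgroup G} (hP : IsPGroup p P) :
    derivedSeries P k = ⊥ := by
  obtain ⟨Q, hQ⟩ := hP.exists_le_sylow
  exact derivedSeries_eq_bot_of_injective ((Q.equiv S).toMonoidHom.comp (Subgroup.inclusion hQ))
    ((Q.equiv S).injective.comp (Subgroup.inclusion_injective hQ)) h

/-- A character of `p'`-degree of a `p`-group has a linear constituent. -/
theorem exists_linear_constituent [Fintype G] {p : ℕ} [Fact p.Prime] (hG : IsPGroup p G) {χ : G → ℂ}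
    (hχ : IsCharacter G χ) (h : ¬ p ∣ charDegree χ) :
    ∃ μ, IsIrrCharacter G μ ∧ μ 1 = 1 ∧ classInner χ μ ≠ 0 := by
  by_contra h0
  push Not at h0
  choose m hm using fun ψ : IrrCharacter G => hχ.exists_nat_classInner ψ.2.isCharacter
  rw [hχ.charDegree_eq_sum m hm] at h
  refine h (Finset.dvd_sum fun ψ _ => ?_)
  by_cases h1 : (ψ : G → ℂ) 1 = 1
  · have := h0 ψ ψ.2 h1
    rw [hm, Nat.cast_eq_zero] at this
    simp [this]
  · exact (ψ.2.prime_dvd_charDegree hG h1).mul_left _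

/-- If all characters over an invariant character of an abelian normal `p`-subgroup have `p'`-degree,
then so have all characters of the quotient. -/
theorem not_dvd_quotient_of_invariant [Finite G] {p : ℕ} [hp : Fact p.Prime] {N : Subgroup G} [hN : N.Normal]
    [Fintype N] (hNp : IsPGroup p N) (hab : ∀ a b : N, a * b = b * a) {θ : N → ℂ} (hθ : IsIrrCharacter N θ)
    (hinv : ∀ (g : G) (n : N), θ ⟨g * n * g⁻¹, hN.conj_mem n n.2 g⟩ = θ n)
    (h : ∀ ψ, IsIrrCharacter G ψ → classInner (fun n : N => ψ n) θ ≠ 0 → ¬ p ∣ charDegree ψ) :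
    ∀ β, IsIrrCharacter (G ⧸ N) β → ¬ p ∣ charDegree β := by
  let _ := Fintype.ofFinite G
  have hθ1 := hθ.one_eq_one_of_comm hab
  obtain ⟨η, hη, hηθ⟩ := exists_extension_of_forall_prime hθ hinv (d := 1) (by simpa using hθ1) (by
    intro q hq h1 _
    obtain ⟨lam, rfl⟩ := hθ.exists_monoidHom_of_comm hab
    rw [one_mul, detOrder_linear] at h1
    obtain ⟨k, hk⟩ := hNp.exists_card_eq
    have h2 : orderOf lam ∣ p ^ k := orderOf_dvd_of_pow_eq_one (MonoidHom.ext fun n => by
      rw [MonoidHom.pow_apply, ← map_pow, ← hk, pow_card_eq_one', map_one, MonoidHom.one_apply])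
    obtain rfl := (Nat.prime_dvd_prime_iff_eq hq hp.out).mp (hq.dvd_of_dvd_pow (h1.trans h2))
    obtain ⟨Q, hQ⟩ := hNp.exists_le_sylow
    let _ := Fintype.ofFinite (Q : Subgroup G)
    obtain ⟨ψ, hψ, hc⟩ := exists_irr_over N hθ
    obtain ⟨μ, hμ, hμ1, hcμ⟩ := exists_linear_constituent Q.isPGroup' (hψ.isCharacter.restrict Q) (h ψ hψ hc)
    refine ⟨Q, hQ, μ, Q.not_dvd_index, hμ.isCharacter, ?_⟩
    have h3 : IsIrrCharacter N (fun n : N => μ (Subgroup.inclusion hQ n)) :=
      (hμ.isCharacter.comp _).isIrrCharacter_of_one_eq_one (by simpa using hμ1)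
    have h4 := classInner_comp_ne_zero_of_constituent (Subgroup.inclusion hQ) (hψ.isCharacter.restrict Q) hμ
      h3.isCharacter hcμ (h3.classInner_self ▸ one_ne_zero)
    have h5 := clifford_of_invariant hψ hθ hinv hc
    change classInner (fun n : N => ψ n) _ ≠ 0 at h4
    rw [h5] at h4
    exact fun n => congrFun (eq_of_classInner_smul_ne_zero hθ h3 h4).symm n)
  intro β hβ hd
  have hηθ' : (fun n : N => η n) = θ := funext hηθ
  refine h _ (gallagher_irr hη.isCharacter (hηθ' ▸ hθ) hβ.inflate (le_charKer_inflate β)) ?_ ?_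
  · rw [← hηθ', classInner_res_mul_of_le_charKer (le_charKer_inflate β) (hηθ' ▸ hθ)]
    exact hβ.one_ne_zero
  · rw [charDegree_mul hβ.inflate.isCharacter hη.isCharacter]
    exact hd.mul_right _

theorem exists_sylow_commutator_le [Finite G] {p : ℕ} [hp : Fact p.Prime] (hG : IsPSolvable p G)
    {N : Subgroup G} [hN : N.Normal] (hNp : IsPGroup p N) (hab : ∀ a b : N, a * b = b * a) (hne : N ≠ ⊥)
    (h : ∀ χ, IsIrrCharacter G χ → ¬ N ≤ charKer χ → ¬ p ∣ charDegree χ) :
    ∃ S : Sylow p G, ∀ a ∈ (S : Subgroup G), ∀ b ∈ (S : Subgroup G), ⁅a, b⁆ ∈ N := by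
  let _ := Fintype.ofFinite G
  let _ := Fintype.ofFinite N
  obtain ⟨⟨x, hx⟩, hx1⟩ := Subgroup.ne_bot_iff_exists_ne_one.mp hne
  obtain ⟨θ, hθ, hxθ⟩ := exists_irr_not_mem_charKer hx1
  have hover : ∀ χ, IsIrrCharacter G χ → classInner (fun n : N => χ n) θ ≠ 0 → ¬ p ∣ charDegree χ :=
    fun χ hχ hc => h χ hχ fun h0 => hxθ ((hχ.isCharacter.restrict N).charKer_le_of_classInner_ne_zero hθ hc
      ((hχ.isCharacter.restrict N).mem_charKer.mpr (apply_eq_one_of_mem_charKer (h0 hx))))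
  set T := inertia N θ with hT
  have hNT : N ≤ T := le_inertia hθ.isClassFunction
  let _ := Fintype.ofFinite (N.subgroupOf T)
  have hTi : ¬ p ∣ T.index := by
    obtain ⟨χ, hχ, hc⟩ := exists_irr_over N hθ
    obtain ⟨e, -, -, he⟩ := exists_charDegree_eq_inertia hθ hχ hc
    exact fun h0 => hover χ hχ hc (he ▸ (h0.mul_left _).mul_right _)
  have key := not_dvd_quotient_of_invariant (N := N.subgroupOf T)
    (hNp.of_equiv (Subgroup.subgroupOfEquivOfLe hNT).symm)
    (fun a b => Subtype.ext (Subtype.ext (congrArg (Subtype.val : N → G) (hab ⟨_, a.2⟩ ⟨_, b.2⟩))))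
    (isIrrCharacter_subgroupOf hNT hθ) (fun g n => g.2 ⟨_, n.2⟩) (fun ψ hψ hc hd => by
      have h1 : classInner (fun n : N => ψ ⟨n, hNT n.2⟩) θ ≠ 0 := by
        rw [← classInner_subgroupOf hNT]; exact hc
      obtain ⟨h2, h3⟩ := clifford_corr_inertia hθ hT hNT hψ h1
      refine hover _ h2 (h3 ▸ h1) ?_
      rw [charDegree_indFun hψ.isCharacter]
      exact hd.mul_left _)
  obtain ⟨S, hS⟩ := CL.Fgs.exists_sylow_le_of_not_dvd_index hTi
  have hq : IsPSolvable p (T ⧸ N.subgroupOf T) :=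
    CL.Loc.isPSolvable_of_surjective _ (QuotientGroup.mk'_surjective _)
      (CL.Loc.isPSolvable_of_injective T.subtype T.subtype_injective hG)
  obtain ⟨R, hR⟩ := (((S.isPGroup'.comap_subtype (K := T))).map (QuotientGroup.mk' (N.subgroupOf T))).exists_le_sylow
  have h1 := ((ito_normal_abelian_sylow_iff hq R).mpr key).2
  refine ⟨S, fun a ha b hb => ?_⟩
  have h2 := h1 _ (hR ⟨⟨a, hS ha⟩, ha, rfl⟩) _ (hR ⟨⟨b, hS hb⟩, hb, rfl⟩)
  rw [← commutatorElement_eq_one_iff_mul_comm, ← map_commutatorElement] at h2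
  exact (QuotientGroup.eq_one_iff (N := N.subgroupOf T) _).mp h2

theorem derivedSeries_eq_bot_of_card_dvd {p : ℕ} [hp : Fact p.Prime] (G : Type u) [Group G] [Finite G] :
    IsPSolvable p G → ∀ P : Subgroup G, IsPGroup p P →
      derivedSeries P (Nat.card {χ : IrrCharacter G // p ∣ charDegree (χ : G → ℂ)} + 1) = ⊥ := by
  refine CL.Grp.induction_on_card (P := fun G _ _ => IsPSolvable p G → ∀ P : Subgroup G, IsPGroup p P →
      derivedSeries P (Nat.card {χ : IrrCharacter G // p ∣ charDegree (χ : G → ℂ)} + 1) = ⊥)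
    (fun G _ _ ih hG P hP => ?_) G
  rcases subsingleton_or_nontrivial G with _ | _
  · exact Subsingleton.elim _ _
  set n := Nat.card {χ : IrrCharacter G // p ∣ charDegree (χ : G → ℂ)} with hn
  have step : ∀ (N : Subgroup G) [N.Normal], N ≠ ⊥ → ∃ m, m ≤ n ∧
      ((∃ χ, IsIrrCharacter G χ ∧ ¬ N ≤ charKer χ ∧ p ∣ charDegree χ) → m < n) ∧
      derivedSeries P (m + 1) ≤ N.subgroupOf P := by
    intro N _ hne
    let F : {χ : IrrCharacter (G ⧸ N) // p ∣ charDegree (χ : G ⧸ N → ℂ)} →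
        {χ : IrrCharacter G // p ∣ charDegree (χ : G → ℂ)} := fun χ => ⟨⟨_, χ.1.2.inflate⟩, χ.2⟩
    have hF : Function.Injective F := fun χ ψ h => Subtype.ext (Subtype.ext (funext fun x => by
      obtain ⟨g, rfl⟩ := QuotientGroup.mk_surjective x
      exact congrFun (congrArg (fun x => (x.1 : G → ℂ)) h) g))
    refine ⟨_, Nat.card_le_card_of_injective F hF, ?_, ?_⟩
    · rintro ⟨χ, hχ, h1, h2⟩
      classical
      let _ := Fintype.ofFinite {χ : IrrCharacter (G ⧸ N) // p ∣ charDegree (χ : G ⧸ N → ℂ)}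
      let _ := Fintype.ofFinite {χ : IrrCharacter G // p ∣ charDegree (χ : G → ℂ)}
      rw [hn, Nat.card_eq_fintype_card, Nat.card_eq_fintype_card]
      refine Fintype.card_lt_of_injective_of_notMem F hF (b := ⟨⟨χ, hχ⟩, h2⟩) ?_
      rintro ⟨ψ, hψ⟩
      exact h1 (by rw [← show _ = χ from congrArg (fun x => (x.1 : G → ℂ)) hψ]; exact le_charKer_inflate _)
    · have h1 := ih (G ⧸ N) (CL.Grp.card_quotient_lt hne)
        (CL.Loc.isPSolvable_of_surjective _ (QuotientGroup.mk'_surjective N) hG) _ (hP.map (QuotientGroup.mk' N))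
      have h2 := map_derivedSeries_le_derivedSeries ((QuotientGroup.mk' N).subgroupMap P)
        (Nat.card {χ : IrrCharacter (G ⧸ N) // p ∣ charDegree (χ : G ⧸ N → ℂ)} + 1)
      rw [h1, le_bot_iff, Subgroup.map_eq_bot_iff] at h2
      intro x hx
      exact (QuotientGroup.eq_one_iff (x : G)).mp (congrArg Subtype.val (h2 hx))
  by_cases h0 : pPrimeCore p G = ⊥
  swap
  · obtain ⟨m, hm, -, h1⟩ := step _ h0
    refine le_bot_iff.mp ((derivedSeries_antitone P (by omega : m + 1 ≤ n + 1)).trans (h1.trans ?_))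
    rw [le_bot_iff, Subgroup.subgroupOf_eq_bot]
    obtain ⟨k, hk⟩ := hP.exists_card_eq
    exact Subgroup.disjoint_of_coprime_natCard (hk ▸ (CL.Grp.pPrimeCore_coprime p G).pow_right k)
  have h1 := (CL.Loc.pCore_ne_bot_or_pPrimeCore_ne_bot hG).resolve_right (not_not.mpr h0)
  obtain ⟨N, hN, hNle⟩ := CL.Grp.exists_isMinNormal_le _ h1
  have := hN.normal
  have hNp : IsPGroup p N := (CL.Grp.pCore_isPGroup p G).to_le hNle
  have hab : ∀ a b : N, a * b = b * a := (hN.isElementaryAbelian_of_isPGroup hNp).1.is_comm.comm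
  have hend : ∀ (Q : Subgroup G) (j : ℕ), derivedSeries Q j ≤ N.subgroupOf Q → derivedSeries Q (j + 1) = ⊥ := by
    intro Q j h
    refine derivedSeries_add_eq_bot_of_le h (commutator_eq_bot_iff_comm.mpr fun a b => ?_)
    exact Subtype.ext (Subtype.ext (congrArg (Subtype.val : N → G) (hab ⟨_, a.2⟩ ⟨_, b.2⟩)))
  by_cases h2 : ∃ χ, IsIrrCharacter G χ ∧ ¬ N ≤ charKer χ ∧ p ∣ charDegree χ
  · obtain ⟨m, -, hm, h3⟩ := step N hN.ne_bot
    exact le_bot_iff.mp (hend P _ h3 ▸ derivedSeries_antitone P (by have := hm h2; omega))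
  by_cases h3 : n = 0
  · obtain ⟨S, hS⟩ := hP.exists_le_sylow
    have h4 := ((ito_normal_abelian_sylow_iff hG S).mpr fun χ hχ hd => by
      have : Nonempty {χ : IrrCharacter G // p ∣ charDegree (χ : G → ℂ)} := ⟨⟨⟨χ, hχ⟩, hd⟩⟩
      exact Nat.card_pos.ne' h3).2
    rw [h3]
    exact commutator_eq_bot_iff_comm.mpr fun a b => Subtype.ext (h4 a (hS a.2) b (hS b.2))
  obtain ⟨S, hS⟩ := exists_sylow_commutator_le hG hNp hab hN.ne_bot fun χ hχ h4 h5 => h2 ⟨χ, hχ, h4, h5⟩
  have h4 := hend S 1 (Subgroup.commutator_le.mpr fun a _ b _ => hS a a.2 b b.2)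
  exact le_bot_iff.mp (derivedSeries_eq_bot_of_sylow S h4 hP ▸ derivedSeries_antitone P (by omega))

end CL.Char
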