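import Cfsg.Agent.Base
import Cfsg.Agent.Char.Congruence
import Cfsg.Agent.Char.Ito
import Cfsg.Agent.Char.Kernel
import Cfsg.Agent.Char.Orth2

/-!
# Class numbers of extensions of abelian groups (the k(GV) setting)

Counting commuting pairs in extensions of an abelian normal subgroup.
-/

namespace CL.Char

open Cfsg

theorem kgv_card_pairs {A T X : Type*} [Finite A] [Fintype T] (e : A × T ≃ X) (R : X → X → Prop) :
    Nat.card {p : X × X // R p.1 p.2} =
      ∑ t : T × T, Nat.card {x : A × A // R (e (x.1, t.1)) (e (x.2, t.2))} := by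
  rw [← Nat.card_sigma]
  let e' : (T × T) × (A × A) ≃ X × X :=
    (Equiv.prodComm _ _).trans ((Equiv.prodProdProdComm A A T T).trans (Equiv.prodCongr e e))
  refine Nat.card_congr (Equiv.trans ?_ (Equiv.subtypeProdEquivSigmaSubtype
    (fun (t : T × T) (x : A × A) => R (e (x.1, t.1)) (e (x.2, t.2)))))
  exact (Equiv.subtypeEquiv e' (fun q => Iff.rfl)).symm

theorem kgv_card_fiber_le {A B : Type*} [Group A] [Group B] [Finite A] (f : A →* B) (c : B) :
    Nat.card {a // f a = c} ≤ Nat.card {a // f a = 1} := by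
  by_cases h : ∃ a0, f a0 = c
  · obtain ⟨a0, h0⟩ := h
    refine Nat.card_le_card_of_injective
      (fun a : {a // f a = c} => (⟨a0⁻¹ * a.1, by rw [map_mul, map_inv, h0, a.2, inv_mul_cancel]⟩ :
        {a // f a = 1})) ?_
    intro a b hab
    simp only [Subtype.mk.injEq, mul_right_inj] at hab
    exact Subtype.ext hab
  · haveI : IsEmpty {a // f a = c} := ⟨fun a => h ⟨a.1, a.2⟩⟩
    simp

/-- `v ↦ v / c v`. -/
def kgvD {W : Type*} [CommGroup W] (c : MulAut W) : W →* W where
  toFun v := v / c v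
  map_one' := by simp
  map_mul' v w := by rw [map_mul, mul_div_mul_comm]

theorem kgvD_apply {W : Type*} [CommGroup W] (c : MulAut W) (v : W) : kgvD c v = v / c v := rfl

theorem kgvD_eq_one {W : Type*} [CommGroup W] (c : MulAut W) (v : W) : kgvD c v = 1 ↔ c v = v := by
  rw [kgvD_apply, div_eq_one, eq_comm]

theorem kgvD_comm {W : Type*} [CommGroup W] {a b : MulAut W} (h : a * b = b * a) (v : W) :
    kgvD a (kgvD b v) = kgvD b (kgvD a v) := by
  have h1 : a (b v) = b (a v) := by
    rw [← MulAut.mul_apply, h, MulAut.mul_apply]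
  simp only [kgvD_apply, map_div, h1]
  rw [div_div_div_comm]

theorem kgvD_disjoint {W : Type*} [CommGroup W] [Finite W] {c : MulAut W} {n : ℕ} (hn : c ^ n = 1)
    (hcop : n.Coprime (Nat.card W)) {v : W} (h : kgvD c (kgvD c v) = 1) : kgvD c v = 1 := by
  set u := kgvD c v with hu
  rw [kgvD_eq_one] at h
  have h1 : c v = v / u := by rw [hu, kgvD_apply]; simp
  have h2 : ∀ k : ℕ, (c ^ k) v = v / u ^ k := by
    intro k
    induction k with
    | zero => simp
    | succ k ih =>
      rw [pow_succ', MulAut.mul_apply, ih, map_div, map_pow, h, h1, pow_succ', div_div]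
  have h3 := h2 n
  rw [hn, MulAut.one_apply, eq_comm, div_eq_self] at h3
  have h4 : orderOf u ∣ 1 := by
    rw [← hcop]
    exact Nat.dvd_gcd (orderOf_dvd_of_pow_eq_one h3) (orderOf_dvd_natCard u)
  exact orderOf_eq_one_iff.mp (Nat.dvd_one.mp h4)

theorem kgvD_exists {W : Type*} [CommGroup W] [Finite W] {c : MulAut W} {n : ℕ} (hn : c ^ n = 1)
    (hcop : n.Coprime (Nat.card W)) (x : W) : ∃ k u, kgvD c k = 1 ∧ x = k * kgvD c u := by
  have hinj : Function.Injective (fun y : (kgvD c).range => (⟨kgvD c y, y, rfl⟩ : (kgvD c).range)) := by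
    rintro ⟨_, y, rfl⟩ ⟨_, z, rfl⟩ h
    have h' : kgvD c (kgvD c y) = kgvD c (kgvD c z) := congrArg Subtype.val h
    have : kgvD c (kgvD c (y / z)) = 1 := by rw [map_div, map_div, h', div_self']
    have := kgvD_disjoint hn hcop this
    rw [map_div, div_eq_one] at this
    exact Subtype.ext this
  obtain ⟨⟨_, u, rfl⟩, hu⟩ := (Finite.injective_iff_surjective.mp hinj) ⟨kgvD c x, x, rfl⟩
  have hu' : kgvD c (kgvD c u) = kgvD c x := congrArg Subtype.val hu
  exact ⟨x / kgvD c u, u, by rw [map_div, hu', div_self'], by simp⟩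

/-- `(v, w) ↦ (v / b v) / (w / a w)`. -/
def kgvF {W : Type*} [CommGroup W] (a b : MulAut W) : W × W →* W :=
  (kgvD b).comp (MonoidHom.fst W W) / (kgvD a).comp (MonoidHom.snd W W)

theorem kgvF_apply {W : Type*} [CommGroup W] (a b : MulAut W) (x : W × W) :
    kgvF a b x = kgvD b x.1 / kgvD a x.2 := rfl

theorem kgvF_eq {W : Type*} [CommGroup W] (a b : MulAut W) (x : W × W) :
    kgvF a b x = (x.2 * b x.1)⁻¹ * (x.1 * a x.2) := by
  rw [kgvF_apply, kgvD_apply, kgvD_apply, div_div_div_eq, div_eq_mul_inv, mul_comm, mul_comm x.2]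

theorem kgvF_card_ker {W : Type*} [CommGroup W] [Finite W] {a b : MulAut W} (h : a * b = b * a)
    {n m : ℕ} (hn : a ^ n = 1) (hm : b ^ m = 1) (hcn : n.Coprime (Nat.card W))
    (hcm : m.Coprime (Nat.card W)) :
    Nat.card {x : W × W // kgvF a b x = 1} = Nat.card W * Nat.card {v : W // a v = v ∧ b v = v} := by
  set D := (kgvD a).ker ⊓ (kgvD b).ker with hD
  have hc : Subgroup.IsComplement' D (kgvF a b).range := by
    refine Subgroup.isComplement'_of_disjoint_and_mul_eq_univ ?_ ?_
    · rw [Subgroup.disjoint_def]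
      rintro d ⟨hda, hdb⟩ ⟨⟨v, w⟩, rfl⟩
      obtain ⟨c, u, hc, rfl⟩ := kgvD_exists hm hcm w
      replace hda : kgvD a (kgvF a b (v, c * kgvD b u)) = 1 := hda
      replace hdb : kgvD b (kgvF a b (v, c * kgvD b u)) = 1 := hdb
      have e1 : kgvF a b (v, c * kgvD b u) * kgvD a c = kgvD b (v / kgvD a u) := by
        rw [kgvF_apply, map_mul, map_div, kgvD_comm h u]
        simp only [div_eq_mul_inv, mul_inv]
        rw [mul_assoc, mul_comm (kgvD a c)⁻¹, mul_assoc, inv_mul_cancel, mul_one]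
      have e2 : kgvD b (kgvD b (v / kgvD a u)) = 1 := by
        rw [← e1, map_mul, hdb, ← kgvD_comm h, hc, map_one, mul_one]
      rw [kgvD_disjoint hm hcm e2, mul_eq_one_iff_eq_inv, ← map_inv] at e1
      rw [e1] at hda ⊢
      exact kgvD_disjoint hn hcn hda
    · rw [Set.eq_univ_iff_forall]
      intro x
      obtain ⟨c, u, hc, rfl⟩ := kgvD_exists hm hcm x
      obtain ⟨c', u', hc', rfl⟩ := kgvD_exists hn hcn c
      have e1 : kgvD b c' = kgvD a (kgvD b u'⁻¹) := by
        rw [map_mul, mul_eq_one_iff_eq_inv] at hc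
        rw [hc, kgvD_comm h, map_inv, map_inv]
      have e2 : kgvD b c' = 1 := by
        rw [e1]
        apply kgvD_disjoint hn hcn
        rw [← e1, kgvD_comm h, hc', map_one]
      refine ⟨c', ⟨hc', e2⟩, kgvF a b (u, u'⁻¹), ⟨_, rfl⟩, ?_⟩
      simp only [kgvF_apply, map_inv, div_inv_eq_mul]
      rw [mul_assoc, mul_comm (kgvD b u)]
  have h1 := hc.card_mul_card
  have h2 : Nat.card (kgvF a b).ker * Nat.card (kgvF a b).range = Nat.card W * Nat.card W := by
    rw [← Nat.card_prod W W, ← (kgvF a b).ker.card_mul_index, Subgroup.index_ker]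
  have h3 : Nat.card {v : W // a v = v ∧ b v = v} = Nat.card D :=
    Nat.card_congr (Equiv.subtypeEquivRight fun v => by
      simp [hD, MonoidHom.mem_ker, kgvD_eq_one])
  have h4 : Nat.card {x : W × W // kgvF a b x = 1} = Nat.card (kgvF a b).ker := rfl
  rw [h3, h4]
  have hpos : 0 < Nat.card (kgvF a b).range := Nat.card_pos
  apply Nat.eq_of_mul_eq_mul_right hpos
  rw [h2, mul_assoc, h1]

theorem kgv_commute_iff {X : Type*} [Group X] (v w a b : X) :
    Commute (v * a) (w * b) ↔
      (w * (b * v * b⁻¹))⁻¹ * (v * (a * w * a⁻¹)) = b * a * (a * b)⁻¹ := by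
  rw [commute_iff_eq, inv_mul_eq_iff_eq_mul]
  constructor
  · intro h
    calc v * (a * w * a⁻¹) = v * a * (w * b) * (a * b)⁻¹ := by group
      _ = w * b * (v * a) * (a * b)⁻¹ := by rw [h]
      _ = _ := by group
  · intro h
    calc v * a * (w * b) = v * (a * w * a⁻¹) * (a * b) := by group
      _ = _ := by rw [h]
      _ = w * b * (v * a) := by group

/-- The split extension has the largest class number. -/
theorem card_conjClasses_le_semidirect {X : Type*} [Group X] [Finite X] (V : Subgroup X) [V.Normal]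
    (hab : ∀ a ∈ V, ∀ b ∈ V, a * b = b * a) (φ : X ⧸ V →* MulAut V)
    (hφ : ∀ (x : X) (v : V), ((φ (QuotientGroup.mk x) v : V) : X) = x * v * x⁻¹) :
    Nat.card (ConjClasses X) ≤ Nat.card (ConjClasses (SemidirectProduct V (X ⧸ V) φ)) := by
  classical
  letI : CommGroup V := { (inferInstance : Group V) with
    mul_comm := fun a b => Subtype.ext (hab a a.2 b b.2) }
  haveI := Fintype.ofFinite (X ⧸ V)
  have hbij : Function.Bijective (fun p : V × (X ⧸ V) => (p.1 : X) * p.2.out) := by
    rw [Nat.bijective_iff_injective_and_card]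
    refine ⟨?_, by rw [Nat.card_prod, mul_comm, ← Subgroup.card_eq_card_quotient_mul_card_subgroup]⟩
    rintro ⟨v, q⟩ ⟨w, r⟩ h
    simp only at h
    have h1 : q = r := by
      have := congrArg (QuotientGroup.mk (s := V)) h
      simpa [(QuotientGroup.eq_one_iff _).mpr v.2, (QuotientGroup.eq_one_iff _).mpr w.2] using this
    subst h1
    rw [mul_left_inj] at h
    rw [Subtype.ext h]
  let e1 := Equiv.ofBijective _ hbij
  let e2 : V × (X ⧸ V) ≃ SemidirectProduct V (X ⧸ V) φ := SemidirectProduct.equivProd.symm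
  have hcard : Nat.card (SemidirectProduct V (X ⧸ V) φ) = Nat.card X := by
    rw [← Nat.card_congr e2, Nat.card_congr e1]
  have hX := card_comm_eq_card_conjClasses_mul_card X
  have hY := card_comm_eq_card_conjClasses_mul_card (SemidirectProduct V (X ⧸ V) φ)
  rw [hcard] at hY
  have hpos : 0 < Nat.card X := Nat.card_pos
  apply Nat.le_of_mul_le_mul_right _ hpos
  rw [← hX, ← hY, kgv_card_pairs e1 Commute, kgv_card_pairs e2 Commute]
  refine Finset.sum_le_sum fun t _ => ?_
  obtain ⟨q, r⟩ := t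
  by_cases hqr : q * r = r * q
  · have hc : r.out * q.out * (q.out * r.out)⁻¹ ∈ V := by
      rw [← QuotientGroup.eq_one_iff]
      simp only [QuotientGroup.mk_mul, QuotientGroup.mk_inv, QuotientGroup.out_eq']
      rw [hqr, mul_inv_cancel]
    have hq : ∀ (s : X ⧸ V) (v : V), ((φ s v : V) : X) = s.out * v * s.out⁻¹ := by
      intro s v
      rw [← hφ, QuotientGroup.out_eq']
    calc _ = Nat.card {x : V × V // kgvF (φ q) (φ r) x = ⟨_, hc⟩} := by
          refine Nat.card_congr (Equiv.subtypeEquivRight fun x => ?_)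
          simp only [e1, Equiv.ofBijective_apply]
          rw [kgv_commute_iff, kgvF_eq, Subtype.ext_iff]
          simp [hq]
      _ ≤ Nat.card {x : V × V // kgvF (φ q) (φ r) x = 1} := kgv_card_fiber_le _ _
      _ = _ := by
          refine Nat.card_congr (Equiv.subtypeEquivRight fun x => ?_)
          rw [kgvF_eq, inv_mul_eq_one, commute_iff_eq, SemidirectProduct.ext_iff]
          simp [e2, SemidirectProduct.equivProd, hqr, eq_comm]
  · haveI : IsEmpty {x : V × V // Commute (e1 (x.1, q)) (e1 (x.2, r))} := ⟨fun x => hqr (by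
      have := congrArg (QuotientGroup.mk (s := V)) x.2.eq
      simpa [e1, (QuotientGroup.eq_one_iff _).mpr x.1.1.2,
        (QuotientGroup.eq_one_iff _).mpr x.1.2.2] using this)⟩
    simp

theorem kgv_card_conjClasses_congr {A B : Type*} [Group A] [Group B] [Finite A] (e : A ≃* B) :
    Nat.card (ConjClasses A) = Nat.card (ConjClasses B) := by
  haveI : Finite B := Finite.of_equiv A e.toEquiv
  have hA := card_comm_eq_card_conjClasses_mul_card A
  have hB := card_comm_eq_card_conjClasses_mul_card B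
  rw [← Nat.card_congr e.toEquiv] at hB
  have hpos : 0 < Nat.card A := Nat.card_pos
  apply Nat.eq_of_mul_eq_mul_right hpos
  rw [← hA, ← hB]
  refine Nat.card_congr (Equiv.subtypeEquiv (Equiv.prodCongr e.toEquiv e.toEquiv) fun p => ?_)
  simp only [commute_iff_eq, Equiv.prodCongr_apply, Prod.map_fst, Prod.map_snd,
    MulEquiv.toEquiv_eq_coe, MulEquiv.coe_toEquiv, ← map_mul, EmbeddingLike.apply_eq_iff_eq]

theorem kgv_card_comm_split {X : Type*} [Group X] [Finite X] (V : Subgroup X) [hV : V.Normal]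
    [Fintype V] (hab : ∀ a ∈ V, ∀ b ∈ V, a * b = b * a) (G : Subgroup X)
    (hGV : Subgroup.IsComplement' V G) (hcop : (Nat.card V).Coprime (Nat.card G)) :
    Nat.card (ConjClasses X) * Nat.card G =
      ∑ v : V, Nat.card (ConjClasses ↥(G ⊓ Subgroup.centralizer ({(v : X)} : Set X))) *
        Nat.card ↥(G ⊓ Subgroup.centralizer ({(v : X)} : Set X)) := by
  classical
  letI : CommGroup V := { (inferInstance : Group V) with
    mul_comm := fun a b => Subtype.ext (hab a a.2 b b.2) }
  haveI := Fintype.ofFinite G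
  let e1 : V × G ≃ X := Equiv.ofBijective _ hGV
  have he1 : ∀ (v : V) (g : G), e1 (v, g) = (v : X) * g := fun _ _ => rfl
  have hX := card_comm_eq_card_conjClasses_mul_card X
  have hpos : 0 < Nat.card V := Nat.card_pos
  apply Nat.eq_of_mul_eq_mul_left hpos
  rw [mul_left_comm, hGV.card_mul_card, ← hX, kgv_card_pairs e1 Commute]
  have hpow : ∀ g : G, (MulAut.conjNormal (g : X) : MulAut V) ^ Nat.card G = 1 := by
    intro g
    rw [← map_pow, ← Subgroup.coe_pow, pow_card_eq_one', Subgroup.coe_one, map_one]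
  have h1 : ∀ t : G × G, Nat.card {x : V × V // Commute (e1 (x.1, t.1)) (e1 (x.2, t.2))} =
      Nat.card V * Nat.card {v : V // Commute t.1 t.2 ∧ (t.1 : X) * v = v * t.1 ∧
        (t.2 : X) * v = v * t.2} := by
    rintro ⟨g, h⟩
    by_cases hgh : Commute g h
    · have hgh' : (g : X) * h = h * g := congrArg Subtype.val hgh.eq
      have := kgvF_card_ker (W := V) (a := MulAut.conjNormal (g : X)) (b := MulAut.conjNormal (h : X))
        (by rw [← map_mul, hgh', map_mul]) (hpow g) (hpow h) hcop.symm hcop.symm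
      refine Eq.trans ?_ (this.trans ?_)
      · refine Nat.card_congr (Equiv.subtypeEquivRight fun x => ?_)
        rw [he1, he1, kgv_commute_iff, kgvF_eq, Subtype.ext_iff, hgh', mul_inv_cancel]
        simp
      · congr 1
        refine Nat.card_congr (Equiv.subtypeEquivRight fun x => ?_)
        simp only [hgh, true_and, Subtype.ext_iff, MulAut.conjNormal_apply, mul_inv_eq_iff_eq_mul]
    · haveI : IsEmpty {x : V × V // Commute (e1 (x.1, g)) (e1 (x.2, h))} := ⟨fun x => hgh (by
        have h2 := x.2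
        rw [he1, he1, kgv_commute_iff] at h2
        have h3 : (h : X) * g * ((g : X) * h)⁻¹ ∈ V := by
          rw [← h2]
          exact V.mul_mem (V.inv_mem (V.mul_mem x.1.2.2 (hV.conj_mem _ x.1.1.2 _)))
            (V.mul_mem x.1.1.2 (hV.conj_mem _ x.1.2.2 _))
        have h4 : (h : X) * g * ((g : X) * h)⁻¹ ∈ G :=
          G.mul_mem (G.mul_mem h.2 g.2) (G.inv_mem (G.mul_mem g.2 h.2))
        have h5 := Subgroup.disjoint_def.mp hGV.disjoint h3 h4
        rw [mul_inv_eq_one] at h5
        exact Subtype.ext h5.symm)⟩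
      haveI : IsEmpty {v : V // Commute g h ∧ (g : X) * v = v * g ∧ (h : X) * v = v * h} :=
        ⟨fun x => hgh x.2.1⟩
      simp
  rw [Finset.sum_congr rfl fun t _ => h1 t, ← Finset.mul_sum]
  congr 1
  have h2 : ∀ v : V, Nat.card (ConjClasses ↥(G ⊓ Subgroup.centralizer ({(v : X)} : Set X))) *
      Nat.card ↥(G ⊓ Subgroup.centralizer ({(v : X)} : Set X)) =
      Nat.card {t : G × G // Commute t.1 t.2 ∧ (t.1 : X) * v = v * t.1 ∧
        (t.2 : X) * v = v * t.2} := by
    intro v
    rw [← card_comm_eq_card_conjClasses_mul_card]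
    refine Nat.card_congr ⟨fun p => ⟨(⟨p.1.1, p.1.1.2.1⟩, ⟨p.1.2, p.1.2.2.1⟩),
      Subtype.ext (congrArg Subtype.val p.2.eq :),
      Subgroup.mem_centralizer_singleton_iff.mp p.1.1.2.2,
      Subgroup.mem_centralizer_singleton_iff.mp p.1.2.2.2⟩,
      fun t => ⟨(⟨t.1.1, t.1.1.2, Subgroup.mem_centralizer_singleton_iff.mpr t.2.2.1⟩,
        ⟨t.1.2, t.1.2.2, Subgroup.mem_centralizer_singleton_iff.mpr t.2.2.2⟩),
        Subtype.ext (congrArg Subtype.val t.2.1.eq :)⟩, fun _ => rfl, fun _ => rfl⟩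
  rw [Finset.sum_congr rfl fun v _ => h2 v]
  simp only [Nat.card_eq_fintype_card, Fintype.card_subtype, Finset.card_filter]
  exact Finset.sum_comm

/-- `k(GV) = ∑ k(C_G(v))` over representatives of the `G`-orbits on `V`. -/
theorem card_conjClasses_split {X : Type*} [Group X] [Finite X] (V : Subgroup X) [hV : V.Normal]
    (hab : ∀ a ∈ V, ∀ b ∈ V, a * b = b * a) (G : Subgroup X)
    (hGV : Subgroup.IsComplement' V G) (hcop : (Nat.card V).Coprime (Nat.card G))
    (S : Finset X) (hSV : ∀ s ∈ S, s ∈ V)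
    (hrep : ∀ v ∈ V, ∃! s, s ∈ S ∧ ∃ g ∈ G, g * v * g⁻¹ = s) :
    Nat.card (ConjClasses X) =
      ∑ s ∈ S, Nat.card (ConjClasses ↥(G ⊓ Subgroup.centralizer ({s} : Set X))) := by
  classical
  haveI := Fintype.ofFinite V
  haveI := Fintype.ofFinite G
  have hpos : 0 < Nat.card G := Nat.card_pos
  apply Nat.eq_of_mul_eq_mul_right hpos
  rw [kgv_card_comm_split V hab G hGV hcop, Finset.sum_mul]
  have h1 : ∀ v : V, Nat.card (ConjClasses ↥(G ⊓ Subgroup.centralizer ({(v : X)} : Set X))) *
      Nat.card ↥(G ⊓ Subgroup.centralizer ({(v : X)} : Set X)) =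
      ∑ s ∈ S, ∑ g : G, if (g : X) * v * (g : X)⁻¹ = s then
        Nat.card (ConjClasses ↥(G ⊓ Subgroup.centralizer ({s} : Set X))) else 0 := by
    intro v
    obtain ⟨s, ⟨hs, g0, hg0, e0⟩, huniq⟩ := hrep v v.2
    rw [Finset.sum_eq_single s]
    · rw [← Finset.sum_filter, Finset.sum_const, smul_eq_mul, mul_comm]
      congr 1
      · rw [← Fintype.card_subtype, ← Nat.card_eq_fintype_card]
        refine Nat.card_congr ⟨fun c => ⟨⟨g0 * c, G.mul_mem hg0 c.2.1⟩, ?_⟩,
          fun g => ⟨g0⁻¹ * g.1, G.mul_mem (G.inv_mem hg0) g.1.2, ?_⟩, ?_, ?_⟩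
        · have := Subgroup.mem_centralizer_singleton_iff.mp c.2.2
          rw [← e0]
          calc g0 * c * v * (g0 * c)⁻¹ = g0 * (c * v) * (c : X)⁻¹ * g0⁻¹ := by group
            _ = _ := by rw [this]; group
        · refine Subgroup.mem_centralizer_singleton_iff.mpr ?_
          have := g.2.trans e0.symm
          calc g0⁻¹ * g.1 * v = g0⁻¹ * (g.1 * v * (g.1 : X)⁻¹) * g.1 := by group
            _ = _ := by rw [this]; group
        · intro c; simp
        · intro g; simp
      · refine kgv_card_conjClasses_congr ((MulAut.conj g0).subgroupMap _ |>.trans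
          (MulEquiv.subgroupCongr ?_))
        ext x
        simp only [Subgroup.mem_map, Subgroup.mem_inf, Subgroup.mem_centralizer_singleton_iff,
          MonoidHom.coe_coe, MulAut.conj_apply]
        constructor
        · rintro ⟨c, ⟨hc1, hc2⟩, rfl⟩
          refine ⟨G.mul_mem (G.mul_mem hg0 hc1) (G.inv_mem hg0), ?_⟩
          rw [← e0]
          calc g0 * c * g0⁻¹ * (g0 * v * g0⁻¹) = g0 * (c * v) * g0⁻¹ := by group
            _ = _ := by rw [hc2]; group
        · rintro ⟨hx1, hx2⟩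
          refine ⟨g0⁻¹ * x * g0, ⟨G.mul_mem (G.mul_mem (G.inv_mem hg0) hx1) hg0, ?_⟩, by group⟩
          rw [← e0] at hx2
          calc g0⁻¹ * x * g0 * v = g0⁻¹ * (x * (g0 * v * g0⁻¹)) * g0 := by group
            _ = _ := by rw [hx2]; group
    · intro s' hs' hne
      refine Finset.sum_eq_zero fun g _ => if_neg fun h => hne (huniq s' ⟨hs', g, g.2, h⟩)
    · intro h; exact absurd hs h
  rw [Finset.sum_congr rfl fun v _ => h1 v, Finset.sum_comm]
  refine Finset.sum_congr rfl fun s hs => ?_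
  rw [Finset.sum_comm, Nat.card_eq_fintype_card (α := G), ← Finset.card_univ, mul_comm,
    ← smul_eq_mul, ← Finset.sum_const]
  refine Finset.sum_congr rfl fun g _ => ?_
  have hm : (g : X)⁻¹ * s * (g : X)⁻¹⁻¹ ∈ V := hV.conj_mem _ (hSV s hs) _
  rw [Finset.sum_eq_single ⟨_, hm⟩, if_pos (by group)]
  · intro v _ hne
    refine if_neg fun h => hne (Subtype.ext ?_)
    change (v : X) = (g : X)⁻¹ * s * (g : X)⁻¹⁻¹
    rw [← h]; group
  · intro h; exact absurd (Finset.mem_univ _) h

theorem kgv_card_of_le {X : Type*} [Group X] [Finite X] {V G H : Subgroup X}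
    (hGV : Subgroup.IsComplement' V G) (hVH : V ≤ H) :
    Nat.card H = Nat.card V * Nat.card ↥(G ⊓ H) := by
  rw [← Nat.card_prod]
  refine (Nat.card_congr (Equiv.ofBijective
    (fun x : V × ↥(G ⊓ H) => (⟨x.1 * x.2, H.mul_mem (hVH x.1.2) x.2.2.2⟩ : H)) ⟨?_, ?_⟩)).symm
  · rintro ⟨a, b⟩ ⟨a', b'⟩ h
    have := hGV.1 (a₁ := (a, ⟨b, b.2.1⟩)) (a₂ := (a', ⟨b', b'.2.1⟩)) (congrArg Subtype.val h)
    simp only [Prod.mk.injEq, Subtype.mk.injEq] at this
    exact Prod.ext this.1 (Subtype.ext this.2)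
  · rintro ⟨x, hx⟩
    obtain ⟨⟨a, b⟩, rfl⟩ := hGV.2 x
    exact ⟨(a, ⟨b, b.2, by simpa using H.mul_mem (H.inv_mem (hVH a.2)) hx⟩), rfl⟩

theorem kgv_apply_ne_zero {X : Type*} [Group X] [Finite X] {p : ℕ} [hp : Fact p.Prime]
    (V : Subgroup X) [V.Normal] (hVp : IsPGroup p V) (hidx : ¬ p ∣ V.index)
    (hab : ∀ a ∈ V, ∀ b ∈ V, a * b = b * a) {χ : X → ℂ} (hχ : IsIrrCharacter X χ) {v : X}
    (hv : v ∈ V) : χ v ≠ 0 := by
  obtain ⟨n, -, hn⟩ := hχ.exists_nat_one
  obtain ⟨k, hk⟩ := hVp ⟨v, hv⟩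
  exact apply_ne_zero_of_not_dvd_degree hχ.isGeneralizedCharacter hp.out
    (congrArg Subtype.val hk) hn
    fun h => hidx (h.trans (isIrr_degree_dvd_index_of_abelian_normal hχ hn V hab))

theorem card_conjClasses_add_le {X : Type*} [Group X] [Finite X] (p : ℕ) [Fact p.Prime]
    (V : Subgroup X) [V.Normal] (hVp : IsPGroup p V) (hidx : ¬ p ∣ V.index)
    (hab : ∀ a ∈ V, ∀ b ∈ V, a * b = b * a) (G : Subgroup X) (hGV : Subgroup.IsComplement' V G)
    (v : X) (hv : v ∈ V) :
    Nat.card (ConjClasses X) + Nat.card G ≤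
      Nat.card ↥(G ⊓ Subgroup.centralizer ({v} : Set X)) * Nat.card V +
        Nat.card (ConjClasses G) := by
  classical
  have e : X ⧸ V ≃* G := hGV.symm.QuotientMulEquiv
  have h1 := sum_irr_norm_sq v
  rw [kgv_card_of_le hGV (fun a ha => Subgroup.mem_centralizer_singleton_iff.mpr (hab a ha v hv)),
    ← Finset.sum_filter_add_sum_filter_not Finset.univ
      (fun χ : IrrCharacter X => V ≤ charKer (χ : X → ℂ))] at h1
  have h2 : ∑ χ ∈ Finset.univ.filter (fun χ : IrrCharacter X => V ≤ charKer (χ : X → ℂ)),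
      ‖(χ : X → ℂ) v‖ ^ 2 = Nat.card G := by
    have := sum_irr_comp (QuotientGroup.mk' V) (QuotientGroup.mk'_surjective V)
      (fun χ : X → ℂ => ‖χ v‖ ^ 2)
    simp only [QuotientGroup.ker_mk', QuotientGroup.mk'_apply,
      (QuotientGroup.eq_one_iff v).mpr hv] at this
    rw [← this, sum_irr_norm_sq, ← Nat.card_congr e.toEquiv]
    simp
  have h3 := card_le_sum_irr_norm_sq
    (Finset.univ.filter (fun χ : IrrCharacter X => ¬ V ≤ charKer (χ : X → ℂ)))
    (fun σ χ hχ => by
      simp only [Finset.mem_filter, Finset.mem_univ, true_and] at hχ ⊢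
      refine fun h => hχ fun a ha => ?_
      have := h ha
      rw [(galIrr σ χ).2.mem_charKer, galIrr_apply, galIrr_apply] at this
      exact χ.2.mem_charKer.mpr (σ.injective this)) v
    (fun χ _ => kgv_apply_ne_zero V hVp hidx hab χ.2 hv)
  have h4 := Finset.card_filter_add_card_filter_not (s := Finset.univ)
    (fun χ : IrrCharacter X => V ≤ charKer (χ : X → ℂ))
  have h5 : (Finset.univ.filter (fun χ : IrrCharacter X => V ≤ charKer (χ : X → ℂ))).card =
      Nat.card (ConjClasses G) := by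
    rw [← Fintype.card_subtype, ← Nat.card_eq_fintype_card, card_irr_le_charKer,
      card_irr_eq_card_conjClasses, kgv_card_conjClasses_congr e]
  rw [Finset.card_univ, ← Nat.card_eq_fintype_card, card_irr_eq_card_conjClasses, h5] at h4
  rw [h2] at h1
  have h6 : ((Finset.univ.filter (fun χ : IrrCharacter X => ¬ V ≤ charKer (χ : X → ℂ))).card : ℝ) +
      Nat.card G ≤ (Nat.card V * Nat.card ↥(G ⊓ Subgroup.centralizer ({v} : Set X)) : ℕ) := by
    linarith
  have h7 : (Finset.univ.filter (fun χ : IrrCharacter X => ¬ V ≤ charKer (χ : X → ℂ))).card +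
      Nat.card G ≤ Nat.card V * Nat.card ↥(G ⊓ Subgroup.centralizer ({v} : Set X)) := by
    exact_mod_cast h6
  rw [mul_comm] at h7
  omega

end CL.Char
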