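/-
Linear groups of degree small relative to a prime `p` have a normal Sylow `p`-subgroup.
-/
import Cfsg.Agent.Char.ItoLinear
import Cfsg.Agent.Char.BrauerTI

set_option autoImplicit false
set_option linter.style.haveILetI false

open Module Cfsg
open scoped Pointwise commutatorElement

namespace CL.Char

universe u

/-- The hypothesis that `L` has a unique Sylow `p`-subgroup, in terms of the ambient group. -/
theorem eq_of_isSylowIn_of_normal {G : Type*} [Group G] [Finite G] {p : ℕ} [Fact p.Prime]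
    {L : Subgroup G} (h : ∀ Q : Sylow p L, (Q : Subgroup L).Normal) {S T : Subgroup G}
    (hS : Grp.IsSylowIn p S L) (hT : Grp.IsSylowIn p T L) : S = T := by
  obtain ⟨g, hg, rfl⟩ := hS.exists_conj_eq hT
  haveI := h hS.toSylow
  have := Grp.le_normalizer_map_subtype (hS.toSylow : Subgroup L) hg
  rw [hS.map_toSylow] at this
  exact ((Grp.conj_smul_eq_self_iff g S).mpr this).symm

theorem sylow_normal_of_small_degree_aux (p : ℕ) [hp : Fact p.Prime] (n k : ℕ) (hnp : n + 1 < p) :
    ∀ (G : Type u) [Group G] [Finite G], Nat.card G = k →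
    ∀ χ : G → ℂ, IsCharacter G χ → charKer χ = ⊥ → charDegree χ = n →
      ((n + 1) ^ 2 ≤ p ∨ ∀ K : Subgroup G, ¬ p ^ 2 ∣ Nat.card K →
        ∀ Q : Sylow p K, (Q : Subgroup K).Normal) → ∀ P : Sylow p G, (P : Subgroup G).Normal := by
  induction k using Nat.strong_induction_on with
  | _ k ih =>
  intro G _ _ hk χ hχ hker hn h P
  classical
  haveI := Fintype.ofFinite G
  by_contra hcon
  have hsub : ∀ L : Subgroup G, L ≠ ⊤ → ∀ Q : Sylow p L, (Q : Subgroup L).Normal := by
    intro L hL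
    refine ih _ (hk ▸ Grp.card_lt_of_ne_top hL) L rfl _ (hχ.restrict L)
      (charKer_restrict_eq_bot hχ hker L) hn (h.imp_right fun h K hK Q => ?_)
    let e := K.equivMapOfInjective L.subtype L.subtype_injective
    have := h (K.map L.subtype) (by rwa [Grp.card_map_subtype]) (Q.mapSurjective
      (f := e.toMonoidHom) e.surjective)
    have h2 : (((Q : Subgroup K).map e.toMonoidHom).comap e.toMonoidHom).Normal :=
      this.comap e.toMonoidHom
    rwa [Subgroup.comap_map_eq_self_of_injective e.injective] at h2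
  have hcomm : ∀ R : Subgroup G, IsPGroup p R → ∀ a ∈ R, ∀ b ∈ R, a * b = b * a :=
    fun R hR => comm_of_primes_gt_degree hχ hker fun q hq hd => by
      rw [prime_eq_of_dvd_card_pgroup hp.out hq hR hd]
      omega
  have hM : ∀ M : Subgroup G, M.Normal → (P : Subgroup G) ≤ M → M = ⊤ := by
    intro M hMn hPM
    by_contra hne
    refine hcon ⟨fun x hx g => ?_⟩
    have h1 := Grp.isSylowIn_of_le P hPM
    have h2 := eq_of_isSylowIn_of_normal (hsub M hne) h1 (h1.conj_smul_of_mem_normalizer (g := g)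
      (by rw [Subgroup.normalizer_eq_top]; trivial))
    have h3 := Grp.conj_mem_conj_smul g hx
    rwa [← h2] at h3
  have hnot : ¬ IsPSolvable p G := fun hs => by
    have := (ito_linear hχ hker hs (by omega) (dvd_index_pCore_of_not_normal P hcon)).1
    omega
  have hD : commutator G = ⊤ := by
    by_contra hne
    obtain ⟨r, N, hr, hN, -, hNr⟩ := exists_normal_index_prime_of_commutator_ne_top hne
    have hNt : N ≠ ⊤ := by
      rintro rfl
      rw [Subgroup.index_top] at hNr
      exact hr.one_lt.ne hNr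
    by_cases hrp : r = p
    · subst hrp
      obtain ⟨Q⟩ : Nonempty (Sylow r N) := inferInstance
      haveI := hsub N hNt Q
      refine hnot (Loc.isPSolvable_of_normal N (Loc.isPSolvable_of_normal (Q : Subgroup N)
        (Loc.isPSolvable_of_isPGroup Q.isPGroup') (Loc.isPSolvable_of_not_dvd Q.not_dvd_index))
        (Loc.isPSolvable_of_isPGroup (IsPGroup.of_card (n := 1) (by rw [pow_one]; exact hNr))))
    · refine hNt (hM N hN ?_)
      obtain ⟨j, hj⟩ := P.isPGroup'.index (N.subgroupOf P)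
      have h1 : N.relIndex P ∣ r := hNr ▸ Subgroup.relIndex_dvd_index_of_normal N P
      refine Subgroup.relIndex_eq_one.mp (Nat.eq_one_of_dvd_coprimes
        (((Nat.coprime_primes hp.out hr).mpr (Ne.symm hrp)).pow_left j) (dvd_of_eq hj) h1)
  have hZ : ∀ R : Subgroup G, IsPGroup p R → ∀ z ∈ R, z ∈ Subgroup.center G → z = 1 := by
    intro R hR z hz hz'
    obtain ⟨j, hj⟩ := hR ⟨z, hz⟩
    exact eq_one_of_mem_center_commutator hχ hker hp.out (by omega) hz' (hD ▸ Subgroup.mem_top z)
      (congrArg Subtype.val hj)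
  have hTI : ∀ Q R : Sylow p G, ∀ x ∈ (Q : Subgroup G), x ∈ (R : Subgroup G) → x ≠ 1 →
      (Q : Subgroup G) = R := by
    intro Q R x hx hx' h1
    have hC : Subgroup.centralizer ({x} : Set G) ≠ ⊤ := fun e => h1 (hZ _ Q.isPGroup' x hx
      (Subgroup.centralizer_eq_top_iff_subset.mp e (Set.mem_singleton x)))
    exact eq_of_isSylowIn_of_normal (hsub _ hC)
      (Grp.isSylowIn_of_le Q fun y hy => Subgroup.mem_centralizer_singleton_iff.mpr
        (hcomm _ Q.isPGroup' y hy x hx))
      (Grp.isSylowIn_of_le R fun y hy => Subgroup.mem_centralizer_singleton_iff.mpr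
        (hcomm _ R.isPGroup' y hy x hx'))
  have hone : ∀ g : G, g ∉ Subgroup.center G → ∀ a : G,
      (∃ h ∈ (P : Subgroup G), h ≠ 1 ∧ h * g = g * h) →
      (∃ h ∈ (P : Subgroup G), h ≠ 1 ∧ (a * h * a⁻¹) * g = g * (a * h * a⁻¹)) →
        a ∈ Subgroup.normalizer ((P : Subgroup G) : Set G) := by
    rintro g hg a ⟨x, hx, hx1, hxg⟩ ⟨y, hy, hy1, hyg⟩
    have hC : Subgroup.centralizer ({g} : Set G) ≠ ⊤ := fun e => hg
      (Subgroup.centralizer_eq_top_iff_subset.mp e (Set.mem_singleton g))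
    have hy' : a * y * a⁻¹ ∈ ((a • P : Sylow p G) : Subgroup G) := Grp.conj_mem_conj_smul a hy
    obtain ⟨S, hS, hxS⟩ := Grp.exists_isSylowIn_ge (U := Subgroup.zpowers x)
      (H := Subgroup.centralizer {g}) (P.isPGroup'.to_le (Subgroup.zpowers_le_of_mem hx))
      (Subgroup.zpowers_le_of_mem (Subgroup.mem_centralizer_singleton_iff.mpr hxg))
    obtain ⟨T, hT, hyT⟩ := Grp.exists_isSylowIn_ge (U := Subgroup.zpowers (a * y * a⁻¹))
      (H := Subgroup.centralizer {g}) ((a • P).isPGroup'.to_le (Subgroup.zpowers_le_of_mem hy'))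
      (Subgroup.zpowers_le_of_mem (Subgroup.mem_centralizer_singleton_iff.mpr hyg))
    rw [← eq_of_isSylowIn_of_normal (hsub _ hC) hS hT] at hyT
    obtain ⟨R, hR⟩ := hS.isPGroup.exists_le_sylow
    have h1 := hTI P R x hx (hR (hxS (Subgroup.mem_zpowers _))) hx1
    have h2 := hTI (a • P) R _ hy' (hR (hyT (Subgroup.mem_zpowers _)))
      (by rwa [Ne, conj_eq_one_iff])
    exact (Grp.conj_smul_eq_self_iff a _).mp (h2.trans h1.symm)
  have hP1 : (P : Subgroup G) ≠ ⊥ := fun e => hcon (e ▸ inferInstance)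
  obtain ⟨⟨x, hx⟩, hx1⟩ := Subgroup.ne_bot_iff_exists_ne_one.mp hP1
  have h1 : x ∉ charKer χ := by
    rw [hker, Subgroup.mem_bot]
    exact fun e => hx1 (Subtype.ext e)
  rw [hχ.mem_charKer_iff_forall] at h1
  push Not at h1
  obtain ⟨ψ, hψ, hne, hxψ⟩ := h1
  have h2 := brauer_TI_card_lt (P : Subgroup G) (hcomm _ P.isPGroup')
    (eq_bot_iff.mpr fun z hz => hZ _ P.isPGroup' z hz.1 hz.2) hone hψ
    (fun e => hxψ (hψ.one_eq_one_iff.mp e (hD ▸ Subgroup.mem_top x))) hM
  rw [hψ.isCharacter.re_one] at h2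
  have h3 : Nat.card P < (1 + charDegree ψ) ^ 2 := by exact_mod_cast h2
  have h4 := hχ.charDegree_le_of_classInner_ne_zero hψ hne
  have h5 : Nat.card P < (n + 1) ^ 2 := h3.trans_le (Nat.pow_le_pow_left (by omega) 2)
  rcases h with h | h
  · obtain ⟨j, hj⟩ := P.isPGroup'.exists_card_eq
    have hj0 : j ≠ 0 := by
      rintro rfl
      exact hP1 (Subgroup.card_eq_one.mp hj)
    have := Nat.le_self_pow hj0 p
    omega
  · have h6 : ¬ p ^ 2 ∣ Nat.card (⊤ : Subgroup G) := by
      rw [Subgroup.card_top]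
      intro e
      have h7 := Nat.le_of_dvd Nat.card_pos (P.pow_dvd_card_of_pow_dvd_card e)
      have h8 : (n + 1) ^ 2 < p ^ 2 := Nat.pow_lt_pow_left hnp two_ne_zero
      omega
    refine hcon ⟨fun y hy g => ?_⟩
    have h7 := eq_of_isSylowIn_of_normal (h ⊤ h6) (Grp.isSylowIn_top P) (Grp.isSylowIn_top (g • P))
    rw [h7]
    exact Grp.conj_mem_conj_smul g hy

/-- Linear groups of degree `n` with `(n + 1) ^ 2 ≤ p`, or with `n + 1 < p` and normal Sylow
`p`-subgroups in the subgroups of order not divisible by `p ^ 2`, have a normal Sylow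
`p`-subgroup. -/
theorem sylow_normal_of_small_degree {G : Type*} [Group G] [Finite G] {χ : G → ℂ}
    (hχ : IsCharacter G χ) (hker : charKer χ = ⊥) {p : ℕ} [hp : Fact p.Prime]
    (h : (charDegree χ + 1) ^ 2 ≤ p ∨ (charDegree χ + 1 < p ∧ ∀ K : Subgroup G,
      ¬ p ^ 2 ∣ Nat.card K → ∀ Q : Sylow p K, (Q : Subgroup K).Normal)) (P : Sylow p G) :
    (P : Subgroup G).Normal := by
  have := hp.out.one_lt
  refine sylow_normal_of_small_degree_aux p _ _ ?_ G rfl χ hχ hker rfl (h.imp_right And.right) P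
  rcases h with h | h
  · nlinarith
  · exact h.1

end CL.Char
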