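/-
Linear groups of degree `d ≤ p - 2` (S4903, S4904): definitions, basic facts and the statements
of the steps.
-/
import Cfsg.Agent.Blk.SmFin
import Cfsg.Agent.Char.SmallDegree

set_option autoImplicit false

namespace CL.LG

open Cfsg CL.Char CL.Inv.PO CL.Blk.Sm Module Subgroup ComplexConjugate
open scoped commutatorElement

universe u

/-- `g` is a `p`-element. -/
def PEl (p : ℕ) {G : Type*} [Group G] (g : G) : Prop := ∃ k : ℕ, g ^ p ^ k = 1

section Basic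

variable {G : Type*} [Group G] {p : ℕ}

theorem PEl.conj {g : G} (h : PEl p g) (a : G) : PEl p (a * g * a⁻¹) :=
  h.imp fun k hk => by rw [conj_pow, hk, mul_one, mul_inv_cancel]

theorem PEl.inv {g : G} (h : PEl p g) : PEl p g⁻¹ := h.imp fun k hk => by rw [inv_pow, hk, inv_one]

theorem PEl.map {H : Type*} [Group H] {g : G} (h : PEl p g) (f : G →* H) : PEl p (f g) :=
  h.imp fun k hk => by rw [← map_pow, hk, map_one]

theorem PEl.mul {a b : G} (ha : PEl p a) (hb : PEl p b) (h : Commute a b) : PEl p (a * b) := by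
  obtain ⟨k, hk⟩ := ha
  obtain ⟨l, hl⟩ := hb
  refine ⟨k + l, ?_⟩
  rw [h.mul_pow, pow_add, pow_mul, hk, one_pow, mul_comm, pow_mul, hl, one_pow, one_mul]

theorem pel_coe {X : Subgroup G} {g : X} : PEl p (g : G) ↔ PEl p g :=
  exists_congr fun k => by rw [← coe_pow, OneMemClass.coe_eq_one]

theorem pel_of_mem {P : Subgroup G} (hP : IsPGroup p P) {g : G} (hg : g ∈ P) : PEl p g :=
  pel_coe.2 (hP ⟨g, hg⟩)

theorem PEl.isPGroup {g : G} (h : PEl p g) : IsPGroup p (zpowers g) := by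
  obtain ⟨k, hk⟩ := h
  rintro ⟨_, i, rfl⟩
  exact ⟨k, Subtype.ext (by
    rw [coe_pow, ← zpow_natCast, ← zpow_mul, mul_comm, zpow_mul, zpow_natCast, hk, one_zpow, coe_one])⟩

theorem PEl.exists_sylow {g : G} (h : PEl p g) : ∃ P : Sylow p G, g ∈ (P : Subgroup G) :=
  h.isPGroup.exists_le_sylow.imp fun _ hP => hP (mem_zpowers g)

variable [Finite G] [hp : Fact p.Prime]

theorem normal_of_not_dvd (h : ¬ p ∣ (pCore p G).index) (P : Sylow p G) : (P : Subgroup G).Normal := by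
  by_contra hP
  exact h (dvd_index_pCore_of_not_normal P hP)

theorem not_dvd_of_normal (P : Sylow p G) (h : (P : Subgroup G).Normal) : ¬ p ∣ (pCore p G).index :=
  Grp.sylow_eq_pCore_of_normal P ▸ P.not_dvd_index

theorem PEl.mem_pCore {g : G} (hg : PEl p g) (h : ¬ p ∣ (pCore p G).index) : g ∈ pCore p G := by
  obtain ⟨P, hP⟩ := hg.exists_sylow
  have := normal_of_not_dvd h P
  exact Grp.sylow_eq_pCore_of_normal P ▸ hP

theorem exists_pel_notMem (h : p ∣ (pCore p G).index) : ∃ g : G, PEl p g ∧ g ∉ pCore p G := by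
  by_contra h'
  push Not at h'
  obtain ⟨P⟩ : Nonempty (Sylow p G) := inferInstance
  exact P.not_dvd_index (h.trans (index_dvd_of_le fun g hg => h' g (pel_of_mem P.isPGroup' hg)))

variable {χ : G → ℂ} (hχ : IsCharacter G χ) (hker : charKer χ = ⊥)
include hχ hker

/-- `p`-subgroups are abelian. -/
theorem comm_of_pgroup (hd : charDegree χ < p) {R : Subgroup G} (hR : IsPGroup p R) :
    ∀ a ∈ R, ∀ b ∈ R, a * b = b * a :=
  comm_of_primes_gt_degree hχ hker fun q hq h => by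
    rwa [prime_eq_of_dvd_card_pgroup hp.out hq hR h]

theorem commute_pCore (hd : charDegree χ < p) {q y : G} (hq : q ∈ pCore p G) (hy : PEl p y) :
    Commute q y := by
  obtain ⟨P, hP⟩ := hy.exists_sylow
  exact comm_of_pgroup hχ hker hd P.isPGroup' q (Grp.pCore_le_sylow P hq) y hP

theorem not_dvd_of_solv (hd : charDegree χ + 2 ≤ p) (hs : IsPSolvable p G) :
    ¬ p ∣ (pCore p G).index := fun h => by
  have := (ito_linear hχ hker hs (by omega) h).1
  omega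

/-- Feit-Thompson: a non-normal Sylow `p`-subgroup forces degree at least `(p - 1) / 2`. -/
theorem ft (h : p ∣ (pCore p G).index) : p ≤ 2 * charDegree χ + 1 := by
  by_contra hd
  obtain ⟨g, -, hg⟩ := exists_pel_notMem h
  have h0 : charDegree χ ≠ 0 := fun h0 => by
    have h1 := hχ.eq_zero_of_one_eq_zero (by rw [← hχ.cast_charDegree, h0, Nat.cast_zero])
    have : g ∈ charKer χ := fun x => by simp [h1]
    rw [hker, mem_bot] at this
    exact hg (this ▸ one_mem _)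
  have hp5 : 5 ≤ p := by
    have : p ≠ 4 := fun e => absurd (e ▸ hp.out) (by decide)
    omega
  obtain ⟨P⟩ : Nonempty (Sylow p G) := inferInstance
  refine not_dvd_of_normal P (sylow_normal_of_small_degree hχ hker (.inr ⟨by omega, fun K hK Q => ?_⟩) P) h
  by_contra hQ
  have h1 : p ∣ Nat.card K := (dvd_index_pCore_of_not_normal Q hQ).trans (index_dvd_card _)
  obtain ⟨x, ⟨C⟩⟩ := exists_ctx_of_dvd h1 hK
  have h2 : ¬ (zpowers x).Normal := fun hn =>
    hQ (normal_of_not_dvd (not_dvd_of_normal C.syl hn) Q)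
  have := (of_two_mul_le C hp5 h2 (hχ.restrict K) (charKer_restrict_eq_bot hχ hker K)
    (show 2 * charDegree χ + 1 ≤ p by omega)).1
  exact hd (show p ≤ 2 * charDegree χ + 1 from this.ge)

omit hker in
/-- In a group generated by `p`-elements a character of degree less than `(p - 1) / 2` is trivial
on the derived group. -/
theorem ft_ker (hg : ∀ M : Subgroup G, (∀ g, PEl p g → g ∈ M) → M = ⊤)
    (hd : 2 * charDegree χ + 1 < p) : commutator G ≤ charKer χ := by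
  have := hχ.charKer_normal
  obtain ⟨ψ, hψ, e⟩ := hχ.exists_quotient (charKer χ) le_rfl
  have h1 : charKer ψ = ⊥ := by
    have h2 := charKer_comp_of_surjective ψ (QuotientGroup.mk' (charKer χ)) (QuotientGroup.mk'_surjective _)
    rw [show (fun x => ψ (QuotientGroup.mk' (charKer χ) x)) = χ from e.symm] at h2
    refine (eq_bot_iff_forall _).2 fun y hy => ?_
    obtain ⟨y, rfl⟩ := QuotientGroup.mk_surjective y
    exact (QuotientGroup.eq_one_iff y).2 (h2 ▸ hy)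
  have h2 : charDegree ψ = charDegree χ := congrArg (fun z : ℂ => ⌊z.re⌋₊) (congrFun e 1).symm
  have h3 : ¬ p ∣ (pCore p (G ⧸ charKer χ)).index := fun h => by
    have := ft hψ h1 h
    omega
  have h4 := hg ((pCore p (G ⧸ charKer χ)).comap (QuotientGroup.mk' _)) fun g hg =>
    (hg.map (QuotientGroup.mk' _)).mem_pCore h3
  rw [_root_.commutator_def, commutator_le]
  intro a _ b _
  rw [← QuotientGroup.eq_one_iff, show ((⁅a, b⁆ : G) : G ⧸ charKer χ) = ⁅(a : G ⧸ charKer χ), (b : G ⧸ charKer χ)⁆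
    from map_commutatorElement (QuotientGroup.mk' _) a b, commutatorElement_eq_one_iff_mul_comm]
  exact comm_of_pgroup hψ h1 (by omega) (Grp.pCore_isPGroup p _) _ (h4.ge (mem_top a)) _ (h4.ge (mem_top b))

end Basic

/-! ### Step R: `p ^ 2` does not divide `|G : O_p(G)|` -/

section Rep

variable (p : ℕ) {G : Type u} [Group G] {V : Type} [AddCommGroup V] [Module ℂ V]
  (ρ : Representation ℂ G V)

/-- An element of order `p` with simple eigenvalues on a large commutator space. -/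
structure Good (x : G) : Prop where
  pow : x ^ p = 1
  simple : ∀ c : ℂ, c ≠ 1 → finrank ℂ (End.eigenspace (ρ x) c) ≤ 1
  big : p ≤ 2 * finrank ℂ (LinearMap.range (ρ x - 1)) + 1
  scalar : ∀ T : End ℂ V, (∀ y, PEl p y → Commute T (ρ y)) →
    ∃ c : ℂ, ∀ v ∈ LinearMap.range (ρ x - 1), T v = c • v

/-- A minimal counterexample to step R. -/
structure Min : Prop where
  inj : Function.Injective ρ
  irr : IsIrrCharacter G ρ.character
  dim : finrank ℂ V + 2 ≤ p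
  core : pCore p G = ⊥
  gen : ∀ M : Subgroup G, (∀ g, PEl p g → g ∈ M) → M = ⊤
  sq : p ^ 2 ∣ Nat.card G
  sub : ∀ X : Subgroup G, X ≠ ⊤ → ¬ p ^ 2 ∣ (pCore p X).index

/-- No `p`-element other than `1` has an eigenspace of dimension at least `(p - 1) / 2`. -/
def KL : Prop := ∀ g : G, PEl p g → ∀ c : ℂ,
  p ≤ 2 * finrank ℂ (End.eigenspace (ρ g) c) + 1 → g = 1

end Rep

/-- Step R for the prime `p`. -/
def RAt (p : ℕ) : Prop := ∀ (G : Type u) [Group G] [Finite G] (χ : G → ℂ), IsCharacter G χ →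
  charKer χ = ⊥ → charDegree χ + 2 ≤ p → ¬ p ^ 2 ∣ (pCore p G).index

def DL : Prop := ∀ (p : ℕ) [Fact p.Prime] (G : Type u) [Group G] [Finite G] (χ : G → ℂ),
  IsCharacter G χ → charKer χ = ⊥ → charDegree χ + 2 ≤ p → ¬ p ^ 2 ∣ (pCore p G).index →
  p ∣ (pCore p G).index → ∃ H : Subgroup G, H.Normal ∧ ⁅H, H⁆ = H ∧ H ⊓ pCore p G = ⊥ ∧
    p ∣ Nat.card H ∧ ¬ p ^ 2 ∣ Nat.card H ∧ (∀ g, PEl p g → g ∈ H ⊔ pCore p G) ∧
    (∀ M : Subgroup H, (∀ g, PEl p g → g ∈ M) → M = ⊤) ∧ ∀ q ∈ pCore p G, ∀ h ∈ H, Commute q h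

def DD : Prop := ∀ (p : ℕ) [Fact p.Prime] (G : Type u) [Group G] [Finite G] (χ : G → ℂ),
  IsIrrCharacter G χ → charKer χ = ⊥ → charDegree χ + 2 ≤ p → ¬ p ^ 2 ∣ (pCore p G).index →
  p ∣ (pCore p G).index → pCore p G ≤ center G ∧
    ∃ H : Subgroup G, H.Normal ∧ H ⊓ pCore p G = ⊥ ∧ H ⊔ pCore p G = ⊤

def BT : Prop := ∀ (p : ℕ) [Fact p.Prime] (G : Type u) [Group G] [Finite G] (V : Type)
  [AddCommGroup V] [Module ℂ V] [FiniteDimensional ℂ V] (ρ : Representation ℂ G V) (x : G), 5 ≤ p →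
  Function.Injective ρ → IsIrrCharacter G ρ.character → finrank ℂ V + 2 ≤ p → orderOf x = p →
  ¬ p ^ 2 ∣ Nat.card G → ¬ (zpowers x).Normal →
  (∀ c : ℂ, finrank ℂ (End.eigenspace (ρ x) c) ≤ 1) ∧ p ≤ 2 * finrank ℂ (LinearMap.range (ρ x - 1)) + 1

def ST : Prop := ∀ (p : ℕ) [Fact p.Prime] (G : Type u) [Group G] [Finite G] (V : Type)
  [AddCommGroup V] [Module ℂ V] [FiniteDimensional ℂ V] (ρ : Representation ℂ G V), 5 ≤ p →
  Function.Injective ρ → finrank ℂ V + 2 ≤ p → ¬ p ^ 2 ∣ (pCore p G).index →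
  ∀ g : G, PEl p g → g ∉ pCore p G → ∃ x : G, x⁻¹ * g ∈ pCore p G ∧ Good p ρ x

def RED : Prop := ∀ (p : ℕ) [Fact p.Prime], (∀ (G : Type u) [Group G] [Finite G] (V : Type)
  [AddCommGroup V] [Module ℂ V] [FiniteDimensional ℂ V] (ρ : Representation ℂ G V), ¬ Min p ρ) →
  RAt.{u} p

def KL1 : Prop := ∀ (p : ℕ) [Fact p.Prime] (G : Type u) [Group G] [Finite G] (V : Type)
  [AddCommGroup V] [Module ℂ V] [FiniteDimensional ℂ V] (ρ : Representation ℂ G V), 5 ≤ p →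
  Min p ρ → ∀ g : G, PEl p g → g ≠ 1 → ∀ c : ℂ, p ≤ 2 * finrank ℂ (End.eigenspace (ρ g) c) + 1 →
  (∀ a b : ℂ, (ρ g - a • 1) * (ρ g - b • 1) = 0 → p = 5) ∧ finrank ℂ V + 2 = p ∧
    ∃ (q : G) (a b : ℂ), PEl p q ∧ q ≠ 1 ∧ (ρ q - a • 1) * (ρ q - b • 1) = 0 ∧
      p ≤ 2 * finrank ℂ (End.eigenspace (ρ q) a) + 1 ∧
      p ∣ (pCore p (centralizer ({q} : Set G))).index

def KL5 : Prop := ∀ [Fact (Nat.Prime 5)] (G : Type u) [Group G] [Finite G] (V : Type)
  [AddCommGroup V] [Module ℂ V] [FiniteDimensional ℂ V] (ρ : Representation ℂ G V),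
  Min 5 ρ → KL 5 ρ

def FIN : Prop := ∀ (p : ℕ) [Fact p.Prime] (G : Type u) [Group G] [Finite G] (V : Type)
  [AddCommGroup V] [Module ℂ V] [FiniteDimensional ℂ V] (ρ : Representation ℂ G V), 5 ≤ p →
  Min p ρ → ¬ KL p ρ

/-! ### The simple central quotient when a Sylow `p`-subgroup has order `p` -/

section Simple

variable {p : ℕ} [Fact p.Prime] {S : Type u} [Group S] [Fintype S] {x : S} (K : Ctx p x (zpowers x))

/-- A character of degree `d ^ 2` that looks like `χ * conj χ` on the `p`-singular classes. -/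
structure Sq (k : (ZMod p)ˣ) (d : ℕ) (Φ : S → ℂ) : Prop where
  char : IsCharacter S Φ
  deg : charDegree Φ = d ^ 2
  sing : ∀ j : (ZMod p)ˣ, Φ (x ^ (j : ZMod p).val) = eta K (k * j) * eta K (-(k * j))

/-- `S` is simple, `x` is self-centralizing of order `p` with automizer of order `f`. -/
structure SH (f : ℕ) : Prop where
  simple : IsSimpleGroup S
  ncomm : ¬ IsMulCommutative S
  hf : K.f = f

/-- `H` is a central extension of `S` with a faithful irreducible character of degree `d`. -/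
structure Cov {H : Type u} [Group H] (π : H →* S) (χ : H → ℂ) (k : (ZMod p)ˣ) (d : ℕ) : Prop where
  surj : Function.Surjective π
  ker : π.ker = center H
  zdvd : ∀ r : ℕ, r.Prime → r ∣ Nat.card (center H) → r ∣ d
  irr : IsIrrCharacter H χ
  faith : charKer χ = ⊥
  deg : charDegree χ = d
  sq : ∀ m : ℕ, m.Coprime (Nat.card H) → m ≡ 1 [MOD p * Nat.card (center H)] →
    ∃ Φ, Sq K k d Φ ∧ ∀ h, Φ (π h) = χ h * conj (χ (h ^ m))

end Simple

def BR : Prop := ∀ (p : ℕ) [Fact p.Prime] (G : Type u) [Group G] [Fintype G] (x : G) (C : Subgroup G)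
  (K : Ctx p x C) (χ : G → ℂ) [Fintype (G ⧸ center G)], IsIrrCharacter G χ → charKer χ = ⊥ →
  ¬ (zpowers x).Normal → K.f.Prime → charDegree χ + K.f = p →
  ∃ (K' : Ctx p (x : G ⧸ center G) (zpowers (x : G ⧸ center G))) (k : (ZMod p)ˣ), SH K' K.f ∧
    Cov K' ((QuotientGroup.mk' (center G)).comp (commutator G).subtype) (fun h => χ h) k (charDegree χ)

def MU : Prop := ∀ (p : ℕ) [Fact p.Prime] (S : Type u) [Group S] [Fintype S] (x : S)
  (K : Ctx p x (zpowers x)) (B : Set (IrrCharacter S)) (D : Data K (irrOne (zpowers x)) B)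
  (k : (ZMod p)ˣ) (d : ℕ) (Φ : S → ℂ), Sq K k d Φ → ∃ c : IrrCharacter S → ℕ,
    ∑ μ ∈ D.Y, c μ + 1 = K.f ∧ ∀ μ ∈ D.Y, D.ε * classInner Φ (μ : S → ℂ) =
      ∑ χ ∈ D.X, D.s χ * classInner Φ (χ : S → ℂ) - K.f + c μ

def I3 : Prop := ∀ (p : ℕ) [Fact p.Prime] (S : Type u) [Group S] [Fintype S] (x : S)
  (K : Ctx p x (zpowers x)) (B : Set (IrrCharacter S)) (D : Data K (irrOne (zpowers x)) B), SH K 3 →
  irrOne S ∈ D.X → D.s (irrOne S) = 1 → ∃ ψ₂ ψ₃ : IrrCharacter S, ψ₂ ≠ ψ₃ ∧ ψ₂ ≠ irrOne S ∧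
    ψ₃ ≠ irrOne S ∧ (∀ χ, χ ∈ D.X ↔ χ = irrOne S ∨ χ = ψ₂ ∨ χ = ψ₃) ∧ D.s ψ₂ = D.ε ∧ D.s ψ₃ = -1 ∧
    IsSquare (charDegree (D.μ 1 : S → ℂ) * (charDegree (ψ₂ : S → ℂ) * charDegree (ψ₃ : S → ℂ)))

def N19 : Prop := ∀ [Fact (Nat.Prime 19)] (S : Type u) [Group S] [Fintype S] (x : S)
  (K : Ctx 19 x (zpowers x)) (k : (ZMod 19)ˣ) (Φ : S → ℂ), SH K 3 → Sq K k 16 Φ →
  classInner Φ (irrOne S : S → ℂ) ≠ 0 ∧ (classInner Φ (irrOne S : S → ℂ) = 1 →
    ∃ θ : S → ℂ, IsIrrCharacter S θ ∧ charDegree θ = 22 ∧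
      (∀ g, ¬ 19 ∣ orderOf g → ∃ n : ℤ, θ g = n) ∧ (¬ 121 ∣ Nat.card S → ∀ y : S, orderOf y = 11 →
        ‖Φ y - 1‖ ^ 2 ≤ 9 * Nat.card (centralizer ({y} : Set S))))

def C33 : Prop := ∀ (S : Type u) [Group S] [Finite S] (θ : S → ℂ) (y : S), IsSimpleGroup S →
  IsIrrCharacter S θ → charDegree θ = 22 → (∀ g, ¬ 19 ∣ orderOf g → ∃ n : ℤ, θ g = n) →
  (∀ g : S, 19 ∣ orderOf g → ¬ 11 ∣ orderOf g) → ¬ 121 ∣ Nat.card S → orderOf y = 11 →
  Nat.card (centralizer ({y} : Set S)) ≤ 33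

/-- The principal `7`-block has the degrees `1, 15, 6, 10, 10`. -/
def T7 [Fact (Nat.Prime 7)] {S : Type u} [Group S] [Fintype S] {x : S} (K : Ctx 7 x (zpowers x)) :
    Prop := ∃ (M : Ideal AlgInt) (_ : IsPModular 7 M)
  (D : Data K (irrOne (zpowers x)) (principalBlock M S)) (ψ₂ ψ₃ : IrrCharacter S),
    (∀ χ, χ ∈ D.X ↔ χ = irrOne S ∨ χ = ψ₂ ∨ χ = ψ₃) ∧ D.ε = 1 ∧ D.s (irrOne S) = 1 ∧ D.s ψ₂ = 1 ∧
    D.s ψ₃ = -1 ∧ charDegree (ψ₂ : S → ℂ) = 15 ∧ charDegree (ψ₃ : S → ℂ) = 6 ∧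
    ∀ k, charDegree (D.μ k : S → ℂ) = 10

def N7 : Prop := ∀ [Fact (Nat.Prime 7)] (S : Type u) [Group S] [Fintype S] (x : S)
  (K : Ctx 7 x (zpowers x)) (k : (ZMod 7)ˣ) (Φ : S → ℂ), SH K 3 → Sq K k 4 Φ →
  (∃ μ : S → ℂ, IsIrrCharacter S μ ∧ charDegree μ = 3) ∨
    (classInner Φ (irrOne S : S → ℂ) ≠ 0 ∧ (classInner Φ (irrOne S : S → ℂ) = 1 → T7 K))

def O7 : Prop := ∀ [Fact (Nat.Prime 7)] (S : Type u) [Group S] [Fintype S] (x : S)
  (K : Ctx 7 x (zpowers x)), SH K 3 → T7 K → ¬ 27 ∣ Nat.card S → Nat.card S = 2520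

def N5 : Prop := ∀ [Fact (Nat.Prime 5)] (S : Type u) [Group S] [Fintype S] (x : S)
  (K : Ctx 5 x (zpowers x)) (k : (ZMod 5)ˣ) (Φ : S → ℂ), SH K 2 → Sq K k 3 Φ → Nat.card S = 60 ∨
    (classInner Φ (irrOne S : S → ℂ) ≠ 0 ∧ (classInner Φ (irrOne S : S → ℂ) = 1 →
      (∀ q : ℕ, q.Prime → q ∣ Nat.card S → q ≤ 5) → Nat.card S = 360))

end CL.LG
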