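/-
Linear groups of degree `p - f`, `f` prime: passage to the simple central quotient.
-/
import Cfsg.Agent.Char.LgDefs
import Cfsg.Agent.Inv.DegPm2c

set_option autoImplicit false

namespace CL.LG

open Cfsg CL.Char CL.Inv.PO CL.Blk.Sm Module Subgroup ComplexConjugate
open scoped commutatorElement

universe u

variable {G : Type u} [Group G] [Fintype G] {p : ℕ} [hp : Fact p.Prime] {x : G} {C : Subgroup G}
  (K : Ctx p x C)

theorem br_comm_sup (hf : K.f.Prime) (hO : pPrimeCore p G ≤ C) (hn : ¬ (zpowers x).Normal) :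
    commutator G ⊔ C = ⊤ := by
  have : (commutator G ⊔ C).Normal := ⟨fun c hc g => by
    simpa [commutatorElement_def] using mul_mem (mem_sup_left (S := commutator G)
      (commutator_mem_commutator (mem_top g) (mem_top c))) hc⟩
  have h0 : Nz x ⊔ (commutator G ⊔ C) = ⊤ := K.syl.normalizer_sup_eq_top' (K.P_le_C.trans le_sup_right)
  have h1 := K.card_N
  have h2 : C ≤ (commutator G ⊔ C) ⊓ Nz x := le_inf le_sup_right K.C_le_N
  obtain ⟨k, hk⟩ := card_dvd_of_le h2
  have h3 := card_dvd_of_le (inf_le_right : (commutator G ⊔ C) ⊓ Nz x ≤ _)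
  rw [h1, hk, mul_comm K.f, Nat.mul_dvd_mul_iff_left Nat.card_pos] at h3
  rcases hf.eq_one_or_self_of_dvd _ h3 with rfl | rfl
  · refine absurd (normalizer_eq_top_iff.1 (top_le_iff.1 (h0.ge.trans (sup_le le_rfl ?_)))) hn
    exact (K.le_sup_core (mem_sup_right K.x_mem) (eq_of_le_of_card_ge h2 (by rw [hk, mul_one])).ge).trans
      ((sup_le K.P_le_C hO).trans K.C_le_N)
  · have h4 := eq_of_le_of_card_ge (inf_le_right : (commutator G ⊔ C) ⊓ Nz x ≤ _) (by rw [h1, hk, mul_comm])
    rw [← top_le_iff, ← h0]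
    exact sup_le (inf_eq_right.1 h4) le_rfl

include K in
theorem br_sep (hn : ¬ (zpowers x).Normal) {a b : G} (ha : a ^ p = 1) (hb : b ^ p = 1)
    (e : (a : G ⧸ center G) = b) : a = b := by
  have hz := QuotientGroup.eq.1 e
  have h1 : (a * (a⁻¹ * b)) ^ p = 1 := by rwa [mul_inv_cancel_left]
  rw [(show Commute a (a⁻¹ * b) from mem_center_iff.1 hz a).mul_pow, ha, one_mul] at h1
  rw [← inv_mul_eq_one, ← orderOf_eq_one_iff]
  exact (hp.out.eq_one_or_self_of_dvd _ (orderOf_dvd_of_pow_eq_one h1)).resolve_right fun e =>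
    reg_of_mem_center hn K hz e.symm.dvd

theorem br_ctx (hn : ¬ (zpowers x).Normal) (hc : Cen K) :
    Nonempty (Ctx p (x : G ⧸ center G) (zpowers (x : G ⧸ center G))) := by
  refine nonempty_ctx_of_self (orderOf_eq_prime (by rw [← QuotientGroup.mk_pow, K.x_pow]; rfl) fun e =>
    K.x_ne_one (br_sep K hn K.x_pow (one_pow p) e)) (le_antisymm (fun g hg => ?_)
      (zpowers_le.2 (mem_centralizer_singleton_iff.2 rfl)))
  obtain ⟨g, rfl⟩ := QuotientGroup.mk_surjective g
  have h1 : g * x * g⁻¹ = x := br_sep K hn (by rw [conj_pow, K.x_pow]; simp) K.x_pow (by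
    simpa [mul_inv_eq_iff_eq_mul] using mem_centralizer_singleton_iff.1 hg)
  obtain ⟨y, k, hy, e⟩ := K.exists_decomp ⟨g, (K.memC g).2 (mul_inv_eq_iff_eq_mul.1 h1).symm⟩
  rw [show g = x ^ k.val * y from congrArg Subtype.val e, QuotientGroup.mk_mul_of_mem _ (hc.of_mem_H hy y.2)]
  exact pow_mem (mem_zpowers _) _

variable [Fintype (G ⧸ center G)] (K' : Ctx p (x : G ⧸ center G) (zpowers (x : G ⧸ center G)))

omit [Fintype (G ⧸ center G)] in
theorem br_range (hn : ¬ (zpowers x).Normal) : K.a.range = K'.a.range := by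
  have h : ∀ u : ZMod p, (x ^ u.val) ^ p = 1 := fun u => by rw [← pow_mul, mul_comm, pow_mul, K.x_pow, one_pow]
  ext u
  rw [← one_mul u, ← inv_one, ← K.isConj_pow_iff, ← K'.isConj_pow_iff]
  refine ⟨fun e => by simpa using (QuotientGroup.mk' (center G)).map_isConj e, fun e => ?_⟩
  obtain ⟨g, hg⟩ := isConj_iff.1 e
  obtain ⟨g, rfl⟩ := QuotientGroup.mk_surjective g
  exact isConj_iff.2 ⟨g, br_sep K hn (by rw [conj_pow, h]; simp) (h _) (by simpa using hg)⟩

theorem br_eta (hn : ¬ (zpowers x).Normal) : ∃ c : (ZMod p)ˣ, ∀ l, eta K l = eta K' (c * l) := by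
  classical
  obtain ⟨c, hc⟩ := K'.exists_lam_xC_pow (K.lamC_pow K.xC)
  have h0 : c ≠ 0 := by
    rintro rfl
    exact K.lam_xC_ne_one (Units.ext (by simpa using hc.symm))
  refine ⟨Units.mk0 c h0, fun l => Fintype.sum_equiv (MulEquiv.subgroupCongr (br_range K K' hn)).toEquiv _ _
    fun u => ?_⟩
  change (K.lam K.xC : ℂ) ^ _ = (K'.lam K'.xC : ℂ) ^ (((u : (ZMod p)ˣ) : ZMod p) * (c * l)).val
  rw [← hc, ← pow_val_mul (K'.lamC_pow _), mul_left_comm]

theorem br : BR.{u} := by
  intro p hp G _ _ x C K χ _ hχ hker hn hf hdeg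
  have hd : charDegree χ + 2 ≤ p := hdeg ▸ Nat.add_le_add_left hf.two_le _
  have hx : χ x ≠ χ 1 := fun e => K.x_ne_one (mem_bot.1 (hker ▸ hχ.mem_charKer.2 e))
  obtain ⟨θ, B, D, k, rfl⟩ := exists_data_of_le K hχ hx hd
  have hε : D.ε = -1 := D.hε.resolve_left fun hε => by
    have h1 := dvd_add (Dvd.intro _ (D.deg_of_pos hε k (by omega)).symm) (dvd_refl K.f)
    rw [hdeg] at h1
    have := (Nat.prime_dvd_prime_iff_eq hf hp.out).1 h1
    have := hχ.charDegree_pos
    omega
  obtain ⟨h1, -, -, h4, h5⟩ := D.of_neg hε k (by omega) hx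
  have h1' := θ.2.isCharacter.charDegree_eq_one_iff.1 h1
  have hc : Cen K := fun v hv hvp => by
    obtain ⟨lam, hlam⟩ := θ.2.isCharacter.exists_monoidHom_of_one h1'
    rw [← hχ.charCenter_eq_center hker, hχ.isCharacter.mem_charCenter, h5 ⟨v, hv⟩ hvp,
      ← hχ.cast_charDegree, hlam, norm_mul, Complex.norm_eq_one_of_pow_eq_one (ζ := lam ⟨v, hv⟩)
      (n := Nat.card C) (by rw [← Units.val_pow_eq_pow_val, ← map_pow, pow_card_eq_one', map_one,
        Units.val_one]) Nat.card_pos.ne', mul_one]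
  have F := (fam_of_data D hn h1' h4 (τ := extendByZero C θ) fun z => extendByZero_of_mem _ z.2).sing k
  rw [hε] at F
  generalize (D.μ k : G → ℂ) = χ at *
  have hxH := K.x_mem_commutator hf.ne_one
  have hsup : commutator G ⊔ center G = ⊤ := by
    rw [← top_le_iff, ← br_comm_sup K hf (le_C_of_normal K hχ.isCharacter hker hd
      (hp.out.coprime_iff_not_dvd.1 (Grp.pPrimeCore_coprime p G).symm)) hn]
    refine sup_le le_sup_left fun g hg => ?_
    obtain ⟨y, k, hy, e⟩ := K.exists_decomp ⟨g, hg⟩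
    rw [show g = x ^ k.val * y from congrArg Subtype.val e]
    exact mul_mem (mem_sup_left (pow_mem hxH _)) (mem_sup_right (hc.of_mem_H hy y.2))
  have hdec : ∀ g : G, ∃ h : commutator G, ∃ z ∈ center G, g = h * z := fun g => by
    obtain ⟨h, hh, z, hz, e⟩ := mem_sup_of_normal_right.1 (hsup ▸ mem_top g : g ∈ commutator G ⊔ center G)
    exact ⟨⟨h, hh⟩, z, hz, e.symm⟩
  have hperf : commutator (commutator G) = ⊤ := by
    have : commutator G ≤ (commutator (commutator G)).map (commutator G).subtype := commutator_le.2 fun a _ b _ => by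
      obtain ⟨a, y, hy, rfl⟩ := hdec a
      obtain ⟨b, z, hz, rfl⟩ := hdec b
      refine ⟨⁅a, b⁆, commutator_mem_commutator (mem_top a) (mem_top b), ?_⟩
      have c : ∀ (u v : G) {w : G}, w ∈ center G → u * w * v * (u * w)⁻¹ = u * v * u⁻¹ := fun u v w hw => by
        rw [mul_assoc u, ← mem_center_iff.1 hw]; group
      rw [commutatorElement_def (a * y : G), c _ _ hy, mul_assoc (a : G), mul_assoc (a : G), c _ _ hz]
      simp [commutatorElement_def, mul_assoc]
    exact eq_top_iff.2 fun h _ => by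
      obtain ⟨k, hk, e⟩ := this h.2
      exact Subtype.ext e ▸ hk
  set π := (QuotientGroup.mk' (center G)).comp (commutator G).subtype with hπ
  have hsurj : Function.Surjective π := fun s => by
    obtain ⟨g, rfl⟩ := QuotientGroup.mk_surjective s
    obtain ⟨h, z, hz, rfl⟩ := hdec g
    exact ⟨h, (QuotientGroup.mk_mul_of_mem _ hz).symm⟩
  have hk : π.ker = center (commutator G) := Subgroup.ext fun h => by
    refine (QuotientGroup.eq_one_iff (h : G)).trans ⟨fun e => mem_center_iff.2 fun g =>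
      Subtype.ext (mem_center_iff.1 e g), fun e => mem_center_iff.2 fun g => ?_⟩
    obtain ⟨a, z, hz, rfl⟩ := hdec g
    rw [mul_assoc, ← mem_center_iff.1 hz, ← mul_assoc, ← mul_assoc, ← coe_mul, mem_center_iff.1 e, coe_mul]
  obtain ⟨K'⟩ := br_ctx K hn hc
  obtain ⟨c, hc'⟩ := br_eta K K' hn
  have hS : commutator (G ⧸ center G) = ⊤ := by
    rw [_root_.commutator_def, ← MonoidHom.range_eq_top.2 hsurj, ← map_commutator_eq, hperf, MonoidHom.range_eq_map]
  have hO : pPrimeCore p (G ⧸ center G) = ⊥ := (eq_bot_iff_forall _).2 fun s hs => by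
    obtain ⟨g, rfl⟩ := QuotientGroup.mk_surjective s
    have h1 : ¬ p ∣ Nat.card ((pPrimeCore p (G ⧸ center G)).comap (QuotientGroup.mk' (center G))) := fun h =>
      K'.x_ne_one (K'.eq_one_of_mem_core (mem_zpowers _) (K.x_mem_of_dvd h))
    exact (QuotientGroup.eq_one_iff g).2 (hc g (le_C_of_normal K hχ.isCharacter hker hd h1 hs)
      fun h => h1 (h.trans (Subgroup.orderOf_dvd_natCard _ hs)))
  have hirr := isIrrCharacter_restrict_of_charCenter (commutator G) hχ
    (by rw [hχ.charCenter_eq_center hker, sup_comm, hsup])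
  have hfa := charKer_restrict_eq_bot hχ.isCharacter hker (commutator G)
  refine ⟨K', c * k, ⟨K'.isSimpleGroup hS le_rfl hO, fun h => K'.x_ne_one (mem_bot.1 ?_),
    congrArg (fun R : Subgroup (ZMod p)ˣ => Nat.card R) (br_range K K' hn).symm⟩,
    hsurj, hk, fun r hr h => ?_, hirr, hfa, rfl, fun m hm hm1 => ?_⟩
  · rw [← (commutator_eq_bot_iff_center_eq_top _).2 (center_eq_top_iff.2 h), hS]; exact mem_top _
  · have := Fact.mk hr
    obtain ⟨z, hz⟩ := exists_prime_orderOf_dvd_card' r h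
    by_contra hrd
    exact odd_center_of_perfect hperf hirr hfa hr hrd z.2 (by rw [orderOf_coe, hz])
  · obtain ⟨Φ, hΦ, e⟩ := (hirr.isCharacter.mul (isChar_pow_coprime hirr.isCharacter hm).conj).exists_comp_eq π hsurj
      (hk ▸ fun z hz y => by
        obtain ⟨w, hw, e⟩ := hirr.center_le_charCenter hz
        have h1 : z ^ m = z := by
          rw [pow_eq_pow_iff_modEq.2 ((hm1.of_mul_left _).of_dvd (Subgroup.orderOf_dvd_natCard _ hz)), pow_one]
        simp only [Pi.mul_apply] at e ⊢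
        rw [(show Commute z y from (mem_center_iff.1 hz y).symm).mul_pow, h1, e, e, map_mul, mul_mul_mul_comm,
          Complex.mul_conj', hw]
        simp)
    have e' : ∀ h : commutator G, Φ (π h) = χ h * conj (χ (h ^ m : commutator G)) := fun h => (congrFun e h).symm
    refine ⟨Φ, ⟨hΦ, Nat.cast_injective (R := ℂ) ?_, fun j => ?_⟩, e'⟩
    · rw [hΦ.cast_charDegree, ← π.map_one, e', one_pow, coe_one, ← hχ.cast_charDegree]
      simp [sq]
    · rw [show (x : G ⧸ center G) ^ (j : ZMod p).val = π (⟨x, hxH⟩ ^ (j : ZMod p).val) from rfl, e']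
      change χ (x ^ (j : ZMod p).val) * conj (χ ((x ^ (j : ZMod p).val) ^ m)) = _
      rw [(pow_eq_pow_iff_modEq (n := m) (m := 1)).2 (by rw [K.orderOf_pow_val]; exact hm1.of_mul_right _), pow_one, F, map_mul,
        conj_eta, hc', hc']
      simp [mul_assoc]

end CL.LG
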