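/-
Linear groups of degree at most `p - 2` with a Sylow subgroup of order `p`: the eigenvalues of an
element of order `p`.
-/
import Cfsg.Agent.Char.LgDefs

set_option autoImplicit false

namespace CL.LG

open Cfsg CL.Char CL.Inv.PO CL.Blk CL.Blk.Sm Finset Module Subgroup ComplexConjugate
open scoped Classical

universe u

variable {p : ℕ} [hp : Fact p.Prime] {G : Type*} [Group G] [Fintype G] {x : G} {C : Subgroup G}
  (K : Ctx p x C)

theorem bt_finrank {V : Type*} [AddCommGroup V] [Module ℂ V] [FiniteDimensional ℂ V]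
    (ρ : Representation ℂ G V) (l : ZMod p) :
    (p : ℂ) * finrank ℂ (End.eigenspace (ρ x) (K.ω ^ l.val)) =
      ∑ j : ZMod p, ρ.character (x ^ j.val) * K.ω ^ (-l * j).val := by
  have hp0 : (p : ℂ) ≠ 0 := Nat.cast_ne_zero.2 hp.out.ne_zero
  have hx : ρ x ^ p = 1 := by rw [← map_pow, K.x_pow, map_one]
  set E : End ℂ V := ∑ j : ZMod p, K.ω ^ (-l * j).val • ρ x ^ j.val with hE
  have h1 : ρ x * E = K.ω ^ l.val • E := by
    rw [hE, mul_sum, smul_sum, ← Equiv.sum_comp (Equiv.addRight (1 : ZMod p))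
      (fun j : ZMod p => K.ω ^ l.val • K.ω ^ (-l * j).val • ρ x ^ j.val)]
    refine sum_congr rfl fun j _ => ?_
    rw [Equiv.coe_addRight, pow_val_add hx, ZMod.val_one, pow_one, smul_smul, ← ω_pow_add,
      mul_smul_comm, ← pow_succ', pow_succ]
    congr 3
    ring
  have h2 : LinearMap.IsProj (End.eigenspace (ρ x) (K.ω ^ l.val)) ((p : ℂ)⁻¹ • E) := by
    refine ⟨fun v => ?_, fun v hv => ?_⟩
    · rw [End.mem_eigenspace_iff, LinearMap.smul_apply, map_smul, ← End.mul_apply, h1,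
        LinearMap.smul_apply, smul_comm]
    · rw [End.mem_eigenspace_iff] at hv
      simp only [hE, LinearMap.smul_apply, LinearMap.sum_apply, pow_apply_of_eigen _ hv, smul_smul,
        ← pow_val_mul (K.lamC_pow _), ← ω_pow_add, ← sum_smul]
      simp [hp0]
  rw [← h2.trace, map_smul, smul_eq_mul, mul_inv_cancel_left₀ hp0, hE, map_sum]
  refine sum_congr rfl fun j _ => ?_
  rw [map_smul, smul_eq_mul, mul_comm, ← map_pow]
  rfl

variable {K} {θ : IrrCharacter C} {B : Set (IrrCharacter G)} (D : Data K θ B)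

theorem bt_eta (k j : (ZMod p)ˣ) :
    (D.μ k : G → ℂ) (x ^ (j : ZMod p).val) = D.ε * (eta K (k * j) * (θ : C → ℂ) 1) := by
  have h := D.μ_apply_mul k j 1 (by simpa using hp.out.one_lt.ne')
  simp only [OneMemClass.coe_one, mul_one, map_one, ← sum_mul, mul_assoc] at h
  rw [h, sum_N_a K fun u => K.ω ^ ((u : ZMod p) * (k * j)).val, mul_assoc,
    inv_mul_cancel_left₀ (natCard_subgroup_ne_zero C), eta]

theorem bt_sum (h1 : (θ : C → ℂ) 1 = 1) (k : (ZMod p)ˣ) (l : ZMod p) : ∃ e : ℕ, e ≤ 1 ∧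
    (l = 0 → e = 0) ∧ ∑ j : ZMod p, (D.μ k : G → ℂ) (x ^ j.val) * K.ω ^ (-l * j).val =
      (D.μ k : G → ℂ) 1 + D.ε * (p * e - K.f) := by
  refine ⟨#{u : K.a.range | ((u : (ZMod p)ˣ) : ZMod p) * k = l}, card_le_one.2 fun u hu v hv => ?_,
    fun h => card_eq_zero.2 (filter_eq_empty_iff.2 fun u _ e => ?_), ?_⟩
  · exact Subtype.ext (Units.ext (mul_right_cancel₀ k.ne_zero
      ((mem_filter.1 hu).2.trans (mem_filter.1 hv).2.symm)))
  · exact mul_ne_zero (Units.ne_zero _) k.ne_zero (e.trans h)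
  rw [sum_zmod_units]
  simp only [bt_eta D, h1, mul_one, eta, mul_assoc, sum_mul, ← ω_pow_add, ← mul_sum, ZMod.val_zero,
    pow_zero, mul_zero]
  rw [sum_comm, sum_congr rfl (g := fun u : K.a.range =>
    (if ((u : (ZMod p)ˣ) : ZMod p) * k = l then (p : ℂ) else 0) - 1) fun u _ => by
      simp only [← sub_eq_zero (a := ((u : (ZMod p)ˣ) : ZMod p) * k), ← K.sum_ω_pow_units]
      refine sum_congr rfl fun j _ => ?_
      congr 2
      ring]
  rw [sum_sub_distrib, ← sum_filter, sum_const, sum_const, card_univ, nsmul_eq_mul, nsmul_eq_mul,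
    card_range_a, mul_one, mul_comm (p : ℂ)]

/-- The case `ε = 1`. -/
theorem bt_pos (hp5 : 5 ≤ p) (hn : ¬ (zpowers x).Normal) (hε : D.ε = 1) (k : (ZMod p)ˣ)
    (hker : charKer (D.μ k : G → ℂ) = ⊥) (hd : charDegree (D.μ k : G → ℂ) + 2 ≤ p) :
    charDegree (θ : C → ℂ) = 1 ∧ charDegree (D.μ k : G → ℂ) = K.f ∧ 2 * K.f + 1 = p := by
  have h1 := D.deg_of_pos hε k (by omega)
  have h2 := θ.2.charDegree_pos
  have h3 : K.f ≤ charDegree (D.μ k : G → ℂ) := h1 ▸ Nat.le_mul_of_pos_right _ h2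
  have h4 : 2 * K.f + 1 ≤ p := by
    obtain ⟨t, ht⟩ := K.f_dvd
    rcases t with _ | _ | t
    · omega
    · omega
    · have : p - 1 + 1 = p := by omega
      nlinarith
  obtain h | ⟨h, -⟩ := psl_or_of_pow K hp5 hn (D.μ k).2.isCharacter hker hd
    fun M hM j hj hj' _ => exists_hom_of_small K j.rep hp5
      (pow_f_eq_zero D hε k (by omega) hM hj) hj' (by omega)
  · omega
  have h5 : charDegree (θ : C → ℂ) = 1 := by
    by_contra h5
    have : K.f * 2 ≤ K.f * charDegree (θ : C → ℂ) := Nat.mul_le_mul_left _ (by omega)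
    omega
  rw [h5, mul_one] at h1
  exact ⟨h5, h1, by omega⟩

theorem bt : BT.{u} := fun p hp G _ _ V _ _ _ ρ x hp5 hρ hχ hd hx h2 hn => by
  have := Fintype.ofFinite G
  obtain ⟨K⟩ := nonempty_ctx_of_orderOf hx h2
  have hker := (injective_iff_charKer_eq_bot ρ).1 hρ
  have hx1 : ρ.character x ≠ ρ.character 1 := fun e =>
    K.x_ne_one (mem_bot.1 (hker ▸ hχ.mem_charKer.2 e))
  rw [← charDegree_character ρ] at hd
  obtain ⟨θ, B, D, k, e⟩ := exists_data_of_le K hχ hx1 hd
  have hp0 : 0 < p := hp.out.pos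
  have key : ∀ l : ZMod p, finrank ℂ (End.eigenspace (ρ x) (K.ω ^ l.val)) ≤ 1 ∧ (l = 0 →
      p + 2 * finrank ℂ (End.eigenspace (ρ x) (K.ω ^ l.val)) ≤ 2 * finrank ℂ V + 1) := fun l => by
    have h3 := bt_finrank K ρ l
    rw [← charDegree_character ρ]
    rw [← e] at h3 hker hd hx1 ⊢
    rcases D.hε with hε | hε
    · obtain ⟨a1, a2, a3⟩ := bt_pos D hp5 hn hε k hker hd
      obtain ⟨r, r1, r2, r3⟩ := bt_sum D (θ.2.isCharacter.charDegree_eq_one_iff.1 a1) k l
      rw [r3, hε, ← (D.μ k).2.cast_charDegree, a2] at h3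
      have h4 : p * finrank ℂ (End.eigenspace (ρ x) (K.ω ^ l.val)) = p * r :=
        Nat.cast_injective (R := ℂ) (by push_cast at h3 ⊢; rw [h3]; ring)
      rw [Nat.eq_of_mul_eq_mul_left hp0 h4]
      exact ⟨r1, fun h => by rw [r2 h]; omega⟩
    · obtain ⟨a1, a2, a3, -⟩ := D.of_neg hε k (by omega) hx1
      obtain ⟨r, r1, r2, r3⟩ := bt_sum D (θ.2.isCharacter.charDegree_eq_one_iff.1 a1) k l
      rw [r3, hε, ← (D.μ k).2.cast_charDegree] at h3
      have h4 : p * (finrank ℂ (End.eigenspace (ρ x) (K.ω ^ l.val)) + r) = p * 1 :=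
        Nat.cast_injective (R := ℂ) (by
          have : ((charDegree (D.μ k : G → ℂ) + K.f : ℕ) : ℂ) = p := by rw [a2]
          push_cast at h3 this ⊢
          linear_combination h3 + this)
      have := Nat.eq_of_mul_eq_mul_left hp0 h4
      exact ⟨by omega, fun _ => by omega⟩
  refine ⟨fun c => ?_, ?_⟩
  · by_cases hc : c ^ p = 1
    · obtain ⟨l, rfl⟩ := K.exists_lam_xC_pow hc
      exact (key l).1
    · rw [show End.eigenspace (ρ x) c = ⊥ from (Submodule.eq_bot_iff _).2 fun v hv => ?_]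
      · simp
      have h3 := pow_apply_of_eigen _ (End.mem_eigenspace_iff.1 hv) p
      rw [← map_pow, K.x_pow, map_one, End.one_apply, eq_comm, ← sub_eq_zero] at h3
      nth_rewrite 2 [← one_smul ℂ v] at h3
      rw [← sub_smul] at h3
      exact (smul_eq_zero.1 h3).resolve_left (sub_ne_zero.2 hc)
  · have h3 := (key 0).2 rfl
    have h4 := LinearMap.finrank_range_add_finrank_ker (ρ x - 1)
    rw [ZMod.val_zero, pow_zero, End.eigenspace_def, one_smul] at h3
    omega

end CL.LG
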