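/-
Linear groups of degree `d ≤ p - 2`: the centralizer of an element of order `11`.
-/
import Cfsg.Agent.Char.LgDefs
import Cfsg.Agent.Spor.CharTools
import Cfsg.Agent.Char.LinGrp1
import Cfsg.Agent.Char.Congruence

set_option autoImplicit false

namespace CL.LG

open Cfsg CL.Char Subgroup

universe u

theorem c33_val {S : Type u} [Group S] [Finite S] [IsSimpleGroup S] {θ : S → ℂ} {y : S} (hθ : IsIrrCharacter S θ)
    (hd : charDegree θ = 22) (hi : ∀ g, ¬ 19 ∣ orderOf g → ∃ n : ℤ, θ g = n)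
    (h19 : ∀ g : S, 19 ∣ orderOf g → ¬ 11 ∣ orderOf g) (h121 : ¬ 121 ∣ Nat.card S) (hy : orderOf y = 11) {k : S}
    (k1 : k ≠ 1) (hc : Commute k y) {r j : ℕ} (hr : r.Prime) (r11 : r ≠ 11) (hk : k ^ r ^ j = 1) : θ k = -11 := by
  have p11 : Nat.Prime 11 := by norm_num
  have := Fact.mk p11
  have := Fact.mk hr
  have hG : ¬ IsMulCommutative S := fun h => by
    have h1 := CL.Spor.degree_sq_le_card (⟨θ, hθ⟩ : IrrCharacter S)
    have h2 := (Subgroup.Normal.eq_bot_or_eq_top (H := zpowers y) inferInstance).resolve_left fun e => by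
      rw [zpowers_eq_bot] at e
      simp [e] at hy
    have h3 := Nat.card_zpowers y
    rw [h2, card_top, hy] at h3
    rw [h3, show charDegree ((⟨θ, hθ⟩ : IrrCharacter S) : S → ℂ) = 22 from hd] at h1
    omega
  have hp : commutator S = ⊤ := (Subgroup.Normal.eq_bot_or_eq_top inferInstance).resolve_left fun h => hG ⟨⟨fun a b =>
    commutatorElement_eq_one_iff_mul_comm.1 (mem_bot.1 (h ▸ commutator_mem_commutator (mem_top a) (mem_top b)))⟩⟩
  have h1 : θ ≠ fun _ => 1 := fun e => by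
    have := hθ.isCharacter.cast_charDegree
    rw [hd, e] at this
    norm_num at this
  have main : ∀ {k : S}, k ≠ 1 → Commute k y → ∀ {j}, k ^ r ^ j = 1 →
      ∃ n : ℤ, θ k = n ∧ (n = -11 ∨ n = 0 ∨ n = 11) ∧ (r : ℤ) ∣ 22 - n := fun {k} k1 hc j hk => by
    obtain ⟨i, -, hi'⟩ := (Nat.dvd_prime_pow hr).1 (orderOf_dvd_of_pow_eq_one hk)
    have ho : orderOf (k * y) = orderOf k * 11 := hy ▸ hc.orderOf_mul_eq_mul_orderOf_of_coprime (by
      rw [hi', hy]; exact ((Nat.coprime_primes hr p11).2 r11).pow_left i)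
    have d11 : 11 ∣ orderOf (k * y) := ho ▸ dvd_mul_left _ _
    obtain ⟨n, hn⟩ := hi k fun h => h19 _ (ho ▸ h.mul_right _) d11
    have z0 : θ (k * y) = ((0 : ℤ) : ℂ) := (CL.Spor.eq_zero_of_defect_zero p11 ⟨θ, hθ⟩ (fun h => h121 (by
      rw [show charDegree ((⟨θ, hθ⟩ : IrrCharacter S) : S → ℂ) = 22 from hd] at h
      exact (show 121 ∣ 11 * 22 by decide).trans h)) d11).trans Int.cast_zero.symm
    have m1 := isGenChar_intModEq hθ.isCharacter.isGeneralizedCharacter p11 (k := 1) (g := k) (x := k * y) (by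
      rw [pow_one, hc.mul_pow, ← hy, pow_orderOf_eq_one, mul_one]) hn z0
    have m2 := CL.Spor.int_value_modEq hr hθ.isCharacter hk hn
    have l1 := lt_of_le_of_ne (hθ.isCharacter.norm_le k) (CL.Spor.norm_ne_degree hG hθ h1 k1)
    rw [hn, hd, Complex.norm_intCast] at l1
    have l2 : |n| < 22 := by exact_mod_cast l1
    rw [abs_lt] at l2
    have := Int.modEq_zero_iff_dvd.1 m1
    exact ⟨n, hn, by omega, by simpa [hd] using m2.dvd⟩
  have key : ∀ m : ℕ, (r : ℤ) ∣ m * 11 → r ∣ m := fun m h =>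
    ((Nat.coprime_primes hr p11).2 r11).dvd_of_dvd_mul_right (by exact_mod_cast h)
  obtain ⟨n, hn, rfl | rfl | rfl, h⟩ := main k1 hc hk
  · exact_mod_cast hn
  · obtain rfl := (Nat.prime_dvd_prime_iff_eq hr Nat.prime_two).1 (key 2 (by simpa using h))
    obtain ⟨i, -, hi'⟩ := (Nat.dvd_prime_pow hr).1 (orderOf_dvd_of_pow_eq_one hk)
    obtain ⟨i, rfl⟩ : ∃ l, i = l + 1 := Nat.exists_eq_succ_of_ne_zero fun e => k1 (by
      rwa [e, pow_zero, orderOf_eq_one_iff] at hi')
    have t2 : (k ^ 2 ^ i) ^ 2 = 1 := by rw [← pow_mul, ← pow_succ, ← hi', pow_orderOf_eq_one]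
    obtain ⟨n, hn, h1, h2⟩ := main (k := k ^ 2 ^ i) (pow_ne_one_of_lt_orderOf (by positivity) (by
      rw [hi']; exact Nat.pow_lt_pow_right (by decide) i.lt_succ_self)) (hc.pow_left _) (j := 1) (by rwa [pow_one])
    obtain ⟨m, -, hm⟩ := CL.Spor.invol_value hθ.isCharacter hp t2
    have : n = 22 - 4 * m := by
      rw [hn, hd] at hm
      exact_mod_cast hm
    omega
  · exact absurd (Nat.dvd_one.1 (key 1 (by simpa using h))) hr.ne_one

theorem c33 : C33.{u} := fun S _ _ θ y hS hθ hd hi h19 h121 hy => by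
  refine Nat.le_of_dvd (by decide) ((Nat.dvd_iff_prime_pow_dvd_dvd _ _).2 fun r j hr h => ?_)
  have := Fact.mk hr
  by_cases r11 : r = 11
  · subst r11
    rcases j with _ | _ | j
    exacts [one_dvd _, by decide, absurd (((pow_dvd_pow 11 (by omega : 2 ≤ j + 1 + 1)).trans h).trans
      (card_subgroup_dvd_card _)) h121]
  obtain ⟨T, hT⟩ := Sylow.exists_subgroup_card_pow_prime r h
  rw [← hT, ← Grp.card_map_subtype]
  refine card_dvd_degree_of_vanishing (hθ.isCharacter.isGeneralizedCharacter.add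
    ((irrOne S).2.isCharacter.isGeneralizedCharacter.nsmul 11)) _ (fun k hk k1 => ?_) ?_
  · obtain ⟨k, hk, rfl⟩ := hk
    have := c33_val hθ hd hi h19 h121 hy k1 (mem_centralizer_singleton_iff.1 k.2) hr r11 (j := j) (by
      have := congrArg (fun x : T => ((x : centralizer ({y} : Set S)) : S)) (pow_card_eq_one' (x := (⟨k, hk⟩ : T)))
      simpa [hT] using this)
    rw [Pi.add_apply, this]
    simp [irrOne]
  · simp [← hθ.isCharacter.cast_charDegree, hd, irrOne]
    norm_num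

end CL.LG
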