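/-
Linear groups of degree at most `p - 2`: the simple central quotients in the three exceptional cases.
-/
import Cfsg.Agent.Char.LgDefs
import Cfsg.Agent.Char.SchurBound
import Cfsg.Agent.Spor.CharTools
import Cfsg.Agent.Blk.AltSevenD
import Cfsg.Agent.Cls.SmallIso
import Cfsg.Agent.S0497

set_option autoImplicit false

namespace CL.LG

open Cfsg CL.Char CL.Inv.PO CL.Blk.Sm Subgroup ComplexConjugate
open scoped MatrixGroups

universe u

section

variable {p : ℕ} [hp : Fact p.Prime] {S : Type u} [Group S] [Fintype S] {x : S}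
  {K : Ctx p x (zpowers x)} {H : Type u} [Group H] [Finite H] {π : H →* S} {χ : H → ℂ} {k : (ZMod p)ˣ}
  {d : ℕ} (c : Cov K π χ k d)
include c

theorem Cov.inner {Φ : S → ℂ} {m : ℕ} [Fintype H] (h : ∀ h, Φ (π h) = χ h * conj (χ (h ^ m))) :
    classInner Φ (irrOne S : S → ℂ) = classInner χ fun h => χ (h ^ m) := by
  rw [← classInner_comp_of_surjective π c.surj]
  simp [classInner_def, h]

theorem Cov.exists_sq : ∃ Φ, Sq K k d Φ ∧ classInner Φ (irrOne S : S → ℂ) = 1 ∧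
    ∀ h, Φ (π h) = χ h * conj (χ h) := by
  have := Fintype.ofFinite H
  obtain ⟨Φ, h1, h2⟩ := c.sq 1 (Nat.coprime_one_left _) rfl
  exact ⟨Φ, h1, by simpa [c.irr.classInner_self] using c.inner h2, by simpa using h2⟩

variable (hΦ : ∀ Φ, Sq K k d Φ → classInner Φ (irrOne S : S → ℂ) ≠ 0) {q : ℕ} [hq : Fact q.Prime]
  (hqp : q ≠ p) (hqd : ¬ q ∣ d)
include hΦ hqp hqd

theorem Cov.int (T : Sylow q H) {g : H} (hg : g ∈ (T : Subgroup H)) : ∃ n : ℤ, χ g = n := by
  have := Fintype.ofFinite H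
  refine genChar_exists_int_of_forall_pow c.irr.isCharacter.isGeneralizedCharacter fun m hm => ?_
  obtain ⟨a, ha⟩ := T.isPGroup'.exists_card_eq
  have h1 : (Nat.card T).Coprime ((T : Subgroup H).index * (p * Nat.card (center H))) :=
    ha ▸ Nat.Coprime.pow_left _ (hq.out.coprime_iff_not_dvd.2 (hq.out.not_dvd_mul T.not_dvd_index
      (hq.out.not_dvd_mul (fun h => hqp ((Nat.prime_dvd_prime_iff_eq hq.out hp.out).1 h))
        fun h => hqd (c.zdvd q hq.out h))))
  obtain ⟨n, hn, hn'⟩ := Nat.chineseRemainder h1 m 1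
  have h2 : n.Coprime (Nat.card H) := by
    rw [← (T : Subgroup H).card_mul_index] at hm ⊢
    exact Nat.Coprime.mul_right ((Nat.Coprime.symm (hn.gcd_eq.trans hm.coprime_mul_right_right)).symm)
      (((hn'.of_mul_right _).gcd_eq.trans (Nat.gcd_one_left _)))
  obtain ⟨Φ, h3, h4⟩ := c.sq n h2 (hn'.of_mul_left _)
  have h5 := c.irr.eq_of_classInner_ne_zero (isIrr_pow_coprime c.irr h2) (c.inner h4 ▸ hΦ Φ h3)
  rw [congrFun h5 g, pow_eq_pow_iff_modEq.2 (hn.of_dvd (orderOf_dvd_natCard _ hg))]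

theorem Cov.schur {a : ℕ} (ha : q ^ a ∣ Nat.card S) : a ≤ schurSum q (d + 1) d := by
  obtain ⟨T⟩ : Nonempty (Sylow q H) := inferInstance
  obtain ⟨b, hb⟩ := T.isPGroup'.exists_card_eq
  have h1 := T.pow_dvd_card_of_pow_dvd_card (ha.trans (card_dvd_of_surjective π c.surj))
  rw [hb, Nat.pow_dvd_pow_iff_le_right hq.out.one_lt] at h1
  refine h1.trans (log_le_schurSum T.isPGroup' _ d _ (c.irr.isCharacter.restrict T)
    (eq_top_iff.2 fun σ _ => mem_galStab.2 fun g => ?_) c.deg d.lt_succ_self b ?_)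
  · obtain ⟨n, hn⟩ := c.int hΦ hqp hqd T g.2
    rw [hn, map_intCast]
  · rw [charKer_restrict_eq_bot c.irr.isCharacter c.faith, index_bot, hb]

end

section

variable {S : Type u} [Group S] [Fintype S] {x : S} {H : Type u} [Group H] [Finite H] {π : H →* S}
  {χ : H → ℂ}

theorem c19 (h19 : N19.{u}) (h33 : C33.{u}) [Fact (Nat.Prime 19)] {K : Ctx 19 x (zpowers x)}
    {k : (ZMod 19)ˣ} (s : SH K 3) (c : Cov K π χ k 16) : False := by
  have h11 : Fact (Nat.Prime 11) := ⟨by norm_num⟩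
  have hΦ := fun Φ h => (h19 S x K k Φ s h).1
  have h1 : ¬ 121 ∣ Nat.card S := fun h =>
    absurd (c.schur hΦ (q := 11) (a := 2) (by norm_num) (by norm_num) h) (by decide)
  obtain ⟨Φ, a1, a2, a3⟩ := c.exists_sq
  obtain ⟨θ, b1, b2, b3, b4⟩ := (h19 S x K k Φ s a1).2 a2
  obtain ⟨y, hy⟩ := exists_prime_orderOf_dvd_card' (G := H) 11
    (((by norm_num : 11 ∣ 22).trans (b2 ▸ b1.charDegree_dvd_card)).trans (card_dvd_of_surjective π c.surj))
  have hy1 : y ^ 11 ^ 1 = 1 := by rw [pow_one, ← hy, pow_orderOf_eq_one]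
  have hyZ : y ∉ center H := fun h =>
    absurd (c.zdvd 11 h11.out (hy ▸ orderOf_dvd_natCard _ h)) (by norm_num)
  have hy2 : orderOf (π y) = 11 := orderOf_eq_prime (by rw [← map_pow, ← pow_one 11, hy1, map_one])
    fun h => hyZ (c.ker ▸ h)
  have h2 := h33 S θ _ s.simple b1 b2 b3 (fun g h h' => absurd (h'.trans (orderOf_dvd_of_pow_eq_one
    (K.pow_eq_one_of_sing le_rfl h))) (by norm_num)) h1 hy2
  have h3 := b4 h1 _ hy2
  obtain ⟨T, hT⟩ := PEl.exists_sylow (p := 11) ⟨1, hy1⟩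
  obtain ⟨n, hn⟩ := c.int hΦ (by norm_num) (by norm_num) T hT
  have h4 := Spor.int_value_modEq h11.out c.irr.isCharacter hy1 hn
  have h5 := c.irr.isCharacter.norm_le y
  have h6 : ‖χ y‖ ≠ charDegree χ := fun h => hyZ (c.irr.isCharacter.charCenter_le_center c.faith
    (c.irr.isCharacter.mem_charCenter.2 (h.trans c.irr.isCharacter.norm_one.symm)))
  rw [hn, Complex.norm_intCast, c.deg] at h5 h6
  rw [c.deg] at h4
  have h7 : |n| < 16 := by exact_mod_cast lt_of_le_of_ne h5 h6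
  have h8 : (Nat.card (centralizer ({π y} : Set S)) : ℝ) ≤ 33 := by exact_mod_cast h2
  rw [a3, hn, map_intCast] at h3
  obtain rfl | rfl : n = 5 ∨ n = -6 := by
    rw [abs_lt] at h7
    unfold Int.ModEq at h4
    omega
  all_goals
    norm_num at h3
    linarith

theorem SH.not_normal {p f : ℕ} [hp : Fact p.Prime] {K : Ctx p x (zpowers x)} (s : SH K f) :
    ¬ (zpowers x).Normal := fun h => by
  have := s.simple
  rcases h.eq_bot_or_eq_top with e | e
  · exact K.x_ne_one (zpowers_eq_bot.1 e)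
  · exact s.ncomm (have := isCyclic_iff_exists_zpowers_eq_top.2 ⟨x, e⟩; inferInstance)

theorem SH.center_eq {p f : ℕ} [hp : Fact p.Prime] {K : Ctx p x (zpowers x)} (s : SH K f) :
    center S = ⊥ := by
  have := s.simple
  exact (normal_of_characteristic (center S)).eq_bot_or_eq_top.resolve_right fun e =>
    s.ncomm ⟨⟨fun a b => mem_center_iff.1 (e.ge (mem_top b)) a⟩⟩

theorem c7 (h7 : N7.{u}) (ho : O7.{u}) [Fact (Nat.Prime 7)] {K : Ctx 7 x (zpowers x)}
    {k : (ZMod 7)ˣ} (s : SH K 3) (c : Cov K π χ k 4) :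
    Nonempty (S ≃* PSL(2, ZMod 7)) ∨ Nonempty (S ≃* alternatingGroup (Fin 7)) := by
  have := s.simple
  refine or_iff_not_imp_left.2 fun h => ?_
  have h0 := fun Φ h' => (h7 S x K k Φ s h').resolve_left fun ⟨μ, h1, h2⟩ => by
    obtain ⟨-, -, ⟨e⟩⟩ := of_two_mul_le K (by norm_num) s.not_normal h1.isCharacter
      (h1.charKer_eq_bot_of_simple fun e => by simp [e, charDegree] at h2) (by omega)
    exact h ⟨(QuotientGroup.quotientBot.symm.trans (QuotientGroup.quotientMulEquivOfEq s.center_eq.symm)).trans e⟩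
  obtain ⟨Φ, a1, a2, -⟩ := c.exists_sq
  have h3 : Fact (Nat.Prime 3) := ⟨by norm_num⟩
  exact Blk.A7.nonempty_equiv_alt_seven (ho S x K s ((h0 Φ a1).2 a2) fun h => absurd
    (c.schur (fun Φ h => (h0 Φ h).1) (q := 3) (a := 3) (by norm_num) (by norm_num) h) (by decide))

theorem c5 (h5 : N5.{u}) [Fact (Nat.Prime 5)] {K : Ctx 5 x (zpowers x)}
    {k : (ZMod 5)ˣ} (s : SH K 2) (c : Cov K π χ k 3) :
    Nonempty (S ≃* PSL(2, ZMod 5)) ∨ Nonempty (S ≃* alternatingGroup (Fin 6)) := by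
  have := s.simple
  refine or_iff_not_imp_left.2 fun h => ?_
  have h0 := fun Φ h' => (h5 S x K k Φ s h').resolve_left fun h1 => by
    obtain ⟨e⟩ := SL2.isSimpleGroup_iso_alt_five h1
    obtain ⟨e'⟩ := Cls.nonempty_PSL2_five (F := ZMod 5) (ZMod.card 5)
    exact h ⟨e.trans e'.symm⟩
  obtain ⟨Φ, a1, a2, -⟩ := c.exists_sq
  refine Cfsg.Agent.S0497.result ((h0 Φ a1).2 a2 fun q hq h => not_lt.1 fun h' => ?_)
  have := Fact.mk hq
  have h1 := c.schur (fun Φ h => (h0 Φ h).1) (q := q) (a := 1) (by omega)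
    (fun h => by have := Nat.le_of_dvd three_pos h; omega) (by rwa [pow_one])
  rw [schurSum, Finset.sum_eq_zero fun i _ => Nat.div_eq_of_lt (lt_of_lt_of_le (by omega)
    (Nat.le_mul_of_pos_right (q - 1) (pow_pos hq.pos i)))] at h1
  omega

end

end CL.LG
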