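/-
Linear groups of degree at most `p - 2` with `p ^ 2` not dividing `|G : O_p(G)|`: splitting off `O_p(G)`.
-/
import Cfsg.Agent.Char.LgDefs

set_option autoImplicit false

namespace CL.LG

open Cfsg CL.Char Subgroup
open scoped commutatorElement

universe u

variable {G : Type*} [Group G] {p : ℕ}

/-- The subgroup generated by the `p`-elements. -/
def pGen (p : ℕ) (G : Type*) [Group G] : Subgroup G := closure {g | PEl p g}

theorem PEl.mem_pGen {g : G} (h : PEl p g) : g ∈ pGen p G := subset_closure h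

theorem pGen_le {M : Subgroup G} (h : ∀ g, PEl p g → g ∈ M) : pGen p G ≤ M := (closure_le M).2 h

instance pGen_normal : (pGen p G).Normal := ⟨fun g hg a =>
  pGen_le (M := (pGen p G).comap (MulAut.conj a).toMonoidHom) (fun _ h => (h.conj a).mem_pGen) hg⟩

theorem pGen_gen (M : Subgroup (pGen p G)) (h : ∀ g, PEl p g → g ∈ M) : M = ⊤ :=
  eq_top_iff.2 fun g _ => by
    obtain ⟨y, hy, e⟩ := pGen_le (M := M.map (pGen p G).subtype)
      (fun y hy => ⟨⟨y, hy.mem_pGen⟩, h _ (pel_coe.1 hy), rfl⟩) g.2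
    exact (Subtype.ext e : y = g) ▸ hy

theorem pel_of_gen {A : Type*} [CommGroup A] (f : G →* A)
    (hg : ∀ M : Subgroup G, (∀ g, PEl p g → g ∈ M) → M = ⊤) (g : G) : PEl p (f g) :=
  (hg { carrier := {g | PEl p (f g)}
        mul_mem' := fun ha hb => by simpa using PEl.mul ha hb (Commute.all _ _)
        one_mem' := ⟨0, by simp⟩
        inv_mem' := fun ha => by simpa using PEl.inv ha } fun _ h => h.map f).ge (mem_top g)

theorem PEl.eq_one {g : G} (h : PEl p g) {m : ℕ} (hm : p.Coprime m) (e : g ^ m = 1) : g = 1 := by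
  obtain ⟨k, hk⟩ := h
  exact orderOf_eq_one_iff.1 (Nat.eq_one_of_dvd_coprimes (hm.pow_left k) (orderOf_dvd_of_pow_eq_one hk)
    (orderOf_dvd_of_pow_eq_one e))

theorem dl_comm {L M O : Subgroup G} [O.Normal] (hO : ∀ q ∈ O, ∀ l ∈ L, Commute q l) (hM : M ≤ L)
    (hL : L ≤ M ⊔ O) : ⁅L, L⁆ ≤ ⁅M, M⁆ := commutator_le.2 fun a ha b hb => by
  obtain ⟨m, hm, q, hq, rfl⟩ := mem_sup_of_normal_right.1 (hL ha)
  obtain ⟨n, hn, r, hr, rfl⟩ := mem_sup_of_normal_right.1 (hL hb)
  have h1 := hO q hq _ hb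
  have h2 := hO r hr m⁻¹ (inv_mem (hM hm))
  convert commutator_mem_commutator hm hn using 1
  rw [commutatorElement_def, mul_assoc m, h1.eq, commutatorElement_def]
  calc _ = m * n * (r * m⁻¹) * r⁻¹ * n⁻¹ := by group
    _ = _ := by rw [h2.eq]; group

variable [Finite G] [hp : Fact p.Prime]

theorem PEl.mem_of_not_dvd {g : G} (h : PEl p g) {N : Subgroup G} [N.Normal] (hN : ¬ p ∣ N.index) :
    g ∈ N := (QuotientGroup.eq_one_iff g).1 ((h.map (QuotientGroup.mk' N)).eq_one
  (hp.out.coprime_iff_not_dvd.2 hN) pow_card_eq_one')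

theorem not_dvd_index_pGen : ¬ p ∣ (pGen p G).index := fun h => by
  obtain ⟨P⟩ : Nonempty (Sylow p G) := inferInstance
  exact P.not_dvd_index (h.trans (index_dvd_of_le fun g hg => (pel_of_mem P.isPGroup' hg).mem_pGen))

theorem index_eq_mul {H O : Subgroup G} [O.Normal] (h : H ⊓ O = ⊥) :
    O.index = Nat.card H * (H ⊔ O).index := by
  have h1 := Grp.card_sup_mul_card_inf_of_normal H O
  rw [h, card_bot, mul_one] at h1
  refine Nat.eq_of_mul_eq_mul_left (Nat.card_pos (α := O)) ?_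
  rw [card_mul_index, ← mul_assoc, mul_comm (Nat.card O), ← h1, card_mul_index]

variable {χ : G → ℂ}

/-- The large constituent of a faithful character. -/
theorem dl_split [Fintype G] (hχ : IsCharacter G χ) (hker : charKer χ = ⊥)
    (hg : ∀ M : Subgroup G, (∀ g, PEl p g → g ∈ M) → M = ⊤) (hc : ¬ ∀ a b : G, a * b = b * a) :
    ∃ ψ, IsIrrCharacter G ψ ∧ classInner χ ψ ≠ 0 ∧ ψ 1 ≠ 1 ∧ p ≤ 2 * charDegree ψ + 1 := by
  obtain ⟨ψ, hψ, h1, h2⟩ := hχ.exists_nonlinear_constituent hker hc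
  exact ⟨ψ, hψ, h1, h2, not_lt.1 fun h => h2 (hψ.one_eq_one_iff.2 (ft_ker hψ.isCharacter hg h))⟩

theorem dl_irr (hχ : IsIrrCharacter G χ) (hker : charKer χ = ⊥) (hd : charDegree χ + 2 ≤ p)
    (H : Subgroup G) [H.Normal] (hg : ∀ M : Subgroup H, (∀ g, PEl p g → g ∈ M) → M = ⊤)
    (hc : ¬ ∀ a b : H, a * b = b * a) : IsIrrCharacter H fun h => χ h := by
  have := Fintype.ofFinite G
  have := Fintype.ofFinite H
  have h0 := hχ.isCharacter.restrict H
  obtain ⟨ψ, hψ, h1, -, h2⟩ := dl_split h0 (charKer_restrict_eq_bot hχ.isCharacter hker H) hg hc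
  have h3 := clifford_degree hχ hψ h1
  obtain ⟨e, he⟩ := h0.exists_nat_classInner hψ.isCharacter
  rw [he, ← hχ.cast_charDegree, ← hψ.cast_charDegree] at h3
  have h4 : charDegree χ = e * (inertia H ψ).index * charDegree ψ := by exact_mod_cast h3
  have h5 := hχ.charDegree_pos
  rw [h0.eq_of_classInner_ne_zero_of_one_eq hψ h1 ?_]
  · exact hψ
  rw [← h0.cast_charDegree, ← hψ.cast_charDegree]
  generalize e * (inertia H ψ).index = t at h4
  rcases t with _ | _ | t
  · omega
  · exact congrArg _ (h4.trans (one_mul _))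
  · nlinarith

theorem dl_ncomm {H : Subgroup G} (h : ⁅H, H⁆ = H) (h1 : p ∣ Nat.card H) : ¬ ∀ a b : H, a * b = b * a :=
  fun hc => by
  have : H = ⊥ := eq_bot_iff.2 (h.ge.trans (commutator_le.2 fun a ha b hb =>
    commutatorElement_eq_one_iff_mul_comm.2 (congrArg Subtype.val (hc ⟨a, ha⟩ ⟨b, hb⟩))))
  rw [this, card_bot] at h1
  exact hp.out.one_lt.ne' (Nat.dvd_one.1 h1)

theorem dl : DL.{u} := fun p hp G _ _ χ hχ hker hd h2 h1 => by
  have hO : ∀ q ∈ pCore p G, ∀ l ∈ pGen p G, Commute q l := fun q hq l hl =>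
    (mem_centralizer_singleton_iff.1 (pGen_le (M := centralizer {q}) (fun g hg =>
      mem_centralizer_singleton_iff.2 (commute_pCore hχ hker (by omega) hq hg).symm) hl)).symm
  have hH : ⁅pGen p G, pGen p G⁆ ≤ pGen p G := commutator_le_left _ _
  have h3 : ⁅pGen p G, pGen p G⁆ ⊓ pCore p G = ⊥ := eq_bot_iff.2 fun z hz => by
    obtain ⟨y, hy, rfl⟩ := (map_subtype_commutator (pGen p G)).ge hz.1
    obtain ⟨k, hk⟩ := pel_coe.1 (pel_of_mem (Grp.pCore_isPGroup p G) hz.2)
    rw [eq_one_of_mem_center_commutator (hχ.restrict _) (charKer_restrict_eq_bot hχ hker _) hp.out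
      (show charDegree χ < p by omega) (mem_center_iff.2 fun l => Subtype.ext (hO _ hz.2 _ l.2).symm) hy hk]
    exact one_mem _
  have h4 : p ∣ Nat.card (⁅pGen p G, pGen p G⁆ : Subgroup G) := by
    by_contra h4
    rw [← map_subtype_commutator, Grp.card_map_subtype] at h4
    refine not_dvd_of_solv hχ hker hd (Loc.isPSolvable_of_normal (pGen p G) (Loc.isPSolvable_of_normal
      (commutator _) (Loc.isPSolvable_of_not_dvd h4) (Loc.isPSolvable_of_isPGroup fun g => ?_))
      (Loc.isPSolvable_of_not_dvd not_dvd_index_pGen)) h1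
    obtain ⟨g, rfl⟩ := QuotientGroup.mk_surjective g
    exact pel_of_gen Abelianization.of pGen_gen g
  rw [index_eq_mul h3] at h2
  have h5 : ∀ g, PEl p g → g ∈ ⁅pGen p G, pGen p G⁆ ⊔ pCore p G := fun g hg =>
    hg.mem_of_not_dvd fun h => h2 (sq p ▸ mul_dvd_mul h4 h)
  refine ⟨_, inferInstance, (commutator_mono hH hH).antisymm (dl_comm hO hH (pGen_le h5)), h3, h4,
    fun h => h2 (h.mul_right _), h5, fun M hM => eq_top_iff.2 fun g _ => ?_, fun q hq h hh => hO q hq h (hH hh)⟩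
  obtain ⟨y, hy, e⟩ := (commutator_le_self (M.map (Subgroup.subtype _))) (dl_comm hO
    ((map_subtype_le M).trans hH) (pGen_le fun g hg => by
      obtain ⟨h, hh, q, hq, rfl⟩ := mem_sup_of_normal_right.1 (h5 g hg)
      refine mul_mem (mem_sup_left ⟨⟨h, hh⟩, hM _ (pel_coe.1 ?_), rfl⟩) (mem_sup_right hq)
      simpa using hg.mul (pel_of_mem (Grp.pCore_isPGroup p G) hq).inv
        (hO q hq _ hg.mem_pGen).symm.inv_right) g.2)
  exact (Subtype.ext e : y = g) ▸ hy

theorem dd : DD.{u} := fun p hp G _ _ χ hχ hker hd h2 h1 => by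
  obtain ⟨H, hH, a1, a2, a3, -, a4, a5, a6⟩ := dl p G χ hχ.isCharacter hker hd h2 h1
  have hirr := dl_irr hχ hker hd H a5 (dl_ncomm a1 a3)
  have hZ : pCore p G ≤ center G := fun q hq => by
    have h3 : H ≤ centralizer {q} := fun h hh => mem_centralizer_singleton_iff.2 (a6 q hq h hh).symm
    have h4 := isIrrCharacter_of_comp (hχ.isCharacter.restrict _) (inclusion h3) hirr
    exact hχ.isCharacter.charCenter_le_center hker (hχ.isCharacter.mem_charCenter.2
      (h4.isCharacter.mem_charCenter.1 (h4.center_le_charCenter (x := ⟨q, mem_centralizer_singleton_iff.2 rfl⟩)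
        (mem_center_iff.2 fun g => Subtype.ext (mem_centralizer_singleton_iff.1 g.2)))))
  have hm : p.Coprime (H ⊔ pCore p G).index := hp.out.coprime_iff_not_dvd.2 fun h =>
    h2 (index_eq_mul a2 ▸ sq p ▸ mul_dvd_mul a3 h)
  refine ⟨hZ, ((powMonoidHom (H ⊔ pCore p G).index).comp Abelianization.of).ker, inferInstance,
    eq_bot_iff.2 fun z hz => ?_, eq_top_iff.2 fun g _ => ?_⟩
  · obtain ⟨k, hk⟩ := pel_of_mem (Grp.pCore_isPGroup p G) (pow_mem hz.2 (H ⊔ pCore p G).index)
    refine (pel_of_mem (Grp.pCore_isPGroup p G) hz.2).eq_one hm (eq_one_of_mem_center_commutator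
      hχ.isCharacter hker hp.out (by omega) (pow_mem (hZ hz.2) _) ?_ hk)
    rw [← Abelianization.ker_of, MonoidHom.mem_ker, map_pow]
    exact hz.1
  · obtain ⟨h, hh, q, hq, e⟩ := mem_sup_of_normal_right.1 ((H ⊔ pCore p G).pow_index_mem g)
    obtain ⟨r, hr⟩ := ((Grp.pCore_isPGroup p G).powEquiv hm).surjective ⟨q, hq⟩
    have hr' : (r : G) ^ (H ⊔ pCore p G).index = q := congrArg Subtype.val hr
    rw [← inv_mul_cancel_right g r]
    refine mul_mem (mem_sup_left ?_) (mem_sup_right r.2)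
    have : Abelianization.of h = 1 := by
      rw [← MonoidHom.mem_ker, Abelianization.ker_of]
      exact commutator_mono le_top le_top (a1.ge hh)
    rw [MonoidHom.mem_ker, MonoidHom.comp_apply, powMonoidHom_apply, map_mul, mul_pow, ← map_pow, ← e,
      map_mul, this, one_mul, map_inv, inv_pow, ← map_pow, hr', mul_inv_cancel]

end CL.LG
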