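/-
Linear groups of degree `d ≤ p - 2`: the final contradiction in step R.
-/
import Cfsg.Agent.Char.LgDefs

set_option autoImplicit false

namespace CL.LG

open Cfsg CL.Char Module Subgroup

universe u

section

variable {p : ℕ} [hp : Fact p.Prime] {G : Type u} [Group G] [Finite G] {V : Type} [AddCommGroup V] [Module ℂ V]
  [FiniteDimensional ℂ V] {ρ : Representation ℂ G V}

omit hp [Finite G] [FiniteDimensional ℂ V] in
theorem fin_pres {g x : G} (h : Commute g x) {v : V} (hv : v ∈ LinearMap.range (ρ x - 1)) :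
    ρ g v ∈ LinearMap.range (ρ x - 1) := by
  obtain ⟨w, rfl⟩ := hv
  refine ⟨ρ g w, ?_⟩
  simp only [LinearMap.sub_apply, map_sub, ← End.mul_apply, ← map_mul, h.eq, one_mul, mul_one]

omit hp [Finite G] in
theorem fin_scal (kl : KL p ρ) {R : Submodule ℂ V} (hR : p ≤ 2 * finrank ℂ R + 1) {q : G} (hq : PEl p q) {c : ℂ}
    (h : ∀ v ∈ R, ρ q v = c • v) : q = 1 :=
  kl q hq c (hR.trans (by
    have := Submodule.finrank_mono (show R ≤ End.eigenspace (ρ q) c from fun v hv =>
      End.mem_eigenspace_iff.2 (h v hv))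
    omega))

variable (m : Min p ρ)
include m

omit hp in
theorem fin_ker : charKer ρ.character = ⊥ := (charKer_character ρ).trans ((MonoidHom.ker_eq_bot_iff _).2 m.inj)

omit hp [Finite G] in
theorem fin_deg : charDegree ρ.character < p := by
  have := m.dim
  rw [charDegree_character]
  omega

theorem fin_comm {X : Subgroup G} (h : ¬ p ∣ (pCore p X).index) {a b : G} (ha : a ∈ X) (hb : b ∈ X) (pa : PEl p a)
    (pb : PEl p b) : Commute a b :=
  comm_of_pgroup (isCharacter_character ρ) (fin_ker m) (fin_deg m) ((Grp.pCore_isPGroup p X).map X.subtype) a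
    ⟨⟨a, ha⟩, (pel_coe.1 pa).mem_pCore h, rfl⟩ b ⟨⟨b, hb⟩, (pel_coe.1 pb).mem_pCore h, rfl⟩

omit hp [Finite G] [FiniteDimensional ℂ V] in
theorem fin_cen {z : G} (hz : PEl p z) (h : z ∈ center G) : z = 1 := by
  have : (zpowers z).Normal := ⟨fun n hn g => by
    rwa [mem_center_iff.1 (zpowers_le_of_mem h hn) g, mul_inv_cancel_right]⟩
  exact mem_bot.1 (m.core ▸ Grp.le_pCore hz.isPGroup (mem_zpowers z))

theorem fin_good (hS : ST.{u}) (h5 : 5 ≤ p) {n : G} (hn : n ∉ center G)
    (h : p ∣ (pCore p (centralizer ({n} : Set G))).index) :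
    ∃ x : centralizer ({n} : Set G), Good p (ρ.comp (centralizer ({n} : Set G)).subtype) x ∧
      ∃ c : ℂ, ∀ v ∈ LinearMap.range (ρ x - 1), ρ n v = c • v := by
  obtain ⟨g, hg, hg'⟩ := exists_pel_notMem h
  obtain ⟨x, -, hx⟩ := hS p _ V (ρ.comp (centralizer ({n} : Set G)).subtype) h5 (m.inj.comp Subtype.val_injective) m.dim
    (m.sub _ fun e => hn (centralizer_eq_top_iff_subset.1 e (Set.mem_singleton n))) g hg hg'
  exact ⟨x, hx, hx.scalar (ρ n) fun y _ => (show Commute n y from (mem_centralizer_singleton_iff.1 y.2).symm).map ρ⟩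

variable (hS : ST.{u}) (h5 : 5 ≤ p) (kl : KL p ρ)
include hS h5 kl

theorem fin_a {u a b : G} (pu : PEl p u) (hu : u ≠ 1) (ha : Commute a u) (hb : Commute b u) (pa : PEl p a)
    (pb : PEl p b) : Commute a b :=
  fin_comm m (X := centralizer {u}) (fun h =>
    let ⟨_, hx, _, hc⟩ := fin_good m hS h5 (mt (fin_cen m pu) hu) h
    hu (fin_scal kl hx.big pu hc)) (mem_centralizer_singleton_iff.2 ha) (mem_centralizer_singleton_iff.2 hb) pa pb

theorem fin_mem (P : Sylow p G) {u y : G} (hu : u ∈ (P : Subgroup G)) (u1 : u ≠ 1) (hy : Commute y u) (py : PEl p y) :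
    y ∈ (P : Subgroup G) := by
  have h : y ∈ centralizer ((P : Subgroup G) : Set G) := fun a ha =>
    fin_a m hS h5 kl (pel_of_mem P.isPGroup' hu) u1
      (comm_of_pgroup (isCharacter_character ρ) (fin_ker m) (fin_deg m) P.isPGroup' a ha u hu) hy
      (pel_of_mem P.isPGroup' ha) py
  exact ((py.isPGroup.inf_normalizer_sylow P).le ⟨mem_zpowers y, centralizer_le_normalizer _ h⟩).2

theorem fin_b {n : G} (hn : n ∉ center G) : ¬ p ∣ (pCore p (centralizer ({n} : Set G))).index := fun h => by
  obtain ⟨x, hx, c, hc⟩ := fin_good m hS h5 hn h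
  have big : p ≤ 2 * finrank ℂ (LinearMap.range (ρ x - 1)) + 1 := hx.big
  have x1 : (x : G) ≠ 1 := fun e => by
    rw [e, map_one, sub_self, LinearMap.range_zero, finrank_bot] at big
    omega
  have px : PEl p (x : G) := pel_coe.2 ⟨1, by rw [pow_one, hx.pow]⟩
  have nx : Commute n x := (mem_centralizer_singleton_iff.1 x.2).symm
  obtain ⟨P, hP⟩ := px.exists_sylow
  have h1 : (P : Subgroup G) ≤ centralizer {n} := fun y hy => by
    have py := pel_of_mem P.isPGroup' hy
    have yx : Commute y x := comm_of_pgroup (isCharacter_character ρ) (fin_ker m) (fin_deg m) P.isPGroup' y hy x hP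
    have := fin_scal kl big ((py.conj n).mul py.inv (fin_a m hS h5 kl px x1 ((nx.mul_left yx).mul_left nx.inv_left)
      yx.inv_left (py.conj n) py.inv)) (c := 1) fun v hv => by
        have h2 := fin_pres nx.inv_left (fin_pres yx.inv_left hv)
        simp only [map_mul, End.mul_apply]
        rw [hc _ (fin_pres yx h2), ← map_smul, ← hc _ h2, Representation.self_inv_apply, Representation.self_inv_apply,
          one_smul]
    rw [mul_inv_eq_one, mul_inv_eq_iff_eq_mul] at this
    exact mem_centralizer_singleton_iff.2 this.symm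
  have h2 : pCore p (centralizer ({n} : Set G)) = ⊥ := (eq_bot_iff_forall _).2 fun q hq => by
    obtain ⟨c, hc⟩ := hx.scalar (ρ q) fun y hy => (commute_pCore ((isCharacter_character ρ).restrict _)
      (charKer_restrict_eq_bot (isCharacter_character ρ) (fin_ker m) _) (fin_deg m) hq hy).map
        (ρ.comp (centralizer ({n} : Set G)).subtype)
    exact Subtype.ext (fin_scal kl big (pel_coe.2 (pel_of_mem (Grp.pCore_isPGroup p _) hq)) hc)
  refine m.sub _ (fun e => hn (centralizer_eq_top_iff_subset.1 e (Set.mem_singleton n))) ?_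
  rw [h2, index_bot]
  exact (P.pow_dvd_card_of_pow_dvd_card m.sq).trans (card_dvd_of_le h1)

end

theorem fin (hS : ST.{u}) : FIN.{u} := fun p hp G _ _ V _ _ _ ρ h5 m kl => by
  classical
  have := Fintype.ofFinite G
  obtain ⟨P⟩ : Nonempty (Sylow p G) := inferInstance
  have hab := comm_of_pgroup (isCharacter_character ρ) (fin_ker m) (fin_deg m) P.isPGroup'
  have hZ : (P : Subgroup G) ⊓ center G = ⊥ :=
    (eq_bot_iff_forall _).2 fun z hz => fin_cen m (pel_of_mem P.isPGroup' hz.1) hz.2
  have h1 := Nat.le_of_dvd Nat.card_pos (P.pow_dvd_card_of_pow_dvd_card m.sq)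
  have h2 := brauer_TI_card_lt (P : Subgroup G) hab hZ (fun g hg a ⟨h, hh, h1, hc⟩ ⟨k, hk, k1, kc⟩ => ?_) m.irr
    (fun e => ?_) fun M hM hP => m.gen M fun g hg => ?_
  · rw [m.irr.isCharacter.re_one] at h2
    have h3 : Nat.card P < (1 + charDegree ρ.character) ^ 2 := by exact_mod_cast h2
    have h4 := m.dim
    rw [charDegree_character] at h3
    have := Nat.pow_le_pow_left (show 1 + finrank ℂ V ≤ p by omega) 2
    omega
  · have pk := (pel_of_mem P.isPGroup' hk).conj a
    have h3 := fin_mem m hS h5 kl P hh h1 (fin_comm m (fin_b m hS h5 kl hg) (mem_centralizer_singleton_iff.2 kc)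
      (mem_centralizer_singleton_iff.2 hc) pk (pel_of_mem P.isPGroup' hh)) pk
    refine mem_normalizer_fintype fun y hy => fin_mem m hS h5 kl P h3 (by rwa [Ne, conj_eq_one_iff]) ?_
      ((pel_of_mem P.isPGroup' hy).conj a)
    exact (show Commute y k from hab y hy k hk).map (MulAut.conj a)
  · have h3 := m.irr.one_eq_one_iff.1 e
    rw [fin_ker m, le_bot_iff, commutator_eq_bot_iff_center_eq_top] at h3
    rw [h3, inf_top_eq] at hZ
    rw [hZ, card_bot] at h1
    nlinarith
  · obtain ⟨Q, hQ⟩ := hg.exists_sylow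
    obtain ⟨a, rfl⟩ := MulAction.exists_smul_eq G P Q
    simpa [mul_assoc] using hM.conj_mem _ (hP ((Grp.mem_conj_smul_iff a g _).1 hQ)) a

end CL.LG
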