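/-
Linear groups of degree at most `p - 2`: `p`-elements with a large eigenspace in a minimal counterexample.
-/
import Cfsg.Agent.Char.LgDefs

set_option autoImplicit false

namespace CL.LG

open Cfsg CL.Char Module Subgroup

universe u

section Lin

variable {V : Type} [AddCommGroup V] [Module ℂ V] [FiniteDimensional ℂ V]

theorem kl_rank (f : End ℂ V) {U W K : Submodule ℂ V} (h1 : ∀ v ∈ U, f v ∈ W) (h2 : ∀ v ∈ U, f v = 0 → v ∈ K) :
    finrank ℂ U ≤ finrank ℂ W + finrank ℂ K := by
  rw [← LinearMap.finrank_range_add_finrank_ker (f.domRestrict U),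
    ← Submodule.finrank_map_subtype_eq U (LinearMap.ker _)]
  refine add_le_add (Submodule.finrank_mono ?_) (Submodule.finrank_mono ?_)
  · rintro _ ⟨v, rfl⟩; exact h1 v v.2
  · rintro _ ⟨v, hv, rfl⟩; exact h2 v v.2 hv

theorem kl_lin {p : ℕ} (h5 : 5 ≤ p) {X Q : End ℂ V} (hc : Commute X Q) (hX : X ^ p = 1) (hQ : Function.Injective Q)
    (hs : ∀ c : ℂ, c ≠ 1 → finrank ℂ (End.eigenspace X c) ≤ 1)
    (hb : p ≤ 2 * finrank ℂ (LinearMap.range (X - 1)) + 1) {c c' : ℂ}
    (hc' : ∀ v ∈ LinearMap.range (X - 1), Q v = c' • v) (hd : finrank ℂ V + 2 ≤ p)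
    (hU : p ≤ 2 * finrank ℂ (End.eigenspace (X * Q) c) + 1) :
    (∀ a b : ℂ, (X * Q - a • 1) * (X * Q - b • 1) = 0 → p = 5) ∧ finrank ℂ V + 2 = p ∧ Q ≠ 1 ∧
      (Q - c' • 1) * (Q - c • 1) = 0 ∧ p ≤ 2 * finrank ℂ (End.eigenspace Q c') + 1 := by
  set R := LinearMap.range (X - 1) with hR
  set F := LinearMap.ker (X - 1) with hF
  set U := End.eigenspace (X * Q) c with hU'
  have mF : ∀ v, v ∈ F ↔ X v = v := fun v => by simp [hF, sub_eq_zero]
  have hRF : R ⊓ F = ⊥ := by
    refine eq_bot_iff.2 fun v ⟨⟨w, hw⟩, hv⟩ => ?_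
    have h1 : ∀ i : ℕ, (X ^ i) v = v := fun i => by
      induction i with
      | zero => rfl
      | succ i ih => rw [pow_succ, End.mul_apply, (mF v).1 hv, ih]
    have h2 := congrArg (fun T : End ℂ V => T w) (geom_sum_mul X p)
    simp only [End.mul_apply, hw, hX, sub_self, LinearMap.zero_apply, LinearMap.sum_apply, h1, Finset.sum_const,
      Finset.card_range] at h2
    rw [← Nat.cast_smul_eq_nsmul ℂ] at h2
    exact (smul_eq_zero.1 h2).resolve_left (Nat.cast_ne_zero.2 (by omega))
  have hdim : finrank ℂ R + finrank ℂ F = finrank ℂ V := LinearMap.finrank_range_add_finrank_ker _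
  obtain ⟨r, hr, hr0⟩ : ∃ r ∈ R, r ≠ 0 := (Submodule.ne_bot_iff R).1 fun e => by
    rw [e, finrank_bot] at hb; omega
  have c0 : c' ≠ 0 := fun e => hr0 (hQ (by rw [hc' r hr, e, zero_smul, map_zero]))
  have key : ∀ a : ℂ, finrank ℂ (R ⊓ End.eigenspace (X * Q) a : Submodule ℂ V) ≤ 1 := fun a => by
    have h1 : R ⊓ End.eigenspace (X * Q) a ≤ End.eigenspace X (a / c') := fun v ⟨h1, h2⟩ => by
      replace h2 := End.mem_eigenspace_iff.1 h2
      rw [End.mul_apply, hc' v h1, map_smul] at h2
      rw [End.mem_eigenspace_iff, div_eq_inv_mul, mul_smul, ← h2, inv_smul_smul₀ c0]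
    by_cases e : a / c' = 1
    · have : R ⊓ End.eigenspace (X * Q) a = ⊥ := eq_bot_iff.2 fun v hv =>
        hRF.le ⟨hv.1, (mF v).2 (by simpa [e] using End.mem_eigenspace_iff.1 (h1 hv))⟩
      rw [this, finrank_bot]; omega
    · exact (Submodule.finrank_mono h1).trans (hs _ e)
  have hcA : Commute (X - 1) (X * Q) := ((Commute.refl X).mul_right hc).sub_left (Commute.one_left _)
  have hcA' : ∀ v, (X - 1) ((X * Q) v) = (X * Q) ((X - 1) v) := fun v => congrArg (fun T : End ℂ V => T v) hcA.eq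
  have h1 := kl_rank (X - 1) (U := U) (W := R ⊓ U) (K := U ⊓ F) (fun v hv => ⟨⟨v, rfl⟩, End.mem_eigenspace_iff.2 (by
    rw [← hcA', End.mem_eigenspace_iff.1 hv, map_smul])⟩) fun v hv h => ⟨hv, h⟩
  have h2 := key c
  have h3 : finrank ℂ (U ⊓ F : Submodule ℂ V) ≤ finrank ℂ F := Submodule.finrank_mono inf_le_right
  rw [← hU'] at h2
  have hFU : F ≤ U := by
    rw [← inf_eq_right]
    exact Submodule.eq_of_le_of_finrank_eq inf_le_right (by omega)
  have hQF : ∀ v ∈ F, Q v = c • v := fun v hv => by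
    rw [← End.mem_eigenspace_iff.1 (hFU hv), hc.eq, End.mul_apply, (mF v).1 hv]
  refine ⟨fun a b hab => ?_, by omega, fun e => ?_, ?_, hb.trans ?_⟩
  · have := kl_rank (X * Q - b • 1) (U := R) (W := R ⊓ End.eigenspace (X * Q) a) (K := R ⊓ End.eigenspace (X * Q) b)
      (fun v hv => ⟨?_, End.mem_eigenspace_iff.2 ?_⟩) fun v hv h => ⟨hv, End.mem_eigenspace_iff.2 ?_⟩
    · have := key a
      have := key b
      omega
    · obtain ⟨w, rfl⟩ := hv
      exact R.sub_mem ⟨_, hcA' w⟩ (R.smul_mem b ⟨w, rfl⟩)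
    · have := congrArg (fun T : End ℂ V => T v) hab
      rw [End.mul_apply, LinearMap.sub_apply, LinearMap.zero_apply, sub_eq_zero] at this
      exact this
    · exact sub_eq_zero.1 h
  · obtain ⟨f, hf, hf0⟩ : ∃ f ∈ F, f ≠ 0 := (Submodule.ne_bot_iff F).1 fun e => by
      have : finrank ℂ F = 0 := by rw [e, finrank_bot]
      omega
    have c1 : c = 1 := smul_left_injective ℂ hf0 (by simp only [← hQF f hf, e, one_smul]; rfl)
    have : U ≤ F := fun v hv => (mF v).2 (by simpa [e, c1] using End.mem_eigenspace_iff.1 hv)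
    have := Submodule.finrank_mono this
    omega
  · have ht : R ⊔ F = ⊤ := Submodule.eq_top_of_finrank_eq (by
      rw [← hdim, ← Submodule.finrank_sup_add_finrank_inf_eq, hRF, finrank_bot, add_zero])
    ext v
    obtain ⟨r, hr, f, hf, rfl⟩ := Submodule.mem_sup.1 (ht.ge Submodule.mem_top : v ∈ R ⊔ F)
    simp only [End.mul_apply, LinearMap.sub_apply, LinearMap.smul_apply, End.one_apply, map_add, hc' r hr, hQF f hf,
      sub_self, map_zero, add_zero, map_sub, map_smul, smul_zero, LinearMap.zero_apply]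
  · have : R ≤ End.eigenspace Q c' := fun v hv => End.mem_eigenspace_iff.2 (hc' v hv)
    have := Submodule.finrank_mono this
    omega

end Lin

theorem kl_conj {p : ℕ} {G : Type*} [Group G] (h : pCore p G = ⊥) {g : G} (hg : PEl p g) (h1 : g ≠ 1) :
    ∃ a : G, ¬ Commute g (a * g * a⁻¹) := by
  by_contra! H
  have c1 : normalClosure {g} ≤ centralizer {g} := (closure_le _).2 fun y hy => by
    obtain ⟨_, rfl, e⟩ := Group.mem_conjugatesOfSet_iff.1 hy
    obtain ⟨a, rfl⟩ := isConj_iff.1 e
    exact mem_centralizer_singleton_iff.2 (H a).symm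
  have c2 : normalClosure {g} ≤ centralizer (normalClosure ({g} : Set G)) :=
    normalClosure_le_normal (Set.singleton_subset_iff.2 fun y hy => mem_centralizer_singleton_iff.1 (c1 hy))
  have c3 : ∀ y ∈ normalClosure {g}, PEl p y := fun y hy => by
    induction hy using closure_induction with
    | mem y hy =>
      obtain ⟨_, rfl, e⟩ := Group.mem_conjugatesOfSet_iff.1 hy
      obtain ⟨a, rfl⟩ := isConj_iff.1 e
      exact hg.conj a
    | one => exact ⟨0, one_pow _⟩
    | mul a b ha hb iha ihb => exact iha.mul ihb (c2 hb a ha)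
    | inv a _ ih => exact ih.inv
  have := Grp.le_pCore (p := p) (N := normalClosure {g}) fun y => pel_coe.1 (c3 y y.2)
  exact h1 (mem_bot.1 (h ▸ this (subset_normalClosure rfl)))

theorem kl1 (hS : ST.{u}) : KL1.{u} := by
  intro p hp G _ _ V _ _ _ ρ h5 hM g hg h1 c hU
  obtain ⟨a, ha⟩ := kl_conj hM.core hg h1
  have hd := hM.dim
  have hρ : ∀ y, Function.Injective (ρ y) := fun y =>
    Function.LeftInverse.injective (g := ρ y⁻¹) fun v => by rw [← End.mul_apply, ← map_mul, inv_mul_cancel, map_one]; rfl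
  set g' := a * g * a⁻¹ with hg'
  have hU' : finrank ℂ (End.eigenspace (ρ g) c) ≤ finrank ℂ (End.eigenspace (ρ g') c) := by
    have := kl_rank (ρ a) (U := End.eigenspace (ρ g) c) (W := End.eigenspace (ρ g') c) (K := ⊥) (fun v hv => by
      rw [End.mem_eigenspace_iff, ← End.mul_apply, ← map_mul, hg', inv_mul_cancel_right, map_mul, End.mul_apply,
        End.mem_eigenspace_iff.1 hv, map_smul]) fun v _ h => hρ a (by rw [h, map_zero])
    simpa using this
  obtain ⟨v, ⟨hv, hv'⟩, hv0⟩ : ∃ v ∈ End.eigenspace (ρ g) c ⊓ End.eigenspace (ρ g') c, v ≠ 0 :=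
    (Submodule.ne_bot_iff _).1 fun e => by
      have := Submodule.finrank_sup_add_finrank_inf_eq (End.eigenspace (ρ g) c) (End.eigenspace (ρ g') c)
      have := Submodule.finrank_le (End.eigenspace (ρ g) c ⊔ End.eigenspace (ρ g') c)
      rw [e, finrank_bot] at *
      omega
  let X := closure {g, g'}
  have hX : X ≠ ⊤ := fun e => by
    have hi := isIrreducible_of_isIrrCharacter_character ρ hM.irr
    have s1 : ∀ y : G, (∀ w ∈ Submodule.span ℂ {v}, ρ y w ∈ Submodule.span ℂ {v}) ↔ ρ y v ∈ Submodule.span ℂ {v} :=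
      fun y => ⟨fun h => h v (Submodule.mem_span_singleton_self v), fun h w hw => by
        obtain ⟨t, rfl⟩ := Submodule.mem_span_singleton.1 hw
        rw [map_smul]; exact Submodule.smul_mem _ _ h⟩
    have s2 : ∀ y : G, ρ y v ∈ Submodule.span ℂ {v} := fun y => by
      have hy : y ∈ Submonoid.closure {g, g'} := by
        rw [← closure_toSubmonoid_of_finite]; exact e.ge (mem_top y)
      induction hy using Submonoid.closure_induction with
      | mem y hy =>
        rcases hy with rfl | rfl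
        · rw [End.mem_eigenspace_iff.1 hv]; exact Submodule.smul_mem _ _ (Submodule.mem_span_singleton_self v)
        · rw [End.mem_eigenspace_iff.1 hv']; exact Submodule.smul_mem _ _ (Submodule.mem_span_singleton_self v)
      | one => rw [map_one]; exact Submodule.mem_span_singleton_self v
      | mul a b _ _ ha hb => rw [map_mul]; exact (s1 a).2 ha _ hb
    let W : Subrepresentation ρ := ⟨Submodule.span ℂ {v}, fun y w hw => (s1 y).2 (s2 y) w hw⟩
    rcases eq_bot_or_eq_top W with e | e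
    · exact hv0 (Submodule.span_singleton_eq_bot.1 (congrArg Subrepresentation.toSubmodule e))
    · have e' : Submodule.span ℂ {v} = ⊤ := congrArg Subrepresentation.toSubmodule e
      refine ha ((hM.inj (LinearMap.ext fun w => ?_) : g = g') ▸ Commute.refl g)
      obtain ⟨t, rfl⟩ := Submodule.mem_span_singleton.1 (e'.ge Submodule.mem_top : w ∈ _)
      rw [map_smul, map_smul, End.mem_eigenspace_iff.1 hv, End.mem_eigenspace_iff.1 hv']
  let τ : Representation ℂ X V := ρ.comp X.subtype
  have hτ : Function.Injective τ := hM.inj.comp X.subtype_injective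
  have k1 := isCharacter_character τ
  have k2 : charKer τ.character = ⊥ := by rw [charKer_character, MonoidHom.ker_eq_bot_iff]; exact hτ
  have k3 : charDegree τ.character < p := by rw [charDegree_character]; omega
  let y : X := ⟨g, subset_closure (.inl rfl)⟩
  let y' : X := ⟨g', subset_closure (.inr rfl)⟩
  have hy : PEl p y := pel_coe.1 hg
  have hy' : PEl p y' := pel_coe.1 (hg.conj a)
  obtain ⟨x, hq, hx⟩ := hS p X V τ h5 hτ hd (hM.sub X hX) y hy fun h =>
    ha ((commute_pCore k1 k2 k3 h hy').map X.subtype)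
  have hc : ∀ z, PEl p z → Commute (x⁻¹ * y) z := fun z => commute_pCore k1 k2 k3 hq
  obtain ⟨c', hc'⟩ := hx.scalar (τ (x⁻¹ * y)) fun z hz => (hc z hz).map τ
  have e : τ x * τ (x⁻¹ * y) = ρ g := by rw [← map_mul, mul_inv_cancel_left]; rfl
  have := kl_lin h5 ((hc x ⟨1, by rw [pow_one, hx.pow]⟩).map τ).symm (by rw [← map_pow, hx.pow, map_one]) (hρ _)
    hx.simple hx.big hc' hd (c := c) (by rwa [e])
  rw [e] at this
  obtain ⟨t1, t2, t3, t4, t5⟩ := this
  refine ⟨t1, t2, (x⁻¹ * y : X), c', c, pel_coe.2 (pel_of_mem (Grp.pCore_isPGroup p X) hq),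
    fun h => t3 (show ρ _ = 1 by rw [show X.subtype (x⁻¹ * y) = 1 from h, map_one]), t4, t5, ?_⟩
  by_contra hn
  set C := centralizer ({((x⁻¹ * y : X) : G)} : Set G)
  have m1 : g ∈ C := mem_centralizer_singleton_iff.2 ((hc y hy).map X.subtype).symm
  have m2 : g' ∈ C := mem_centralizer_singleton_iff.2 ((hc y' hy').map X.subtype).symm
  let υ : Representation ℂ C V := ρ.comp C.subtype
  have l2 : charKer υ.character = ⊥ := by
    rw [charKer_character, MonoidHom.ker_eq_bot_iff]; exact hM.inj.comp C.subtype_injective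
  exact ha ((commute_pCore (isCharacter_character υ) l2 (by rw [charDegree_character]; omega)
    ((pel_coe.1 hg : PEl p (⟨g, m1⟩ : C)).mem_pCore hn) (pel_coe.1 (hg.conj a) : PEl p (⟨g', m2⟩ : C))).map C.subtype)

end CL.LG
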