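/-
Linear groups of degree `d ≤ p - 2`: no homology of order `5` in degree `3`.
-/
import Cfsg.Agent.Char.LgDefs
import Cfsg.Agent.Char.Jordan
import Cfsg.Agent.Loc.PSolv
import Cfsg.Agent.Odd.FT

set_option autoImplicit false

namespace CL.LG

open Cfsg CL.Char Module Subgroup ComplexConjugate
open scoped commutatorElement

universe u

section

variable {G : Type*} [Group G] [Finite G] {V : Type} [AddCommGroup V] [Module ℂ V] [FiniteDimensional ℂ V]
  {ρ : Representation ℂ G V}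

theorem kl5_mid {α β : ℂ} (ha : ‖α‖ = 1) (hb : ‖β‖ = 1) (h : 1 / 2 < (α * conj β).re) :
    √3 / 2 < (α * conj ((α + β) / ‖α + β‖)).re ∧ 0 < ‖α + β‖ := by
  have h1 : α.re * α.re + α.im * α.im = 1 := by rw [← Complex.normSq_apply, ← Complex.sq_norm, ha, one_pow]
  have h2 : β.re * β.re + β.im * β.im = 1 := by rw [← Complex.normSq_apply, ← Complex.sq_norm, hb, one_pow]
  have h3 : (α * conj β).re = α.re * β.re + α.im * β.im := by simp
  have h4 : ‖α + β‖ ^ 2 = 2 + 2 * (α * conj β).re := by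
    rw [Complex.sq_norm, Complex.normSq_apply, h3, Complex.add_re, Complex.add_im]; linarith
  have h5 : √3 < ‖α + β‖ := by
    rw [Real.sqrt_lt' (by by_contra! h6; nlinarith [norm_nonneg (α + β)]), h4]; linarith
  have h6 : 0 < ‖α + β‖ := lt_of_le_of_lt (Real.sqrt_nonneg _) h5
  refine ⟨?_, h6⟩
  rw [map_div₀, Complex.conj_ofReal, ← mul_div_assoc, Complex.div_ofReal_re, lt_div_iff₀ h6, map_add, mul_add,
    Complex.add_re, Complex.mul_conj, Complex.ofReal_re, Complex.normSq_apply, h1]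
  nlinarith

/-- An element with two eigenvalues at an angle less than `π / 3` commutes with its conjugates. -/
theorem kl5_arc (hinj : Function.Injective ρ) {u : G} {α β : ℂ} (ha : ‖α‖ = 1) (hb : ‖β‖ = 1)
    (h : 1 / 2 < (α * conj β).re) (hu : ∀ x, (ρ u - α • 1) ((ρ u - β • 1) x) = 0) (g : G) :
    Commute u (g * u * g⁻¹) := by
  obtain ⟨σ1, ⟨φ1⟩⟩ := exists_equiv_fin ρ
  obtain ⟨σ, hU, ⟨φ2⟩⟩ := exists_equiv_unitary σ1
  have φ := φ1.trans φ2
  have hi : Function.Injective σ := by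
    rwa [injective_iff_charKer_eq_bot, ← Representation.char_iso φ, ← injective_iff_charKer_eq_bot]
  obtain ⟨h1, h0⟩ := kl5_mid ha hb h
  obtain ⟨h2, -⟩ := kl5_mid hb ha (by rwa [← Complex.conj_re, map_mul, Complex.conj_conj, mul_comm])
  rw [add_comm β] at h2
  have hc : ‖(α + β) / ‖α + β‖‖ = 1 := by
    rw [norm_div, Complex.norm_real, norm_norm, div_self h0.ne']
  have hs : ShortArc σ ((α + β) / ‖α + β‖) u := fun μ y hy e => by
    obtain ⟨x, rfl⟩ := φ.toLinearEquiv.surjective y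
    have e1 : ρ u x = μ • x := φ.toLinearEquiv.injective (by
      rw [map_smul, ← e]; exact LinearMap.congr_fun (φ.isIntertwining' u) x)
    have e2 := hu x
    simp only [LinearMap.sub_apply, LinearMap.smul_apply, Module.End.one_apply, e1, ← sub_smul, map_smul,
      smul_smul, smul_eq_zero, mul_eq_zero, sub_eq_zero] at e2
    rcases e2 with (e2 | e2) | e2
    · rwa [e2]
    · rwa [e2]
    · exact absurd (by rw [e2, map_zero]) hy
  exact ShortArc.commute_shortArc hU hi hc hc hs (hs.conj g)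

theorem kl5_re {ζ : ℂ} (h5 : ζ ^ 5 = 1) (h1 : ζ ≠ 1) : ζ.re < -1 / 2 ∨ (ζ ^ 3).re < -1 / 2 := by
  have hn : ‖ζ‖ = 1 := Complex.norm_eq_one_of_pow_eq_one h5 (by norm_num)
  have h0 : ζ ≠ 0 := fun e => by simp [e] at hn
  have hc : ζ * conj ζ = 1 := by rw [Complex.mul_conj, ← Complex.sq_norm, hn]; simp
  have h4 : ζ ^ 4 = conj ζ := mul_left_cancel₀ h0 (by rw [hc, ← h5]; ring)
  have h3 : ζ ^ 3 = conj (ζ ^ 2) := by rw [map_pow, ← h4]; linear_combination (-ζ ^ 3) * h5
  have hs : ζ ^ 4 + ζ ^ 3 + ζ ^ 2 + ζ + 1 = 0 :=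
    mul_left_cancel₀ (sub_ne_zero.2 h1) (by linear_combination h5)
  have h2 : ζ.re * ζ.re + ζ.im * ζ.im = 1 := by rw [← Complex.normSq_apply, ← Complex.sq_norm, hn, one_pow]
  have h6 : (ζ ^ 2).re = ζ.re * ζ.re - ζ.im * ζ.im := by rw [pow_two, Complex.mul_re]
  have h7 := congrArg Complex.re hs
  rw [h4, h3] at h7
  simp only [Complex.add_re, Complex.conj_re, Complex.one_re, Complex.zero_re] at h7
  rw [h3, Complex.conj_re]
  by_contra! h8
  nlinarith [h8.1, h8.2]

omit [Finite G] in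
theorem kl5_pel {p : ℕ} (hO : pCore p G = ⊥) {y : G} (hy : PEl p y) (h : ∀ g, Commute y (g * y * g⁻¹)) : y = 1 := by
  have hx : ∀ {a}, a ∈ Group.conjugatesOfSet {y} → ∃ c, c * y * c⁻¹ = a := fun ha => by
    obtain ⟨w, hw, h1⟩ := Group.mem_conjugatesOfSet_iff.1 ha
    exact isConj_iff.1 ((show w = y from hw) ▸ h1)
  have hc : ∀ a ∈ Group.conjugatesOfSet {y}, ∀ b ∈ Group.conjugatesOfSet {y}, a * b = b * a := fun a ha b hb => by
    obtain ⟨c, rfl⟩ := hx ha
    obtain ⟨d, rfl⟩ := hx hb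
    have := (h (c⁻¹ * d)).conj c
    simpa [mul_assoc] using this.eq
  have hm := Subgroup.isMulCommutative_closure hc
  have hp : ∀ x ∈ normalClosure {y}, PEl p x := fun x h1 => by
    induction h1 using closure_induction with
    | mem x h1 =>
      obtain ⟨c, rfl⟩ := hx h1
      exact hy.conj c
    | one => exact ⟨0, one_pow _⟩
    | mul a b ha hb h1 h2 => exact h1.mul h2 (congrArg Subtype.val (hm.is_comm.comm ⟨a, ha⟩ ⟨b, hb⟩))
    | inv a _ h1 => exact h1.inv
  exact mem_bot.1 (hO ▸ Grp.le_pCore (N := normalClosure {y}) (fun x => pel_coe.1 (hp x x.2))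
    (subset_normalClosure rfl))

/-- The fixed space of an involution of determinant one in dimension three. -/
theorem kl5_fix {f : End ℂ V} (h3 : finrank ℂ V = 3) (h2 : f ^ 2 = 1) (hd : LinearMap.det f = 1) (h1 : f ≠ 1) :
    ∃ e : V, ∀ y, f y = y → ∃ c : ℂ, y = c • e := by
  obtain ⟨b, μ, hb, hμ⟩ : ∃ (b : Basis (Fin 3) ℂ V) (μ : Fin 3 → ℂ), (∀ i, f (b i) = μ i • b i) ∧ ∀ i, μ i ^ 2 = 1 :=
    h3 ▸ exists_eigenbasis_of_pow_eq_one f two_ne_zero h2
  have hmat : LinearMap.toMatrix b b f = Matrix.diagonal μ := by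
    ext i j
    rw [LinearMap.toMatrix_apply, hb, map_smul, Module.Basis.repr_self, Matrix.diagonal_apply]
    by_cases hij : i = j
    · subst hij; simp
    · simp [hij]
  rw [← LinearMap.det_toMatrix b, hmat, Matrix.det_diagonal, Fin.prod_univ_three] at hd
  have h4 : ¬ ∀ i, μ i = 1 := fun e => h1 (b.ext fun i => by rw [hb, e, one_smul]; rfl)
  obtain ⟨j, hj⟩ : ∃ j, ∀ i, i ≠ j → μ i = -1 := by
    simp only [Fin.forall_fin_succ, Fin.exists_fin_succ, IsEmpty.forall_iff] at h4 ⊢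
    rcases sq_eq_one_iff.1 (hμ 0) with e0 | e0 <;> rcases sq_eq_one_iff.1 (hμ 1) with e1 | e1 <;>
      rcases sq_eq_one_iff.1 (hμ 2) with e2 | e2 <;> simp_all <;> norm_num at hd
  refine ⟨b j, fun y hy => ⟨b.repr y j, b.repr.injective (Finsupp.ext fun i => ?_)⟩⟩
  have h5 : b.repr (f y) i = μ i * b.repr y i := by
    rw [← LinearMap.toMatrix_mulVec_repr b b f y |> congrFun <| i, hmat, Matrix.mulVec_diagonal]
  by_cases e : i = j
  · simp [e]
  · rw [hy, hj i e] at h5
    rw [show b.repr y i = 0 by linear_combination h5 / 2]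
    simp [e]

end

theorem kl5 (hK : KL1.{u}) : KL5.{u} := fun G _ _ V _ _ _ ρ hM g hg c hc => by
  by_contra hg1
  obtain ⟨-, hd, q, a, b, hq, hq1, hab, hR, hC⟩ := hK 5 G V ρ le_rfl hM g hg hg1 c hc
  have h3 : finrank ℂ V = 3 := by omega
  have hsc : ∀ y, PEl 5 y → ∀ t : ℂ, ρ y = t • 1 → y = 1 := fun y hy t e => kl5_pel hM.core hy fun g => by
    have : g * y = y * g := hM.inj (by rw [map_mul, map_mul, e, smul_mul_assoc, mul_smul_comm, one_mul, mul_one])
    rw [this, mul_inv_cancel_right]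
  have hne : a ≠ b := fun e => by
    obtain ⟨B, μ, hB, -⟩ := exists_eigenbasis ρ q
    refine hq1 (hsc q hq a (B.ext fun i => ?_))
    have h1 := LinearMap.congr_fun hab (B i)
    simp only [← e, Module.End.mul_apply, LinearMap.sub_apply, LinearMap.smul_apply, Module.End.one_apply, hB,
      ← sub_smul, map_smul, smul_smul, LinearMap.zero_apply, smul_eq_zero, mul_self_eq_zero, sub_eq_zero,
      B.ne_zero, or_false] at h1
    rw [hB, h1]; rfl
  have hba : (ρ q - b • 1) * (ρ q - a • 1) = 0 := by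
    rw [← hab]; simp only [sub_mul, mul_sub, smul_mul_assoc, mul_smul_comm, one_mul, mul_one, smul_sub, smul_smul,
      mul_comm a b]; abel
  obtain ⟨x0, hx0⟩ : ∃ x, (ρ q - a • 1) x ≠ 0 := by
    by_contra! h1
    exact hq1 (hsc q hq a (sub_eq_zero.1 (LinearMap.ext h1)))
  set f := (ρ q - a • 1) x0 with hf
  have hF : ∀ x, ∃ t : ℂ, (ρ q - a • 1) x = t • f := fun x => by
    have h1 := LinearMap.finrank_range_add_finrank_ker (ρ q - a • 1)
    rw [← Module.End.eigenspace_def] at h1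
    have h2 : (⟨f, x0, rfl⟩ : LinearMap.range (ρ q - a • 1)) ≠ 0 := fun e => hx0 (congrArg Subtype.val e)
    have h4 : 0 < finrank ℂ (LinearMap.range (ρ q - a • 1)) := Module.finrank_pos_iff_exists_ne_zero.2 ⟨_, h2⟩
    have h5 : finrank ℂ (LinearMap.range (ρ q - a • 1)) = 1 := by omega
    obtain ⟨t, ht⟩ := (finrank_eq_one_iff_of_nonzero' _ h2).1 h5 ⟨_, x, rfl⟩
    exact ⟨t, (congrArg Subtype.val ht).symm⟩
  have hqf : ρ q f = b • f := sub_eq_zero.1 (LinearMap.congr_fun hba x0)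
  have hdec : ∀ x, ∃ r, ρ q r = a • r ∧ ∃ t : ℂ, x = r + t • f := fun x => by
    obtain ⟨t, ht⟩ := hF x
    refine ⟨(a - b)⁻¹ • (ρ q - b • 1) x, ?_, -((a - b)⁻¹ * t), ?_⟩
    · rw [map_smul, smul_comm, sub_eq_zero.1 (LinearMap.congr_fun hab x)]; rfl
    · rw [neg_smul, mul_smul, ← ht, ← smul_neg, ← smul_add]
      simp only [LinearMap.sub_apply, LinearMap.smul_apply, Module.End.one_apply]
      rw [show ρ q x - b • x + -(ρ q x - a • x) = (a - b) • x by module, smul_smul,
        inv_mul_cancel₀ (sub_ne_zero.2 hne), one_smul]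
  -- the involution `z`
  set C := centralizer ({q} : Set G)
  have hcq : ∀ c : C, ∀ x, ρ c (ρ q x) = ρ q (ρ c x) := fun c x => by
    rw [← Module.End.mul_apply, ← map_mul, mem_centralizer_singleton_iff.1 c.2, map_mul]; rfl
  have hχ := isCharacter_character ρ
  have hker := (injective_iff_charKer_eq_bot ρ).1 hM.inj
  obtain ⟨z', hz'⟩ : ∃ z : commutator C, orderOf z = 2 := by
    refine exists_prime_orderOf_dvd_card' 2 (by_contra fun h2 => ?_)
    have h1 := CL.Odd.feit_thompson (Nat.odd_iff.2 (Nat.two_dvd_ne_zero.1 h2))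
    have : IsMulCommutative (C ⧸ commutator C) := Normal.quotient_commutative_iff_commutator_le.2 le_rfl
    exact not_dvd_of_solv (hχ.restrict C) (charKer_restrict_eq_bot hχ hker C)
      (show charDegree ρ.character + 2 ≤ 5 by rw [charDegree_character]; omega)
      (CL.Loc.isPSolvable_of_normal _ (CL.Loc.isPSolvable_of_isSolvable h1) CL.Loc.isPSolvable_of_isMulCommutative) hC
  set z : G := z'.1.1 with hz
  have hz2 : orderOf z = 2 := by rw [hz, orderOf_coe, orderOf_coe, hz']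
  have hzz : z ^ 2 = 1 := by rw [← hz2, pow_orderOf_eq_one]
  have hzf : ρ z f = f := by
    have hl : ∀ c : C, ∃ l : ℂ, ρ c f = l • f := fun c => by
      obtain ⟨t, ht⟩ := hF (ρ c x0)
      refine ⟨t, ht ▸ ?_⟩
      simp only [hf, LinearMap.sub_apply, LinearMap.smul_apply, Module.End.one_apply, map_sub, map_smul, hcq]
    choose l hl using hl
    let φ : C →* ℂ := ⟨⟨l, smul_left_injective ℂ hx0 (by simp [← hl])⟩, fun c d => smul_left_injective ℂ hx0 (by
      simp only
      rw [← hl, coe_mul, map_mul, Module.End.mul_apply, hl d, map_smul, hl c, smul_smul, mul_comm])⟩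
    have h1 : l z'.1 = 1 := congrArg Units.val (Abelianization.commutator_subset_ker φ.toHomUnits z'.2)
    rw [hz, hl, h1, one_smul]
  obtain ⟨e, he⟩ := kl5_fix (f := ρ z) h3 (by rw [← map_pow, hzz, map_one])
    (congrArg Units.val (Abelianization.commutator_subset_ker ((detHom ρ).comp C.subtype) z'.2)) fun e1 => by
      rw [hM.inj (e1.trans (map_one ρ).symm), orderOf_one] at hz2; omega
  have hzr : ∀ r, ρ q r = a • r → ρ z r = -r := fun r hr => by
    obtain ⟨s, hs⟩ := he (r + ρ z r) (by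
      rw [map_add, ← Module.End.mul_apply, ← map_mul, ← pow_two, hzz, map_one, add_comm]; rfl)
    obtain ⟨t, ht⟩ := he f hzf
    have ht0 : t ≠ 0 := fun e1 => hx0 (by rw [ht, e1, zero_smul])
    have h1 : r + ρ z r = (s / t) • f := by rw [hs, ht, smul_smul, div_mul_cancel₀ _ ht0]
    have h2 : ρ q (r + ρ z r) = a • (r + ρ z r) := by rw [map_add, ← hcq z'.1, hr, map_smul, smul_add]
    rw [h1, map_smul, hqf, smul_comm] at h2
    have h4 : (a - b) • ((s / t) • f) = 0 := by rw [sub_smul, h2, sub_self]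
    rw [(smul_eq_zero.1 h4).resolve_left (sub_ne_zero.2 hne)] at h1
    exact eq_neg_of_add_eq_zero_right h1
  -- the element of order ten
  obtain ⟨m, hm1, hm5⟩ : ∃ m, q ^ m ≠ 1 ∧ (q ^ m) ^ 5 = 1 := by
    obtain ⟨k, hk⟩ := hq
    induction k with
    | zero => exact absurd (by simpa using hk) hq1
    | succ k ih =>
      by_cases h1 : q ^ 5 ^ k = 1
      exacts [ih h1, ⟨_, h1, by rw [← pow_mul, ← pow_succ, hk]⟩]
  have pw : ∀ (y : G) (t : ℂ) (v : V), ρ y v = t • v → ∀ n : ℕ, ρ (y ^ n) v = t ^ n • v := fun y t v h n => by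
    induction n with
    | zero => simp
    | succ n ih => rw [pow_succ, map_mul, Module.End.mul_apply, h, map_smul, ih, smul_smul, pow_succ']
  have rt : ∀ (t : ℂ) (v : V), v ≠ 0 → ρ q v = t • v → (t ^ m) ^ 5 = 1 := fun t v hv h => by
    have h1 := pw _ _ _ (pw _ _ _ h m) 5
    rw [hm5, map_one] at h1
    exact smul_left_injective ℂ hv (h1.symm.trans (one_smul ℂ v).symm)
  obtain ⟨r0, hr0⟩ := Module.finrank_pos_iff_exists_ne_zero.1 (show 0 < finrank ℂ (End.eigenspace (ρ q) a) by omega)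
  have ha5 := rt a r0 (fun e => hr0 (Subtype.ext e)) (Module.End.mem_eigenspace_iff.1 r0.2)
  have hb5 := rt b f hx0 hqf
  have han := Complex.norm_eq_one_of_pow_eq_one ha5 (by norm_num)
  have hbn := Complex.norm_eq_one_of_pow_eq_one hb5 (by norm_num)
  have hbc : conj (b ^ m) * b ^ m = 1 := by rw [mul_comm, Complex.mul_conj, ← Complex.sq_norm, hbn]; simp
  have hq5 : PEl 5 (q ^ m) := ⟨1, by rwa [pow_one]⟩
  have hcz : Commute (q ^ m) z := (show Commute z q from mem_centralizer_singleton_iff.1 z'.1.2).symm.pow_left m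
  obtain ⟨k, hk, hre⟩ : ∃ k, (k = 1 ∨ k = 3) ∧ ((a ^ m * conj (b ^ m)) ^ k).re < -1 / 2 := by
    rcases kl5_re (ζ := a ^ m * conj (b ^ m)) (by rw [mul_pow, ← map_pow, ha5, hb5, map_one, one_mul]) (fun e1 => by
      have h1 : a ^ m = b ^ m := by rw [← mul_one (a ^ m), ← hbc, ← mul_assoc, e1, one_mul]
      refine hm1 (hsc _ hq5 (b ^ m) (LinearMap.ext fun x => ?_))
      obtain ⟨r, hr, t, rfl⟩ := hdec x
      rw [map_add, map_smul, pw _ _ _ hr, pw _ _ _ hqf, h1, smul_comm, ← smul_add]; rfl) with h | h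
    exacts [⟨1, Or.inl rfl, by rwa [pow_one]⟩, ⟨3, Or.inr rfl, h⟩]
  have h1 := kl5_arc hM.inj (u := (q ^ m * z) ^ k) (α := (-a ^ m) ^ k) (β := (b ^ m) ^ k)
    (by rw [norm_pow, norm_neg, han, one_pow]) (by rw [norm_pow, hbn, one_pow])
    (by
      rw [map_pow, ← mul_pow, neg_mul, (show Odd k by rcases hk with rfl | rfl <;> decide).neg_pow, Complex.neg_re]
      linarith) fun x => by
      obtain ⟨r, hr, t, rfl⟩ := hdec x
      have e1 := pw (q ^ m * z) (-a ^ m) r (by
        rw [map_mul, Module.End.mul_apply, hzr r hr, map_neg, pw _ _ _ hr, neg_smul]) k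
      have e2 := pw (q ^ m * z) (b ^ m) f (by rw [map_mul, Module.End.mul_apply, hzf, pw _ _ _ hqf]) k
      simp only [LinearMap.sub_apply, LinearMap.smul_apply, Module.End.one_apply, map_add, map_sub, map_smul, e1, e2]
      module
  have h2 : ((q ^ m * z) ^ k) ^ 2 = (q ^ m) ^ (k * 2) := by
    rw [← pow_mul, hcz.mul_pow, mul_comm k 2, pow_mul z, hzz, one_pow, mul_one]
  have h4 := kl5_pel hM.core (y := (q ^ m) ^ (k * 2)) ⟨1, by rw [pow_one, ← pow_mul, mul_comm, pow_mul, hm5, one_pow]⟩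
    fun g => by rw [← h2, ← conj_pow]; exact (h1 g).pow_pow 2 2
  refine hm1 ?_
  rcases hk with rfl | rfl
  · simpa using pow_gcd_eq_one.2 ⟨h4, hm5⟩
  · simpa using pow_gcd_eq_one.2 ⟨h4, hm5⟩

end CL.LG
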