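/-
Linear groups of small degree: multiplicities in `χ * conj χ` and the involution relation for the
principal block of a self-centralizing Sylow subgroup of prime order.
-/
import Cfsg.Agent.Char.LgDefs
import Cfsg.Agent.Blk.AbelThree
import Cfsg.Agent.Inv.BT1
import Cfsg.Agent.Char.ClassAlg
import Cfsg.Agent.Inv.Small1
import Cfsg.Agent.Odd.FT
import Cfsg.Agent.Spor.CharTools

set_option autoImplicit false

namespace CL.LG

open Cfsg CL.Char CL.Inv.PO CL.Blk.Sm Finset Subgroup ComplexConjugate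
open scoped Classical

universe u

variable {p : ℕ} [hp : Fact p.Prime] {S : Type*} [Group S] [Fintype S] {x : S} {C : Subgroup S}
  {K : Ctx p x C} {B : Set (IrrCharacter S)}

theorem mu_eta (D : Data K (irrOne C) B) (k j : (ZMod p)ˣ) :
    (D.μ k : S → ℂ) (x ^ (j : ZMod p).val) = D.ε * eta K (k * j) := by
  have h := D.μ_sing_one k (c := K.xC ^ (j : ZMod p).val) (K.sing_pow_val j)
  rw [show ((K.xC ^ (j : ZMod p).val : C) : S) = x ^ (j : ZMod p).val from rfl] at h
  rw [h, eta]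
  congr 1
  refine Fintype.sum_equiv (MulEquiv.subgroupCongr K.E_one).toEquiv _ _ fun u => ?_
  rw [map_pow, Units.val_pow_eq_pow_val, ← pow_val_mul (K.lamC_pow _), mul_comm (j : ZMod p),
    mul_assoc]
  rfl

theorem eta_mul_eta (K : Ctx p x C) (l : ZMod p) :
    eta K l * eta K (-l) = ∑ w : K.a.range, eta K ((((w : (ZMod p)ˣ) : ZMod p) - 1) * l) := by
  simp only [eta, sum_mul_sum, ← ω_pow_add]
  rw [sum_comm, sum_comm (s := univ) (t := univ) (f := fun w v : K.a.range =>
    K.ω ^ (((v : (ZMod p)ˣ) : ZMod p) * ((((w : (ZMod p)ˣ) : ZMod p) - 1) * l)).val)]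
  refine sum_congr rfl fun v _ => (Fintype.sum_equiv (Equiv.mulRight v) _ _ fun w => ?_).symm
  simp only [Equiv.coe_mulRight, Subgroup.coe_mul, Units.val_mul]
  ring_nf

theorem mu : MU.{u} := fun p _ S _ _ x K B D k d Φ h => by
  have hu : ∀ w : K.a.range, ∃ l : (ZMod p)ˣ, w ≠ 1 →
      (l : ZMod p) = (((w : (ZMod p)ˣ) : ZMod p) - 1) * k := fun w => by
    by_cases hw : w = 1
    · exact ⟨1, fun h => absurd hw h⟩
    · refine ⟨Units.mk0 (((w : (ZMod p)ˣ) : ZMod p) - 1) (sub_ne_zero.2 fun e => hw ?_) * k, fun _ => rfl⟩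
      exact Subtype.ext (Units.ext e)
  choose l hl using hu
  refine ⟨fun μ => #{w ∈ univ.erase (1 : K.a.range) | D.μ (l w) = μ}, ?_, fun μ hμ => ?_⟩
  · rw [← card_eq_sum_card_fiberwise (f := fun w => D.μ (l w)) fun w _ => D.μ_mem_Y _,
      card_erase_add_one (mem_univ _), card_univ, Ctx.f, Nat.card_eq_fintype_card]
  obtain ⟨m, rfl⟩ := D.mem_Y.1 hμ
  have h1 : ∀ g, p ∣ orderOf g → Φ g = ((K.f : ℂ) • (irrOne S : S → ℂ) +
      (D.ε : ℂ) • ∑ w ∈ univ.erase (1 : K.a.range), (D.μ (l w) : S → ℂ)) g := fun g hg => by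
    obtain ⟨j, hj⟩ := K.exists_isConj_of_sing le_rfl hg
    obtain ⟨c, hc⟩ := isConj_iff.1 hj.symm
    simp only [Pi.add_apply, Pi.smul_apply, Finset.sum_apply, smul_eq_mul, irrOne_apply, mul_one]
    rw [← hc, h.char.isClassFunction, h.sing, eta_mul_eta, ← add_sum_erase _ _ (mem_univ 1), mul_sum]
    congr 1
    · rw [eta, ← card_range_a, ← card_univ, card_eq_sum_ones]
      simp
    · refine sum_congr rfl fun w hw => ?_
      rw [(D.μ _).2.isClassFunction, mu_eta, ← mul_assoc (D.ε : ℂ), D.ε_mul_self, one_mul,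
        hl w (ne_of_mem_erase hw), mul_assoc]
  have h2 := K.inner_A_congr h1 (irrOne _) m
  rw [D.inner_A_eq, classInner_add_left, classInner_smul_left, classInner_smul_left,
    classInner_sum_left, K.inner_one_A] at h2
  simp only [D.inner_μ, ← D.μ_eq] at h2
  beta_reduce
  rw [sub_eq_iff_eq_add.1 h2, mul_sum, card_filter]
  push_cast
  rw [sum_congr rfl (g := fun w => if D.μ (l w) = D.μ m then (1 : ℂ) else 0) fun w _ => by
    split_ifs
    · exact D.ε_mul_self
    · exact mul_zero _]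
  ring

/-- No `p`-singular element is a product of two conjugates of an involution when the automizer has
odd order. -/
theorem invol_rel (D : Data K (irrOne C) B) (hC : C ≤ zpowers x) (hp2 : p ≠ 2) (hf : Odd K.f) {t : S}
    (ht : t * t = 1) (k : (ZMod p)ˣ) :
    D.ε * ((D.μ k : S → ℂ) t ^ 2 / (D.μ k : S → ℂ) 1) =
      ∑ χ ∈ D.X, D.s χ * ((χ : S → ℂ) t ^ 2 / (χ : S → ℂ) 1) := by
  have h1 : ∀ g, p ∣ orderOf g → (∑ χ : IrrCharacter S,
      ((χ : S → ℂ) t ^ 2 / (χ : S → ℂ) 1) • (χ : S → ℂ)) g = (0 : S → ℂ) g := fun g hg => by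
    have h2 := classAlg_card_pairs t t g⁻¹
    have h3 : IsEmpty {q : S × S // IsConj t q.1 ∧ IsConj t q.2 ∧ q.1 * q.2 = g⁻¹} := ⟨by
      rintro ⟨⟨a, b⟩, ha, hb, hab⟩
      have ha2 := classAlg_mul_self_of_isConj ht ha
      have hb2 := classAlg_mul_self_of_isConj ht hb
      have h4 : IsConj g g⁻¹ := by
        have e : g = b * a := by
          rw [← inv_inv g, ← hab, mul_inv_rev, inv_eq_of_mul_eq_one_right ha2,
            inv_eq_of_mul_eq_one_right hb2]
        exact isConj_iff.2 ⟨a, by rw [← hab, e]; simp [mul_assoc]⟩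
      obtain ⟨j, hj⟩ := K.exists_isConj_of_sing hC hg
      have h5 : (x ^ (j : ZMod p).val)⁻¹ = x ^ ((-j : (ZMod p)ˣ) : ZMod p).val :=
        inv_eq_of_mul_eq_one_right (by rw [← pow_val_add K.x_pow]; simp)
      have h6 : IsConj g⁻¹ (x ^ (j : ZMod p).val)⁻¹ := by
        obtain ⟨c, hc⟩ := isConj_iff.1 hj
        exact isConj_iff.2 ⟨c, by rw [← hc]; simp [mul_assoc]⟩
      have h7 := (K.isConj_pow_iff j (-j)).1 (h5 ▸ hj.symm.trans (h4.trans h6))
      rw [mul_neg, inv_mul_cancel] at h7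
      have h8 : (-1 : (ZMod p)ˣ) ^ K.f = 1 :=
        congrArg Subtype.val (pow_card_eq_one' (x := (⟨-1, h7⟩ : K.a.range)))
      rw [hf.neg_one_pow] at h8
      have : Fact (2 < p) := ⟨lt_of_le_of_ne hp.out.two_le hp2.symm⟩
      exact ZMod.neg_one_ne_one (congrArg Units.val h8)⟩
    have h4 : (Nat.card {y : S // IsConj t y} : ℂ) ≠ 0 :=
      Nat.cast_ne_zero.2 (Nat.card_ne_zero.2 ⟨⟨⟨t, IsConj.refl t⟩⟩, inferInstance⟩)
    rw [Nat.card_of_isEmpty, Nat.cast_zero, eq_comm, mul_eq_zero] at h2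
    rw [Finset.sum_apply, Pi.zero_apply, ← h2.resolve_left (div_ne_zero (mul_ne_zero h4 h4) natCard_ne_zero)]
    refine sum_congr rfl fun χ _ => ?_
    rw [isChar_inv χ.2.isCharacter, Complex.conj_conj, Pi.smul_apply, smul_eq_mul]
    ring
  have h2 := K.inner_A_congr h1 (irrOne _) k
  have h3 : ∀ ψ : IrrCharacter S, classInner (∑ χ : IrrCharacter S,
      ((χ : S → ℂ) t ^ 2 / (χ : S → ℂ) 1) • (χ : S → ℂ)) (ψ : S → ℂ) =
      (ψ : S → ℂ) t ^ 2 / (ψ : S → ℂ) 1 := fun ψ => by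
    simp [classInner_sum_left, classInner_smul_left, classInner_irr]
  rw [D.inner_A_eq, classInner_zero_left] at h2
  simp only [h3] at h2
  exact sub_eq_zero.1 h2

theorem exists_invol_simple {G : Type*} [Group G] [Finite G] [IsSimpleGroup G]
    (hG : ¬ IsMulCommutative G) : ∃ t : G, orderOf t = 2 := by
  refine exists_prime_orderOf_dvd_card' 2 (even_iff_two_dvd.1 (Nat.not_odd_iff_even.1 fun h => hG ?_))
  have := CL.Odd.feit_thompson h
  exact ⟨⟨IsSimpleGroup.comm_iff_isSolvable.2 this⟩⟩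

theorem i3 : I3.{u} := fun p _ S _ _ x K B D h h1 hs1 => by
  have := h.simple
  have hp7 : p ≠ 2 := by
    rintro rfl
    have := K.f_dvd
    rw [h.hf] at this
    omega
  obtain ⟨t, ht⟩ := exists_invol_simple h.ncomm
  have ht2 : t * t = 1 := by rw [← pow_two, ← ht, pow_orderOf_eq_one]
  have hc : (D.X.erase (irrOne S)).card = 2 := by
    have := card_erase_add_one h1
    rw [D.card_X_one, h.hf] at this
    omega
  obtain ⟨a, b, hab, e⟩ := card_eq_two.1 hc
  have ha : a ∈ D.X.erase (irrOne S) := by simp [e]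
  have hb : b ∈ D.X.erase (irrOne S) := by simp [e]
  have hX : ∀ χ, χ ∈ D.X ↔ χ = irrOne S ∨ χ = a ∨ χ = b := fun χ => by
    rw [← insert_erase h1, e]; simp
  have hsum : ∀ F : IrrCharacter S → ℂ, ∑ χ ∈ D.X, F χ = F (irrOne S) + F a + F b := fun F => by
    rw [← add_sum_erase _ _ h1, e, sum_pair hab, add_assoc]
  have hint : ∀ χ : IrrCharacter S, ∃ v : ℤ, (χ : S → ℂ) t = v := fun χ =>
    (CL.Spor.invol_value χ.2.isCharacter (CL.Inv.commutator_eq_top_of_simple h.ncomm)
      (by rw [pow_two, ht2])).elim fun m hm => ⟨_, hm.2⟩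
  choose v hv using hint
  have r1 := D.reg_rel 1 (g := 1) (by simpa using (Fact.out : p.Prime).one_lt.ne')
  have r2 := D.reg_rel 1 (g := t) fun h => hp7
    ((Nat.prime_dvd_prime_iff_eq Fact.out Nat.prime_two).1 (ht ▸ h))
  have r3 := invol_rel D le_rfl hp7 (by rw [h.hf]; decide) ht2 1
  simp only [hsum, hs1, irrOne_apply] at r1 r2 r3
  simp only [hv, ← IsIrrCharacter.cast_charDegree a.2,
    ← IsIrrCharacter.cast_charDegree b.2, ← IsIrrCharacter.cast_charDegree (D.μ 1).2] at r1 r2 r3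
  have sa := D.hs a (mem_of_mem_erase ha)
  have sb := D.hs b (mem_of_mem_erase hb)
  have key := CL.Blk.three_signs_arith (v₂ := v a) (v₃ := v b) (v₄ := v (D.μ 1)) sa sb D.hε
    a.2.charDegree_pos b.2.charDegree_pos (D.μ 1).2.charDegree_pos
    (by
      have : (D.ε * charDegree (D.μ 1 : S → ℂ) : ℚ) = 1 + D.s a * charDegree (a : S → ℂ) +
        D.s b * charDegree (b : S → ℂ) := Rat.cast_injective (α := ℂ) (by simpa using r1)
      linarith)
    (by
      have : (D.ε * v (D.μ 1) : ℚ) = 1 + D.s a * v a + D.s b * v b := 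
        Rat.cast_injective (α := ℂ) (by simpa using r2)
      linarith)
    (by
      have : (D.ε * (v (D.μ 1) ^ 2 / charDegree (D.μ 1 : S → ℂ)) : ℚ) =
          1 + D.s a * (v a ^ 2 / charDegree (a : S → ℂ)) + D.s b * (v b ^ 2 / charDegree (b : S → ℂ)) :=
        Rat.cast_injective (α := ℂ) (by simpa using r3)
      rcases sa with e1 | e1 <;> rcases sb with e2 | e2 <;> rcases D.hε with e3 | e3 <;>
        simp only [e1, e2, e3] at this ⊢ <;> push_cast at this ⊢ <;>
        simp only [neg_neg, one_mul, neg_mul, neg_sq, div_neg] at this ⊢ <;> linarith)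
    (fun e => CL.Spor.norm_ne_degree h.ncomm a.2 (fun e' => ne_of_mem_erase ha (Subtype.ext e'))
      (g := t) (by rintro rfl; simp at ht) (by rw [hv, e]; simp))
  by_cases e2 : D.s b = -1
  · refine ⟨a, b, hab, ne_of_mem_erase ha, ne_of_mem_erase hb, hX, ?_, e2, key.2⟩
    have := key.1
    rcases sa with e1 | e1 <;> rcases D.hε with e3 | e3 <;> simp [e1, e2, e3] at this ⊢
  · refine ⟨b, a, hab.symm, ne_of_mem_erase hb, ne_of_mem_erase ha,
      fun χ => by rw [hX, or_comm (a := χ = a)], ?_, ?_, mul_comm (charDegree (a : S → ℂ)) _ ▸ key.2⟩ <;>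
    have := key.1 <;>
    rcases sa with e1 | e1 <;> rcases D.hε with e3 | e3 <;> simp [e1, sb.resolve_right e2, e3] at this ⊢

end CL.LG
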