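/-
Linear groups of degree `d ≤ p - 2`, `d < 27`: assembly of the steps.
-/
import Cfsg.Agent.Char.LgCov
import Cfsg.Agent.Char.LgDL
import Cfsg.Agent.Char.LgBT
import Cfsg.Agent.Inv.DegPm2c

set_option autoImplicit false

namespace CL.LG

open Cfsg CL.Char CL.Inv.PO CL.Blk.Sm Subgroup
open scoped MatrixGroups

universe u

/-- The list of exceptions. -/
def Out (p d : ℕ) [Fact p.Prime] (G : Type u) [Group G] : Prop :=
  (Nonempty (G ⧸ center G ≃* PSL(2, ZMod p)) ∧ (2 * d = p + 1 ∨ 2 * d = p - 1)) ∨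
  (p = 17 ∧ d = 15 ∧ ∃ (A : Type) (_ : CommGroup A) (_ : Finite A),
    Nonempty (G ≃* SL(2, GaloisField 2 4) × A)) ∨
  (p = 7 ∧ d = 4 ∧ Nonempty (G ⧸ center G ≃* alternatingGroup (Fin 7))) ∨
  (p = 5 ∧ d = 3 ∧ Nonempty (G ⧸ center G ≃* alternatingGroup (Fin 6)))

theorem exists_small (A : Type u) [Group A] [Finite A] (h : ∀ a b : A, a * b = b * a) :
    ∃ (B : Type) (_ : CommGroup B) (_ : Finite B), Nonempty (A ≃* B) := by
  obtain ⟨B, i, j, ⟨e⟩⟩ := Finite.exists_type_univ_nonempty_mulEquiv.{u, 0} A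
  exact ⟨B, { i with mul_comm := fun a b => e.symm.injective (by rw [map_mul, map_mul, h]) },
    inferInstance, ⟨e⟩⟩

variable {p : ℕ} [hp : Fact p.Prime] {G : Type u} [Group G]

theorem Out.of_prod [Finite G] {d : ℕ} {H O : Subgroup G} (hO : O ≤ center G) (h1 : H ⊓ O = ⊥)
    (h2 : H ⊔ O = ⊤) (h : Out p d H) : Out p d G := by
  have := Grp.normal_of_le_center' hO
  have h3 : ∀ g : G, ∃ h ∈ H, ∃ q ∈ O, h * q = g := fun g => mem_sup_of_normal_right.1 (h2.ge (mem_top g))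
  obtain ⟨e⟩ := nonempty_quotient_center ((QuotientGroup.mk' (center G)).comp H.subtype) (fun g => by
    obtain ⟨g, rfl⟩ := QuotientGroup.mk_surjective g
    obtain ⟨h, hh, q, hq, rfl⟩ := h3 g
    exact ⟨⟨h, hh⟩, (QuotientGroup.mk_mul_of_mem h (hO hq)).symm⟩) (Subgroup.ext fun z => by
    refine (QuotientGroup.eq_one_iff (z : G)).trans ⟨fun hz => mem_center_iff.2 fun g =>
      Subtype.ext (mem_center_iff.1 hz g), fun hz => mem_center_iff.2 fun g => ?_⟩
    obtain ⟨h, hh, q, hq, rfl⟩ := h3 g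
    have h4 : h * z = z * h := congrArg Subtype.val (mem_center_iff.1 hz ⟨h, hh⟩)
    rw [mul_assoc, ← mem_center_iff.1 (hO hq) z, ← mul_assoc, h4, mul_assoc])
  rcases h with ⟨⟨f⟩, h⟩ | ⟨a1, a2, A, i, j, ⟨f⟩⟩ | ⟨a1, a2, ⟨f⟩⟩ | ⟨a1, a2, ⟨f⟩⟩
  · exact .inl ⟨⟨e.symm.trans f⟩, h⟩
  · obtain ⟨e'⟩ := Fus.nonempty_mulEquiv_prod_of_commute (fun a _ z hz => mem_center_iff.1 (hO hz) a)
      (disjoint_iff.2 h1) h2
    obtain ⟨B, i', j', ⟨f'⟩⟩ := exists_small O fun a b => Subtype.ext (mem_center_iff.1 (hO b.2) a)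
    exact .inr (.inl ⟨a1, a2, A × B, inferInstance, inferInstance,
      ⟨e'.trans ((f.prodCongr f').trans MulEquiv.prodAssoc)⟩⟩)
  · exact .inr (.inr (.inl ⟨a1, a2, ⟨e.symm.trans f⟩⟩))
  · exact .inr (.inr (.inr ⟨a1, a2, ⟨e.symm.trans f⟩⟩))

theorem not_normal_of_gen [Finite G] {x : G} {C : Subgroup G} (K : Ctx p x C)
    (hg : ∀ M : Subgroup G, (∀ g, PEl p g → g ∈ M) → M = ⊤) (hc : ¬ ∀ a b : G, a * b = b * a) :
    ¬ (zpowers x).Normal := fun _ => hc fun a b => by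
  have h := hg (zpowers x) fun g hg => hg.mem_of_not_dvd K.hP
  obtain ⟨i, rfl⟩ := h.ge (mem_top a)
  obtain ⟨j, rfl⟩ := h.ge (mem_top b)
  exact zpow_mul_comm x i j

section One

variable [Fintype G] {x : G} {C : Subgroup G} (K : Ctx p x C) {χ : G → ℂ} (hχ : IsIrrCharacter G χ)
  (hker : charKer χ = ⊥) (hn : ¬ (zpowers x).Normal) (hd : charDegree χ + 2 ≤ p) (hBR : BR.{u})
include K hχ hker hn hd hBR

theorem one_big (h19 : N19.{u}) (h33 : C33.{u}) (hp7 : 7 < p) (h27 : charDegree χ < 27) :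
    Out p (charDegree χ) G := by
  obtain ⟨t, ht⟩ := K.f_dvd
  obtain ⟨a1, a2, -⟩ | ⟨a1, a2, -⟩ := cases_of_le K hp7 hn hχ hker hd (t := t) (by rw [mul_comm]; omega)
  · exact .inl ⟨a1, a2⟩
  have h4 : K.f ≤ 4 := by
    by_contra h
    have : K.f * (K.f + 3) ≤ K.f * t := Nat.mul_le_mul_left _ a2
    have : K.f * 8 ≤ K.f * (K.f + 3) := Nat.mul_le_mul_left _ (by omega)
    omega
  have hp' := hp.out
  obtain h | h | h : K.f = 2 ∨ K.f = 3 ∨ K.f = 4 := by omega
  · obtain ⟨a, F, i, j, b1, b2, ⟨e⟩⟩ := K.sl_prod_of_degree hn hχ hker (by omega) (by omega)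
    obtain rfl : a = 4 := by
      have : a < 5 := (Nat.pow_lt_pow_iff_right one_lt_two).1 (by omega)
      interval_cases a <;> first | omega | exact absurd (b1 ▸ hp') (by decide)
    have := Fintype.ofFinite (GaloisField 2 4)
    obtain ⟨e1⟩ := SLn.nonempty_sl_equiv_of_card_eq (ι := Fin 2) (K := F) (L := GaloisField 2 4)
      (by rw [b2, ← Nat.card_eq_fintype_card, GaloisField.card 2 4 (by norm_num)])
    obtain ⟨B, i', j', ⟨e2⟩⟩ := exists_small (center G) fun a b => Subtype.ext (mem_center_iff.1 b.2 a)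
    exact .inr (.inl ⟨by omega, by omega, B, i', j', ⟨e.trans (e1.prodCongr e2)⟩⟩)
  · rw [h] at ht
    obtain rfl : p = 19 := by
      have : t < 10 := by omega
      have : p = 3 * t + 1 := by omega
      have : 6 ≤ t := by omega
      subst p
      interval_cases t <;> first | rfl | exact absurd hp' (by decide)
    have := Fintype.ofFinite (G ⧸ center G)
    obtain ⟨K', k, s, c⟩ := hBR 19 G x C K χ hχ hker hn (h ▸ Nat.prime_three) a1
    rw [show charDegree χ = 16 by omega] at c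
    exact (c19 h19 h33 (h ▸ s) c).elim
  · rw [h] at ht
    obtain ⟨H, hH, b1, -, b2, b3, -, b4, -⟩ := dl p G χ hχ.isCharacter hker hd
      (fun e => K.not_sq_dvd (e.trans (index_dvd_card _))) (dvd_index_pCore_of_not_normal K.syl hn)
    have := Fintype.ofFinite H
    obtain ⟨y, ⟨K'⟩⟩ := exists_ctx_of_dvd b2 b3
    obtain ⟨s, hs⟩ := K'.f_dvd
    have b5 := dl_irr hχ hker hd H b4 (dl_ncomm b1 b2)
    have b6 := charKer_restrict_eq_bot hχ.isCharacter hker H
    have b7 : charDegree (fun h : H => χ h) = 25 := show charDegree χ = 25 by omega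
    obtain ⟨-, c1, -⟩ | ⟨c1, -, c2⟩ := cases_of_le K' hp7 (not_normal_of_gen K' b4 (dl_ncomm b1 b2)) b5 b6
      hd (t := s) (by rw [mul_comm]; omega)
    · omega
    have := c2 (Nat.not_even_iff_odd.1 fun e => by
      obtain ⟨z, hz⟩ := exists_prime_orderOf_dvd_card' 2 e.two_dvd
      refine odd_center_of_perfect (map_injective H.subtype_injective ?_) b5 b6 Nat.prime_two
        (by rw [b7]; norm_num) z.2 (by rw [Subgroup.orderOf_coe, hz])
      rw [map_subtype_commutator, b1, ← MonoidHom.range_eq_map, range_subtype])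
    omega

theorem one_small (h7 : N7.{u}) (ho : O7.{u}) (h5 : N5.{u}) (hp5 : 5 ≤ p) (hp7 : p ≤ 7) :
    Out p (charDegree χ) G := by
  by_cases h : 2 * charDegree χ + 1 ≤ p
  · obtain ⟨a1, -, a2⟩ := of_two_mul_le K hp5 hn hχ.isCharacter hker h
    exact .inl ⟨a2, .inr (by omega)⟩
  have := Fintype.ofFinite (G ⧸ center G)
  have hp6 : p ≠ 6 := fun e => absurd (e ▸ hp.out) (by decide)
  obtain rfl | rfl : p = 5 ∨ p = 7 := by omega
  · have h1 : charDegree χ = 3 := by omega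
    obtain ⟨hf, -⟩ := K.of_degree_sub_two hχ hker (by omega) fun e =>
      hn (Grp.normal_of_le_center' (zpowers_le.2 e))
    obtain ⟨K', k, s, c⟩ := hBR 5 G x C K χ hχ hker hn (hf ▸ Nat.prime_two) (by omega)
    rw [h1] at c ⊢
    exact (c5 h5 (hf ▸ s) c).elim (fun e => .inl ⟨e, .inl rfl⟩) fun e => .inr (.inr (.inr ⟨rfl, rfl, e⟩))
  obtain h1 | h1 : charDegree χ = 4 ∨ charDegree χ + 2 = 7 := by omega
  · have hx : χ x ≠ χ 1 := fun e => K.x_ne_one (mem_bot.1 (hker ▸ hχ.mem_charKer.2 e))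
    have hf : K.f = 3 := by
      obtain ⟨θ, B, D, k, rfl⟩ := exists_data_of_le K hχ hx hd
      rcases D.hε with hε | hε
      · have := bt_pos D hp5 hn hε k hker hd
        omega
      · have := (D.of_neg hε k (by omega) hx).2.1
        omega
    obtain ⟨K', k, s, c⟩ := hBR 7 G x C K χ hχ hker hn (hf ▸ Nat.prime_three) (by omega)
    rw [h1] at c ⊢
    exact (c7 h7 ho (hf ▸ s) c).elim (fun e => .inl ⟨e, .inl rfl⟩) fun e => .inr (.inr (.inl ⟨rfl, rfl, e⟩))
  · obtain ⟨a, -, -, -, b1, -⟩ := K.sl_prod_of_degree hn hχ hker h1 (by omega)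
    have : a < 3 := (Nat.pow_lt_pow_iff_right one_lt_two).1 (by omega)
    interval_cases a <;> omega

end One

theorem reduce [Finite G] {χ : G → ℂ} (hχ : IsIrrCharacter G χ) (hker : charKer χ = ⊥)
    (hd : charDegree χ + 2 ≤ p) (hR : 5 ≤ p → RAt.{u} p)
    (h1 : 5 ≤ p → ∀ (H : Type u) [Group H] [Fintype H] (x : H) (C : Subgroup H) (_ : Ctx p x C) (ψ : H → ℂ),
      IsIrrCharacter H ψ → charKer ψ = ⊥ → ¬ (zpowers x).Normal → charDegree ψ = charDegree χ →
      Out p (charDegree ψ) H) (P : Sylow p G) : (P : Subgroup G).Normal ∨ Out p (charDegree χ) G := by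
  refine or_iff_not_imp_left.2 fun hP => ?_
  have hp5 : 5 ≤ p := by
    have h2 : charDegree χ ≠ 1 := fun e => hP ⟨fun a ha g => by
      rwa [comm_of_commutator_le_bot (hker ▸ hχ.one_eq_one_iff.1
        (hχ.isCharacter.charDegree_eq_one_iff.1 e)) g a, mul_inv_cancel_right]⟩
    have := hχ.charDegree_pos
    have : p ≠ 4 := fun e => absurd (e ▸ hp.out) (by decide)
    omega
  have h2 := dvd_index_pCore_of_not_normal P hP
  have h3 := hR hp5 G χ hχ.isCharacter hker hd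
  obtain ⟨hO, H, hH, a1, a2⟩ := dd p G χ hχ hker hd h3 h2
  rw [index_eq_mul a1, a2, index_top, mul_one] at h2 h3
  have := Fintype.ofFinite H
  obtain ⟨x, ⟨K⟩⟩ := exists_ctx_of_dvd h2 h3
  refine (h1 hp5 H x _ K _ (isIrrCharacter_restrict_of_charCenter H hχ (top_le_iff.1 (a2.ge.trans
    (sup_le le_sup_right ((hO.trans hχ.center_le_charCenter).trans le_sup_left)))))
    (charKer_restrict_eq_bot hχ.isCharacter hker H) (fun hn => ?_) rfl).of_prod hO a1 a2
  have : (K.syl : Subgroup H).Normal := hn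
  have h4 := Grp.pCoreOf_eq_inf_of_normal (p := p) H
  rw [inf_comm, a1, Grp.pCoreOf_def, ← Grp.sylow_eq_pCore_of_normal K.syl,
    map_eq_bot_iff_of_injective _ H.subtype_injective] at h4
  exact K.x_ne_one (zpowers_eq_bot.1 h4)

theorem rat_big (hr : RED.{u}) (hk : KL1.{u}) (hf : FIN.{u}) (hp7 : 5 < p) : RAt.{u} p :=
  hr p fun G _ _ V _ _ _ ρ m => hf p G V ρ hp7.le m fun g hg c hc => by
    by_contra h
    obtain ⟨-, -, q, a, b, h1, h2, h3, h4, -⟩ := hk p G V ρ hp7.le m g hg h c hc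
    exact hp7.ne' ((hk p G V ρ hp7.le m q h1 h2 a h4).1 a b h3)

theorem main_big [Finite G] {χ : G → ℂ} (hχ : IsIrrCharacter G χ) (hker : charKer χ = ⊥)
    (hd : charDegree χ + 2 ≤ p) (h27 : charDegree χ < 27) (hp7 : 7 < p) (hr : RED.{u}) (hk : KL1.{u})
    (hf : FIN.{u}) (hBR : BR.{u}) (h19 : N19.{u}) (h33 : C33.{u}) (P : Sylow p G) :
    (P : Subgroup G).Normal ∨ Out p (charDegree χ) G :=
  reduce hχ hker hd (fun _ => rat_big hr hk hf (by omega)) (fun _ _ _ _ _ _ K _ h1 h2 h3 h4 =>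
    one_big K h1 h2 h3 (by omega) hBR h19 h33 hp7 (by omega)) P

theorem main_small [Finite G] {χ : G → ℂ} (hχ : IsIrrCharacter G χ) (hker : charKer χ = ⊥)
    (hd : charDegree χ + 2 ≤ p) (hp7 : p ≤ 7) (hr : RED.{u}) (hk : KL1.{u}) (hk5 : KL5.{u})
    (hf : FIN.{u}) (hBR : BR.{u}) (h7 : N7.{u}) (ho : O7.{u}) (h5 : N5.{u}) (P : Sylow p G) :
    (P : Subgroup G).Normal ∨ Out p (charDegree χ) G :=
  reduce hχ hker hd (fun h => by
    obtain rfl | h := h.eq_or_lt
    · exact hr 5 fun G _ _ V _ _ _ ρ m => hf 5 G V ρ le_rfl m (hk5 G V ρ m)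
    · exact rat_big hr hk hf h) (fun h _ _ _ _ _ K _ h1 h2 h3 h4 =>
    one_small K h1 h2 h3 (by omega) hBR h7 ho h5 h hp7) P

end CL.LG
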