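/-
Linear groups of small degree: the principal `19`-block with the degrees `1, 77, 56, 22`.
-/
import Cfsg.Agent.Char.LgDefs
import Cfsg.Agent.Blk.AltSevenA
import Cfsg.Agent.Inv.Small1
import Cfsg.Agent.Spor.CharTools

set_option autoImplicit false

namespace CL.LG

open Cfsg CL.Char CL.Inv.PO CL.Blk.Sm Finset Subgroup ComplexConjugate

universe u

set_option synthInstance.maxSize 1000 in
theorem n19_sq : ∀ a < 7, ∀ b < 7, (b : ℕ) ≤ a → 2 * (a + 1) ≤ 7 + b →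
    IsSquare ((19 * (a - b) + 3) * ((19 * a + 20) * (19 * b + 18))) → a = 3 ∧ b = 2 := by decide +kernel

theorem n19_arith {ε : ℤ} {a1 a2 a3 m x2 x3 N r : ℕ} (hε : ε = 1 ∨ ε = -1) (h1 : a1 ≤ 1)
    (hm : ε * m = 1 + ε * x2 - x3) (h2 : (x2 : ℤ) ≡ ε [ZMOD 19]) (h3 : (x3 : ℤ) ≡ -1 [ZMOD 19]) (h4 : x2 ≠ 1)
    (hs : IsSquare (m * (x2 * x3))) (hN : ε * N = 6 * (a1 + ε * a2 - a3 - 3) + 2)
    (hd : 256 = a1 + a2 * x2 + a3 * x3 + N * m + r) :
    a1 = 1 ∧ ε = 1 ∧ m = 22 ∧ x2 = 77 ∧ x3 = 56 ∧ a3 = 0 ∧ r ≤ 57 := by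
  unfold Int.ModEq at h2 h3
  rcases hε with rfl | rfl
  · have b1 : 2 * x2 ≤ a2 * x2 := Nat.mul_le_mul_right _ (by omega)
    have b2 : 2 * m ≤ N * m := Nat.mul_le_mul_right _ (by omega)
    obtain ⟨a, rfl⟩ : ∃ a, x2 = 19 * a + 20 := ⟨(x2 - 20) / 19, by omega⟩
    obtain ⟨b, rfl⟩ : ∃ b, x3 = 19 * b + 18 := ⟨(x3 - 18) / 19, by omega⟩
    obtain rfl : m = 19 * (a - b) + 3 := by omega
    obtain ⟨rfl, rfl⟩ := n19_sq a (by omega) b (by omega) (by omega) (by omega) hs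
    omega
  · have b2 : 10 * m ≤ N * m := Nat.mul_le_mul_right _ (by omega)
    omega

open scoped Classical in
theorem n19 (hM : MU.{u}) (hI : I3.{u}) : N19.{u} := by
  intro _ S _ _ x K k Φ hS hΦ
  have := hS.simple
  obtain ⟨M, hMM⟩ := CL.Blk.exists_isPModular' (p := 19) Fact.out
  obtain ⟨D, d1, d2⟩ := K.exists_data_principal hMM
  obtain ⟨ψ₂, ψ₃, e23, e2, e3, hX, s2, s3, hsq⟩ := hI 19 S x K _ D hS d1 d2
  obtain ⟨c, c1, c2⟩ := hM 19 S x K _ D k 16 Φ hΦ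
  obtain ⟨n, hn, -⟩ := hΦ.char.exists_eq_sum_nat
  have i6 : (K.E (irrOne (zpowers x))).index = 6 := by
    have := K.index_E_one
    rw [hS.hf] at this
    omega
  have hX' : D.X = {irrOne S, ψ₂, ψ₃} := by ext χ; simp [hX]
  have sX : ∀ {A : Type} [AddCommMonoid A] (F : IrrCharacter S → A), ∑ χ ∈ D.X, F χ = F (irrOne S) + F ψ₂ + F ψ₃ :=
    fun F => by rw [hX', sum_insert (by simp [e2.symm, e3.symm]), sum_pair e23, add_assoc]
  have sA : ∀ {A : Type} [AddCommMonoid A] (F : IrrCharacter S → A), ∑ χ, F χ = F (irrOne S) + F ψ₂ + F ψ₃ +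
      ∑ χ ∈ D.Y, F χ + ∑ χ ∈ (D.X ∪ D.Y)ᶜ, F χ := fun F => by
    rw [← sum_add_sum_compl (D.X ∪ D.Y), sum_union (disjoint_right.2 fun _ => D.notMem_X_of_mem_Y), sX]
  have dY : ∀ μ ∈ D.Y, charDegree (μ : S → ℂ) = charDegree (D.μ 1 : S → ℂ) := fun μ hμ => by
    obtain ⟨l, rfl⟩ := D.mem_Y.1 hμ
    exact D.deg_μ l 1
  have hd := hΦ.char.charDegree_eq_sum n hn
  rw [hΦ.deg, sA, sum_congr rfl fun μ hμ => by rw [dY μ hμ], ← sum_mul, CL.Spor.charDegree_irrOne, mul_one] at hd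
  have hm := D.deg_rel 1
  rw [sX, d2, s2, s3, CL.Spor.charDegree_irrOne] at hm
  have hN : D.ε * (∑ μ ∈ D.Y, n μ : ℕ) = 6 * (n (irrOne S) + D.ε * n ψ₂ - n ψ₃ - 3) + 2 := by
    have h1 : ∀ μ ∈ D.Y, D.ε * n μ = (n (irrOne S) + D.ε * n ψ₂ - n ψ₃ - 3) + c μ := fun μ hμ => by
      have := c2 μ hμ
      rw [sX, d2, s2, s3, hS.hf, hn, hn, hn, hn] at this
      have h2 : ((D.ε * n μ : ℤ) : ℂ) = ((n (irrOne S) + D.ε * n ψ₂ - n ψ₃ - 3) + c μ : ℤ) := by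
        push_cast at this ⊢; rw [this]; ring
      exact_mod_cast h2
    rw [hS.hf] at c1
    rw [Nat.cast_sum, mul_sum, sum_congr rfl h1, sum_add_distrib, sum_const, D.card_Y, i6, ← Nat.cast_sum,
      show ∑ μ ∈ D.Y, c μ = 2 by omega]
    simp
  have key := fun h1 => n19_arith D.hε h1 (by rw [hm]; push_cast; ring) (s2 ▸ D.deg_X_one ((hX _).2 (by simp)))
    (s3 ▸ D.deg_X_one ((hX _).2 (by simp)))
    (fun e => e2 (eq_irrOne_of_perfect (CL.Inv.commutator_eq_top_of_simple hS.ncomm) e)) hsq hN hd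
  rw [hn]
  refine ⟨fun e => ?_, fun e => ?_⟩
  · have e' : n (irrOne S) = 0 := by exact_mod_cast e
    have := (key (by omega)).1
    omega
  have e' : n (irrOne S) = 1 := by exact_mod_cast e
  obtain ⟨-, hε, m22, x77, x56, a3, hr⟩ := key e'.le
  have gal : ∀ ψ ∈ D.X, ∀ g, ∃ v : ℤ, (ψ : S → ℂ) g = v := fun ψ hψ => CL.Blk.A7.exists_int_of_gal fun σ => by
    have h1 := CL.Blk.A7.gal_mem_X D (fun e => by rw [e, index_top] at i6; omega) σ hψ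
    have h2 := CL.Blk.A7.charDegree_galIrr σ ψ
    have h3 := CL.Spor.charDegree_irrOne (G := S)
    rcases (hX _).1 h1 with a | a | a <;> rcases (hX _).1 hψ with b | b | b <;>
      first | exact a.trans b.symm | (rw [a, b] at h2; omega)
  refine ⟨D.μ 1, (D.μ 1).2, m22, fun g hg => ?_, fun h121 y hy => ?_⟩
  · obtain ⟨v, hv⟩ := gal ψ₂ ((hX _).2 (by simp)) g
    obtain ⟨w, hw⟩ := gal ψ₃ ((hX _).2 (by simp)) g
    have := D.reg_rel 1 hg
    rw [sX, d2, s2, s3, hε, hv, hw, irrOne_apply] at this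
    exact ⟨1 + v - w, by push_cast at this ⊢; linear_combination this⟩
  have z : ∀ χ : IrrCharacter S, 11 ∣ charDegree (χ : S → ℂ) → (χ : S → ℂ) y = 0 := fun χ h =>
    CL.Spor.eq_zero_of_defect_zero (by decide : Nat.Prime 11) χ
      (fun h' => h121 ((Nat.mul_dvd_mul_left 11 h).trans h')) (hy ▸ dvd_rfl)
  have h1 := hΦ.char.isClassFunction.apply_eq_sum_irr y
  simp only [hn] at h1
  rw [sA, e', a3, z ψ₂ (by omega), irrOne_apply, sum_eq_zero fun μ hμ => by rw [z μ (by rw [dY μ hμ]; omega), mul_zero]]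
    at h1
  have h2 : (∑ χ ∈ (D.X ∪ D.Y)ᶜ, n χ) * 19 ≤ 57 := by
    refine le_trans ?_ hr
    rw [sum_mul]
    refine sum_le_sum fun χ hχ => Nat.mul_le_mul_left _ (Nat.le_of_dvd χ.2.charDegree_pos
      (dvd_degree_of_apply_eq_zero χ.2.isGeneralizedCharacter Fact.out (k := 1) (by rw [pow_one, K.x_pow])
        (D.apply_eq_zero_of_notMem le_rfl (fun h => ?_) K.sing_x) χ.2.cast_charDegree.symm))
    rw [mem_compl, mem_union, D.mem_Y] at hχ
    exact hχ ((D.mem_iff χ).1 h)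
  have h3 : ‖Φ y - 1‖ ≤ 3 * √(Nat.card (centralizer ({y} : Set S))) := by
    rw [h1, show ∀ a : ℂ, ((1 : ℕ) : ℂ) * 1 + n ψ₂ * 0 + ((0 : ℕ) : ℂ) * (ψ₃ : S → ℂ) y + 0 + a - 1 = a from
      fun a => by push_cast; ring]
    refine (norm_sum_le _ _).trans ((sum_le_sum (g := fun χ => (n χ : ℝ) * √(Nat.card (centralizer ({y} : Set S))))
      fun χ _ => ?_).trans ?_)
    · rw [norm_mul, Complex.norm_natCast]
      refine mul_le_mul_of_nonneg_left (Real.le_sqrt_of_sq_le ?_) (Nat.cast_nonneg _)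
      rw [← sum_irr_norm_sq]
      exact single_le_sum (f := fun χ : IrrCharacter S => ‖(χ : S → ℂ) y‖ ^ 2) (fun _ _ => sq_nonneg _) (mem_univ χ)
    · rw [← sum_mul, ← Nat.cast_sum]
      exact mul_le_mul_of_nonneg_right (by exact_mod_cast (by omega : ∑ χ ∈ (D.X ∪ D.Y)ᶜ, n χ ≤ 3)) (Real.sqrt_nonneg _)
  refine (pow_le_pow_left₀ (norm_nonneg _) h3 2).trans_eq ?_
  rw [mul_pow, Real.sq_sqrt (Nat.cast_nonneg _)]
  norm_num

end CL.LG
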