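/-
Linear groups of small degree: the principal blocks for `p = 7` (degree four) and `p = 5` (degree three).
-/
import Cfsg.Agent.Char.LgDefs
import Cfsg.Agent.Inv.DegTwoP
import Cfsg.Agent.Inv.Small1
import Cfsg.Agent.Loc.SCPrime

set_option autoImplicit false

namespace CL.LG

open Cfsg CL.Char CL.Blk CL.Inv.PO CL.Blk.Sm Finset Subgroup
open scoped Classical

universe u

/-- The multiplicities in `Φ` when there are two exceptional characters. -/
theorem n7_setup (hM : MU.{u}) {p : ℕ} [Fact p.Prime] {S : Type u} [Group S] [Fintype S] {x : S}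
    {K : Ctx p x (zpowers x)} {B : Set (IrrCharacter S)} (D : Data K (irrOne (zpowers x)) B) {k : (ZMod p)ˣ}
    {d : ℕ} {Φ : S → ℂ} (h : Sq K k d Φ) (h2 : 2 * K.f = p - 1) : ∃ (a : IrrCharacter S → ℕ) (N : ℕ),
    (∀ ψ : IrrCharacter S, classInner Φ ψ = a ψ) ∧ D.ε * N + K.f + 1 = 2 * ∑ χ ∈ D.X, D.s χ * a χ ∧
      ∑ χ ∈ D.X, a χ * charDegree (χ : S → ℂ) + N * charDegree (D.μ 1 : S → ℂ) ≤ d ^ 2 := by
  obtain ⟨c, c1, c2⟩ := hM p S x K B D k d Φ h
  choose a ha using fun ψ : IrrCharacter S => h.char.exists_nat_classInner ψ.2.isCharacter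
  have hY : D.Y.card = 2 := by
    rw [D.card_Y]; exact Nat.eq_of_mul_eq_mul_right K.f_pos (K.index_E_one.trans h2.symm)
  refine ⟨a, ∑ μ ∈ D.Y, a μ, ha, ?_, ?_⟩
  · have h3 : ∀ μ ∈ D.Y, D.ε * (a μ : ℤ) = ∑ χ ∈ D.X, D.s χ * a χ - K.f + c μ := fun μ hμ => by
      have := c2 μ hμ
      simp only [ha] at this
      exact_mod_cast this
    have h4 : ∑ μ ∈ D.Y, (c μ : ℤ) + 1 = K.f := by exact_mod_cast c1
    rw [Nat.cast_sum, mul_sum, sum_congr rfl h3, sum_add_distrib, sum_const, hY, nsmul_eq_mul]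
    push_cast
    linarith
  · rw [← h.deg, h.char.charDegree_eq_sum a ha, sum_mul, sum_congr rfl (s₁ := D.Y)
      (g := fun μ => a μ * charDegree (μ : S → ℂ)) fun μ hμ => by
        obtain ⟨l, rfl⟩ := D.mem_Y.1 hμ
        rw [D.deg_μ l 1], ← sum_union (disjoint_right.2 fun _ => D.notMem_X_of_mem_Y)]
    exact sum_le_sum_of_subset (subset_univ _)

theorem n7 (hM : MU.{u}) (hI : I3.{u}) : N7.{u} := fun S _ _ x K k Φ h hΦ => by
  have := h.simple
  obtain ⟨M, hm⟩ := exists_isPModular' (Fact.out : Nat.Prime 7)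
  obtain ⟨D, h1, hs1⟩ := K.exists_data_principal hm
  obtain ⟨ψ₂, ψ₃, n1, n2, n3, hX, s2, s3, -⟩ := hI 7 S x K _ D h h1 hs1
  obtain ⟨a, N, ha, e1, e2⟩ := n7_setup hM D hΦ (by rw [h.hf])
  have hX' : D.X = {irrOne S, ψ₂, ψ₃} := Finset.ext fun χ => by simp [hX]
  have hd1 : charDegree (irrOne S : S → ℂ) = 1 := charDegree_const_one
  have e3 := D.deg_rel 1
  have e4 := D.deg_X_one ((hX _).2 (.inr (.inl rfl)))
  have e5 := D.deg_X_one ((hX _).2 (.inr (.inr rfl)))
  have e6 : charDegree (ψ₂ : S → ℂ) ≠ 1 := fun e =>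
    n2 (eq_irrOne_of_perfect (CL.Inv.commutator_eq_top_of_simple h.ncomm) e)
  have e7 := (D.μ 1).2.charDegree_pos
  rw [hX', sum_insert (by simp [n2.symm, n3.symm]), sum_pair n1] at e1 e2 e3
  simp only [hs1, s2, s3, hd1, h.hf, Int.ModEq] at e1 e2 e3 e4 e5
  rw [ha]
  by_cases a1 : 2 ≤ a (irrOne S)
  · exact .inr ⟨Nat.cast_ne_zero.2 (by omega), fun e => absurd (Nat.cast_eq_one.1 e) (by omega)⟩
  rcases D.hε with e | e <;> simp only [e] at e1 e3 e4
  · have k1 := Nat.mul_le_mul_right (charDegree (ψ₂ : S → ℂ)) (show 2 - a (irrOne S) ≤ a ψ₂ by omega)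
    by_cases k2 : charDegree (D.μ 1 : S → ℂ) = 3
    · exact .inl ⟨_, (D.μ 1).2, k2⟩
    obtain k3 | k3 : a (irrOne S) = 0 ∨ a (irrOne S) = 1 := by omega
    · rw [k3] at k1; omega
    rw [k3] at k1
    exact .inr ⟨by simp [k3], fun _ => ⟨M, hm, D, ψ₂, ψ₃, hX, e, hs1, s2.trans e, s3, by omega, by omega,
      fun l => (D.deg_μ l 1).trans (by omega)⟩⟩
  · have k1 := Nat.mul_le_mul_right (charDegree (D.μ 1 : S → ℂ)) (show 2 ≤ N by omega)
    omega

/-- A simple group with a self-centralizing element of order five and characters of degrees eight and nine. -/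
theorem n5_card [Fact (Nat.Prime 5)] {S : Type u} [Group S] [Fintype S] {x : S} {K : Ctx 5 x (zpowers x)}
    (h : SH K 2) {ψ μ : IrrCharacter S} (h9 : charDegree (ψ : S → ℂ) = 9) (h8 : charDegree (μ : S → ℂ) = 8)
    (hq : ∀ q : ℕ, q.Prime → q ∣ Nat.card S → q ≤ 5) : Nat.card S = 360 := by
  have := h.simple
  have hE := CL.Loc.nonempty_scData h.ncomm K.hx K.C_eq'.symm
  rw [← K.C_eq', K.relIndex_N, h.hf] at hE
  obtain ⟨E⟩ := hE
  have hd1 : charDegree (irrOne S : S → ℂ) = 1 := charDegree_const_one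
  have n1 : ψ ≠ irrOne S := fun e => by rw [e] at h9; omega
  have n2 : μ ≠ irrOne S := fun e => by rw [e] at h8; omega
  have e1 := E.d_mod
  have e2 := E.rel
  have hψ : ψ ∈ E.X := (E.mem ψ n1 (by rw [h9]; decide)).resolve_right fun l => by
    rw [← E.deg_Y ψ l, h9] at e1
    rcases E.hε with e | e <;> rw [e] at e1 <;> exact absurd e1 (by decide)
  have hX : E.X = {ψ} := (eq_of_subset_of_card_le (singleton_subset_iff.2 hψ)
    (by have := E.card_X; rw [card_singleton]; omega)).symm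
  have hμ : μ ∈ E.Y := (E.mem μ n2 (by rw [h8]; decide)).resolve_left fun l => by
    rw [hX, mem_singleton] at l
    rw [l] at h8; omega
  have e3 : E.s ψ = -1 := (E.hs ψ hψ).resolve_left fun e =>
    absurd (h9 ▸ e ▸ E.deg_X ψ hψ) (by decide)
  have e4 : E.d = 8 := (E.deg_Y μ hμ).symm.trans h8
  rw [hX, sum_singleton, e3, h9, e4] at e2
  have e5 : E.ε = -1 := by omega
  have e6 : ∀ B : Finset (IrrCharacter S), (E.Y ∩ B).card ≤ 2 := fun B =>
    (card_le_card inter_subset_left).trans (by have := E.card_Y; omega)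
  have k3 : ¬ 3 ^ 3 ∣ Nat.card S := fun l => by
    obtain ⟨B, b1, b2⟩ := E.bt 3 2 2 Nat.prime_three (by decide) l ψ n1 h9
    rw [hX, singleton_inter_of_mem b1, sum_singleton, e3, h9, e4, e5] at b2
    have := e6 B
    omega
  have k2 : ¬ 2 ^ 6 ∣ Nat.card S := fun l => by
    obtain ⟨B, b1, b2⟩ := E.bt 2 5 3 Nat.prime_two (by decide) l μ n2 h8
    have := e6 B
    have := card_pos.2 ⟨μ, mem_inter.2 ⟨hμ, b1⟩⟩
    by_cases b3 : ψ ∈ B
    · rw [hX, singleton_inter_of_mem b3, sum_singleton, e3, h9, e4, e5] at b2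
      omega
    · rw [hX, singleton_inter_of_notMem b3, sum_empty, e4, e5] at b2
      omega
  have k1 : Nat.card S ∣ 1440 := (Nat.dvd_iff_prime_pow_dvd_dvd _ _).2 fun q i hp l => by
    have k : ∀ j, ¬ q ^ (j + 1) ∣ Nat.card S → q ^ j ∣ 1440 → q ^ i ∣ 1440 := fun j l1 l2 =>
      (pow_dvd_pow q (Nat.lt_succ_iff.1 (not_le.1 fun l3 => l1 ((pow_dvd_pow q l3).trans l)))).trans l2
    refine (em (q ∣ Nat.card S)).elim (fun l1 => ?_) fun l1 => k 0 (by simpa using l1) (by simp)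
    have l2 := hq q hp l1
    interval_cases q
    exacts [absurd hp (by decide), absurd hp (by decide), k 5 k2 (by decide), k 2 k3 (by decide),
      absurd hp (by decide), k 1 K.not_sq_dvd (by decide)]
  have k4 := K.card_G le_rfl
  obtain ⟨n, k5⟩ := K.exists_index_N
  have k6 := h9 ▸ ψ.2.charDegree_dvd_card
  have k7 := h8 ▸ μ.2.charDegree_dvd_card
  rw [h.hf, k5] at k4
  obtain ⟨r, hr⟩ : 360 ∣ Nat.card S := by omega
  have k8 : r ∣ 4 := Nat.dvd_of_mul_dvd_mul_left (by decide : 0 < 360) (hr ▸ k1)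
  have := Nat.le_of_dvd (by decide) k8
  interval_cases r <;> omega

theorem n5 (hM : MU.{u}) : N5.{u} := fun S _ _ x K k Φ h hΦ => by
  have := h.simple
  have hp := CL.Inv.commutator_eq_top_of_simple h.ncomm
  obtain ⟨M, hm⟩ := exists_isPModular' (Fact.out : Nat.Prime 5)
  obtain ⟨D, h1, hs1⟩ := K.exists_data_principal hm
  obtain ⟨a, N, ha, e1, e2⟩ := n7_setup hM D hΦ (by rw [h.hf])
  obtain ⟨ψ, hψ⟩ := card_eq_one.1 (show (D.X.erase (irrOne S)).card = 1 by
    rw [card_erase_of_mem h1, D.card_X_one, h.hf])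
  have h2 : ψ ∈ D.X.erase (irrOne S) := hψ ▸ mem_singleton_self ψ
  have hd1 : charDegree (irrOne S : S → ℂ) = 1 := charDegree_const_one
  have e3 := D.deg_rel 1
  have e4 := D.deg_X_one (mem_of_mem_erase h2)
  have e6 : charDegree (ψ : S → ℂ) ≠ 1 := fun e => ne_of_mem_erase h2 (eq_irrOne_of_perfect hp e)
  have e7 := (D.μ 1).2.charDegree_pos
  rw [← add_sum_erase _ _ h1, hψ, sum_singleton] at e1 e2 e3
  simp only [hs1, hd1, h.hf, Int.ModEq] at e1 e2 e3 e4
  rw [ha]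
  by_cases a1 : 2 ≤ a (irrOne S)
  · exact .inr ⟨Nat.cast_ne_zero.2 (by omega), fun e => absurd (Nat.cast_eq_one.1 e) (by omega)⟩
  by_cases k2 : charDegree (D.μ 1 : S → ℂ) = 3
  · refine .inl (K.card_eq_sixty le_rfl h.hf (fun hn => hn.eq_bot_or_eq_top.elim
      (fun e => K.x_ne_one (zpowers_eq_bot.1 e)) fun e => h.ncomm ⟨⟨fun a b => ?_⟩⟩)
      (K.altRel_of_perfect hp (D.μ 1).2 ((D.μ 1).2.charKer_eq_bot_of_simple fun e => ?_) (by rw [k2]) le_rfl).2
      (CL.Inv.center_eq_bot_of_simple h.ncomm))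
    · obtain ⟨i, rfl⟩ := e.ge (mem_top a)
      obtain ⟨j, rfl⟩ := e.ge (mem_top b)
      exact zpow_mul_comm x i j
    · rw [e, charDegree_const_one] at k2; omega
  rcases D.hs ψ (mem_of_mem_erase h2) with s | s <;> rcases D.hε with e | e <;> simp only [e, s] at e1 e3 e4
  · have k1 := Nat.mul_le_mul_right (charDegree (ψ : S → ℂ)) (show 1 ≤ a ψ by omega)
    have k3 := Nat.mul_le_mul_right (charDegree (D.μ 1 : S → ℂ)) (show 1 ≤ N by omega)
    omega
  · omega
  · omega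
  have k3 := Nat.mul_le_mul_right (charDegree (D.μ 1 : S → ℂ)) (show 1 ≤ N by omega)
  have k4 : charDegree (D.μ 1 : S → ℂ) = 8 := by omega
  rw [k4] at e2
  exact .inr ⟨Nat.cast_ne_zero.2 (by omega), fun _ => n5_card h (ψ := ψ) (by omega) k4⟩

end CL.LG
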