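/-
Linear groups of degree `d ≤ p - 2`: the principal `7`-block with degrees `1, 15, 6, 10, 10` forces the order `2520`.
-/
import Cfsg.Agent.Char.LgDefs
import Cfsg.Agent.Blk.AltSevenA
import Cfsg.Agent.Loc.SCPrime
import Cfsg.Agent.Inv.BT1
import Cfsg.Agent.Char.ClassAlg
import Cfsg.Agent.Spor.CharTools
import Cfsg.Agent.S4488

set_option autoImplicit false

namespace CL.LG

open Cfsg CL.Char CL.Blk CL.Inv CL.Inv.PO Subgroup ComplexConjugate Finset
open scoped Classical

universe u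

variable {S : Type u} [Group S] [Fintype S] [IsSimpleGroup S] (hG : ¬ IsMulCommutative S) {ψ : IrrCharacter S}
  (h6 : charDegree (ψ : S → ℂ) = 6) (hi : ∀ g, ∃ n : ℤ, (ψ : S → ℂ) g = n)

omit [IsSimpleGroup S] [Fintype S] in
include h6 in
theorem o7_ne : ψ ≠ irrOne S := fun e => by rw [e, Spor.charDegree_irrOne] at h6; omega

include hG h6 hi

theorem o7_dvd (h27 : ¬ 27 ∣ Nat.card S) : Nat.card S ∣ 322560 := by
  refine (Nat.dvd_iff_prime_pow_dvd_dvd _ _).2 fun q k hq hk => ?_
  have h := ((hq.pow_dvd_iff_le_factorization Nat.card_pos.ne').1 hk).trans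
    (Cfsg.Agent.S4488.result q hq _ ψ.2.isCharacter (fun g e => by_contra fun hg =>
      Spor.norm_ne_degree hG ψ.2 (fun e => o7_ne h6 (Subtype.ext e)) hg (by
        rw [e, ← ψ.2.cast_charDegree, Complex.norm_natCast]))
      ⟨1, one_pos, hq.one_lt.ne' ∘ Nat.dvd_one.1, fun g => by obtain ⟨n, hn⟩ := hi g; exact hn ▸ intCast_mem _ n⟩ 6 h6)
  by_cases h8 : 8 ≤ q
  · rw [Finset.sum_eq_zero fun i _ => Nat.div_eq_of_lt ((by omega : 6 < (q - 1) * 1).trans_le
      (Nat.mul_le_mul_left _ (Nat.one_le_pow _ _ hq.pos)))] at h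
    rw [Nat.le_zero.1 h, pow_zero]
    exact one_dvd _
  have h2 := hq.two_le
  have h3 : q = 3 → k ≤ 2 := fun e => by
    by_contra hk'
    rw [e] at hk
    exact h27 ((pow_dvd_pow 3 (by omega : 3 ≤ k)).trans hk)
  push Not at h8
  interval_cases q
  · exact (pow_dvd_pow 2 (h.trans (by decide : _ ≤ 10))).trans (by norm_num)
  · exact (pow_dvd_pow 3 (h3 rfl)).trans (by norm_num)
  · exact absurd hq (by norm_num)
  · exact (pow_dvd_pow 5 (h.trans (by decide : _ ≤ 1))).trans (by norm_num)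
  · exact absurd hq (by norm_num)
  · exact (pow_dvd_pow 7 (h.trans (by decide : _ ≤ 1))).trans (by norm_num)

theorem o7_not [Fact (Nat.Prime 5)] {y : S} {C : Subgroup S} (K : Ctx 5 y C) (hC : C ≤ zpowers y) (hf : K.f = 2)
    {B : Set (IrrCharacter S)} (D : Data K (irrOne C) B) (h1 : irrOne S ∈ D.X) (s1 : D.s (irrOne S) = 1)
    (hψ : ψ ∈ B) : Nat.card S ≠ 20160 := fun hc => by
  have hX : ψ ∈ D.X := ((D.mem_iff ψ).1 hψ).resolve_right fun ⟨k, e⟩ => by
    have := D.deg_μ_one k
    rw [e, h6, hf] at this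
    unfold Int.ModEq at this
    rcases D.hε with e | e <;> rw [e] at this <;> omega
  have sψ : D.s ψ = 1 := (D.hs ψ hX).resolve_right fun e => by
    have := D.deg_X_one hX
    rw [e, h6] at this
    unfold Int.ModEq at this
    omega
  have ne := (o7_ne h6).symm
  have eX : D.X = {irrOne S, ψ} := (eq_of_subset_of_card_le (by
    simp only [insert_subset_iff, singleton_subset_iff]; exact ⟨h1, hX⟩) (by rw [D.card_X_one, hf, card_pair ne])).symm
  have d7 : ∀ k, D.ε = 1 ∧ charDegree (D.μ k : S → ℂ) = 7 := fun k => by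
    have := D.deg_rel k
    rw [eX, sum_pair ne, s1, sψ, h6, Spor.charDegree_irrOne] at this
    rcases D.hε with e | e <;> rw [e] at this ⊢ <;> omega
  have : Fact (Nat.Prime 2) := ⟨Nat.prime_two⟩
  obtain ⟨t, ht⟩ := exists_prime_orderOf_dvd_card' (G := S) 2 (by rw [hc]; norm_num)
  have tt : t * t = 1 := by rw [← pow_two, ← ht, pow_orderOf_eq_one]
  obtain ⟨u, hu⟩ := hi t
  have u6 := A7.abs_lt_degree hG ne.symm (fun e => by rw [e, orderOf_one] at ht; omega) hu
  have key := classAlg_card_pairs t t y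
  have hY : ∑ χ ∈ D.Y, (χ : S → ℂ) t * (χ : S → ℂ) t * conj ((χ : S → ℂ) y) / (χ : S → ℂ) 1 =
      (1 + u) ^ 2 / 7 * conj (∑ χ ∈ D.Y, (χ : S → ℂ) y) := by
    rw [map_sum, mul_sum]
    refine sum_congr rfl fun χ hχ => ?_
    obtain ⟨k, rfl⟩ := D.mem_Y.1 hχ
    have := D.reg_rel k (g := t) (by rw [ht]; norm_num)
    rw [eX, sum_pair ne, s1, sψ, (d7 1).1, hu, irrOne_apply, Int.cast_one, one_mul, one_mul, one_mul] at this
    rw [this, ← (D.μ k).2.cast_charDegree, (d7 k).2]
    push_cast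
    ring
  have hs : ∑ χ : IrrCharacter S, (χ : S → ℂ) t * (χ : S → ℂ) t * conj ((χ : S → ℂ) y) / (χ : S → ℂ) 1 =
      (u - 6) ^ 2 / 42 := by
    rw [← sum_subset (subset_univ (D.X ∪ D.Y)) fun χ _ hχ => by
        rw [D.apply_eq_zero_of_notMem hC (fun h => hχ (by simpa [D.mem_Y] using (D.mem_iff χ).1 h)) K.sing_x]; simp,
      sum_union (disjoint_left.2 fun χ a b => D.notMem_X_of_mem_Y b a), hY, eX, sum_pair ne,
      D.sum_Y_sing K.sing_x, (d7 1).1, D.X_sing_one hX K.sing_x, sψ, hu, ← ψ.2.cast_charDegree, h6]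
    simp only [irrOne_apply, map_one, map_neg, Int.cast_one]
    push_cast
    ring
  have hN : Nat.card {p : S × S // IsConj t p.1 ∧ IsConj t p.2 ∧ p.1 * p.2 = y} ≤ 10 := by
    rw [show 10 = K.f * 5 by rw [hf], ← K.card_N_self hC]
    refine Nat.card_le_card_of_injective (fun p => ⟨p.1.1, Spor.mem_normalizer_zpowers ?_⟩) fun p q e => ?_
    · obtain ⟨⟨a, b⟩, ha, hb, e⟩ := p
      have a2 := classAlg_mul_self_of_isConj tt ha
      have b2 := classAlg_mul_self_of_isConj tt hb
      have : a * y * a⁻¹ = y⁻¹ := by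
        rw [← e, ← mul_assoc, a2, one_mul, mul_inv_rev, inv_eq_of_mul_eq_one_right b2]
      exact this ▸ inv_mem (mem_zpowers y)
    · have e1 : p.1.1 = q.1.1 := congrArg Subtype.val e
      exact Subtype.ext (Prod.ext e1 (mul_left_cancel (a := p.1.1) (by rw [p.2.2.2, e1, q.2.2.2])))
  have hm : 0 < Nat.card {x : S // IsConj t x} := by
    have : Nonempty {x : S // IsConj t x} := ⟨t, IsConj.refl t⟩
    exact Nat.card_pos
  rw [hs, hc] at key
  generalize Nat.card {p : S × S // IsConj t p.1 ∧ IsConj t p.2 ∧ p.1 * p.2 = y} = N at key hN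
  generalize Nat.card {x : S // IsConj t x} = m at key hm
  have k2 : (N * 846720 : ℤ) = (m * (u - 6)) * (m * (u - 6)) := Int.cast_injective (α := ℂ) (by
    push_cast at key ⊢
    linear_combination 846720 * key)
  have k3 : N * 846720 = (m * (u - 6) : ℤ).natAbs * (m * (u - 6) : ℤ).natAbs := by
    rw [← Int.natAbs_mul, ← k2]; omega
  have k4 : ∀ N ≤ 10, IsSquare (N * 846720) → N = 0 := by decide +kernel
  rw [k4 N hN ⟨_, k3⟩, Nat.cast_zero, zero_mul, zero_eq_mul_self, mul_eq_zero] at k2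
  rw [h6] at u6
  have := le_abs_self u
  omega

omit hG h6 hi in
theorem o7 : O7.{u} := by
  rintro _ S _ _ x K ⟨hs, hG, hf⟩ ⟨M, hM, D, ψ₂, ψ₃, hX, hε, s1, s2, s3, d2, d3, dμ⟩ h27
  have hi : ∀ g, ∃ n : ℤ, (ψ₃ : S → ℂ) g = n := A7.exists_int_of_gal fun σ => by
    have := A7.charDegree_galIrr σ ψ₃
    rcases (hX _).1 (A7.gal_mem_X D (fun e => by
      have := K.card_E_one
      rw [e, hf, card_top, Nat.card_eq_fintype_card, ZMod.card_units] at this
      omega) σ ((hX ψ₃).2 (.inr (.inr rfl)))) with e | e | e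
    · rw [e, Spor.charDegree_irrOne] at this; omega
    · rw [e] at this; omega
    · exact e
  have hd := o7_dvd hG d3 hi h27
  have hperf : commutator S = ⊤ := ((inferInstance : (commutator S).Normal).eq_bot_or_eq_top).resolve_left fun e =>
    hG ((commutator_eq_bot_iff S).1 e)
  have c7 := K.card_G le_rfl
  have n7 := K.index_N_modEq
  have c10 := dμ 1 ▸ Spor.degree_dvd_card (D.μ 1)
  have c3 : Nat.card S = 2520 ∨ Nat.card S = 20160 ∨ Nat.card S = 161280 := by
    rw [hf] at c7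
    rw [c7] at hd c10 ⊢
    generalize (Nz x).index = n at *
    have k : ∀ n ∈ Nat.divisors 15360, n % 10 = 0 → n % 7 = 1 → n = 120 ∨ n = 960 ∨ n = 7680 := by decide +kernel
    have := k n (Nat.mem_divisors.2 ⟨Nat.dvd_of_mul_dvd_mul_left (by norm_num : 0 < 7 * 3) hd, by norm_num⟩)
      (by omega) n7
    omega
  have : Fact (Nat.Prime 5) := ⟨Nat.prime_five⟩
  obtain ⟨y, hy⟩ := exists_prime_orderOf_dvd_card' (G := S) 5 (by omega)
  obtain ⟨K5⟩ := nonempty_ctx_of_orderOf hy (by omega)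
  obtain ⟨M5, hM5⟩ := exists_isPModular' Nat.prime_five
  have z5 : ∀ χ : IrrCharacter S, χ ∈ principalBlock M5 S → 5 * charDegree (χ : S → ℂ) ∣ Nat.card S := fun χ hχ =>
    by_contra fun hn => PO.principal_apply_ne_zero hM5 hχ (z := y)
      (fun e => K5.syl.not_dvd_index (e.trans (index_dvd_of_le K5.P_le_C)))
      (Spor.eq_zero_of_defect_zero Nat.prime_five χ hn K5.sing_x)
  have hψ : ψ₃ ∈ principalBlock M5 S := by_contra fun hn => by
    have := Loc.card_dvd_sum_block hM5 (isPBlock_principal M5) K5.isPGroup_P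
      (univ.image fun k : (ZMod 7)ˣ => x ^ (k : ZMod 7).val) (fun u hu => by
        obtain ⟨k, -, rfl⟩ := mem_image.1 hu
        rw [K.orderOf_pow_val]; norm_num)
      (fun χ => if χ ∈ D.X then D.s χ * 6 else if χ ∈ D.Y then -3 else 0) fun χ => by
        rw [sum_image fun k _ l _ e => Units.ext (pow_val_inj (orderOf_eq_prime K.x_pow K.x_ne_one) e)]
        split_ifs with a b
        · rw [sum_congr rfl fun k _ => D.X_sing_one a (K.sing_pow_val k), sum_const, card_univ, ZMod.card_units]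
          simp [mul_comm]
        · obtain ⟨l, rfl⟩ := D.mem_Y.1 b
          have := D.sum_μ_P l
          rw [sum_zmod_units, ZMod.val_zero, pow_zero, ← (D.μ l).2.cast_charDegree, hε, hf] at this
          push_cast at this ⊢
          linear_combination this
        · rw [sum_congr rfl fun k _ => D.apply_eq_zero_of_notMem le_rfl
            (fun h => ((D.mem_iff χ).1 h).elim a fun h => b (D.mem_Y.2 h)) (K.sing_pow_val k)]
          simp
    rw [sum_eq_single_of_mem (irrOne S) (mem_filter.2 ⟨mem_univ _, irrOne_mem_principal hM5⟩) fun χ hχ h1 => ?_,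
      if_pos ((hX _).2 (.inl rfl)), s1, Spor.charDegree_irrOne, K5.card_P] at this
    · omega
    have hχ := (mem_filter.1 hχ).2
    have := z5 χ hχ
    rw [if_neg fun a => ?_, if_neg fun b => ?_, zero_mul]
    · obtain ⟨l, rfl⟩ := D.mem_Y.1 b
      rw [dμ] at this; omega
    · rcases (hX χ).1 a with rfl | rfl | rfl
      exacts [h1 rfl, by rw [d2] at this; omega, hn hχ]
  have hC := K5.le_zpowers_of_degree hperf hM5 hψ (o7_ne d3) (by omega)
  obtain ⟨D5, h1, s5⟩ := K5.exists_data_principal hM5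
  have c5 := K5.card_G hC
  have n5 : _ % 5 = 1 := K5.index_N_modEq
  have f2 := D5.two_le_f h1 hperf
  have f4 : K5.f ∣ 4 := K5.f_dvd
  have no := fun e => o7_not hG d3 hi K5 hC e D5 h1 s5 hψ
  have := Nat.le_of_dvd (by norm_num) f4
  generalize K5.f = f at *
  interval_cases f
  · have := no rfl; omega
  · omega
  · omega

end CL.LG
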