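/-
Linear groups of degree `d ≤ p - 2`: reduction to a minimal counterexample.
-/
import Cfsg.Agent.Char.LgDefs

set_option autoImplicit false
set_option linter.style.haveILetI false

namespace CL.LG

open Cfsg CL.Char Module Subgroup

universe u

section

variable {G : Type*} [Group G] {p : ℕ}

theorem red_pel (hg : ∀ M : Subgroup G, (∀ g, PEl p g → g ∈ M) → M = ⊤) {A : Type*} [CommGroup A] (f : G →* A)
    (g : G) : PEl p (f g) :=
  (hg { carrier := {g | PEl p (f g)}
        mul_mem' := fun {a b} ha hb => by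
          change PEl p (f (a * b))
          rw [map_mul]
          exact PEl.mul ha hb (Commute.all _ _)
        one_mem' := ⟨0, by simp⟩
        inv_mem' := fun {a} ha => by
          change PEl p (f a⁻¹)
          rw [map_inv]
          exact PEl.inv ha } fun g hg => hg.map f).ge (mem_top g)

theorem red_of_pow {g : G} {a : ℕ} (h : PEl p (g ^ p ^ a)) : PEl p g :=
  let ⟨k, hk⟩ := h
  ⟨a + k, by rw [pow_add, pow_mul, hk]⟩

variable [Finite G] [hp : Fact p.Prime]

theorem red_exp (hg : ∀ M : Subgroup G, (∀ g, PEl p g → g ∈ M) → M = ⊤) {A : Type*} [CommGroup A] (f : G →* A) :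
    ∃ a, ∀ g, f g ^ p ^ a = 1 := by
  have : Finite f.range := Finite.of_surjective _ f.rangeRestrict_surjective
  have h : IsPGroup p f.range := by
    rintro ⟨_, g, rfl⟩
    exact pel_coe.1 (red_pel hg f g)
  obtain ⟨a, ha⟩ := h.exists_card_eq
  exact ⟨a, fun g => congrArg Subtype.val (ha ▸ pow_card_eq_one' (x := (⟨f g, g, rfl⟩ : f.range)))⟩

theorem red_gen (h : p ^ 2 ∣ (pCore p G).index) (hs : ∀ X : Subgroup G, X ≠ ⊤ → ¬ p ^ 2 ∣ (pCore p X).index)
    (M : Subgroup G) (hM : ∀ g, PEl p g → g ∈ M) : M = ⊤ := by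
  by_contra hne
  have h1 : ∀ g, PEl p g → g ∈ M.normalCore := fun g hg a => hM _ (hg.conj a)
  have h2 : pCore p G ≤ M.normalCore := fun g hg => h1 g (pel_of_mem (Grp.pCore_isPGroup p G) hg)
  obtain ⟨P⟩ : Nonempty (Sylow p G) := inferInstance
  have h3 : ¬ p ∣ M.normalCore.index := fun k =>
    P.not_dvd_index (k.trans (index_dvd_of_le fun g hg => h1 g (pel_of_mem P.isPGroup' hg)))
  refine hs M.normalCore (fun e => hne (top_le_iff.1 (e ▸ M.normalCore_le))) ?_
  rw [← Grp.pCoreOf_subgroupOf, Grp.pCoreOf_eq_inf_of_normal, inf_subgroupOf_right]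
  rw [← relIndex_mul_index h2] at h
  exact (((Nat.Prime.coprime_iff_not_dvd hp.out).2 h3).pow_left 2).dvd_of_dvd_mul_right h

variable {χ : G → ℂ} (hχ : IsCharacter G χ) (hker : charKer χ = ⊥) (hd : charDegree χ + 2 ≤ p)
  (hg : ∀ M : Subgroup G, (∀ g, PEl p g → g ∈ M) → M = ⊤)
include hχ hker hd hg

theorem red_irr (h : p ∣ (pCore p G).index) : ∃ ψ, IsIrrCharacter G ψ ∧ charDegree ψ ≤ charDegree χ ∧
    ∀ g ∈ charKer ψ, PEl p g := by
  haveI := Fintype.ofFinite G
  obtain ⟨a, ha⟩ := red_exp hg (Abelianization.of (G := G))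
  have h1 : ∀ g : G, g ^ p ^ a ∈ commutator G := fun g => by
    rw [← Abelianization.ker_of, MonoidHom.mem_ker, map_pow, ha]
  obtain ⟨g, -, hg'⟩ := exists_pel_notMem h
  obtain ⟨ψ, hψ, hne, h2⟩ : ∃ ψ, IsIrrCharacter G ψ ∧ classInner χ ψ ≠ 0 ∧ ¬ commutator G ≤ charKer ψ := by
    by_contra! h2
    refine hg' ((Grp.pCore_eq_top_iff.2 fun x => ⟨a, ?_⟩).ge (mem_top g))
    rw [← mem_bot, ← hker]
    exact hχ.mem_charKer_iff_forall.2 fun ψ hψ hne => h2 ψ hψ hne (h1 x)
  have h3 : ¬ 2 * charDegree ψ + 1 < p := fun k => h2 (ft_ker hψ.isCharacter hg k)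
  have hφ := hχ.sub_of_classInner_ne_zero hψ hne
  have h4 : charDegree (χ - ψ) + charDegree ψ = charDegree χ := by
    have : ((charDegree (χ - ψ) + charDegree ψ : ℕ) : ℂ) = charDegree χ := by
      rw [Nat.cast_add, hφ.cast_charDegree, hψ.cast_charDegree, hχ.cast_charDegree, Pi.sub_apply, sub_add_cancel]
    exact_mod_cast this
  have h5 := charKer_add hφ hψ.isCharacter
  rw [sub_add_cancel, hker] at h5
  refine ⟨ψ, hψ, by omega, fun k hk => ⟨a, ?_⟩⟩
  rw [← mem_bot, h5]
  exact ⟨ft_ker hφ hg (by omega) (h1 k), pow_mem hk _⟩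

theorem red_twist (h : p ∣ (pCore p G).index) : ∃ (n : ℕ) (σ : Representation ℂ G (Fin n → ℂ)),
    IsIrrCharacter G σ.character ∧ n + 2 ≤ p ∧ MonoidHom.ker σ = pCore p G := by
  obtain ⟨ψ, hψ, h1, h2⟩ := red_irr hχ hker hd hg h
  have hψ' := hψ
  obtain ⟨n, ρ, hρ, rfl⟩ := hψ'
  have h0 := hψ.charDegree_pos
  rw [charDegree_character, finrank_fin_fun] at h0 h1
  rw [charKer_character] at h2
  obtain ⟨a, ha⟩ := red_exp hg (detHom ρ)
  have hc : n.Coprime p := (Nat.coprime_of_lt_prime (by omega) (by omega) hp.out).symm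
  obtain ⟨t, ht⟩ : ∃ t, p ^ a ∣ 1 + t * n := by
    have hpa : 0 < p ^ a := pow_pos hp.out.pos a
    obtain ⟨s, hs⟩ := Nat.exists_mul_mod_eq_of_coprime (p ^ a - 1) (hc.pow_right a) hpa.ne'
    refine ⟨s, (Nat.modEq_zero_iff_dvd).1 ?_⟩
    have h3 : n * s ≡ p ^ a - 1 [MOD p ^ a] := hs.2
    have h4 := h3.add_left 1
    rw [show 1 + (p ^ a - 1) = p ^ a by omega, mul_comm n] at h4
    exact h4.trans (Nat.modEq_zero_iff_dvd.2 dvd_rfl)
  have hμ : ∀ g, (detHom ρ ^ t) g ^ p ^ a = 1 := fun g => by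
    rw [MonoidHom.pow_apply, ← pow_mul, mul_comm, pow_mul, ha, one_pow]
  refine ⟨n, twistRep ρ (detHom ρ ^ t), ?_, by omega, le_antisymm (Grp.le_pCore ?_) fun z hz => ?_⟩
  · rw [funext (character_twistRep ρ _)]
    exact hψ.monoidHom_mul _
  · rintro ⟨g, hg'⟩
    refine pel_coe.1 (red_of_pow (a := a) (h2 _ ?_))
    have h3 := MonoidHom.mem_ker.1 (pow_mem hg' (p ^ a))
    rwa [twistRep_apply, map_pow (detHom ρ ^ t), hμ, Units.val_one, one_smul] at h3
  · have h3 := hg (centralizer {z}) fun y hy =>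
      mem_centralizer_singleton_iff.2 (commute_pCore hχ hker (by omega) hz hy).symm.eq
    obtain ⟨w, hw⟩ := schur_exists_smul_one ρ (ρ z) fun g => by
      rw [← map_mul, ← map_mul, mem_centralizer_singleton_iff.1 (h3.ge (mem_top g))]
    obtain ⟨b, hb⟩ := pel_of_mem (Grp.pCore_isPGroup p G) hz
    haveI : Nontrivial (Fin n → ℂ) := nontrivial_of_finrank_pos (R := ℂ) (by rwa [finrank_fin_fun])
    have h4 : w ^ p ^ b = 1 := smul_one_injective_of_nontrivial (V := Fin n → ℂ) (by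
      rw [one_smul, ← one_pow (p ^ b), ← smul_pow, ← hw, ← map_pow, hb, map_one, one_pow])
    have h5 : w ^ n = (detHom ρ z : ℂ) := by
      rw [detHom_apply, hw, LinearMap.det_smul, map_one, mul_one, finrank_fin_fun]
    have h6 : ((detHom ρ ^ t) z * w) ^ p ^ (a + b) = 1 := by
      rw [mul_pow, ← Units.val_pow_eq_pow_val, pow_add, pow_mul, hμ, one_pow, mul_comm (p ^ a), pow_mul, h4]
      simp
    have h7 : ((detHom ρ ^ t) z * w) ^ n = 1 := by
      obtain ⟨c, hc⟩ := ht
      rw [mul_pow, h5, ← Units.val_pow_eq_pow_val, ← Units.val_mul, MonoidHom.pow_apply, ← pow_mul, ← pow_succ,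
        add_comm, hc, pow_mul, ha, one_pow, Units.val_one]
    rw [MonoidHom.mem_ker, twistRep_apply, hw, smul_smul, orderOf_eq_one_iff.1 (Nat.eq_one_of_dvd_coprimes
      (hc.pow_right (a + b)) (orderOf_dvd_of_pow_eq_one h7) (orderOf_dvd_of_pow_eq_one h6)), one_smul]

end

/-- (LG-RED) reduction to a minimal counterexample -/
theorem red : RED.{u} := by
  intro p hp hM G _ _
  induction hk : Nat.card G using Nat.strong_induction_on generalizing G with
  | _ k ih =>
  intro χ hχ hker hd h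
  have hs : ∀ X : Subgroup G, X ≠ ⊤ → ¬ p ^ 2 ∣ (pCore p X).index := fun X hX =>
    ih _ (hk ▸ Grp.card_lt_of_ne_top hX) X rfl _ (hχ.restrict X) (charKer_restrict_eq_bot hχ hker X) hd
  have hg := red_gen h hs
  obtain ⟨n, σ, h1, h2, h3⟩ := red_twist hχ hker hd hg ((dvd_pow_self p two_ne_zero).trans h)
  by_cases hO : pCore p G = ⊥
  · refine hM G _ σ ⟨(MonoidHom.ker_eq_bot_iff _).1 (h3.trans hO), h1, by rwa [finrank_fin_fun], hO, hg, ?_, hs⟩
    rwa [hO, index_bot] at h
  · have h4 : charKer σ.character = pCore p G := (charKer_character σ).trans h3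
    obtain ⟨ψ, hψ, e⟩ := h1.isCharacter.exists_quotient (pCore p G) h4.ge
    have h5 : charKer ψ = ⊥ := by
      have h6 := charKer_comp_of_surjective ψ (QuotientGroup.mk' (pCore p G)) (QuotientGroup.mk'_surjective _)
      rw [show (fun x => ψ (QuotientGroup.mk' (pCore p G) x)) = σ.character from e.symm, h4] at h6
      refine (eq_bot_iff_forall _).2 fun y hy => ?_
      obtain ⟨y, rfl⟩ := QuotientGroup.mk_surjective y
      exact (QuotientGroup.eq_one_iff y).2 (h6 ▸ hy)
    have h6 : charDegree ψ = n := by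
      rw [← finrank_fin_fun ℂ (n := n), ← charDegree_character σ]
      exact congrArg (fun z : ℂ => ⌊z.re⌋₊) (congrFun e 1).symm
    refine ih _ ?_ (G ⧸ pCore p G) rfl ψ hψ h5 (by omega) ?_
    · rw [← hk, card_eq_card_quotient_mul_card_subgroup (pCore p G)]
      exact lt_mul_of_one_lt_right Nat.card_pos ((one_lt_card_iff_ne_bot _).2 hO)
    · rwa [Grp.pCore_quotient_pCore, index_bot]

end CL.LG
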