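/-
Linear groups of degree `d ≤ p - 2`, step ST: a good element of order `p`.
-/
import Cfsg.Agent.Char.LgDefs
import Cfsg.Agent.Even.Amb

set_option autoImplicit false

namespace CL.LG

open Cfsg CL.Char Module Subgroup
open scoped commutatorElement

universe u

section

variable {H : Type u} [Group H] {V : Type} [AddCommGroup V] [Module ℂ V] (τ : Representation ℂ H V)

/-- the commutator space `[V, H]` -/
def stW : Submodule ℂ V := ⨆ h : H, LinearMap.range (τ h - 1)

theorem st_mem (h : H) (v : V) : τ h v - v ∈ stW τ := Submodule.mem_iSup_of_mem h ⟨v, rfl⟩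

theorem st_inv (h : H) : stW τ ≤ (stW τ).comap (τ h) := fun w hw => by
  simpa using add_mem (st_mem τ h w) hw

theorem st_le {U : Submodule ℂ V} (h : ∀ g v, τ g v - v ∈ U) : stW τ ≤ U :=
  iSup_le fun g => by rintro _ ⟨v, rfl⟩; exact h g v

variable [Finite H]

theorem st_fix {w : V} (hw : w ∈ stW τ) (h : ∀ g, τ g w = w) : w = 0 := by
  have := Fintype.ofFinite H
  have h1 := st_le τ (U := LinearMap.ker (∑ g, τ g)) (fun g v => by
    simp only [LinearMap.mem_ker, map_sub, LinearMap.sum_apply, sub_eq_zero, ← End.mul_apply, ← map_mul]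
    exact Fintype.sum_equiv (Equiv.mulRight g) _ _ fun _ => rfl) hw
  simp only [LinearMap.mem_ker, LinearMap.sum_apply, h, Finset.sum_const, ← Nat.cast_smul_eq_nsmul ℂ] at h1
  exact (smul_eq_zero.1 h1).resolve_left (by simp)

theorem st_inj (hτ : Function.Injective τ) : Function.Injective (τ.subrepresentation _ (st_inv τ)) := by
  have := Fintype.ofFinite H
  refine (injective_iff_map_eq_one _).2 fun h e => (injective_iff_map_eq_one _).1 hτ h (LinearMap.ext fun v => ?_)
  have h1 : τ h (∑ g, (τ g v - v)) = ∑ g, (τ g v - v) :=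
    congrArg Subtype.val (LinearMap.congr_fun e ⟨_, Submodule.sum_mem _ fun g _ => st_mem τ g v⟩)
  have h2 : ∑ g, τ h (τ g v) = ∑ g, τ g v :=
    Fintype.sum_equiv (Equiv.mulLeft h) _ _ fun _ => by simp
  simp only [Finset.sum_sub_distrib, map_sub, map_sum, h2, sub_right_inj, Finset.sum_const,
    ← Nat.cast_smul_eq_nsmul ℂ] at h1
  rw [map_smul] at h1
  exact smul_right_injective V (by simp) h1

variable {p : ℕ} [Fact p.Prime] (hg : ∀ M : Subgroup H, (∀ g, PEl p g → g ∈ M) → M = ⊤) (hc : commutator H = ⊤)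
include hg hc

theorem st_small [FiniteDimensional ℂ V] (hd : 2 * finrank ℂ V + 1 < p) (h : H) : τ h = 1 := by
  have := ft_ker (isCharacter_character τ) hg (by rwa [charDegree_character])
  rw [hc, charKer_character] at this
  exact this (mem_top h)

theorem st_irr [FiniteDimensional ℂ V] (hd : finrank ℂ V + 2 ≤ p) (h0 : stW τ ≠ ⊥) :
    (τ.subrepresentation _ (st_inv τ)).IsIrreducible := by
  have := Submodule.nontrivial_iff_ne_bot.2 h0
  refine { exists_pair_ne := ⟨⊥, ⊤, fun e => bot_ne_top (congrArg Subrepresentation.toSubmodule e)⟩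
           eq_bot_or_eq_top := fun U => ?_ }
  have i : ∀ g, U.toSubmodule.map (stW τ).subtype ≤ (U.toSubmodule.map (stW τ).subtype).comap (τ g) := by
    rintro g _ ⟨u, hu, rfl⟩
    exact ⟨_, U.apply_mem_toSubmodule g hu, rfl⟩
  by_cases c : 2 * finrank ℂ (U.toSubmodule.map (stW τ).subtype) + 1 < p
  · refine .inl (Subrepresentation.toSubmodule_injective (eq_bot_iff.2 fun u hu => Subtype.ext (st_fix τ u.2 fun g => ?_)))
    exact congrArg Subtype.val (LinearMap.congr_fun (st_small (τ.subrepresentation _ i) hg hc c g) ⟨_, u, hu, rfl⟩)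
  · have h1 := (U.toSubmodule.map (stW τ).subtype).finrank_quotient_add_finrank
    refine .inr (Subrepresentation.toSubmodule_injective (eq_top_iff.2 fun u _ => ?_))
    obtain ⟨w, hw, e⟩ := st_le τ (fun g v => (Submodule.Quotient.eq _).1
      (LinearMap.congr_fun (st_small (τ.quotient _ i) hg hc (by omega) g) (Submodule.Quotient.mk v))) u.2
    exact Subtype.ext e ▸ hw

end

theorem st (hD : DL.{u}) (hB : BT.{u}) : ST.{u} := fun p hp G _ _ V _ _ _ ρ p5 inj hd hs g hg hO => by
  obtain ⟨H, hn, h1, -, h3, h4, h5, h6, -⟩ := hD p G _ (isCharacter_character ρ) ((injective_iff_charKer_eq_bot ρ).1 inj)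
    (by rwa [charDegree_character]) hs (by_contra fun c => hO (hg.mem_pCore c))
  obtain ⟨x, hx, q, hq, rfl⟩ := mem_sup_of_normal_right.1 (h5 g hg)
  have x1 : PEl p x := by
    have a := (Grp.pCore_isPGroup p G |> pel_of_mem) (inv_mem hq)
    simpa using hg.mul a (commute_pCore (isCharacter_character ρ) ((injective_iff_charKer_eq_bot ρ).1 inj)
      (by rw [charDegree_character]; omega) (inv_mem hq) hg).symm
  have hc : commutator H = ⊤ := eq_top_iff.2 fun y _ => (mem_map_iff_mem H.subtype_injective).1 (by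
    rw [map_subtype_commutator, h1]; exact y.2)
  have ho : orderOf (⟨x, hx⟩ : H) = p := by
    obtain ⟨k, hk⟩ := pel_coe.1 (show PEl p ((⟨x, hx⟩ : H) : G) from x1)
    obtain ⟨j, -, hj⟩ := (Nat.dvd_prime_pow hp.out).1 (orderOf_dvd_of_pow_eq_one hk)
    rcases j with _ | _ | j
    · exact (hO (by simpa [show x = 1 from congrArg Subtype.val (orderOf_eq_one_iff.1 hj)] using hq)).elim
    · simpa using hj
    · exact (h4 ((pow_dvd_pow p (Nat.le_add_left 2 j)).trans (hj.symm.dvd.trans (_root_.orderOf_dvd_natCard _)))).elim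
  have H0 : H ≠ ⊥ := fun e => hp.out.not_dvd_one (by simpa [e] using h3)
  have hz : ¬ (zpowers (⟨x, hx⟩ : H)).Normal := fun hz => by
    have e := h6 (zpowers ⟨x, hx⟩) fun y ⟨k, hk⟩ => CL.Even.mem_of_pow_mem_of_coprime
      (n := (zpowers (⟨x, hx⟩ : H)).index) (Nat.Coprime.coprime_dvd_left (orderOf_dvd_of_pow_eq_one hk)
        (((Nat.Prime.coprime_iff_not_dvd hp.out).2 fun d => h4 (by
          rw [← (zpowers (⟨x, hx⟩ : H)).card_mul_index, Nat.card_zpowers, ho, sq]
          exact Nat.mul_dvd_mul_left p d)).pow_left k)) (pow_index_mem _ y)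
    refine H0 (h1.symm.trans (eq_bot_iff.2 (commutator_le.2 fun a ha b hb => ?_)))
    obtain ⟨i, hi⟩ := e.ge (mem_top ⟨a, ha⟩)
    obtain ⟨j, hj⟩ := e.ge (mem_top ⟨b, hb⟩)
    rw [mem_bot, commutatorElement_eq_one_iff_commute, ← show x ^ i = a from congrArg Subtype.val hi,
      ← show x ^ j = b from congrArg Subtype.val hj]
    exact Commute.zpow_zpow_self x i j
  let τ : Representation ℂ H V := ρ.comp H.subtype
  have i1 : Function.Injective τ := inj.comp H.subtype_injective
  have irr := st_irr τ h6 hc hd fun e => H0 (eq_bot_iff.2 fun y hy => congrArg Subtype.val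
    ((injective_iff_map_eq_one _).1 i1 ⟨y, hy⟩ (LinearMap.ext fun v => sub_eq_zero.1 (e.le (st_mem τ _ v)))))
  obtain ⟨b1, b2⟩ := hB p H _ _ ⟨x, hx⟩ p5 (st_inj τ i1) (isIrrCharacter_character _)
    (by have := (stW τ).finrank_le; omega) ho h4 hz
  refine ⟨x, by simpa using hq, congrArg Subtype.val (ho ▸ pow_orderOf_eq_one (⟨x, hx⟩ : H)), fun c hc => ?_, ?_,
    fun T hT => ?_⟩
  · refine (Submodule.finrank_mono fun v hv => ?_).trans ((Submodule.finrank_map_le (stW τ).subtype _).trans (b1 c))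
    have e := End.mem_eigenspace_iff.1 hv
    have m : v ∈ stW τ := (Submodule.smul_mem_iff _ (sub_ne_zero.2 hc)).1 (by
      rw [sub_smul, one_smul, ← e]; exact st_mem τ ⟨x, hx⟩ v)
    exact ⟨⟨v, m⟩, End.mem_eigenspace_iff.2 (Subtype.ext e), rfl⟩
  · refine b2.trans (Nat.succ_le_succ (Nat.mul_le_mul_left 2 ?_))
    rw [← Submodule.finrank_map_subtype_eq]
    refine Submodule.finrank_mono ?_
    rintro _ ⟨_, ⟨w, rfl⟩, rfl⟩
    exact ⟨w, rfl⟩
  · let M : Subgroup H :=
      { carrier := {h | Commute T (τ h)}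
        one_mem' := by simp
        mul_mem' := fun ha hb => by simpa using Commute.mul_right ha hb
        inv_mem' := fun {a} ha => Commute.units_inv_right (u := τ.asGroupHom a) ha }
    have hM : ∀ h, Commute T (τ h) := fun h => (h6 M fun y hy => hT y (pel_coe.2 hy)).ge (mem_top h)
    have hW : ∀ w ∈ stW τ, T w ∈ stW τ := st_le τ (U := (stW τ).comap T) fun h v => by
      rw [Submodule.mem_comap, map_sub, ← End.mul_apply, (hM h).eq]
      exact st_mem τ h _
    obtain ⟨c, e⟩ := schur_exists_smul_one (τ.subrepresentation _ (st_inv τ)) (T.restrict hW) fun h =>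
      LinearMap.ext fun w => Subtype.ext (LinearMap.congr_fun (hM h).eq w)
    refine ⟨c, ?_⟩
    rintro _ ⟨v, rfl⟩
    exact congrArg Subtype.val (LinearMap.congr_fun e ⟨_, st_mem τ ⟨x, hx⟩ v⟩)

end CL.LG
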