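import Cfsg.Agent.Char.RealPPrime
import Cfsg.Agent.Char.GoodClass
import Cfsg.Agent.Char.Extension

/-! Counting irreducible characters over a character of a normal subgroup, in homomorphism form. -/

set_option autoImplicit false
set_option linter.unusedSectionVars false
open Cfsg
open scoped ComplexConjugate

namespace CL.Char

theorem mck_card_eq_of_fibers {A B Y : Type*} [Finite A] [Finite B] (r : Setoid Y)
    (R : A → Y → Prop) (R' : B → Y → Prop) (h1 : ∀ a, ∃ y, R a y)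
    (h2 : ∀ a y y', R a y → (R a y' ↔ r y y')) (h1' : ∀ b, ∃ y, R' b y)
    (h2' : ∀ b y y', R' b y → (R' b y' ↔ r y y'))
    (h3 : ∀ y, Nat.card {a // R a y} = Nat.card {b // R' b y}) : Nat.card A = Nat.card B := by
  choose f hf using h1
  choose g hg using h1'
  refine Nat.card_congr (Equiv.ofFiberEquiv (f := fun a => Quotient.mk r (f a))
    (g := fun b => Quotient.mk r (g b)) fun q => Classical.choice (Finite.card_eq.1 ?_))
  obtain ⟨y, rfl⟩ := Quotient.exists_rep q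
  exact (Nat.card_congr (Equiv.subtypeEquivRight fun a =>
    Quotient.eq.trans (h2 a _ y (hf a)).symm)).trans ((h3 y).trans
      (Nat.card_congr (Equiv.subtypeEquivRight fun b =>
        (h2' b _ y (hg b)).trans (Quotient.eq (r := r)).symm)))

variable {K X : Type*} [Group K] [Group X]

/-- `k` embeds `K` as a normal subgroup of `X`, and `c` is the conjugation action. -/
structure NEmb (k : K →* X) (c : X →* MulAut K) : Prop where
  inj : Function.Injective k
  cj : ∀ g a, k (c g a) = g * k a * g⁻¹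

/-- The stabilizer of a function under an action by automorphisms. -/
def cstab (c : X →* MulAut K) (θ : K → ℂ) : Subgroup X where
  carrier := {g | ∀ a, θ (c g a) = θ a}
  one_mem' := fun a => by simp
  mul_mem' := fun {g h} hg hh a => by rw [map_mul, MulAut.mul_apply, hg, hh]
  inv_mem' := fun {g} hg a => by rw [← hg, ← MulAut.mul_apply, ← map_mul]; simp

theorem mem_cstab {c : X →* MulAut K} {θ : K → ℂ} {g : X} :
    g ∈ cstab c θ ↔ ∀ a, θ (c g a) = θ a := Iff.rfl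

/-- `χ` lies over `θ`. -/
def Ovr (k : K →* X) (θ : K → ℂ) (χ : X → ℂ) : Prop := ∑ᶠ a, χ (k a) * conj (θ a) ≠ 0

theorem ovr_iff [Fintype K] {k : K →* X} {θ : K → ℂ} {χ : X → ℂ} :
    Ovr k θ χ ↔ classInner (fun a => χ (k a)) θ ≠ 0 := by
  rw [Ovr, finsum_eq_sum_of_fintype, classInner_def, mul_ne_zero_iff,
    and_iff_right (inv_ne_zero natCard_ne_zero)]

/-- The number of irreducible characters over `θ` whose degree satisfies `Q`. -/
noncomputable def mckCnt (Q : ℕ → Prop) (k : K →* X) (θ : K → ℂ) : ℕ :=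
  Nat.card {χ : IrrCharacter X // Q (charDegree (χ : X → ℂ)) ∧ Ovr k θ χ}

theorem ovr_congr [Finite K] {K' : Type*} [Group K'] (f : K' ≃* K) {k : K →* X} {θ : K → ℂ}
    {χ : X → ℂ} {X' : Type*} [Group X'] {k' : K' →* X'} {θ' : K' → ℂ} {χ' : X' → ℂ}
    (h1 : ∀ a, χ' (k' a) = χ (k (f a))) (h2 : ∀ a, θ' a = θ (f a)) : Ovr k' θ' χ' ↔ Ovr k θ χ := by
  have := Fintype.ofFinite K
  have := Fintype.ofEquiv K f.symm.toEquiv
  rw [ovr_iff, ovr_iff, ← classInner_comp_mulEquiv f, funext h1, funext h2]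

theorem mckCnt_congr [Finite K] {K' X' : Type*} [Group K'] [Group X'] (Q : ℕ → Prop) (e : X' ≃* X)
    (f : K' ≃* K) {k : K →* X} {k' : K' →* X'} (h1 : ∀ a, e (k' a) = k (f a)) {θ : K → ℂ}
    {θ' : K' → ℂ} (h2 : ∀ a, θ' a = θ (f a)) : mckCnt Q k' θ' = mckCnt Q k θ := by
  refine (Nat.card_congr (Equiv.subtypeEquiv
    ⟨fun χ => ⟨_, χ.2.comp_mulEquiv e⟩, fun χ => ⟨_, χ.2.comp_mulEquiv e.symm⟩,
      fun χ => Subtype.ext (funext fun x => by simp), fun χ => Subtype.ext (funext fun x => by simp)⟩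
    fun χ => and_congr ?_ (ovr_congr f (fun a => ?_) h2).symm)).symm
  · simp [charDegree]
  · simp [h1]

theorem mckCnt_congr_range [Finite K] {T T' : Type*} [Group T] [Group T'] (Q : ℕ → Prop)
    (t : T →* X) (t' : T' →* X) (ht : Function.Injective t) (ht' : Function.Injective t')
    (h : t.range = t'.range) {k : K →* T} {k' : K →* T'} (hk : ∀ a, t (k a) = t' (k' a))
    (θ : K → ℂ) : mckCnt Q k θ = mckCnt Q k' θ :=
  mckCnt_congr Q ((MonoidHom.ofInjective ht).trans ((MulEquiv.subgroupCongr h).trans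
    (MonoidHom.ofInjective ht').symm)) (MulEquiv.refl K) (fun a => ht' (by
      simp only [MulEquiv.trans_apply, MulEquiv.refl_apply]
      rw [MonoidHom.apply_ofInjective_symm, ← hk]
      rfl)) fun _ => rfl

theorem ovr_exists [Finite K] [Finite X] (k : K →* X) {χ : X → ℂ} (hχ : IsIrrCharacter X χ) :
    ∃ θ, IsIrrCharacter K θ ∧ Ovr k θ χ := by
  have := Fintype.ofFinite K
  have := Fintype.ofFinite X
  simpa only [ovr_iff] using exists_irr_constituent_comp hχ k

theorem Ovr.trans {L : Type*} [Group L] [Finite L] [Finite K] {k : K →* X} {i : L →* K}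
    {χ : X → ℂ} {θ : K → ℂ} {ν : L → ℂ} (h : Ovr k θ χ) (h' : Ovr i ν θ) (hχ : IsCharacter X χ)
    (hθ : IsIrrCharacter K θ) (hν : IsCharacter L ν) : Ovr (k.comp i) ν χ := by
  have := Fintype.ofFinite K
  have := Fintype.ofFinite L
  rw [ovr_iff] at h h' ⊢
  exact classInner_comp_ne_zero_of_constituent i (hχ.comp k) hθ hν h h'

theorem Ovr.exists_between {L : Type*} [Group L] [Finite L] [Finite K] {k : K →* X} {i : L →* K}
    {χ : X → ℂ} {ν : L → ℂ} (h : Ovr (k.comp i) ν χ) (hχ : IsClassFunction X χ) :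
    ∃ θ, IsIrrCharacter K θ ∧ Ovr k θ χ ∧ Ovr i ν θ := by
  have := Fintype.ofFinite K
  have := Fintype.ofFinite L
  simp only [ovr_iff] at h ⊢
  exact exists_irr_constituent_comp_ne_zero i (hχ.comp k) h

theorem ovr_of_eq [Finite K] {k : K →* X} {χ : X → ℂ} {θ : K → ℂ} (hθ : IsIrrCharacter K θ)
    (h : ∀ a, χ (k a) = θ a) : Ovr k θ χ := by
  have := Fintype.ofFinite K
  rw [ovr_iff, funext h, hθ.classInner_self]
  exact one_ne_zero

theorem Ovr.eq_of_irr [Finite K] {k : K →* X} {χ : X → ℂ} {θ : K → ℂ} (h : Ovr k θ χ)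
    (hθ : IsIrrCharacter K θ) (hχ : IsIrrCharacter K fun a => χ (k a)) (a : K) : χ (k a) = θ a := by
  have := Fintype.ofFinite K
  exact congrFun (hχ.eq_of_classInner_ne_zero hθ (ovr_iff.1 h)) a

theorem nemb_subtype (N : Subgroup X) [N.Normal] : NEmb N.subtype MulAut.conjNormal :=
  ⟨N.subtype_injective, fun _ _ => rfl⟩

namespace NEmb

variable {k : K →* X} {c : X →* MulAut K} (h : NEmb k c)
include h

theorem normal : k.range.Normal := ⟨by
  rintro _ ⟨a, rfl⟩ g
  exact ⟨_, h.cj g a⟩⟩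

theorem res {N : Type*} [Group N] {j : N →* X} (hj : Function.Injective j) {k' : K →* N}
    (hk : ∀ a, j (k' a) = k a) : NEmb k' (c.comp j) :=
  ⟨fun a b e => h.inj (by rw [← hk, e, hk]), fun g a => hj (by simp [hk, h.cj])⟩

theorem apply_self (a b : K) : c (k a) b = a * b * a⁻¹ := h.inj (by simp [h.cj])

theorem range_le_cstab {θ : K → ℂ} (hθ : IsClassFunction K θ) : k.range ≤ cstab c θ := by
  rintro _ ⟨a, rfl⟩ b
  rw [h.apply_self]
  exact hθ b a

/-- The function on the range of `k` corresponding to a function on `K`. -/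
noncomputable def tr (θ : K → ℂ) : k.range → ℂ := fun n => θ ((MonoidHom.ofInjective h.inj).symm n)

theorem tr_apply (θ : K → ℂ) (a : K) : h.tr θ ⟨k a, a, rfl⟩ = θ a :=
  congrArg θ ((MonoidHom.ofInjective h.inj).symm_apply_apply a)

theorem tr_irr {θ : K → ℂ} (hθ : IsIrrCharacter K θ) : IsIrrCharacter _ (h.tr θ) :=
  hθ.comp_mulEquiv _

theorem tr_conj (θ : K → ℂ) (g : X) :
    haveI := h.normal; conjChar k.range g (h.tr θ) = h.tr fun a => θ (c g a) := by
  have := h.normal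
  funext ⟨_, a, rfl⟩
  rw [conjChar_apply, tr_apply, ← h.tr_apply θ]
  exact congrArg _ (Subtype.ext (h.cj g a).symm)

theorem tr_injective : Function.Injective h.tr := fun θ φ e => funext fun a => by
  rw [← h.tr_apply θ, e, h.tr_apply]

theorem tr_inertia (θ : K → ℂ) : haveI := h.normal; inertia k.range (h.tr θ) = cstab c θ := by
  have := h.normal
  ext g
  rw [mem_inertia_iff, h.tr_conj, h.tr_injective.eq_iff, funext_iff]
  rfl

theorem ovr_tr [Finite K] [Fintype k.range] {θ : K → ℂ} {T : Type*} [Group T] {k' : K →* T}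
    {i : k.range →* T} (hi : ∀ a, i ⟨k a, a, rfl⟩ = k' a) {χ : T → ℂ} :
    Ovr k' θ χ ↔ classInner (fun n => χ (i n)) (h.tr θ) ≠ 0 :=
  (ovr_congr (MonoidHom.ofInjective h.inj) (fun a => by rw [← hi]; rfl)
    fun a => (h.tr_apply θ a).symm).trans ovr_iff

theorem ovr_conj [Finite K] {χ : X → ℂ} (hχ : IsClassFunction X χ) {θ : K → ℂ} (g : X) :
    Ovr k (fun a => θ (c g a)) χ ↔ Ovr k θ χ :=
  ovr_congr (c g) (fun a => by rw [h.cj, hχ]) fun _ => rfl

variable [Finite X]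

theorem finite : Finite K := Finite.of_injective k h.inj

theorem exists_conj {χ : X → ℂ} (hχ : IsIrrCharacter X χ) {θ φ : K → ℂ} (hθ : IsIrrCharacter K θ)
    (hφ : IsIrrCharacter K φ) (h1 : Ovr k θ χ) (h2 : Ovr k φ χ) : ∃ g, φ = fun a => θ (c g a) := by
  have := h.finite
  have := h.normal
  have := Fintype.ofFinite X
  have := Fintype.ofFinite k.range
  obtain ⟨g, hg⟩ := exists_conjChar_eq_of_classInner_ne_zero hχ (h.tr_irr hθ) (h.tr_irr hφ)
    ((h.ovr_tr (i := k.range.subtype) fun _ => rfl).1 h1)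
    ((h.ovr_tr (i := k.range.subtype) fun _ => rfl).1 h2)
  exact ⟨g, h.tr_injective (by rw [← hg, h.tr_conj])⟩

theorem degree {χ : X → ℂ} (hχ : IsIrrCharacter X χ) {θ : K → ℂ} (hθ : IsIrrCharacter K θ)
    (h1 : Ovr k θ χ) : ∃ e : ℕ, charDegree χ = e * (cstab c θ).index * charDegree θ := by
  have := h.finite
  have := h.normal
  have := Fintype.ofFinite X
  have := Fintype.ofFinite k.range
  obtain ⟨e, -, he⟩ := rpp_degree hχ (h.tr_irr hθ)
    ((h.ovr_tr (i := k.range.subtype) fun _ => rfl).1 h1)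
  exact ⟨e, by rw [he, h.tr_inertia]; simp [charDegree, tr]⟩

theorem degree_dvd {χ : X → ℂ} (hχ : IsIrrCharacter X χ) {θ : K → ℂ} (hθ : IsIrrCharacter K θ)
    (h1 : Ovr k θ χ) : ∃ e : ℕ, e ∣ k.range.index ∧ charDegree χ = e * charDegree θ := by
  have := h.finite
  have := h.normal
  have := Fintype.ofFinite k.range
  obtain ⟨e, he, h2⟩ := exists_degree_eq_mul_dvd_index (h.tr_irr hθ) hχ
    ((h.ovr_tr (i := k.range.subtype) fun _ => rfl).1 h1)
  refine ⟨e, he, ?_⟩
  rw [← hχ.cast_charDegree, ← (h.tr_irr hθ).cast_charDegree] at h2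
  simpa [charDegree, tr] using (Nat.cast_injective (R := ℂ) (h2.trans (Nat.cast_mul _ _).symm))

theorem res_eq {χ : X → ℂ} (hχ : IsIrrCharacter X χ) {θ : K → ℂ} (hθ : IsIrrCharacter K θ)
    (hinv : cstab c θ = ⊤) (h1 : Ovr k θ χ) (a : K) : χ (k a) = χ 1 / θ 1 * θ a := by
  have := h.finite
  have := Fintype.ofFinite K
  have h2 := clifford_of_invariant_hom k h.inj h.normal hχ hθ (fun g n m e => by
    rw [← h.cj] at e
    rw [h.inj e]
    exact (hinv ▸ Subgroup.mem_top g : g ∈ cstab c θ) n) (ovr_iff.1 h1)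
  have h3 := congrFun h2 1
  have h4 := hθ.one_ne_zero
  simp only [map_one, Pi.smul_apply, smul_eq_mul] at h3
  rw [congrFun h2 a, h3]
  simp only [Pi.smul_apply, smul_eq_mul]
  field_simp

theorem ovr_of_inv {χ : X → ℂ} (hχ : IsIrrCharacter X χ) {θ φ : K → ℂ} (hθ : IsIrrCharacter K θ)
    (hφ : IsIrrCharacter K φ) (hinv : cstab c θ = ⊤) (h1 : Ovr k θ χ) (h2 : Ovr k φ χ) : φ = θ := by
  obtain ⟨g, rfl⟩ := h.exists_conj hχ hθ hφ h1 h2
  exact funext (hinv ▸ Subgroup.mem_top g : g ∈ cstab c θ)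

/-- The Clifford correspondence, counting form. -/
theorem mckCnt_clifford {Q : ℕ → Prop} {θ : K → ℂ} (hθ : IsIrrCharacter K θ) {T : Type*} [Group T]
    (t : T →* X) (ht : Function.Injective t) (hT : cstab c θ ≤ t.range) {k' : K →* T}
    (hk : ∀ a, t (k' a) = k a) (hQ : ∀ d, Q (t.range.index * d) ↔ Q d) :
    mckCnt Q k θ = mckCnt Q k' θ := by
  have := h.finite
  have := h.normal
  have := Fintype.ofFinite X
  have := Fintype.ofFinite k.range
  have hNT : k.range ≤ t.range := by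
    rintro _ ⟨a, rfl⟩
    exact ⟨_, hk a⟩
  rw [mckCnt_congr_range Q t t.range.subtype ht t.range.subtype_injective
    t.range.range_subtype.symm (k' := k.codRestrict t.range fun a => hNT ⟨a, rfl⟩) hk]
  have h1 := clifford_corr_bijOn (h.tr_irr hθ) (h.tr_inertia θ ▸ hT) hNT
  have h2 : ∀ ψ : t.range → ℂ, Ovr (k.codRestrict t.range fun a => hNT ⟨a, rfl⟩) θ ψ ↔
      classInner (fun n : k.range => ψ ⟨n, hNT n.2⟩) (h.tr θ) ≠ 0 := fun ψ =>
    h.ovr_tr (i := Subgroup.inclusion hNT) fun _ => rfl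
  have h3 : ∀ χ : X → ℂ, Ovr k θ χ ↔ classInner (fun n : k.range => χ n) (h.tr θ) ≠ 0 := fun ψ =>
    h.ovr_tr (i := k.range.subtype) fun _ => rfl
  have h4 : ∀ ψ : t.range → ℂ, IsIrrCharacter _ ψ →
      charDegree (indFun t.range ψ) = t.range.index * charDegree ψ := fun ψ hψ =>
    charDegree_eq_of_eq (by rw [indFun_one, ← hψ.cast_charDegree, Nat.cast_mul])
  refine (Nat.card_congr (Equiv.ofBijective (fun ψ => ⟨⟨indFun t.range ψ.1,
    (h1.1 ⟨ψ.1.2, (h2 _).1 ψ.2.2⟩).1⟩, by rw [h4 _ ψ.1.2, hQ]; exact ψ.2.1,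
      (h3 _).2 (h1.1 ⟨ψ.1.2, (h2 _).1 ψ.2.2⟩).2⟩) ⟨fun ψ φ e => Subtype.ext (Subtype.ext
        (h1.2.1 ⟨ψ.1.2, (h2 _).1 ψ.2.2⟩ ⟨φ.1.2, (h2 _).1 φ.2.2⟩ (congrArg (fun z => z.1.1) e))),
          fun χ => ?_⟩)).symm
  obtain ⟨ψ, hψ, e⟩ := h1.2.2 ⟨χ.1.2, (h3 _).1 χ.2.2⟩
  refine ⟨⟨⟨ψ, hψ.1⟩, ?_, (h2 _).2 hψ.2⟩, Subtype.ext (Subtype.ext e)⟩
  rw [← hQ, ← h4 _ hψ.1, e]
  exact χ.2.1

theorem card_range : Nat.card k.range = Nat.card K :=
  (Nat.card_congr (MonoidHom.ofInjective h.inj).toEquiv).symm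

theorem extend_eq (θ : K → ℂ) : extendByZero k.range (h.tr θ) = Function.extend k θ 0 := by
  funext g
  by_cases hg : g ∈ k.range
  · obtain ⟨a, rfl⟩ := hg
    rw [extendByZero_of_mem _ (⟨a, rfl⟩ : k a ∈ k.range), h.tr_apply, h.inj.extend_apply]
  · rw [extendByZero_of_not_mem _ hg, Function.extend_apply' _ _ _ hg, Pi.zero_apply]

theorem good_cnt [Fintype X] {θ : K → ℂ} (hθ : IsIrrCharacter K θ) (hinv : cstab c θ = ⊤) :
    θ 1 * ∑ g : X, ∑ x : X, Function.extend k θ 0 (x * g * x⁻¹ * g⁻¹) =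
      (Nat.card K : ℂ) * Nat.card X * mckCnt (fun _ => True) k θ := by
  have := h.finite
  have := h.normal
  have := Fintype.ofFinite k.range
  have h1 := good_card_irr_over k.range (h.tr_irr hθ)
    (inertia_eq_top_iff.1 ((h.tr_inertia θ).trans hinv))
  rw [h.extend_eq, h.card_range] at h1
  convert h1 using 3
  · simp [tr]
  · exact Nat.card_congr (Equiv.subtypeEquivRight fun χ => 
      (and_iff_right trivial).trans (h.ovr_tr (i := k.range.subtype) fun _ => rfl))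

theorem cnt_cyclic {θ : K → ℂ} (hθ : IsIrrCharacter K θ) (hinv : cstab c θ = ⊤) {W : Type*}
    [Group W] [IsCyclic W] (π : X →* W) (hπ : π.ker = k.range) :
    mckCnt (fun _ => True) k θ = k.range.index := by
  have := h.finite
  have := h.normal
  have := Fintype.ofFinite X
  have : IsCyclic (X ⧸ k.range) := isCyclic_of_injective (QuotientGroup.lift _ π hπ.ge)
    ((QuotientGroup.injective_lift_iff _ _ _).2 hπ.symm)
  obtain ⟨χ, hχ, he⟩ := exists_extension_of_isCyclic this (h.tr_irr hθ)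
    (inertia_eq_top_iff.1 ((h.tr_inertia θ).trans hinv))
  have h1 := h.good_cnt hθ hinv
  have h2 : ∀ g x : X, Function.extend k θ 0 (x * g * x⁻¹ * g⁻¹) = χ (x * g * x⁻¹ * g⁻¹) := by
    intro g x
    have h3 : x * g * x⁻¹ * g⁻¹ ∈ k.range := by
      rw [← hπ, MonoidHom.mem_ker]
      simp [mul_comm' (π x)]
    rw [← h.extend_eq, extendByZero_of_mem _ h3, ← he]
  have h3 : χ 1 = θ 1 := (he 1).trans (by simp [tr])
  have h4 := hθ.one_ne_zero
  have h5 : (Nat.card X : ℂ) ≠ 0 := natCard_ne_zero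
  have h6 : (Nat.card K : ℂ) ≠ 0 := natCard_ne_zero
  simp only [h2] at h1
  rw [good_sum_sum_comm hχ, h3, mul_div_cancel₀ _ h4, sq, mul_assoc, mul_left_comm,
    mul_right_inj' h5, ← k.range.card_mul_index, h.card_range, Nat.cast_mul,
    mul_right_inj' h6] at h1
  exact_mod_cast h1.symm

theorem exists_ind [Fintype X] [Fintype K] {θ : K → ℂ} (hθ : IsIrrCharacter K θ)
    (hinv : cstab c θ = ⊤) : ∃ e : IrrCharacter X → ℕ,
      (∀ g, (k.range.index : ℂ) * Function.extend k θ 0 g = ∑ χ, e χ * (χ : X → ℂ) g) ∧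
      (∀ χ, e χ ≠ 0 ↔ Ovr k θ χ) ∧
      ∀ χ, e χ ≠ 0 → charDegree (χ : X → ℂ) = e χ * charDegree θ := by
  have := h.normal
  have := Fintype.ofFinite k.range
  have hi := inertia_eq_top_iff.1 ((h.tr_inertia θ).trans hinv)
  obtain ⟨e, he, hs⟩ := (isCharacter_indFun (h.tr_irr hθ).isCharacter).exists_eq_sum_nat
  have h1 : ∀ χ : IrrCharacter X, classInner (fun n : k.range => (χ : X → ℂ) n) (h.tr θ) = e χ :=
    fun χ => by rw [← he, classInner_indFun_eq_res (h.tr_irr hθ).isCharacter χ.2.isCharacter]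
  refine ⟨e, fun g => ?_, fun χ => ?_, fun χ h0 => ?_⟩
  · have h2 := congrFun hs g
    simp only [Finset.sum_apply, Pi.smul_apply, smul_eq_mul] at h2
    rw [← h2, ← h.extend_eq]
    by_cases hg : g ∈ k.range
    · rw [extendByZero_of_mem _ hg]
      exact (congrFun (res_indFun_of_invariant hi) ⟨g, hg⟩).symm
    · rw [extendByZero_of_not_mem _ hg, indFun_eq_zero_of_not_mem _ hg, mul_zero]
  · rw [h.ovr_tr (i := k.range.subtype) fun _ => rfl]
    erw [h1]
    simp
  · have h2 := congrFun (clifford_of_invariant χ.2 (h.tr_irr hθ) hi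
      (by rw [h1]; exact_mod_cast h0)) 1
    refine charDegree_eq_of_eq ?_
    rw [h1] at h2
    rw [Nat.cast_mul, hθ.cast_charDegree]
    simpa [tr] using h2

/-- Restriction to a supplement on which the character stays irreducible. -/
theorem cnt_restrict {H L : Type*} [Group H] [Group L] (x : H →* X) (hx : Function.Injective x)
    {l : L →* H} {c' : H →* MulAut L} (h' : NEmb l c') (i : L →* K) (hi : ∀ a, k (i a) = x (l a))
    (hs : k.range ⊔ x.range = ⊤) (hc : k.range.comap x ≤ l.range) {ψ : K → ℂ}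
    (hψ : IsIrrCharacter K ψ) (hinv : cstab c ψ = ⊤) (hθ : IsIrrCharacter L fun a => ψ (i a)) :
    mckCnt (fun _ => True) k ψ = mckCnt (fun _ => True) l fun a => ψ (i a) := by
  classical
  have := h.normal
  have := h.finite
  have : Finite H := Finite.of_injective x hx
  have := h'.finite
  have := Fintype.ofFinite X
  have := Fintype.ofFinite H
  have := Fintype.ofFinite K
  have := Fintype.ofFinite L
  have hinv' : cstab c' (fun a => ψ (i a)) = ⊤ := eq_top_iff.2 fun g _ a => by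
    exact (congrArg ψ (h.inj (by simp [hi, h.cj, h'.cj]))).trans
      ((hinv ▸ Subgroup.mem_top _ : x g ∈ cstab c ψ) (i a))
  obtain ⟨e, he, he0, hed⟩ := h.exists_ind hψ hinv
  obtain ⟨f, hf, hf0, hfd⟩ := h'.exists_ind hθ hinv'
  have h1 : k.range.comap x = l.range := le_antisymm hc (by
    rintro _ ⟨a, rfl⟩
    exact ⟨_, hi a⟩)
  have h2 : l.range.index = k.range.index := by
    rw [← h1, Subgroup.index_comap, ← Subgroup.relIndex_sup_left, hs, Subgroup.relIndex_top_right]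
  have h3 : ∀ g, Function.extend k ψ 0 (x g) = Function.extend l (fun a => ψ (i a)) 0 g := by
    intro g
    by_cases hg : g ∈ l.range
    · obtain ⟨a, rfl⟩ := hg
      rw [← hi, h.inj.extend_apply, h'.inj.extend_apply]
    · rw [Function.extend_apply' _ _ _ hg, Function.extend_apply' _ _ _ fun h4 => hg (hc h4)]
      rfl
  have h4 := fun (χ : IrrCharacter X) (ξ : IrrCharacter H) =>
    (χ.2.isCharacter.comp x).exists_nat_classInner ξ.2.isCharacter
  choose n hn using h4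
  have h5 : ∀ ξ, f ξ = ∑ χ, e χ * n χ ξ := fun ξ => by
    have h6 : ∑ ξ : IrrCharacter H, (f ξ : ℂ) • (ξ : H → ℂ) =
        ∑ χ : IrrCharacter X, (e χ : ℂ) • fun g => (χ : X → ℂ) (x g) := funext fun g => by
      simp only [Finset.sum_apply, Pi.smul_apply, smul_eq_mul]
      rw [← hf, ← he, h2, h3]
    have h7 := classInner_sum_smul_irr (fun ξ => (f ξ : ℂ)) ξ
    rw [h6, classInner_sum_left] at h7
    simp only [classInner_smul_left, hn] at h7
    exact_mod_cast h7.symm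
  have hd : charDegree (fun a => ψ (i a)) = charDegree ψ := by simp [charDegree]
  have h6 : ∀ χ ξ, e χ ≠ 0 → n χ ξ ≠ 0 → f ξ ≠ 0 ∧ f ξ ≤ e χ := fun χ ξ h6 h7 => by
    have h8 : f ξ ≠ 0 := fun h8 => mul_ne_zero h6 h7
      (Finset.sum_eq_zero_iff.1 (h5 ξ ▸ h8) χ (Finset.mem_univ _))
    have h9 := (χ.2.isCharacter.comp x).charDegree_le_of_classInner_ne_zero ξ.2
      (by rw [hn]; exact_mod_cast h7)
    rw [hfd _ h8, hd, show charDegree (fun g => (χ : X → ℂ) (x g)) = charDegree (χ : X → ℂ) by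
      simp [charDegree], hed _ h6] at h9
    exact ⟨h8, Nat.le_of_mul_le_mul_right h9 hψ.charDegree_pos⟩
  have h7 : ∀ χ ξ, e χ ≠ 0 → n χ ξ ≠ 0 → (fun g => (χ : X → ℂ) (x g)) = ξ := fun χ ξ h7 h8 => by
    obtain ⟨h9, h10⟩ := h6 χ ξ h7 h8
    have h11 : e χ * n χ ξ ≤ f ξ := h5 ξ ▸
      Finset.single_le_sum (f := fun χ => e χ * n χ ξ) (fun _ _ => Nat.zero_le _) (Finset.mem_univ χ)
    have h12 : e χ = f ξ := le_antisymm ((Nat.le_mul_of_pos_right _ (Nat.pos_of_ne_zero h8)).trans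
      h11) h10
    refine (χ.2.isCharacter.comp x).eq_of_classInner_ne_zero_of_one_eq ξ.2
      (by rw [hn]; exact_mod_cast h8) ?_
    rw [map_one, ← χ.2.cast_charDegree, ← ξ.2.cast_charDegree, hed _ h7, hfd _ h9, hd, h12]
  have h8 : ∀ χ, e χ ≠ 0 → ∃ ξ, n χ ξ ≠ 0 := fun χ _ => by
    obtain ⟨ξ, hξ, h9⟩ := exists_irr_constituent_comp χ.2 x
    exact ⟨⟨ξ, hξ⟩, fun h10 => h9 ((hn χ ⟨ξ, hξ⟩).trans (by rw [h10, Nat.cast_zero]))⟩
  choose F hF using h8
  refine Nat.card_congr (Equiv.ofBijective (fun χ => ⟨F χ.1 ((he0 _).2 χ.2.2), trivial,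
    (hf0 _).1 (h6 _ _ ((he0 _).2 χ.2.2) (hF _ _)).1⟩) ⟨fun χ χ' h9 => ?_, fun ξ => ?_⟩)
  · by_contra h10
    have h11 := hF χ.1 ((he0 _).2 χ.2.2)
    have h12 := hF χ'.1 ((he0 _).2 χ'.2.2)
    rw [← show F χ.1 _ = F χ'.1 _ from congrArg Subtype.val h9] at h12
    obtain ⟨h13, h14⟩ := h6 _ _ ((he0 _).2 χ.2.2) h11
    obtain ⟨-, h15⟩ := h6 _ _ ((he0 _).2 χ'.2.2) h12
    have h16 := Finset.add_le_sum (f := fun ζ => e ζ * n ζ (F χ.1 ((he0 _).2 χ.2.2)))
      (fun _ _ => Nat.zero_le _) (Finset.mem_univ χ.1) (Finset.mem_univ χ'.1)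
      fun h => h10 (Subtype.ext h)
    have h17 := Nat.le_mul_of_pos_right (e χ.1) (Nat.pos_of_ne_zero h11)
    have h18 := Nat.le_mul_of_pos_right (e χ'.1) (Nat.pos_of_ne_zero h12)
    rw [← h5] at h16
    omega
  · obtain ⟨χ, -, h9⟩ := Finset.exists_ne_zero_of_sum_ne_zero (h5 ξ.1 ▸ (hf0 _).2 ξ.2.2)
    obtain ⟨h10, h11⟩ := mul_ne_zero_iff.1 h9
    exact ⟨⟨χ, trivial, (he0 _).1 h10⟩, Subtype.ext (Subtype.ext
      ((h7 _ _ h10 (hF χ h10)).symm.trans (h7 _ _ h10 h11)))⟩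

end NEmb

section Quot

variable {W : Type*} [Group W]

theorem mck_mobius_aux [Fintype W] (d : W × W → ℂ) (h1 : ∀ a b, a * b ≠ b * a → d (a, b) = 0)
    (h2 : ∀ A : Subgroup W, IsMulCommutative A → ∀ [DecidablePred (· ∈ A)],
      ∑ x with x.1 ∈ A ∧ x.2 ∈ A, d x = 0) : ∑ x, d x = 0 := by
  classical
  have := Fintype.ofFinite (Subgroup W)
  have h3 : ∀ B : Subgroup W, ∑ x with Subgroup.closure {x.1, x.2} = B, d x = 0 := fun B => by
    induction B using WellFoundedLT.induction with | _ B ih => ?_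
    by_cases hB : IsMulCommutative B
    · have h4 := h2 B hB
      rw [← Finset.sum_fiberwise_of_maps_to (g := fun x : W × W => Subgroup.closure {x.1, x.2})
        (t := Finset.univ.filter (· ≤ B)) (fun x hx => by
          simpa [Set.insert_subset_iff] using hx),
        Finset.sum_eq_single B (fun C hC hCB => ?_) (fun h => by simp at h)] at h4
      · rw [← h4]
        refine Finset.sum_congr (Finset.ext fun x => ?_) fun _ _ => rfl
        simp only [Finset.mem_filter, Finset.mem_univ, true_and, iff_and_self]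
        rintro rfl
        exact ⟨Subgroup.subset_closure (by simp), Subgroup.subset_closure (by simp)⟩
      · have h5 := (Finset.mem_filter.1 hC).2
        rw [← ih C (lt_of_le_of_ne h5 hCB)]
        refine Finset.sum_congr (Finset.ext fun x => ?_) fun _ _ => rfl
        simp only [Finset.mem_filter, Finset.mem_univ, true_and, and_iff_right_iff_imp]
        rintro rfl
        exact ⟨h5 (Subgroup.subset_closure (by simp)), h5 (Subgroup.subset_closure (by simp))⟩
    · refine Finset.sum_eq_zero fun x hx => h1 _ _ fun h4 => hB ?_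
      rw [← (Finset.mem_filter.1 hx).2]
      refine Subgroup.isMulCommutative_closure ?_
      rintro a (rfl | rfl) b (rfl | rfl) <;> simp [h4]
  rw [← Finset.sum_fiberwise (g := fun x : W × W => Subgroup.closure {x.1, x.2})]
  exact Finset.sum_eq_zero fun B _ => h3 B

/-- The embedding of the kernel in the preimage of a subgroup. -/
def mckK {k : K →* X} {π : X →* W} (hπ : π.ker = k.range) (A : Subgroup W) : K →* A.comap π :=
  k.codRestrict _ fun a => Subgroup.ker_le_comap π A (hπ.ge ⟨a, rfl⟩)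

theorem NEmb.res_comap {k : K →* X} {c : X →* MulAut K} (h : NEmb k c) {π : X →* W}
    (hπ : π.ker = k.range) (A : Subgroup W) : NEmb (mckK hπ A) (c.comp (A.comap π).subtype) :=
  h.res (A.comap π).subtype_injective fun _ => rfl

theorem mckK_ker {k : K →* X} {π : X →* W} (hπ : π.ker = k.range) (A : Subgroup W) :
    (π.subgroupComap A).ker = (mckK hπ A).range := by
  ext x
  rw [MonoidHom.mem_ker, Subtype.ext_iff]
  exact (hπ ▸ Iff.rfl : π x = 1 ↔ (x : X) ∈ k.range).trans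
    ⟨fun ⟨a, ha⟩ => ⟨a, Subtype.ext ha⟩, fun ⟨a, ha⟩ => ⟨a, congrArg Subtype.val ha⟩⟩

theorem mckK_index {k : K →* X} {π : X →* W} (hs : Function.Surjective π) (hπ : π.ker = k.range)
    (A : Subgroup W) : (mckK hπ A).range.index = Nat.card A := by
  rw [← mckK_ker, Subgroup.index_ker, MonoidHom.range_eq_top.2
    (π.subgroupComap_surjective_of_surjective A hs), Subgroup.card_top]

theorem NEmb.exists_pairFun [Finite X] [Fintype W] {k : K →* X} {c : X →* MulAut K} (h : NEmb k c)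
    {θ : K → ℂ} (hθ : IsIrrCharacter K θ) (hinv : cstab c θ = ⊤) {π : X →* W}
    (hs : Function.Surjective π) (hπ : π.ker = k.range) : ∃ d : W × W → ℂ,
      (∀ a b, a * b ≠ b * a → d (a, b) = 0) ∧ ∀ (A : Subgroup W) [DecidablePred (· ∈ A)],
        ∑ x with x.1 ∈ A ∧ x.2 ∈ A, d x = Nat.card A * mckCnt (fun _ => True) (mckK hπ A) θ := by
  classical
  have := Fintype.ofFinite X
  have := h.finite
  refine ⟨fun w => θ 1 / (Nat.card K : ℂ) ^ 2 * ∑ y : X × X with (π y.1, π y.2) = w,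
    Function.extend k θ 0 (y.2 * y.1 * y.2⁻¹ * y.1⁻¹), fun a b hab => ?_, fun A _ => ?_⟩
  · refine mul_eq_zero_of_right _ (Finset.sum_eq_zero fun y hy => ?_)
    obtain ⟨rfl, rfl⟩ := Prod.ext_iff.1 (Finset.mem_filter.1 hy).2
    refine Function.extend_apply' _ _ _ fun h1 => hab ?_
    have h2 : y.2 * y.1 * y.2⁻¹ * y.1⁻¹ ∈ π.ker := hπ.ge h1
    simp only [MonoidHom.mem_ker, map_mul, map_inv, mul_inv_eq_iff_eq_mul, one_mul] at h2
    exact h2.symm
  · have h1 := (h.res_comap hπ A).good_cnt hθ (eq_top_iff.2 fun g _ =>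
      (hinv ▸ Subgroup.mem_top _ : (g : X) ∈ cstab c θ))
    have h2 : ∀ y : A.comap π, Function.extend (mckK hπ A) θ 0 y = Function.extend k θ 0 y := by
      intro y
      by_cases hy : y ∈ (mckK hπ A).range
      · obtain ⟨a, rfl⟩ := hy
        rw [(h.res_comap hπ A).inj.extend_apply]
        exact (h.inj.extend_apply _ _ _).symm
      · rw [Function.extend_apply' _ _ _ hy, Function.extend_apply' (f := k) _ _ _
          fun ⟨a, ha⟩ => hy ⟨a, Subtype.ext ha⟩]
        rfl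
    have h3 : (Nat.card K : ℂ) ≠ 0 := natCard_ne_zero
    rw [← (mckK hπ A).range.card_mul_index, (h.res_comap hπ A).card_range, mckK_index hs] at h1
    rw [← Finset.mul_sum, Finset.sum_fiberwise_eq_sum_filter, div_mul_eq_mul_div,
      div_eq_iff (pow_ne_zero _ h3)]
    refine Eq.trans ?_ (h1.trans (by push_cast; ring))
    congr 1
    simp only [h2]
    have h4 : ∀ g, g ∈ Finset.univ.filter (π · ∈ A) ↔ g ∈ A.comap π := fun g => by simp
    simp only [Subgroup.coe_mul, Subgroup.coe_inv]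
    have h5 := fun g : X => Finset.sum_subtype (F := inferInstance) _ h4 fun x =>
      Function.extend k θ (0 : X → ℂ) (x * g * x⁻¹ * g⁻¹)
    simp only [← h5]
    rw [← Finset.sum_subtype _ h4 fun g => ∑ x with π x ∈ A,
      Function.extend k θ 0 (x * g * x⁻¹ * g⁻¹), ← Finset.sum_product']
    exact Finset.sum_congr (Finset.ext fun y => by simp) fun _ _ => rfl

theorem mckCnt_top [Finite K] (Q : ℕ → Prop) {k : K →* X} {π : X →* W} (hπ : π.ker = k.range)
    (θ : K → ℂ) : mckCnt Q (mckK hπ ⊤) θ = mckCnt Q k θ :=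
  mckCnt_congr_range Q (Subgroup.subtype _) (MonoidHom.id X) (Subgroup.subtype_injective _)
    Function.injective_id (by ext; simp) (fun _ => rfl) θ

variable {K' X' : Type*} [Group K'] [Group X'] [Finite X] [Finite X'] {k : K →* X}
  {c : X →* MulAut K} {k' : K' →* X'} {c' : X' →* MulAut K'} {θ : K → ℂ} {θ' : K' → ℂ}
  {π : X →* W} {π' : X' →* W}

/-- The number of characters over an invariant character is determined by the abelian sections. -/
theorem mck_mobius (h : NEmb k c) (h' : NEmb k' c') (hθ : IsIrrCharacter K θ)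
    (hθ' : IsIrrCharacter K' θ') (hinv : cstab c θ = ⊤) (hinv' : cstab c' θ' = ⊤)
    (hs : Function.Surjective π) (hs' : Function.Surjective π') (hπ : π.ker = k.range)
    (hπ' : π'.ker = k'.range) (H : ∀ A : Subgroup W, IsMulCommutative A →
      mckCnt (fun _ => True) (mckK hπ A) θ = mckCnt (fun _ => True) (mckK hπ' A) θ') :
    mckCnt (fun _ => True) k θ = mckCnt (fun _ => True) k' θ' := by
  classical
  have : Finite W := Finite.of_surjective π hs
  have := Fintype.ofFinite W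
  have := h.finite
  have := h'.finite
  obtain ⟨d, h1, h2⟩ := h.exists_pairFun hθ hinv hs hπ
  obtain ⟨d', h1', h2'⟩ := h'.exists_pairFun hθ' hinv' hs' hπ'
  have h3 := mck_mobius_aux (d - d') (fun a b hab => by simp [h1 a b hab, h1' a b hab])
    fun A hA _ => by simp only [Pi.sub_apply, Finset.sum_sub_distrib, h2, h2', H A hA, sub_self]
  have h4 := h2 ⊤
  have h5 := h2' ⊤
  rw [Subgroup.card_top] at h4 h5
  simp only [Subgroup.mem_top, and_self, Finset.filter_true, mckCnt_top] at h4 h5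
  simp only [Pi.sub_apply, Finset.sum_sub_distrib, h4, h5, sub_eq_zero] at h3
  exact_mod_cast mul_left_cancel₀ natCard_ne_zero h3

/-- Simultaneous Clifford reduction for a pair of triples. -/
theorem mck_pair_clifford (h : NEmb k c) (h' : NEmb k' c') (hθ : IsIrrCharacter K θ)
    (hθ' : IsIrrCharacter K' θ') (hπ : π.ker = k.range) (hπ' : π'.ker = k'.range) (j : X' →* X)
    (hj : ∀ x, π (j x) = π' x) (hst : ∀ x, j x ∈ cstab c θ ↔ x ∈ cstab c' θ') : ∃ A : Subgroup W,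
      A.comap π = cstab c θ ∧ A.comap π' = cstab c' θ' ∧
      mckCnt (fun _ => True) k θ = mckCnt (fun _ => True) (mckK hπ A) θ ∧
      mckCnt (fun _ => True) k' θ' = mckCnt (fun _ => True) (mckK hπ' A) θ' := by
  have h1 : ((cstab c θ).map π).comap π = cstab c θ :=
    Subgroup.comap_map_eq_self (hπ ▸ h.range_le_cstab hθ.isClassFunction)
  have h2 : ((cstab c θ).map π).comap π' = cstab c' θ' := by
    ext x
    rw [← hst, ← SetLike.ext_iff.1 h1, Subgroup.mem_comap, Subgroup.mem_comap, hj]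
  exact ⟨_, h1, h2, h.mckCnt_clifford hθ _ (Subgroup.subtype_injective _) (by simp [h1])
    (fun _ => rfl) fun _ => Iff.rfl, h'.mckCnt_clifford hθ' _ (Subgroup.subtype_injective _)
    (by simp [h2]) (fun _ => rfl) fun _ => Iff.rfl⟩

theorem cstab_comap_eq_top {A : Subgroup W} (h : A.comap π = cstab c θ) :
    cstab (c.comp (A.comap π).subtype) θ = ⊤ :=
  eq_top_iff.2 fun g _ => (h ▸ g.2 : (g : X) ∈ cstab c θ)

theorem mck_pair_cyclic [IsCyclic W] (h : NEmb k c) (h' : NEmb k' c') (hθ : IsIrrCharacter K θ)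
    (hθ' : IsIrrCharacter K' θ') (hπ : π.ker = k.range) (hπ' : π'.ker = k'.range) (j : X' →* X)
    (hj : ∀ x, π (j x) = π' x) (hs' : Function.Surjective π')
    (hst : ∀ x, j x ∈ cstab c θ ↔ x ∈ cstab c' θ') :
    mckCnt (fun _ => True) k θ = mckCnt (fun _ => True) k' θ' := by
  obtain ⟨A, h1, h2, h3, h4⟩ := mck_pair_clifford h h' hθ hθ' hπ hπ' j hj hst
  have hs : Function.Surjective π := fun w => by
    obtain ⟨x, rfl⟩ := hs' w
    exact ⟨_, hj x⟩
  rw [h3, h4, (h.res_comap hπ A).cnt_cyclic hθ (cstab_comap_eq_top h1) _ (mckK_ker hπ A),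
    (h'.res_comap hπ' A).cnt_cyclic hθ' (cstab_comap_eq_top h2) _ (mckK_ker hπ' A),
    mckK_index hs, mckK_index hs']

end Quot

theorem NEmb.exists_conj_of_sup {X' : Type*} [Group X'] {k : K →* X} {c : X →* MulAut K}
    (h : NEmb k c) (j : X' →* X) (hs : k.range ⊔ j.range = ⊤) {φ : K → ℂ}
    (hφ : IsClassFunction K φ) (g : X) : ∃ x, (fun a => φ (c g a)) = fun a => φ (c (j x) a) := by
  have := h.normal
  obtain ⟨_, ⟨a, rfl⟩, _, ⟨x, rfl⟩, rfl⟩ :=
    Subgroup.mem_sup_of_normal_left.1 (hs ▸ Subgroup.mem_top g : g ∈ k.range ⊔ j.range)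
  exact ⟨x, funext fun b => by rw [map_mul, MulAut.mul_apply, h.apply_self, hφ]⟩

/-- Comparison of two counts through a correspondence of constituents. -/
theorem mck_fib {K' X' L L' : Type*} [Group K'] [Group X'] [Group L] [Group L'] [Finite X]
    [Finite X'] [Finite L] [Finite L'] (Q : ℕ → Prop) {k : K →* X} {c : X →* MulAut K}
    {k' : K' →* X'} {c' : X' →* MulAut K'} (h : NEmb k c) (h' : NEmb k' c') (j : X' →* X)
    (i : L →* K) (i' : L' →* K') {m : L →* X} {m' : L' →* X'} (hm : m = k.comp i)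
    (hm' : m' = k'.comp i') {ν : L → ℂ} {ν' : L' → ℂ} (hν : IsCharacter L ν)
    (hν' : IsCharacter L' ν') (Rel : (K → ℂ) → (K' → ℂ) → Prop)
    (irr : ∀ φ φ', Rel φ φ' → IsIrrCharacter K φ ∧ IsIrrCharacter K' φ' ∧ Ovr i ν φ ∧ Ovr i' ν' φ')
    (ex : ∀ χ, IsIrrCharacter X χ → Q (charDegree χ) → Ovr m ν χ →
      ∃ φ φ', Rel φ φ' ∧ Ovr k φ χ)
    (ex' : ∀ χ, IsIrrCharacter X' χ → Q (charDegree χ) → Ovr m' ν' χ →
      ∃ φ φ', Rel φ φ' ∧ Ovr k' φ' χ)
    (cl : ∀ φ φ' x, Rel φ φ' → Rel (fun a => φ (c (j x) a)) fun a => φ' (c' x a))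
    (u1 : ∀ φ φ' ψ', Rel φ φ' → Rel φ ψ' → φ' = ψ') (u2 : ∀ φ ψ φ', Rel φ φ' → Rel ψ φ' → φ = ψ)
    (orb : ∀ φ φ' ψ' g, Rel φ φ' → Rel (fun a => φ (c g a)) ψ' →
      ∃ x, (fun a => φ (c g a)) = fun a => φ (c (j x) a))
    (fib : ∀ φ φ', Rel φ φ' → (∀ x, j x ∈ cstab c φ ↔ x ∈ cstab c' φ') →
      mckCnt Q k φ = mckCnt Q k' φ') : mckCnt Q m ν = mckCnt Q m' ν' := by
  subst hm hm'
  have := h.finite
  have := h'.finite
  refine mck_card_eq_of_fibers (Y := {y : (K → ℂ) × (K' → ℂ) // Rel y.1 y.2})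
    ⟨fun y y' => ∃ g, y'.1.1 = fun a => y.1.1 (c g a), fun y => ⟨1, by simp⟩,
      fun ⟨g, hg⟩ => ⟨g⁻¹, by simp [hg]⟩, fun ⟨g, hg⟩ ⟨g', hg'⟩ => ⟨g * g', by simp [hg, hg']⟩⟩
    (fun χ y => Ovr k y.1.1 χ.1) (fun χ y => Ovr k' y.1.2 χ.1) (fun χ => ?_) (fun χ y y' h1 => ?_)
    (fun χ => ?_) (fun χ y y' h1 => ?_) fun y => ?_
  · obtain ⟨φ, φ', h1, h2⟩ := ex _ χ.1.2 χ.2.1 χ.2.2
    exact ⟨⟨(φ, φ'), h1⟩, h2⟩
  · exact ⟨fun h2 => h.exists_conj χ.1.2 (irr _ _ y.2).1 (irr _ _ y'.2).1 h1 h2,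
      fun ⟨g, hg⟩ => hg ▸ (h.ovr_conj χ.1.2.isClassFunction g).2 h1⟩
  · obtain ⟨φ, φ', h1, h2⟩ := ex' _ χ.1.2 χ.2.1 χ.2.2
    exact ⟨⟨(φ, φ'), h1⟩, h2⟩
  · constructor
    · intro h2
      obtain ⟨x, hx⟩ := h'.exists_conj χ.1.2 (irr _ _ y.2).2.1 (irr _ _ y'.2).2.1 h1 h2
      exact ⟨j x, u2 _ _ _ y'.2 (hx ▸ cl _ _ x y.2)⟩
    · rintro ⟨g, hg⟩
      obtain ⟨x, hx⟩ := orb _ _ _ g y.2 (hg ▸ y'.2)
      rw [u1 _ _ _ y'.2 (hg ▸ hx ▸ cl _ _ x y.2)]
      exact (h'.ovr_conj χ.1.2.isClassFunction x).2 h1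
  · obtain ⟨h1, h2, h3, h4⟩ := irr _ _ y.2
    refine ((Nat.card_congr ((Equiv.subtypeSubtypeEquivSubtypeInter _
      fun χ : IrrCharacter X => Ovr k y.1.1 χ.1).trans (Equiv.subtypeEquivRight fun χ => ?_))).trans
      (fib _ _ y.2 fun x => ?_)).trans (Nat.card_congr ((Equiv.subtypeSubtypeEquivSubtypeInter _
        fun χ : IrrCharacter X' => Ovr k' y.1.2 χ.1).trans
          (Equiv.subtypeEquivRight fun χ => ?_))).symm
    · exact ⟨fun h => ⟨h.1.1, h.2⟩, fun h => ⟨⟨h.1, h.2.trans h3 χ.2.isCharacter h1 hν⟩, h.2⟩⟩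
    · have h5 := cl _ _ x y.2
      refine ⟨fun h6 => congrFun (u1 _ _ _ ?_ y.2), fun h6 => congrFun (u2 _ _ _ ?_ y.2)⟩
      · rwa [funext h6] at h5
      · rwa [funext h6] at h5
    · exact ⟨fun h => ⟨h.1.1, h.2⟩, fun h => ⟨⟨h.1, h.2.trans h4 χ.2.isCharacter h2 hν'⟩, h.2⟩⟩

end CL.Char
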