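import Cfsg.Agent.Char.McK3
import Cfsg.Agent.Char.Cover
import Cfsg.Agent.Grp.PNilp

/-! The relative McKay equality for `p`-solvable groups: the case of a normal `O_{p'} S`. -/

set_option autoImplicit false
set_option linter.unusedSectionVars false
open Cfsg
open scoped ComplexConjugate commutatorElement

namespace CL.Char

section Reduce

variable {K X : Type*} [Group K] [Group X] [Finite X] {k : K →* X} {c : X →* MulAut K} {p : ℕ}

theorem NEmb.mck_reduce (h : NEmb k c) (hp : p.Prime) (hk : ¬ p ∣ k.range.index) {ψ : K → ℂ}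
    (hψ : IsIrrCharacter K ψ) (hd : ¬ p ∣ charDegree ψ) {H L : Type*} [Group H] [Group L]
    (x : H →* X) (hx : Function.Injective x) {l : L →* H} {c' : H →* MulAut L} (h' : NEmb l c')
    (i : L →* K) (hi : ∀ a, k (i a) = x (l a)) (hs : k.range ⊔ x.range = cstab c ψ)
    (hc : k.range.comap x ≤ l.range) (hθ : IsIrrCharacter L fun a => ψ (i a)) :
    mckCnt (fun d => ¬ p ∣ d) k ψ = mckCnt (fun _ => True) l fun a => ψ (i a) := by
  have h1 : mckCnt (fun d => ¬ p ∣ d) k ψ = mckCnt (fun _ => True) k ψ :=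
    Nat.card_congr (Equiv.subtypeEquivRight fun χ => and_congr_left fun h1 => iff_true_intro <| by
      obtain ⟨e, he, h2⟩ := h.degree_dvd χ.2 hψ h1
      rw [h2, hp.dvd_mul]
      exact fun h3 => h3.elim (fun h4 => hk (h4.trans he)) hd)
  have hk' : ∀ a, k a ∈ cstab c ψ := fun a => hs.le (Subgroup.mem_sup_left ⟨a, rfl⟩)
  have hx' : ∀ a, x a ∈ cstab c ψ := fun a => hs.le (Subgroup.mem_sup_right ⟨a, rfl⟩)
  rw [h1, h.mckCnt_clifford hψ (cstab c ψ).subtype (Subgroup.subtype_injective _) (by simp)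
    (k' := k.codRestrict _ hk') (fun _ => rfl) fun _ => Iff.rfl]
  refine (h.res (cstab c ψ).subtype_injective (k' := k.codRestrict _ hk') fun _ => rfl).cnt_restrict
    (x.codRestrict _ hx') (fun a b e => hx (congrArg Subtype.val e)) h' i
    (fun a => Subtype.ext (hi a)) (Subgroup.map_injective (cstab c ψ).subtype_injective ?_)
    (fun a ⟨b, hb⟩ => hc ⟨b, congrArg Subtype.val hb⟩) hψ (eq_top_iff.2 fun g _ => g.2) hθ
  rw [Subgroup.map_sup, ← MonoidHom.range_comp, ← MonoidHom.range_comp, ← MonoidHom.range_eq_map,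
    Subgroup.range_subtype]
  exact hs

theorem NEmb.not_dvd_degree (h : NEmb k c) {χ : X → ℂ} (hχ : IsIrrCharacter X χ)
    (hd : ¬ p ∣ charDegree χ) {θ : K → ℂ} (hθ : IsIrrCharacter K θ) (h1 : Ovr k θ χ) :
    ¬ p ∣ charDegree θ ∧ ¬ p ∣ (cstab c θ).index := by
  obtain ⟨e, he⟩ := h.degree hχ hθ h1
  exact ⟨fun h2 => hd (he ▸ h2.mul_left _), fun h2 => hd (he ▸ (h2.mul_left _).mul_right _)⟩

theorem mck_central_pow {χ : X → ℂ} (hχ : IsIrrCharacter X χ) {z : X} (hz : z ∈ Subgroup.center X)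
    (n : ℕ) : χ (z ^ n) / χ 1 = (χ z / χ 1) ^ n := by
  induction n with
  | zero => simp [hχ.one_ne_zero]
  | succ n ih => rw [pow_succ', mck_central_mul hχ hz, ih, pow_succ']

theorem mck_root_eq {a b : ℂ} {m n : ℕ} (hm : m ≠ 0) (h : m.Coprime n) (ha : a ^ m = 1)
    (hb : b ^ m = 1) (hab : a ^ n = b ^ n) : a = b := by
  have h1 : a ≠ 0 := by rintro rfl; simp [hm] at ha
  have h2 : b ≠ 0 := by rintro rfl; simp [hm] at hb
  exact congrArg Units.val (eq_of_pow_eq_pow_of_coprime (a := Units.mk0 a h1) (b := Units.mk0 b h2) h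
    (Units.ext (by simp [mul_pow, ha, hb])) (Units.ext (by simpa using hab)))

end Reduce

section Final

variable {G : Type*} [Group G] [Finite G] {p : ℕ}

/-- The correspondence between `p'`-degree characters of `K S` and of `C_K(S) S`. -/
structure MckRel (p : ℕ) {K S C : Subgroup G} (hCK : C ≤ K) (ψ : (K ⊔ S : Subgroup G) → ℂ)
    (ξ : (C ⊔ S : Subgroup G) → ℂ) : Prop where
  irr : IsIrrCharacter _ ψ
  irr' : IsIrrCharacter _ ξ
  deg : ¬ p ∣ charDegree ψ
  deg' : ¬ p ∣ charDegree ξ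
  gl : GlRel p (Subgroup.inclusion hCK) (fun a => ψ (Subgroup.inclusion le_sup_left a))
    fun a => ξ (Subgroup.inclusion le_sup_left a)
  det : ∀ s : S, detChar ψ (Subgroup.inclusion le_sup_right s) ^ charDegree ξ =
    detChar ξ (Subgroup.inclusion le_sup_right s) ^ charDegree ψ

variable {K S C : Subgroup G}

theorem mck_nemb_sup (h : S ≤ Subgroup.normalizer (K : Set G)) :
    NEmb (Subgroup.inclusion (le_sup_left : K ≤ K ⊔ S))
      (mckConj (sup_le Subgroup.le_normalizer h)) := nemb_inclusion _ _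

theorem mck_res_sup (hp : p.Prime) (hS : IsPGroup p S) (h : S ≤ Subgroup.normalizer (K : Set G))
    {ψ : (K ⊔ S : Subgroup G) → ℂ} (hψ : IsIrrCharacter _ ψ) (hd : ¬ p ∣ charDegree ψ) :
    IsIrrCharacter K fun a => ψ (Subgroup.inclusion le_sup_left a) :=
  mck_res_irr hp hS (mck_nemb_sup h) (mck_range_sup le_sup_left le_sup_right rfl) hψ hd

theorem mck_le_istab_res {M U : Subgroup G} (hKM : K ≤ M) {ψ : M → ℂ} (hU : U ≤ istab M ψ)
    (hK : U ≤ Subgroup.normalizer (K : Set G)) :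
    U ≤ istab K fun a => ψ (Subgroup.inclusion hKM a) :=
  (le_istab hK).2 fun g a => (le_istab (hU.trans (istab_le _ _))).1 hU g (Subgroup.inclusion hKM a)

theorem mckRel_ex (hp : p.Prime) (hS : IsPGroup p S) (hK : ¬ p ∣ Nat.card K)
    (hSK : S ≤ Subgroup.normalizer (K : Set G)) (hC : C = K ⊓ Subgroup.centralizer (S : Set G))
    (hCK : C ≤ K) {ψ : (K ⊔ S : Subgroup G) → ℂ} (hψ : IsIrrCharacter _ ψ)
    (hd : ¬ p ∣ charDegree ψ) : ∃ ξ, MckRel p hCK ψ ξ := by
  have hCS : S ≤ Subgroup.centralizer (C : Set G) :=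
    Subgroup.le_centralizer_iff.1 (hC.le.trans inf_le_right)
  have hSC := hCS.trans (Subgroup.centralizer_le_normalizer _)
  have hCp : ¬ p ∣ Nat.card C := fun h => hK (h.trans (Subgroup.card_dvd_of_le hCK))
  obtain ⟨η, hη, -, r⟩ := (mck_glCorr hp hS hK hSK hC hCK).ex _ (mck_res_sup hp hS hSK hψ hd)
    (mck_le_istab_res _ (le_sup_right.trans (le_istab_self hψ.isClassFunction)) hSK)
  obtain ⟨μ, hμ⟩ := exists_monoidHom_detChar ψ
  obtain ⟨ξ, hξ, h1, h2⟩ := mck_ext_exists hp hS hCp (mck_nemb_sup hSC)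
    (Subgroup.inclusion_injective le_sup_right) (mck_range_sup le_sup_left le_sup_right rfl) hη
    ((le_istab_iff_cstab _).1 (sup_le (le_istab_self hη.isClassFunction) ((le_istab hSC).2 fun g a =>
      congrArg η (Subtype.ext (by rw [coe_mckConj, ← hCS g.2 a a.2, mul_inv_cancel_right])))))
    hd (μ.comp (Subgroup.inclusion le_sup_right) ^ charDegree η)
  have h3 : charDegree ξ = charDegree η := by simp [charDegree, ← h1]
  exact ⟨ξ, hψ, hξ, hd, fun h => hCp ((h3 ▸ h).trans hη.charDegree_dvd_card), funext h1 ▸ r,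
    fun s => by simp [h2, h3, hμ]⟩

theorem mckRel_ex' (hp : p.Prime) (hS : IsPGroup p S) (hK : ¬ p ∣ Nat.card K)
    (hSK : S ≤ Subgroup.normalizer (K : Set G)) (hC : C = K ⊓ Subgroup.centralizer (S : Set G))
    (hCK : C ≤ K) {ξ : (C ⊔ S : Subgroup G) → ℂ} (hξ : IsIrrCharacter _ ξ)
    (hd : ¬ p ∣ charDegree ξ) : ∃ ψ, MckRel p hCK ψ ξ := by
  have hSC := (Subgroup.le_centralizer_iff.1 (hC.le.trans inf_le_right)).trans
    (Subgroup.centralizer_le_normalizer _)
  obtain ⟨θ, hθ, hθS, r⟩ := (mck_glCorr hp hS hK hSK hC hCK).surj _ (mck_res_sup hp hS hSC hξ hd)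
    trivial
  obtain ⟨μ, hμ⟩ := exists_monoidHom_detChar ξ
  obtain ⟨ψ, hψ, h1, h2⟩ := mck_ext_exists hp hS hK (mck_nemb_sup hSK)
    (Subgroup.inclusion_injective le_sup_right) (mck_range_sup le_sup_left le_sup_right rfl) hθ
    ((le_istab_iff_cstab _).1 (sup_le (le_istab_self hθ.isClassFunction) hθS))
    hd (μ.comp (Subgroup.inclusion le_sup_right) ^ charDegree θ)
  have h3 : charDegree ψ = charDegree θ := by simp [charDegree, ← h1]
  exact ⟨ψ, hψ, hξ, fun h => hK ((h3 ▸ h).trans hθ.charDegree_dvd_card), hd, funext h1 ▸ r,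
    fun s => by simp [h2, h3, hμ]⟩

theorem MckRel.unique (hp : p.Prime) (hS : IsPGroup p S)
    (hSC : S ≤ Subgroup.normalizer (C : Set G)) {hCK : C ≤ K} {ψ : (K ⊔ S : Subgroup G) → ℂ}
    {ξ ξ' : (C ⊔ S : Subgroup G) → ℂ} (r : MckRel p hCK ψ ξ) (r' : MckRel p hCK ψ ξ') : ξ = ξ' := by
  have h1 := r.gl.unique hp r'.gl (mck_res_sup hp hS hSC r.irr' r.deg')
    (mck_res_sup hp hS hSC r'.irr' r'.deg')
  have h2 : charDegree ξ = charDegree ξ' := by simpa [charDegree] using congrArg charDegree h1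
  exact mck_ext_unique hp hS (mck_nemb_sup hSC) (mck_range_sup le_sup_left le_sup_right rfl) r.irr'
    r'.irr' r.deg' (congrFun h1) r.deg fun s => by rw [← r.det, ← r'.det, h2]

theorem MckRel.inj (hp : p.Prime) (hS : IsPGroup p S) (hK : ¬ p ∣ Nat.card K)
    (hSK : S ≤ Subgroup.normalizer (K : Set G)) (hC : C = K ⊓ Subgroup.centralizer (S : Set G))
    {hCK : C ≤ K} {ψ ψ' : (K ⊔ S : Subgroup G) → ℂ} {ξ : (C ⊔ S : Subgroup G) → ℂ}
    (r : MckRel p hCK ψ ξ) (r' : MckRel p hCK ψ' ξ) : ψ = ψ' := by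
  have hSC := (Subgroup.le_centralizer_iff.1 (hC.le.trans inf_le_right)).trans
    (Subgroup.centralizer_le_normalizer _)
  have h1 := (mck_glCorr hp hS hK hSK hC hCK).inj _ _ _ (mck_res_sup hp hS hSK r.irr r.deg)
    (mck_le_istab_res _ (le_sup_right.trans (le_istab_self r.irr.isClassFunction)) hSK)
    (mck_res_sup hp hS hSK r'.irr r'.deg)
    (mck_le_istab_res _ (le_sup_right.trans (le_istab_self r'.irr.isClassFunction)) hSK)
    (mck_res_sup hp hS hSC r.irr' r.deg') r.gl r'.gl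
  have h2 : charDegree ψ = charDegree ψ' := by simpa [charDegree] using congrArg charDegree h1
  exact mck_ext_unique hp hS (mck_nemb_sup hSK) (mck_range_sup le_sup_left le_sup_right rfl) r.irr
    r'.irr r.deg (congrFun h1) r.deg' fun s => by rw [r.det, r'.det, h2]

theorem MckRel.cj {U : Subgroup G} {hCK : C ≤ K} {ψ : (K ⊔ S : Subgroup G) → ℂ}
    {ξ : (C ⊔ S : Subgroup G) → ℂ} (r : MckRel p hCK ψ ξ) (hK : U ≤ Subgroup.normalizer (K : Set G))
    (hC : U ≤ Subgroup.normalizer (C : Set G)) (hS : U ≤ Subgroup.normalizer (S : Set G)) (x : U) :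
    MckRel p hCK (fun a => ψ (mckConj (CL.Grp.le_normalizer_sup' hK hS) x a))
      fun a => ξ (mckConj (CL.Grp.le_normalizer_sup' hC hS) x a) := by
  have h1 := r.irr.comp_mulEquiv (mckConj (CL.Grp.le_normalizer_sup' hK hS) x)
  have h2 := r.irr'.comp_mulEquiv (mckConj (CL.Grp.le_normalizer_sup' hC hS) x)
  have h3 : charDegree (fun a => ψ (mckConj (CL.Grp.le_normalizer_sup' hK hS) x a)) =
    charDegree ψ := by simp [charDegree]
  have h4 : charDegree (fun a => ξ (mckConj (CL.Grp.le_normalizer_sup' hC hS) x a)) =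
    charDegree ξ := by simp [charDegree]
  refine ⟨h1, h2, h3 ▸ r.deg, h4 ▸ r.deg', r.gl.mckConj hK hC x, fun s => ?_⟩
  rw [h3, h4]
  erw [detChar_comp_of_irr r.irr.isCharacter (MulEquiv.toMonoidHom _) h1,
    detChar_comp_of_irr r.irr'.isCharacter (MulEquiv.toMonoidHom _) h2]
  exact r.det (mckConj hS x s)

theorem mck_central_aux {E E' A A' B : Type*} [Group E] [Group E'] [Group A] [Group A'] [Group B]
    [Finite E] [Finite E'] [Finite A] [Finite A'] (hp : p.Prime) (hB : IsPGroup p B) (k : A →* E)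
    (k' : A' →* E') (j : A' →* A) (σ : B →* E) (σ' : B →* E') {ψ : E → ℂ} {ξ : E' → ℂ}
    (hψ : IsIrrCharacter E ψ) (hξ : IsIrrCharacter E' ξ) (hd : ¬ p ∣ charDegree ψ)
    (hd' : ¬ p ∣ charDegree ξ) (hθ : IsIrrCharacter A fun a => ψ (k a))
    (hη : IsIrrCharacter A' fun a => ξ (k' a)) (r : GlRel p j (fun a => ψ (k a)) fun a => ξ (k' a))
    (a : A') (s : B) (h2 : detChar ψ (σ s) ^ charDegree ξ = detChar ξ (σ' s) ^ charDegree ψ)
    (ha : a ∈ Subgroup.center A') (ha1 : j a ∈ Subgroup.center A) (ha2 : k (j a) ∈ Subgroup.center E)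
    (ha3 : k' a ∈ Subgroup.center E') (hs : σ s ∈ Subgroup.center E)
    (hs' : σ' s ∈ Subgroup.center E') : ψ (k (j a) * σ s) / ψ 1 = ξ (k' a * σ' s) / ξ 1 := by
  have := Fintype.ofFinite A'
  have h1 := Ovr.central_eq ((ovr_iff (k := j) (θ := fun a => ξ (k' a)) (χ := fun a => ψ (k a))).2
    (r.classInner_ne_zero hp hη)) hθ hη ha ha1
  simp only [map_one] at h1
  rw [mck_central_mul hψ ha2, mck_central_mul hξ ha3, h1]
  obtain ⟨m, hm⟩ := hB s
  rw [mck_det_central hψ hs, mck_det_central hξ hs', ← pow_mul, ← pow_mul,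
    mul_comm (charDegree ξ)] at h2
  rw [mck_root_eq (pow_ne_zero m hp.ne_zero) (((Nat.Prime.coprime_iff_not_dvd hp).2 fun h =>
    (hp.dvd_mul.1 h).elim hd hd').pow_left m) ?_ ?_ h2]
  · rw [← mck_central_pow hψ hs, ← map_pow, hm, map_one, div_self hψ.one_ne_zero]
  · rw [← mck_central_pow hξ hs', ← map_pow, hm, map_one, div_self hξ.one_ne_zero]

theorem mck_mem_center {U : Subgroup G} (z : U) (hz : (z : G) ∈ Subgroup.center G) :
    z ∈ Subgroup.center U :=
  Subgroup.mem_center_iff.2 fun g => Subtype.ext (Subgroup.mem_center_iff.1 hz g)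

theorem MckRel.central (hp : p.Prime) (hS : IsPGroup p S)
    (hSK : S ≤ Subgroup.normalizer (K : Set G)) (hSC : S ≤ Subgroup.normalizer (C : Set G))
    {hCK : C ≤ K} {ψ : (K ⊔ S : Subgroup G) → ℂ} {ξ : (C ⊔ S : Subgroup G) → ℂ}
    (r : MckRel p hCK ψ ξ) (a : C) (s : S) (ha : (a : G) ∈ Subgroup.center G)
    (hs : (s : G) ∈ Subgroup.center G) {x : (K ⊔ S : Subgroup G)} {y : (C ⊔ S : Subgroup G)}
    (hx : (x : G) = a * s) (hy : (y : G) = a * s) : ψ x / ψ 1 = ξ y / ξ 1 :=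
  (congrArg (fun x => ψ x / ψ 1) (Subtype.ext hx)).trans ((mck_central_aux hp hS
    (Subgroup.inclusion le_sup_left) (Subgroup.inclusion le_sup_left) (Subgroup.inclusion hCK)
    (Subgroup.inclusion le_sup_right) (Subgroup.inclusion le_sup_right) r.irr r.irr' r.deg r.deg'
    (mck_res_sup hp hS hSK r.irr r.deg) (mck_res_sup hp hS hSC r.irr' r.deg') r.gl a s (r.det s)
    (mck_mem_center _ ha) (mck_mem_center _ ha) (mck_mem_center _ ha) (mck_mem_center _ ha)
    (mck_mem_center _ hs) (mck_mem_center _ hs)).trans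
      (congrArg (fun y => ξ y / ξ 1) (Subtype.ext hy.symm)))

theorem mck_final [hp : Fact p.Prime] (P : Sylow p G) [K.Normal] (hK : ¬ p ∣ Nat.card K)
    [hM : (K ⊔ P : Subgroup G).Normal] {L N : Type*} [Group L] [Group N] {i : L →* G}
    (hi : Function.Injective i) (hc : i.range ≤ Subgroup.center G)
    (hZ : ∀ a, ∃ k ∈ K ⊓ Subgroup.center G, ∃ s ∈ (P : Subgroup G) ⊓ Subgroup.center G, i a = k * s)
    {ν : L → ℂ} (hν : IsIrrCharacter L ν) (j : N →* G) (hj : Function.Injective j)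
    (hr : j.range = Subgroup.normalizer ((P : Subgroup G) : Set G)) {i' : L →* N}
    (hi' : ∀ a, j (i' a) = i a) :
    mckCnt (fun d => ¬ p ∣ d) i ν = mckCnt (fun d => ¬ p ∣ d) i' ν := by
  have : Finite L := Finite.of_injective i hi
  have hS := P.isPGroup'
  have hPi := P.not_dvd_index
  set S := (P : Subgroup G) with hSP
  set N₀ := Subgroup.normalizer (S : Set G) with hN₀
  set C := K ⊓ Subgroup.centralizer (S : Set G) with hC
  have hCK : C ≤ K := inf_le_left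
  have hK' : ∀ U : Subgroup G, U ≤ Subgroup.normalizer (K : Set G) := fun U =>
    Subgroup.le_normalizer_of_normal
  have hNC : N₀ ≤ Subgroup.normalizer (C : Set G) :=
    CL.Grp.le_normalizer_inf' (hK' _) (CL.Grp.le_normalizer_centralizer' le_rfl)
  have hSN : S ≤ N₀ := Subgroup.le_normalizer
  have hCN : C ≤ N₀ := inf_le_right.trans (Subgroup.centralizer_le_normalizer _)
  have hM'N : C ⊔ S ≤ N₀ := sup_le hCN hSN
  have hZC : K ⊓ Subgroup.center G ≤ C := inf_le_inf_left _ (Subgroup.center_le_centralizer _)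
  have hiM' : ∀ a, i a ∈ C ⊔ S := fun a => by
    obtain ⟨k, hk, s, hs, e⟩ := hZ a
    exact e ▸ Subgroup.mul_mem_sup (hZC hk) hs.1
  have hiM : ∀ a, i a ∈ K ⊔ S := fun a => sup_le_sup_right hCK _ (hiM' a)
  rw [mckCnt_congr_range _ j N₀.subtype hj N₀.subtype_injective (hr.trans N₀.range_subtype.symm)
    (k' := (Subgroup.inclusion hM'N).comp (i.codRestrict _ hiM')) hi']
  have hfr : K ⊔ S ⊔ N₀ = ⊤ := eq_top_iff.2 fun g _ => by
    obtain ⟨t, ht, h⟩ := rpp_exists_conj_normalizer P (T := K ⊔ S) le_sup_right (g := g)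
      fun x hx => hM.conj_mem x (Subgroup.mem_sup_right hx) g
    have h1 := Subgroup.mul_mem_sup (Subgroup.inv_mem _ ht) h
    rwa [inv_mul_cancel_left] at h1
  have hov : ∀ ψ ξ, MckRel p hCK ψ ξ →
      (Ovr (i.codRestrict _ hiM) ν ψ ↔ Ovr (i.codRestrict _ hiM') ν ξ) := fun ψ ξ r => by
    rw [ovr_central_iff (fun a b e => hi (congrArg Subtype.val e))
        (by rintro _ ⟨a, rfl⟩; exact mck_mem_center _ (hc ⟨a, rfl⟩)) hν r.irr,
      ovr_central_iff (fun a b e => hi (congrArg Subtype.val e))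
        (by rintro _ ⟨a, rfl⟩; exact mck_mem_center _ (hc ⟨a, rfl⟩)) hν r.irr']
    refine forall_congr' fun a => ?_
    obtain ⟨k, hk, s, hs, e⟩ := hZ a
    rw [r.central hp.out hS (hK' _) (hSN.trans hNC) ⟨k, hZC hk⟩ ⟨s, hs.1⟩ hk.2 hs.2
      (x := i.codRestrict _ hiM a) (y := i.codRestrict _ hiM' a) e e]
  have h1 := nemb_subtype (K ⊔ S)
  have h2 := nemb_inclusion hM'N (CL.Grp.le_normalizer_sup' hNC le_rfl)
  refine mck_fib _ h1 h2 N₀.subtype (i.codRestrict _ hiM) (i.codRestrict _ hiM') rfl rfl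
    hν.isCharacter hν.isCharacter (fun ψ ξ => MckRel p hCK ψ ξ ∧ Ovr (i.codRestrict _ hiM) ν ψ)
    (fun ψ ξ r => ⟨r.1.irr, r.1.irr', r.2, (hov _ _ r.1).1 r.2⟩) (fun χ hχ hd h => ?_)
    (fun χ hχ hd h => ?_) (fun ψ ξ x r => ⟨r.1.cj (hK' _) hNC le_rfl x, ?_⟩)
    (fun ψ ξ ξ' r r' => r.1.unique hp.out hS (hSN.trans hNC) r'.1)
    (fun ψ ψ' ξ r r' => r.1.inj hp.out hS hK (hK' _) hC r'.1)
    (fun ψ ξ ξ' g r _ => h1.exists_conj_of_sup _ (by simpa using hfr) r.1.irr.isClassFunction g)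
    fun ψ ξ ⟨r, _⟩ hst => ?_
  · obtain ⟨ψ, hψ, h3, h4⟩ := Ovr.exists_between (k := (K ⊔ S).subtype) (i := i.codRestrict _ hiM) h
      hχ.isClassFunction
    obtain ⟨ξ, r⟩ := mckRel_ex hp.out hS hK (hK' _) hC hCK hψ (h1.not_dvd_degree hχ hd hψ h3).1
    exact ⟨ψ, ξ, ⟨r, h4⟩, h3⟩
  · obtain ⟨ξ, hξ, h3, h4⟩ := Ovr.exists_between h hχ.isClassFunction
    obtain ⟨ψ, r⟩ := mckRel_ex' hp.out hS hK (hK' _) hC hCK hξ (h2.not_dvd_degree hχ hd hξ h3).1
    exact ⟨ψ, ξ, ⟨r, (hov _ _ r).2 h4⟩, h3⟩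
  · refine (ovr_congr (MulEquiv.refl L) (k := i.codRestrict _ hiM) (χ := ψ) (θ := ν)
      (fun a => ?_) fun _ => rfl).2 r.2
    exact congrArg ψ (Subtype.ext (mul_inv_eq_iff_eq_mul.2
      (Subgroup.mem_center_iff.1 (hc ⟨a, rfl⟩) _)))
  set T := cstab (MulAut.conjNormal : G →* MulAut (K ⊔ S : Subgroup G)) ψ with hT
  have hMT : K ⊔ S ≤ T := by simpa using h1.range_le_cstab r.irr.isClassFunction
  have hTi : T ≤ istab _ ψ := (le_istab Subgroup.le_normalizer_of_normal).2 fun g => g.2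
  have hST : S ≤ N₀ ⊓ T := le_inf hSN (le_sup_right.trans hMT)
  have hSp : ∀ U : Subgroup G, S ≤ U → ¬ p ∣ S.relIndex U := fun U hU h =>
    hPi (h.trans (Subgroup.relIndex_dvd_index_of_le hU))
  obtain ⟨n, hn⟩ := hS.exists_card_eq
  obtain ⟨H, hH, hSH, -, hHc⟩ := CL.Grp.exists_complement_in hST inf_le_left
    (hn ▸ ((Nat.Prime.coprime_iff_not_dvd hp.out).2 (hSp _ hST)).pow_left n)
  have hXp : ¬ p ∣ Nat.card (K ⊔ (C ⊔ H) : Subgroup G) := fun h => by
    rw [← sup_assoc, sup_eq_left.2 hCK, sup_comm] at h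
    exact (hp.out.dvd_mul.1 (h.trans (CL.Grp.card_sup_dvd_of_normal H K))).elim
      (hHc ▸ hSp _ hST) hK
  have hSX : ∀ {s}, s ∈ S → s ∈ K ⊔ (C ⊔ H) → s = 1 := Subgroup.disjoint_def.1
    (Subgroup.disjoint_of_coprime_natCard (mck_disjoint hp.out hS hXp))
  have hH'N : C ⊔ H ≤ N₀ := sup_le hCN (hH.trans inf_le_left)
  have hH'T : C ⊔ H ≤ T := sup_le (hCK.trans (le_sup_left.trans hMT)) (hH.trans inf_le_right)
  have hθ := mck_res_sup hp.out hS (hK' _) r.irr r.deg
  have hη := mck_res_sup hp.out hS (hSN.trans hNC) r.irr' r.deg'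
  rw [h1.mck_reduce hp.out (fun h => hPi (h.trans (Subgroup.index_dvd_of_le (by simp)))) r.irr r.deg
      (K ⊔ (C ⊔ H)).subtype (Subgroup.subtype_injective _) (nemb_inclusion le_sup_left (hK' _))
      (Subgroup.inclusion le_sup_left) (fun _ => rfl) ?_ ?_ hθ,
    h2.mck_reduce hp.out ?_ r.irr' r.deg' (Subgroup.inclusion hH'N)
      (Subgroup.inclusion_injective _) (nemb_inclusion le_sup_left (hH'N.trans hNC))
      (Subgroup.inclusion le_sup_left) (fun _ => rfl) ?_ ?_ hη]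
  · exact ow_count hp.out hS hXp rfl _ hH'N hC hCK _ hθ
      (mck_le_istab_res _ ((le_sup_right.trans hMT).trans hTi) (hK' _))
      (mck_le_istab_res _ (hH'T.trans hTi) (hK' _)) hη r.gl
  · rw [Subgroup.inclusion_range]
    exact fun h => hSp _ hSN (h.trans (Subgroup.relIndex_dvd_of_le_left _ le_sup_right))
  · rw [Subgroup.inclusion_range, Subgroup.inclusion_range, ← Subgroup.subgroupOf_sup hM'N hH'N,
      sup_sup_sup_comm, sup_idem, hSH, sup_eq_right.2 (le_inf hCN (le_sup_left.trans hH'T))]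
    ext x
    rw [← hst, Subgroup.mem_subgroupOf]
    exact and_iff_right x.2
  · rintro x ⟨y, hy⟩
    obtain ⟨a, ha, s, hs, e⟩ := (CL.Grp.mem_sup_iff_of_le_normalizer (hSN.trans hNC)).1 y.2
    have h3 : (x : G) = a * s := (congrArg (fun z : N₀ => (z : G)) hy).symm.trans e
    have h4 : s = 1 := hSX hs (Subgroup.mem_sup_right ((Subgroup.mul_mem_cancel_left _
      (Subgroup.mem_sup_left ha)).1 (h3 ▸ x.2)))
    exact ⟨⟨a, ha⟩, Subtype.ext (by rw [h3, h4, mul_one]; rfl)⟩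
  · rw [Subgroup.range_subtype, Subgroup.range_subtype]
    refine le_antisymm (sup_le hMT (sup_le (le_sup_left.trans hMT) hH'T)) ?_
    have h3 := CL.Grp.dedekind_right (A := K ⊔ S) (B := N₀) Subgroup.le_normalizer_of_normal hMT
    rw [hfr, top_inf_eq, ← hSH] at h3
    exact h3.le.trans (sup_le le_sup_left (sup_le (le_sup_right.trans le_sup_left)
      ((le_sup_right.trans le_sup_right).trans le_sup_right)))
  · rintro x ⟨y, hy⟩
    obtain ⟨a, ha, s, hs, e⟩ := (CL.Grp.mem_sup_iff_of_le_normalizer (hK' _)).1 y.2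
    have h3 : (x : G) = a * s := hy.symm.trans e
    have h4 : s = 1 := hSX hs ((Subgroup.mul_mem_cancel_left _ (Subgroup.mem_sup_left ha)).1
      (h3 ▸ x.2))
    exact ⟨⟨a, ha⟩, Subtype.ext (by rw [h3, h4, mul_one]; rfl)⟩

end Final

end CL.Char
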