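import Cfsg.Agent.Char.McK4

/-! The relative McKay equality for `p`-solvable groups. -/

set_option autoImplicit false
set_option linter.unusedSectionVars false
open Cfsg
open scoped ComplexConjugate commutatorElement

namespace CL.Char

universe u

/-- The relative McKay equality for normal subgroups of index `n`. -/
def McKAt (p n : ℕ) : Prop :=
  ∀ (G L N : Type u) [Group G] [Finite G] [Group L] [Group N] (i : L →* G) (c : G →* MulAut L)
    (S : Sylow p G) (ν : L → ℂ) (j : N →* G) (i' : L →* N), NEmb i c → IsIrrCharacter L ν →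
    (S : Subgroup G) ≤ cstab c ν → Function.Injective j →
    j.range = Subgroup.normalizer ((i.range ⊔ S : Subgroup G) : Set G) → (∀ a, j (i' a) = i a) →
    IsPSolvable p G → i.range.index = n →
    mckCnt (fun d => ¬ p ∣ d) i ν = mckCnt (fun d => ¬ p ∣ d) i' ν

variable {p : ℕ} [hp : Fact p.Prime] {G L N : Type u} [Group G] [Finite G] [Group L] [Group N]
  {i : L →* G} {c : G →* MulAut L} {ν : L → ℂ} {j : N →* G} {i' : L →* N}

theorem mck_sub (ih : ∀ m < i.range.index, McKAt.{u} p m) (h : NEmb i c) (S : Sylow p G)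
    (hν : IsIrrCharacter L ν) (hS : (S : Subgroup G) ≤ cstab c ν) (hG : IsPSolvable p G)
    {T : Subgroup G} (hT : T ≠ ⊤) (hi : ∀ a, i a ∈ T) (hST : (S : Subgroup G) ≤ T)
    (hj : Function.Injective j)
    (hr : j.range = Subgroup.normalizer ((i.range ⊔ S : Subgroup G) : Set G) ⊓ T)
    (hi' : ∀ a, j (i' a) = i a) :
    mckCnt (fun d => ¬ p ∣ d) (i.codRestrict T hi) ν = mckCnt (fun d => ¬ p ∣ d) i' ν := by
  have h1 : i.range ≤ T := by rintro _ ⟨a, rfl⟩; exact hi a
  have h2 : (i.codRestrict T hi).range = i.range.subgroupOf T :=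
    Subgroup.ext fun x => ⟨fun ⟨a, e⟩ => ⟨a, congrArg Subtype.val e⟩, fun ⟨a, e⟩ => ⟨a, Subtype.ext e⟩⟩
  refine ih _ ?_ T L N _ (c.comp T.subtype) (S.subtype hST) ν
    (j.codRestrict T fun x => (hr.le ⟨x, rfl⟩).2) i' (h.res T.subtype_injective fun _ => rfl) hν
    (fun x hx => hS hx) (fun a b e => hj (congrArg Subtype.val e)) ?_
    (fun a => Subtype.ext (hi' a)) (CL.Loc.isPSolvable_subgroup hG T) rfl
  · rw [h2, ← Subgroup.relIndex_mul_index h1]
    exact lt_mul_of_one_lt_right (Nat.pos_of_ne_zero Subgroup.FiniteIndex.index_ne_zero)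
      (Subgroup.one_lt_index_of_ne_top hT)
  · rw [h2, Sylow.coe_subtype, ← Subgroup.subgroupOf_sup h1 hST,
      ← Subgroup.subgroupOf_normalizer_eq (sup_le h1 hST), ← Subgroup.inf_subgroupOf_right]
    refine Eq.trans ?_ (congrArg (Subgroup.subgroupOf · T) hr)
    exact Subgroup.ext fun x =>
      ⟨fun ⟨a, e⟩ => ⟨a, congrArg Subtype.val e⟩, fun ⟨a, e⟩ => ⟨a, Subtype.ext e⟩⟩

theorem NEmb.exists_sylow_le {K X : Type*} [Group K] [Group X] [Finite X] {k : K →* X}
    {c : X →* MulAut K} (h : NEmb k c) (S : Sylow p X) {χ : X → ℂ} (hχ : IsIrrCharacter X χ)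
    (hd : ¬ p ∣ charDegree χ) {θ : K → ℂ} (hθ : IsIrrCharacter K θ) (h1 : Ovr k θ χ) :
    ∃ g, (S : Subgroup X) ≤ cstab c fun a => θ (c g a) := by
  obtain ⟨P, hP⟩ := rpp_exists_sylow_le (h.not_dvd_degree hχ hd hθ h1).2
  obtain ⟨g, rfl⟩ := MulAction.exists_smul_eq X S P
  refine ⟨g, fun s hs a => ?_⟩
  simpa using hP (CL.Grp.conj_mem_conj_smul g hs) (c g a)

theorem mck_fibK (ih : ∀ m < i.range.index, McKAt.{u} p m) (h : NEmb i c) (S : Sylow p G)
    (hν : IsIrrCharacter L ν) (hinv : cstab c ν = ⊤) (hG : IsPSolvable p G) {K : Subgroup G}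
    [K.Normal] (hK : i.range < K)
    (hi : ∀ a, i a ∈ Subgroup.normalizer ((K ⊔ S : Subgroup G) : Set G)) :
    mckCnt (fun d => ¬ p ∣ d) i ν = mckCnt (fun d => ¬ p ∣ d) (i.codRestrict _ hi) ν := by
  have := h.finite
  have hiK : ∀ a, i a ∈ K := fun a => hK.le ⟨a, rfl⟩
  have hKN : K ≤ Subgroup.normalizer ((K ⊔ S : Subgroup G) : Set G) :=
    le_sup_left.trans Subgroup.le_normalizer
  have hSN : (S : Subgroup G) ≤ Subgroup.normalizer ((K ⊔ S : Subgroup G) : Set G) :=
    le_sup_right.trans Subgroup.le_normalizer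
  have h1 := nemb_subtype K
  have h2 := h1.res (Subgroup.subtype_injective _) (k' := Subgroup.inclusion hKN) fun _ => rfl
  have h3 : ∀ (φ : K → ℂ) (g : G), Ovr (i.codRestrict K hiK) ν φ →
      Ovr (i.codRestrict K hiK) ν fun a => φ (MulAut.conjNormal g a) := fun φ g h3 =>
    (ovr_congr (c g) (k := i.codRestrict K hiK) (χ := φ) (θ := ν)
      (fun a => by exact congrArg φ (Subtype.ext (h.cj g a).symm))
      fun a => ((hinv ▸ Subgroup.mem_top g : g ∈ cstab c ν) a).symm).2 h3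
  have h4 : ∀ φ : K → ℂ, IsIrrCharacter K φ → (S : Subgroup G) ≤ cstab MulAut.conjNormal φ →
      K ⊔ S ≤ cstab MulAut.conjNormal φ := fun φ hφ h4 =>
    sup_le (by simpa using h1.range_le_cstab hφ.isClassFunction) h4
  refine mck_fib _ h1 h2 (Subgroup.subtype _) (i.codRestrict K hiK) (i.codRestrict K hiK) rfl rfl
    hν.isCharacter hν.isCharacter (fun φ φ' => φ = φ' ∧ IsIrrCharacter K φ ∧
      (S : Subgroup G) ≤ cstab MulAut.conjNormal φ ∧ Ovr (i.codRestrict K hiK) ν φ)
    (fun φ φ' r => ⟨r.2.1, r.1 ▸ r.2.1, r.2.2.2, r.1 ▸ r.2.2.2⟩) (fun χ hχ hd h5 => ?_)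
    (fun χ hχ hd h5 => ?_) (fun φ φ' x r => ⟨r.1 ▸ rfl, r.2.1.comp_mulEquiv _, ?_, h3 _ _ r.2.2.2⟩)
    (fun _ _ _ r r' => r.1.symm.trans r'.1) (fun _ _ _ r r' => r.1.trans r'.1.symm)
    (fun φ _ _ g r r' => ?_) fun φ _ r _ => ?_
  · obtain ⟨φ, hφ, h6, h7⟩ := Ovr.exists_between (k := K.subtype) (i := i.codRestrict K hiK) h5
      hχ.isClassFunction
    obtain ⟨g, hg⟩ := h1.exists_sylow_le S hχ hd hφ h6
    exact ⟨_, _, ⟨rfl, hφ.comp_mulEquiv _, hg, h3 _ g h7⟩, (h1.ovr_conj hχ.isClassFunction g).2 h6⟩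
  · obtain ⟨φ, hφ, h6, h7⟩ := Ovr.exists_between (k := Subgroup.inclusion hKN)
      (i := i.codRestrict K hiK) h5 hχ.isClassFunction
    obtain ⟨g, hg⟩ := h2.exists_sylow_le (S.subtype hSN) hχ hd hφ h6
    exact ⟨_, _, ⟨rfl, hφ.comp_mulEquiv _, fun s hs => hg (x := ⟨s, hSN hs⟩) hs, h3 _ g h7⟩,
      (h2.ovr_conj hχ.isClassFunction g).2 h6⟩
  · intro s hs a
    have h5 := h4 φ r.2.1 r.2.2.1 ((Subgroup.mem_normalizer_iff.1 x.2 s).1 (Subgroup.mem_sup_right hs))
    simpa using h5 (MulAut.conjNormal (x : G) a)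
  · obtain ⟨t, ht, h5⟩ := rpp_exists_conj_normalizer S r.2.2.1 (g := g) fun s hs a => by
      have h5 := r'.2.2.1 hs (MulAut.conjNormal g⁻¹ a)
      simpa using h5
    refine ⟨⟨t * g, CL.Grp.le_normalizer_sup' Subgroup.le_normalizer_of_normal le_rfl h5⟩,
      funext fun a => ?_⟩
    simpa using (ht (MulAut.conjNormal g a)).symm
  · obtain ⟨rfl, hφ, h5, -⟩ := r
    refine ih _ ?_ G K _ _ _ S φ (Subgroup.subtype _) _ h1 hφ h5 (Subgroup.subtype_injective _)
      (by simp) (fun _ => rfl) hG rfl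
    rw [Subgroup.range_subtype]
    exact Subgroup.index_strictAnti hK

theorem mck_central (ih : ∀ m < i.range.index, McKAt.{u} p m) (hi : Function.Injective i)
    (hc : i.range ≤ Subgroup.center G) (S : Sylow p G) (hν : IsIrrCharacter L ν)
    (hG : IsPSolvable p G) (hj : Function.Injective j)
    (hr : j.range = Subgroup.normalizer ((i.range ⊔ S : Subgroup G) : Set G))
    (hi' : ∀ a, j (i' a) = i a) :
    mckCnt (fun d => ¬ p ∣ d) i ν = mckCnt (fun d => ¬ p ∣ d) i' ν := by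
  have h := nemb_central hi hc
  have := h.normal
  have hZ : ∀ a, ∃ k ∈ pPrimeCore p G ⊓ Subgroup.center G,
      ∃ s ∈ (S : Subgroup G) ⊓ Subgroup.center G, i a = k * s := fun a => by
    obtain ⟨s, hs, k, hk, ⟨n, hn⟩, h1, h2, h3⟩ := CL.Grp.exists_pPart_mul_pPrimePart hp.out (i a)
    have h4 := Subgroup.zpowers_le.2 (hc ⟨a, rfl⟩)
    have h5 : ∀ z ∈ Subgroup.center G, (Subgroup.zpowers z).Normal := fun z hz =>
      ⟨fun x hx g => by rwa [Subgroup.mem_center_iff.1 (Subgroup.zpowers_le.2 hz hx) g,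
        mul_inv_cancel_right]⟩
    have := h5 k (h4 hk)
    have := h5 s (h4 hs)
    exact ⟨k, ⟨CL.Grp.le_pPrimeCore (by rwa [Nat.card_zpowers]) (Subgroup.mem_zpowers k), h4 hk⟩, s,
      ⟨(IsPGroup.of_card ((Nat.card_zpowers s).trans hn)).le_sylow_of_normal S
        (Subgroup.mem_zpowers s), h4 hs⟩, h2.trans h3⟩
  by_cases hM : (pPrimeCore p G ⊔ S : Subgroup G).Normal
  · refine mck_final S (CL.Grp.not_dvd_card_pPrimeCore p G) hi hc hZ hν j hj
      (hr.trans (le_antisymm (fun g hg => ?_)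
        (CL.Grp.le_normalizer_sup' Subgroup.le_normalizer_of_normal le_rfl))) hi'
    obtain ⟨t, ht, h1⟩ := rpp_exists_conj_normalizer S (T := i.range ⊔ S) le_sup_right (g := g)
      fun x hx => (Subgroup.mem_normalizer_iff.1 hg x).1 (Subgroup.mem_sup_right hx)
    exact (Subgroup.mul_mem_cancel_left _ (sup_le (hc.trans (Subgroup.center_le_normalizer _))
      Subgroup.le_normalizer ht)).1 h1
  have hP := CL.Grp.isSylowIn_inf_normal S (pPrimePCore p G)
  have h1 := CL.Loc.pPrimeCore_sup_eq_of_isSylowIn hP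
  have h2 : pPrimePCore p G ≤ pPrimeCore p G ⊔ S :=
    h1.ge.trans (sup_le (inf_le_left.trans le_sup_right) le_sup_left)
  have h3 : i.range ≤ pPrimeCore p G ⊔ S := by
    rintro _ ⟨a, rfl⟩
    obtain ⟨k, hk, s, hs, e⟩ := hZ a
    exact e ▸ Subgroup.mul_mem_sup hk.1 hs.1
  have h4 : i.range < i.range ⊔ pPrimePCore p G := left_lt_sup.2 fun h4 => hM <| by
    rw [eq_top_iff.2 ((((Subgroup.centralizer_eq_top_iff_subset.2 (inf_le_right.trans
      (h4.trans hc))).ge.trans ((CL.Loc.isPConstrained_iff_of_isSylowIn hP).1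
        (CL.Loc.isPConstrained_of_isPSolvable hG)))).trans h2)]
    infer_instance
  have h5 : ∀ a, i a ∈ Subgroup.normalizer ((i.range ⊔ pPrimePCore p G ⊔ S : Subgroup G) : Set G) :=
    fun a => Subgroup.le_normalizer (Subgroup.mem_sup_left (Subgroup.mem_sup_left ⟨a, rfl⟩))
  refine (mck_fibK ih h S hν (eq_top_iff.2 fun _ _ _ => rfl) hG h4 h5).trans
    (mck_sub ih h S hν (fun _ _ _ => rfl) hG (fun h6 => hM ?_) h5
      (le_sup_right.trans Subgroup.le_normalizer) hj (hr.trans (inf_eq_left.2 ?_).symm) hi')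
  · rw [le_antisymm (sup_le (le_sup_right.trans (h1.le.trans (le_sup_right.trans le_sup_left)))
      le_sup_right) (sup_le (sup_le h3 h2) le_sup_right)]
    exact Subgroup.normalizer_eq_top_iff.1 h6
  · rw [sup_right_comm]
    exact CL.Grp.le_normalizer_sup' le_rfl Subgroup.le_normalizer_of_normal

theorem mck_invariant (ih : ∀ m < i.range.index, McKAt.{u} p m) (h : NEmb i c) (S : Sylow p G)
    (hν : IsIrrCharacter L ν) (hinv : cstab c ν = ⊤) (hG : IsPSolvable p G)
    (hj : Function.Injective j)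
    (hr : j.range = Subgroup.normalizer ((i.range ⊔ S : Subgroup G) : Set G))
    (hi' : ∀ a, j (i' a) = i a) :
    mckCnt (fun d => ¬ p ∣ d) i ν = mckCnt (fun d => ¬ p ∣ d) i' ν := by
  have := h.normal
  have : Finite N := Finite.of_injective j hj
  by_cases hd : p ∣ charDegree ν
  · have h1 : IsEmpty {χ : IrrCharacter G // ¬ p ∣ charDegree (χ : G → ℂ) ∧ Ovr i ν χ} :=
      ⟨fun χ => (h.not_dvd_degree χ.1.2 χ.2.1 hν χ.2.2).1 hd⟩
    have h2 : IsEmpty {χ : IrrCharacter N // ¬ p ∣ charDegree (χ : N → ℂ) ∧ Ovr i' ν χ} :=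
      ⟨fun χ => ((h.res hj hi').not_dvd_degree χ.1.2 χ.2.1 hν χ.2.2).1 hd⟩
    exact Nat.card_of_isEmpty.trans Nat.card_of_isEmpty.symm
  obtain ⟨C⟩ := nonempty_charCover i.range (h.tr_irr hν)
    (inertia_eq_top_iff.1 ((h.tr_inertia ν).trans hinv))
  have hQ : ∀ d, (¬ p ∣ d * charDegree ν) ↔ ¬ p ∣ d := fun d => by simp [hp.out.dvd_mul, hd]
  set q := QuotientGroup.mk' C.ι.range with hq
  have hqs : Function.Surjective q := QuotientGroup.mk'_surjective _
  have hι : Function.Injective (C.ι.comp i.rangeRestrict) :=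
    C.ι_injective.comp fun a b e => h.inj (congrArg Subtype.val e)
  have hk : q.ker = (C.ι.comp i.rangeRestrict).range := by
    rw [MonoidHom.range_comp, MonoidHom.range_eq_top.2 i.rangeRestrict_surjective,
      ← MonoidHom.range_eq_map, QuotientGroup.ker_mk']
  have he : ∀ a, C.ext (C.ι.comp i.rangeRestrict a) = ν a := fun a =>
    (C.ext_ι _).trans (h.tr_apply ν a)
  have hz : Function.Injective (q.comp C.π.ker.subtype) := (injective_iff_map_eq_one _).2 fun a ha =>
    Subtype.ext (Subgroup.mem_bot.1 (C.range_ι_inf_ker.le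
      ⟨(QuotientGroup.eq_one_iff _).1 ha, a.2⟩))
  have hιN : ∀ a, C.ι.comp i.rangeRestrict a ∈ j.range.comap C.π := fun a =>
    ⟨i' a, (hi' a).trans (C.π_ι (i.rangeRestrict a)).symm⟩
  have hzN : ∀ a : C.π.ker, C.π.ker.subtype a ∈ j.range.comap C.π := fun a =>
    Subgroup.ker_le_comap _ _ a.2
  obtain ⟨S', rfl⟩ := Sylow.mapSurjective_surjective C.π_surj p S
  have h1 : (q.comp C.π.ker.subtype).range.comap q = i.range.comap C.π := by
    rw [MonoidHom.range_comp, Subgroup.range_subtype, Subgroup.comap_map_eq, hq,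
      QuotientGroup.ker_mk', sup_comm, C.range_ι_sup_ker]
  rw [mckCnt_cover _ C.π C.π_surj _ hι q hqs hk C.ext_irr.isCharacter hν he C.π.ker.subtype
      (Subgroup.range_subtype _) (by simpa using C.ker_central) hz C.ν C.ext_ker_mul hQ
      (fun a => C.π_ι _),
    mckCnt_cover _ ((MonoidHom.ofInjective hj).symm.toMonoidHom.comp (C.π.subgroupComap j.range))
      ((MonoidHom.ofInjective hj).symm.surjective.comp
        (C.π.subgroupComap_surjective_of_surjective _ C.π_surj))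
      ((C.ι.comp i.rangeRestrict).codRestrict _ hιN) (fun a b e => hι (congrArg Subtype.val e))
      (q.subgroupMap _) (q.subgroupMap_surjective _) ?_
      (C.ext_irr.isCharacter.comp (Subgroup.subtype _)) hν he (C.π.ker.subtype.codRestrict _ hzN) ?_ ?_
      (fun a b e => hz (congrArg Subtype.val e)) C.ν (fun a x => C.ext_ker_mul a x) hQ
      (i := i') fun a => hj ?_]
  · refine mck_central (by rwa [← Subgroup.index_comap_of_surjective _ hqs, h1,
      Subgroup.index_comap_of_surjective _ C.π_surj]) hz ?_ (S'.mapSurjective hqs)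
      (isIrrCharacter_linear C.ν⁻¹) (CL.Loc.isPSolvable_quotient (CL.Loc.isPSolvable_of_ker C.π
        (haveI := C.isCyclic_ker; CL.Loc.isPSolvable_of_isMulCommutative) hG) _)
      (Subgroup.subtype_injective _) ?_ fun _ => rfl
    · rintro _ ⟨a, rfl⟩
      refine Subgroup.mem_center_iff.2 fun y => ?_
      obtain ⟨x, rfl⟩ := hqs y
      exact (map_mul q _ _).symm.trans ((congrArg q (C.ker_comm a x)).trans (map_mul q _ _))
    · rw [Subgroup.range_subtype, hr, Subgroup.comap_normalizer_eq_of_surjective _ C.π_surj,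
        ← Subgroup.map_comap_eq_self_of_surjective hqs (Subgroup.normalizer _),
        Subgroup.comap_normalizer_eq_of_surjective _ hqs, ← Subgroup.comap_sup_eq _ _ _ hqs,
        ← Subgroup.comap_sup_eq _ _ _ C.π_surj, h1, Sylow.coe_mapSurjective, Sylow.coe_mapSurjective,
        Subgroup.comap_map_eq, Subgroup.comap_map_eq, ← C.range_ι_sup_ker, hq, QuotientGroup.ker_mk']
      congr 3
      ac_nf
  · rw [Subgroup.ker_subgroupMap, hk]
    exact Subgroup.ext fun x =>
      ⟨fun ⟨a, e⟩ => ⟨a, Subtype.ext e⟩, fun ⟨a, e⟩ => ⟨a, congrArg Subtype.val e⟩⟩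
  · ext x
    simp only [MonoidHom.mem_ker, MonoidHom.comp_apply, MulEquiv.coe_toMonoidHom,
      EmbeddingLike.map_eq_one_iff, Subtype.ext_iff]
    exact ⟨fun ⟨a, e⟩ => e ▸ a.2, fun hx => ⟨⟨x, hx⟩, rfl⟩⟩
  · rintro _ ⟨a, rfl⟩
    exact mck_mem_center _ (C.ker_central a.2)
  · exact (MonoidHom.apply_ofInjective_symm hj _).trans ((C.π_ι _).trans (hi' a).symm)

theorem mckAt (p : ℕ) [hp : Fact p.Prime] (n : ℕ) : McKAt.{u} p n := by
  induction n using Nat.strong_induction_on with | _ n ih => ?_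
  rintro G L N _ _ _ _ i c S ν j i' h hν hS hj hr hi' hG rfl
  by_cases hT : cstab c ν = ⊤
  · exact mck_invariant ih h S hν hT hG hj hr hi'
  have : Finite N := Finite.of_injective j hj
  have h1 : ∀ a, i a ∈ cstab c ν := fun a => h.range_le_cstab hν.isClassFunction ⟨a, rfl⟩
  have h2 : ∀ a, i' a ∈ (cstab c ν).comap j := fun a => by rw [Subgroup.mem_comap, hi']; exact h1 a
  have h3 : ∀ m, ¬ p ∣ m → ∀ d, (¬ p ∣ m * d) ↔ ¬ p ∣ d := fun m hm d => by
    simp [hp.out.dvd_mul, hm]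
  have h4 : (S : Subgroup G) ≤ j.range := hr ▸ le_sup_right.trans Subgroup.le_normalizer
  have h6 : ¬ p ∣ ((cstab c ν).comap j).subtype.range.index := by
    rw [Subgroup.range_subtype, Subgroup.index_comap]
    exact fun h5 => S.not_dvd_index (h5.trans ((Subgroup.relIndex_dvd_of_le_left _ hS).trans
      (Subgroup.relIndex_dvd_index_of_le h4)))
  rw [h.mckCnt_clifford hν (cstab c ν).subtype (Subgroup.subtype_injective _) (by simp)
      (k' := i.codRestrict _ h1) (fun _ => rfl) (h3 _ fun h5 => S.not_dvd_index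
        (h5.trans (Subgroup.index_dvd_of_le (by simpa using hS)))),
    (h.res hj hi').mckCnt_clifford hν ((cstab c ν).comap j).subtype (Subgroup.subtype_injective _)
      (fun x hx => ⟨⟨x, hx⟩, rfl⟩) (k' := i'.codRestrict _ h2) (fun _ => rfl) (h3 _ h6)]
  exact mck_sub ih h S hν hS hG hT h1 hS (j := j.comp (Subgroup.subtype _))
    (hj.comp (Subgroup.subtype_injective _))
    (by rw [MonoidHom.range_comp, Subgroup.range_subtype, Subgroup.map_comap_eq, hr]) hi'

end CL.Char
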