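/-
Vanishing `p`-singular elements of solvable groups (Madanha): if they all have the same order, then
`|P : O_p(G)| ≤ p`.
-/
import Cfsg.Agent.Char.RootUnity
import Cfsg.Agent.Grp.RegOrbit
import Cfsg.Agent.Grp.Fpf

set_option autoImplicit false
set_option linter.unusedSectionVars false

open scoped Pointwise commutatorElement
open Cfsg CL.Grp Subgroup CL.Char.RootU

namespace CL.Char.VanOrd

variable {G : Type*} [Group G] [Finite G] {p : ℕ} [hp : Fact p.Prime]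

/-- Vanishing elements. -/
def Van (g : G) : Prop := ∃ χ, IsIrrCharacter G χ ∧ χ g = 0

theorem Van.of_map {Q : Type*} [Group Q] (f : G →* Q) (hf : Function.Surjective f) {g : G}
    (h : Van (f g)) : Van g := by
  obtain ⟨χ, h1, h2⟩ := h
  exact ⟨_, (isIrrCharacter_comp_iff h1.isCharacter f hf).2 h1, h2⟩

/-- The action of `G` on the linear characters of a normal subgroup. -/
def rho (K : Subgroup G) [K.Normal] : G →* MulAut (K →* ℂˣ) where
  toFun g :=
    { toFun := cj g⁻¹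
      invFun := cj g
      left_inv := fun lam => by rw [← cj_mul, inv_mul_cancel, cj_one]
      right_inv := fun lam => by rw [← cj_mul, mul_inv_cancel, cj_one]
      map_mul' := map_mul _ }
  map_one' := MulEquiv.ext fun lam => by simpa using cj_one lam
  map_mul' a b := MulEquiv.ext fun lam => by simpa using cj_mul b⁻¹ a⁻¹ lam

section rho

variable {K : Subgroup G} [hK : K.Normal]

theorem rho_apply (g : G) (lam : K →* ℂˣ) (k : K) :
    rho K g lam k = lam ⟨g⁻¹ * k * g, by simpa using hK.conj_mem k k.2 g⁻¹⟩ := by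
  change lam _ = lam _
  congr 1
  exact Subtype.ext (by simp)

theorem rho_eq_iff {g : G} {lam : K →* ℂˣ} : rho K g lam = lam ↔ g ∈ inertia K fun x => (lam x : ℂ) := by
  have := cj_eq_iff (g := g⁻¹) (k := 1) (lam := lam)
  rwa [cj_one, inv_one, mul_one, inv_mem_iff] at this

theorem rho_of_mem {k : G} (hk : k ∈ K) : rho K k = 1 :=
  MulEquiv.ext fun lam => rho_eq_iff.2 (le_inertia (isIrrCharacter_linear lam).isClassFunction hk)

theorem van_of_rho {g : G} (lam : K →* ℂˣ) (h : ∀ x, rho K (x⁻¹ * g * x) lam ≠ lam) : Van g := by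
  have := Fintype.ofFinite G
  have := Fintype.ofFinite K
  have hl := isIrrCharacter_linear lam
  obtain ⟨χ, h1, h2⟩ := exists_irr_over K hl
  obtain ⟨ψ, -, rfl, -⟩ := clifford_corr_inertia_surj hl rfl (le_inertia hl.isClassFunction) h1 h2
  exact ⟨_, h1, indFun_eq_zero_of_conj _ fun x hx => (h x (rho_eq_iff.2 hx)).elim⟩

theorem mem_commutator_of_rho {g k : G} (h : rho K g = 1) (hk : k ∈ K) : k⁻¹ * (g⁻¹ * k * g) ∈ ⁅K, K⁆ := by
  have h1 : (⟨k, hk⟩⁻¹ * ⟨g⁻¹ * k * g, by simpa using hK.conj_mem k hk g⁻¹⟩ : K) ∈ commutator K :=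
    mem_commutator_iff_forall_monoidHom.2 fun lam => by
      rw [map_mul, map_inv, ← rho_apply g lam ⟨k, hk⟩, h, MulAut.one_apply, inv_mul_cancel]
  have := mem_map_of_mem K.subtype h1
  rwa [_root_.commutator_def, map_commutator, top_map_subtype] at this

theorem exists_lam_ne_one (hs : Group.IsSolvable G) (h : K ≠ ⊥) : ∃ lam : K →* ℂˣ, lam ≠ 1 := by
  by_contra! h1
  have : Nontrivial K := K.nontrivial_iff_ne_bot.2 h
  exact (Group.IsSolvable.commutator_lt_top_of_nontrivial K).ne (eq_top_iff.2 fun x _ =>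
    mem_commutator_iff_forall_monoidHom.2 fun lam => by rw [h1 lam, MonoidHom.one_apply])

theorem rho_fpf {z : G} (hz : K ⊓ centralizer {z} = ⊥) {lam : K →* ℂˣ} (h : rho K z lam = lam) : lam = 1 := by
  refine MonoidHom.ext fun k => ?_
  obtain ⟨y, -, rfl⟩ := fpf_exists_inv_mul_eq (φ := (MulAut.conjNormal z⁻¹ : MulAut K).toMonoidHom)
    (fun x hx => Subtype.ext (mem_bot.1 (hz ▸ (⟨x.2, mem_centralizer_singleton_iff.2 (by
      have := congrArg Subtype.val hx
      simp only [MulEquiv.toMonoidHom_eq_coe, MonoidHom.coe_coe, MulAut.conjNormal_apply, inv_inv] at this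
      rwa [mul_assoc, inv_mul_eq_iff_eq_mul] at this)⟩ : (x : G) ∈ K ⊓ centralizer {z})))) ⊤
    (fun _ _ => mem_top _) (mem_top k)
  rw [map_mul, map_inv, MonoidHom.one_apply, inv_mul_eq_one]
  exact DFunLike.congr_fun h y

theorem van_of_fpf (hs : Group.IsSolvable G) (h : K ≠ ⊥) {g : G}
    (hg : ∀ lam : K →* ℂˣ, rho K g lam = lam → lam = 1) : Van g := by
  obtain ⟨lam, h1⟩ := exists_lam_ne_one hs h
  refine van_of_rho lam fun x hx => h1 ((map_eq_one_iff _ (rho K x).injective).1 (hg _ ?_))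
  conv_rhs => rw [← hx]
  rw [← MulAut.mul_apply, ← MulAut.mul_apply, ← map_mul, ← map_mul, mul_assoc, mul_inv_cancel_left]

theorem van_of_regular {D : Subgroup G} [hD : D.Normal] {lam : K →* ℂˣ}
    (h : ∀ s ∈ D.map (rho K), s lam = lam → s = 1) {g : G} (hg : g ∈ D) (h1 : rho K g ≠ 1) : Van g :=
  van_of_rho lam fun x hx => h1 (by
    have := h _ (mem_map_of_mem _ (by simpa using hD.conj_mem g hg x⁻¹)) hx
    rwa [map_mul, map_mul, map_inv, mul_assoc, inv_mul_eq_one, eq_comm, mul_eq_right] at this)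

theorem coprime_rho (hK' : ¬ p ∣ Nat.card K) {g : G} {n : ℕ} (hg : g ^ p ^ n ∈ K) (y : K →* ℂˣ)
    (h : y ^ orderOf (rho K g) = 1) : y = 1 := by
  have h1 : orderOf (rho K g) ∣ p ^ n := orderOf_dvd_of_pow_eq_one (by rw [← map_pow, rho_of_mem hg])
  have h2 : y ^ Nat.card K = 1 := MonoidHom.ext fun k => by
    rw [MonoidHom.pow_apply, ← map_pow, pow_card_eq_one', map_one, MonoidHom.one_apply]
  exact orderOf_eq_one_iff.1 (Nat.eq_one_of_dvd_coprimes
    (((Nat.Prime.coprime_iff_not_dvd hp.out).2 hK').pow_left n)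
    ((orderOf_dvd_of_pow_eq_one (x := y) h).trans h1) (orderOf_dvd_of_pow_eq_one (x := y) h2))

theorem le_sup_of_pow {L S : Subgroup G} (hS : IsSylowIn p S L) (h : ∀ g ∈ L, ∃ n, g ^ p ^ n ∈ K)
    {g : G} (hg : g ∈ L) : ∃ k ∈ K, ∃ s ∈ S, g = k * s := by
  have h1 : IsPGroup p (L ⧸ K.subgroupOf L) := fun q => by
    obtain ⟨l, rfl⟩ := QuotientGroup.mk_surjective q
    obtain ⟨n, hn⟩ := h l l.2
    exact ⟨n, by rw [← QuotientGroup.mk_pow, QuotientGroup.eq_one_iff]; exact hn⟩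
  obtain ⟨n, hn⟩ := IsPGroup.iff_card.1 h1
  exact hS.exists_mul_eq_of_relIndex_pow hn hg

end rho

theorem eq_one_of_mem {K : Subgroup G} (hK : ¬ p ∣ Nat.card K) {x : G} (hx : x ∈ K) {n : ℕ}
    (h : x ^ p ^ n = 1) : x = 1 :=
  orderOf_eq_one_iff.1 (Nat.eq_one_of_dvd_coprimes
    (((Nat.Prime.coprime_iff_not_dvd hp.out).2 hK).pow_left n) (orderOf_dvd_of_pow_eq_one h)
    (K.orderOf_dvd_natCard hx))

theorem pow_eq_one_of_mem {S : Subgroup G} (hS : IsPGroup p S) {x : G} (hx : x ∈ S) : ∃ n, x ^ p ^ n = 1 := by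
  obtain ⟨n, hn⟩ := hS ⟨x, hx⟩
  exact ⟨n, congrArg Subtype.val hn⟩

theorem comm_mem {S : Subgroup G} {a b : G} (ha : a ∈ S) (hb : b ∈ S) : ⁅a, b⁆ ∈ S :=
  mul_mem (mul_mem (mul_mem ha hb) (inv_mem ha)) (inv_mem hb)

/-- A lowest `p`-chief factor `L/K`: if `K ≠ 1`, all elements of `L ∖ K` are vanishing. -/
theorem exists_pair (hs : Group.IsSolvable G) (hd : p ∣ Nat.card G) : ∃ K L : Subgroup G, K.Normal ∧ L.Normal ∧
    K ≤ L ∧ p ∣ Nat.card L ∧ ¬ p ∣ Nat.card K ∧ (∀ g ∈ L, g ^ p ∈ K) ∧ (∀ a ∈ L, ∀ b ∈ L, ⁅a, b⁆ ∈ K) ∧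
      (K = ⊥ ∨ ∀ g ∈ L, g ∉ K → Van g) := by
  obtain ⟨L, ⟨hL, hdL⟩, hm⟩ := exists_minimal_of_wellFoundedLT
    (fun L : Subgroup G => L.Normal ∧ p ∣ Nat.card L) ⟨⊤, inferInstance, by rwa [card_top]⟩
  have hL1 : ⊥ < L := bot_lt_iff_ne_bot.2 fun e => hp.out.one_lt.ne' (by simpa [e] using hdL)
  obtain ⟨K, ⟨hK, hKL⟩, hM⟩ := exists_maximal_of_wellFoundedGT
    (fun K : Subgroup G => K.Normal ∧ K < L) ⟨⊥, inferInstance, hL1⟩
  have hdK : ¬ p ∣ Nat.card K := fun h => hKL.not_ge (hm ⟨hK, h⟩ hKL.le)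
  have hmax : ∀ N : Subgroup G, N.Normal → K ≤ N → N ≤ L → N = K ∨ N = L := fun N hN h1 h2 =>
    or_iff_not_imp_right.2 fun h3 => le_antisymm (hM ⟨hN, lt_of_le_of_ne h2 h3⟩ h1) h1
  have hmin : IsMinNormal (L.map (QuotientGroup.mk' K)) := by
    refine ⟨hL.map _ (QuotientGroup.mk'_surjective K), fun e => hKL.not_ge ?_, fun N hN h1 => ?_⟩
    · rwa [Subgroup.map_eq_bot_iff, QuotientGroup.ker_mk'] at e
    · have h2 : K ≤ N.comap (QuotientGroup.mk' K) := fun k hk => by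
        rw [mem_comap, QuotientGroup.mk'_apply, (QuotientGroup.eq_one_iff k).2 hk]; exact one_mem _
      have h3 : N.comap (QuotientGroup.mk' K) ≤ L := by
        refine (comap_mono h1).trans ?_
        rw [comap_map_eq, QuotientGroup.ker_mk', sup_eq_left.2 hKL.le]
      refine (hmax _ inferInstance h2 h3).imp (fun e => ?_) fun e => ?_
      · rw [← map_comap_eq_self_of_surjective (QuotientGroup.mk'_surjective K) N, e, Subgroup.map_eq_bot_iff,
          QuotientGroup.ker_mk']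
      · rw [← map_comap_eq_self_of_surjective (QuotientGroup.mk'_surjective K) N, e]
  have hc := hmin.isMulCommutative_of_isSolvable inferInstance
  have hpow : ∀ g ∈ L, g ^ p ∈ K := fun g hg => by
    have h1 : p ∣ Nat.card (L.map (QuotientGroup.mk' K)) := by
      rw [← Nat.card_congr (quotientSubgroupOfEquivMap L K).toEquiv]
      rw [card_eq_relIndex_mul_card hKL.le] at hdL
      exact (hp.out.dvd_mul.1 hdL).resolve_right hdK
    have := hmin.pow_eq_one_of_dvd hc hp.out h1 _ (mem_map_of_mem _ hg)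
    rwa [← map_pow, QuotientGroup.mk'_apply, QuotientGroup.eq_one_iff] at this
  have hcomm : ∀ a ∈ L, ∀ b ∈ L, ⁅a, b⁆ ∈ K := fun a ha b hb => by
    rw [← QuotientGroup.eq_one_iff, ← QuotientGroup.mk'_apply, map_commutatorElement,
      commutatorElement_eq_one_iff_mul_comm]
    exact congrArg Subtype.val (hc.is_comm.comm ⟨_, mem_map_of_mem _ ha⟩ ⟨_, mem_map_of_mem _ hb⟩)
  refine ⟨K, L, hK, hL, hKL.le, hdL, hdK, hpow, hcomm, or_iff_not_imp_left.2 fun h0 g hg hgK => ?_⟩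
  obtain ⟨lam, hlam⟩ := RegOrb.exists_regular_comm (W := K →* ℂˣ) (L.map (rho K)) (by
      rintro _ ⟨l, hl, rfl⟩
      exact coprime_rho hdK (n := 1) (by rw [pow_one]; exact hpow l hl)) (by
      rintro _ ⟨a, ha, rfl⟩ _ ⟨b, hb, rfl⟩
      rw [← commutatorElement_eq_one_iff_mul_comm, ← map_commutatorElement, rho_of_mem (hcomm a ha b hb)])
  refine van_of_regular hlam hg fun h1 => ?_
  have h2 := (hmax (L ⊓ (rho K).ker) inferInstance (le_inf hKL.le fun k hk => rho_of_mem hk)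
    inf_le_left).resolve_left fun e => hgK (e ▸ (⟨hg, h1⟩ : g ∈ L ⊓ (rho K).ker))
  obtain ⟨A, hA⟩ := exists_isSylowIn p L
  have hKA := fun l => le_sup_of_pow (K := K) hA (fun g hg => ⟨1, by rw [pow_one]; exact hpow g hg⟩) (g := l)
  have hKn : K ≤ normalizer ((⁅K, K⁆ ⊔ A : Subgroup G) : Set G) := by
    refine le_normalizer_iff_conj_smul_le.2 fun k hk => ?_
    rw [Subgroup.smul_sup]
    refine sup_le ((conj_smul_le_iff _ _ _).2 fun x hx => mem_sup_left (Normal.conj_mem inferInstance x hx k))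
      ((conj_smul_le_iff _ _ _).2 fun a ha => ?_)
    have h3 := mem_commutator_of_rho (g := a⁻¹) (inf_eq_left.1 h2 (hA.le (inv_mem ha))) (inv_mem hk)
    have : k * a * k⁻¹ = k⁻¹⁻¹ * (a⁻¹⁻¹ * k⁻¹ * a⁻¹) * a := by group
    exact this ▸ mul_mem (mem_sup_left h3) (mem_sup_right ha)
  have hAn : normalizer (A : Set G) ≤ normalizer ((⁅K, K⁆ ⊔ A : Subgroup G) : Set G) :=
    le_normalizer_sup' le_normalizer_of_normal le_rfl
  have hN : (⁅K, K⁆ ⊔ A).Normal := normalizer_eq_top_iff.1 (eq_top_iff.2 fun x _ => by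
    obtain ⟨l, hl, h3⟩ := hA.frattini (H := ⊤) le_normalizer_of_normal (mem_top x)
    obtain ⟨k, hk, a, ha, rfl⟩ := hKA l hl
    exact (mul_mem_cancel_left (mul_mem (hKn hk) (hAn (le_normalizer ha)))).1 (hAn h3))
  have h3 : L ≤ ⁅K, K⁆ ⊔ A := hm ⟨hN, by
    refine Dvd.dvd.trans ?_ (card_dvd_of_le le_sup_right)
    rw [card_eq_relIndex_mul_card hA.le] at hdL
    exact (hp.out.dvd_mul.1 hdL).resolve_left hA.not_dvd⟩
    (sup_le ((commutator_le_left _ _).trans hKL.le) hA.le)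
  refine (Group.IsSolvable.commutator_lt_of_ne_bot h0).not_ge fun k hk => ?_
  obtain ⟨c, hc, a, ha, rfl⟩ := (mem_sup_iff_of_le_normalizer le_normalizer_of_normal).1 (h3 (hKL.le hk))
  obtain ⟨n, hn⟩ := pow_eq_one_of_mem hA.isPGroup ha
  rwa [eq_one_of_mem hdK ((mul_mem_cancel_left (commutator_le_left _ _ hc)).1 hk) hn, mul_one]

/-- The hypotheses in `G/O_p(G)`. -/
structure Hyp (p : ℕ) (G : Type*) [Group G] : Prop where
  solv : Group.IsSolvable G
  core : pCore p G = ⊥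
  a : ∀ x y : G, Van x → Van y → p ∣ orderOf y → x ≠ 1 → (∃ n, x ^ p ^ n = 1) → ∃ n, y ^ p ^ n = 1
  b : ∀ y : G, Van y → Van (y ^ p) → ¬ p ∣ orderOf (y ^ p)

theorem dvd_orderOf {x : G} (h1 : x ≠ 1) (h : ∃ n, x ^ p ^ n = 1) : p ∣ orderOf x := by
  obtain ⟨n, hn⟩ := h
  obtain ⟨i, -, hi⟩ := (Nat.dvd_prime_pow hp.out).1 (orderOf_dvd_of_pow_eq_one hn)
  rw [hi]
  exact dvd_pow_self p fun e => h1 (orderOf_eq_one_iff.1 (by rw [hi, e, pow_zero]))

theorem le_of_pair {K M : Subgroup G} [K.Normal] (hK : ¬ p ∣ Nat.card K) {y z : G} (hy : y ^ p = 1)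
    (hz : z ^ p = 1) (hz1 : z ≠ 1) (hyz : y ∉ zpowers z) (hc : y * z = z * y)
    (h : ∀ a ∈ zpowers y, ∀ b ∈ zpowers z, a * b ≠ 1 → K ⊓ centralizer {a * b} ≤ M) : K ≤ M := by
  have h1 : zpowers y ≤ centralizer (zpowers z : Set G) := zpowers_le.2 (mem_centralizer_iff.2 (by
    rintro _ ⟨i, rfl⟩
    exact (Commute.zpow_left hc.symm i).eq))
  have := isMulCommutative_sup inferInstance inferInstance h1
  have h2 := fun x => (mem_sup_iff_of_le_normalizer' (N := zpowers z) (H := zpowers y)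
    (h1.trans (centralizer_le_normalizer _)) (x := x)).1
  have h3 : IsPGroup p ↥(zpowers y ⊔ zpowers z) := fun x => ⟨1, Subtype.ext (by
    obtain ⟨_, ⟨i, rfl⟩, _, ⟨j, rfl⟩, e⟩ := h2 _ x.2
    rw [pow_one, coe_pow, e, (Commute.zpow_zpow hc i j).mul_pow, ← zpow_natCast, ← zpow_natCast, ← zpow_mul,
      ← zpow_mul, mul_comm i, mul_comm j, zpow_mul, zpow_mul, zpow_natCast, zpow_natCast, hy, hz]
    simp)⟩
  refine le_of_forall_centralizer_le (A := zpowers y ⊔ zpowers z) (fun hcy => hyz ?_) le_normalizer_of_normal ?_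
    fun x hx h4 => ?_
  · have h4 : Nat.card ↥(zpowers y ⊔ zpowers z) ∣ p := by
      rw [← IsCyclic.exponent_eq_card]
      refine Monoid.exponent_dvd_of_forall_pow_eq_one fun x => Subtype.ext ?_
      obtain ⟨_, ⟨i, rfl⟩, _, ⟨j, rfl⟩, e⟩ := h2 _ x.2
      rw [coe_pow, e, (Commute.zpow_zpow hc i j).mul_pow, ← zpow_natCast, ← zpow_natCast, ← zpow_mul,
        ← zpow_mul, mul_comm i, mul_comm j, zpow_mul, zpow_mul, zpow_natCast, zpow_natCast, hy, hz]
      simp
    rw [eq_of_le_of_card_ge (le_sup_right : zpowers z ≤ zpowers y ⊔ zpowers z) (by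
      rw [Nat.card_zpowers, orderOf_eq_prime hz hz1]; exact Nat.le_of_dvd hp.out.pos h4)]
    exact mem_sup_left (mem_zpowers y)
  · obtain ⟨n, hn⟩ := IsPGroup.iff_card.1 h3
    rw [hn]
    exact ((Nat.Prime.coprime_iff_not_dvd hp.out).2 hK).pow_left n
  · obtain ⟨a, ha, b, hb, rfl⟩ := h2 x hx
    exact h a ha b hb h4

theorem Hyp.card_le (h : Hyp p G) (S : Sylow p G) : Nat.card S ≤ p := by
  by_contra! hlt
  have hs := h.solv
  have hpS := fun x (hx : x ∈ (S : Subgroup G)) => pow_eq_one_of_mem S.isPGroup' hx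
  have hdS : p ∣ Nat.card S := by
    obtain ⟨n, hn⟩ := IsPGroup.iff_card.1 S.isPGroup'
    rw [hn] at hlt ⊢
    exact dvd_pow_self p fun e => hp.out.one_lt.not_gt (by rwa [e, pow_zero] at hlt)
  obtain ⟨K, L, hK, hL, hKL, hdL, hdK, hpow, hcomm, hV⟩ := exists_pair hs (hdS.trans (card_subgroup_dvd_card _))
  have hK0 : K ≠ ⊥ := by
    rintro rfl
    have : L ≤ ⊥ := h.core ▸ le_pCore fun x => ⟨1, Subtype.ext (by rw [pow_one]; exact hpow x x.2)⟩
    exact hdK (le_bot_iff.1 this ▸ hdL)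
  replace hV := hV.resolve_left hK0
  have hSK : ∀ x ∈ (S : Subgroup G), x ∈ K → x = 1 := fun x hx hk => (hpS x hx).elim fun _ => eq_one_of_mem hdK hk
  have hA := isSylowIn_inf_normal S L
  have hdA : p ∣ Nat.card ↥((S : Subgroup G) ⊓ L) := by
    rw [card_eq_relIndex_mul_card hA.le] at hdL
    exact (hp.out.dvd_mul.1 hdL).resolve_left hA.not_dvd
  obtain ⟨⟨z, hzS, hzL⟩, hz⟩ := exists_prime_orderOf_dvd_card' p hdA
  rw [← orderOf_coe] at hz
  change orderOf z = p at hz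
  have hz1 : z ≠ 1 := fun e => hp.out.one_lt.ne (by rw [← hz, e, orderOf_one])
  have hzp : z ^ p = 1 := hz ▸ pow_orderOf_eq_one z
  have F1 : ∀ e ∈ (S : Subgroup G), e ≠ 1 → (∀ k ∈ K, Van (e * k)) → K ⊓ centralizer {e} = ⊥ :=
    fun e he h1 hv => (eq_bot_iff_forall _).2 fun k hk => by
      have hc : Commute e k := (mem_centralizer_singleton_iff.1 hk.2).symm
      have key : ∀ n, (e * k) ^ n = 1 → e ^ n = 1 := fun n hn => hSK _ (pow_mem he n) (by
        rw [hc.mul_pow, mul_eq_one_iff_eq_inv] at hn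
        exact hn ▸ inv_mem (pow_mem hk.1 n))
      obtain ⟨n, hn⟩ := h.a z _ (hV z hzL fun h2 => hz1 (hSK z hzS h2)) (hv k hk.1) ((dvd_orderOf h1 (hpS e he)).trans
        (orderOf_dvd_of_pow_eq_one (key _ (pow_orderOf_eq_one _)))) hz1 (hpS z hzS)
      have h2 := key _ hn
      rw [hc.mul_pow, h2, one_mul] at hn
      exact eq_one_of_mem hdK hk.1 hn
  have F2 : ∀ x ∈ (S : Subgroup G), x ∈ L → x ≠ 1 → K ⊓ centralizer {x} = ⊥ := fun x hx hxL h1 =>
    F1 x hx h1 fun k hk => hV _ (mul_mem hxL (hKL hk)) fun h2 => h1 (hSK x hx ((mul_mem_cancel_right hk).1 h2))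
  have F4 : ∀ x ∈ (S : Subgroup G), x ∈ L → x ∈ zpowers z := fun x hx hxL => by
    by_contra h1
    refine hK0 (le_bot_iff.1 (le_of_pair hdK (hSK _ (pow_mem hx p) (hpow x hxL)) hzp hz1 h1
      (commutatorElement_eq_one_iff_mul_comm.1 (hSK _ (comm_mem hx hzS) (hcomm x hxL z hzL)))
      fun a ha b hb h2 => (F2 _ ?_ ?_ h2).le))
    · exact mul_mem (zpowers_le.2 hx ha) (zpowers_le.2 hzS hb)
    · exact mul_mem (zpowers_le.2 hxL ha) (zpowers_le.2 hzL hb)
  have hZ : (S : Subgroup G) ⊓ L = zpowers z := le_antisymm (fun x hx => F4 x hx.1 hx.2) (zpowers_le.2 ⟨hzS, hzL⟩)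
  have hfpf : ∀ e ∈ zpowers z, e ≠ 1 → ∀ lam, rho K e lam = lam → lam = 1 := fun e he h1 lam =>
    rho_fpf (F2 e (hZ.ge he).1 (hZ.ge he).2 h1)
  have hzc : ∀ y ∈ (S : Subgroup G), y * z = z * y := fun y hy => by
    have := le_center_of_normal_card_prime S.isPGroup' (L.subgroupOf S) (by
      rw [← Nat.card_congr (subgroupOfEquivOfLe (inf_le_left : (S : Subgroup G) ⊓ L ≤ S)).toEquiv.symm.symm] at hdA
      rw [← inf_subgroupOf_left, Nat.card_congr (subgroupOfEquivOfLe inf_le_left).toEquiv, hZ, Nat.card_zpowers, hz])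
    exact congrArg Subtype.val (mem_center_iff.1 (this (show (⟨z, hzS⟩ : S) ∈ L.subgroupOf S from hzL)) ⟨y, hy⟩)
  let f := QuotientGroup.mk' L
  have hf : Function.Surjective f := QuotientGroup.mk'_surjective L
  have hfp : ∀ x ∈ (S : Subgroup G), ∃ n, f x ^ p ^ n = 1 := fun x hx =>
    (hpS x hx).imp fun n hn => by rw [← map_pow, hn, map_one]
  have hdQ : p ∣ Nat.card (G ⧸ L) := by
    by_contra h1
    have : (S : Subgroup G) ≤ zpowers z := fun x hx => F4 x hx ((QuotientGroup.eq_one_iff x).1 (by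
      by_contra h2
      exact h1 ((dvd_orderOf h2 (hfp x hx)).trans (orderOf_dvd_natCard _))))
    have := card_le_of_le this
    rw [Nat.card_zpowers, hz] at this
    exact hlt.not_ge this
  obtain ⟨K₁, L₁, hK₁, hL₁, hKL₁, hdL₁, hdK₁, hpow₁, hcomm₁, hV₁⟩ := exists_pair inferInstance hdQ
  have hSK₁ : ∀ x ∈ (S : Subgroup G), f x ∈ K₁ → x ∈ zpowers z := fun x hx hk =>
    F4 x hx ((QuotientGroup.eq_one_iff x).1 ((hfp x hx).elim fun _ => eq_one_of_mem hdK₁ hk))
  have hfL : ∀ x ∈ L, f x = 1 := fun x hx => (QuotientGroup.eq_one_iff x).2 hx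
  have G1 : ∀ y ∈ (S : Subgroup G), f y ∈ L₁ → y ^ p = 1 := fun y hy hyL => by
    by_contra h1
    have h2 := hSK₁ _ (pow_mem hy p) (by rw [map_pow]; exact hpow₁ _ hyL)
    refine h.b y (van_of_fpf hs hK0 fun lam hl => hfpf _ h2 h1 lam ?_) (van_of_fpf hs hK0 (hfpf _ h2 h1))
      (dvd_orderOf h1 (hpS _ (pow_mem hy p)))
    exact rho_eq_iff.2 (pow_mem (rho_eq_iff.1 hl) p)
  have V1 : ∀ g, f g ∈ L₁ → f g ∉ K₁ → Van g := by
    rcases hV₁ with rfl | hV₁
    swap
    · exact fun g h1 h2 => (hV₁ _ h1 h2).of_map f hf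
    have hD : ∀ g ∈ L₁.comap f, g ^ p ^ 2 ∈ K := fun g hg => by
      rw [pow_two, pow_mul]
      exact hpow _ ((QuotientGroup.eq_one_iff _).1 (by
        rw [← QuotientGroup.mk'_apply, map_pow]; exact mem_bot.1 (hpow₁ _ hg)))
    have hT := isSylowIn_inf_normal S (L₁.comap f ⊓ (rho K).ker)
    have hCT := fun c => le_sup_of_pow (K := K) hT (fun g hg => ⟨2, hD g hg.1⟩) (g := c)
    have hTK : ∀ y ∈ (S : Subgroup G) ⊓ (L₁.comap f ⊓ (rho K).ker), K ≤ centralizer {y} := fun y hy => by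
      by_cases h1 : y = 1
      · rw [h1]; exact fun k _ => mem_centralizer_singleton_iff.2 (by simp)
      obtain ⟨lam, hl⟩ := exists_lam_ne_one hs hK0
      have hy1 : rho K y = 1 := hy.2.2
      refine le_of_pair hdK (G1 y hy.1 hy.2.1) hzp hz1 (fun h2 => hl (hfpf y h2 h1 lam (by rw [hy1]; rfl)))
        (hzc y hy.1) fun a ha b hb h2 => ?_
      by_cases h3 : b = 1
      · rw [h3, mul_one] at h2 ⊢
        have : Fact (Nat.card (zpowers y)).Prime := ⟨by
          rw [Nat.card_zpowers, orderOf_eq_prime (G1 y hy.1 hy.2.1) h1]; exact hp.out⟩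
        have h4 : y ∈ zpowers a := by
          have := zpowers_eq_top_of_prime_card (G := zpowers y) rfl (g := ⟨a, ha⟩) fun e => h2 (congrArg Subtype.val e)
          obtain ⟨i, hi⟩ := this.ge (mem_top ⟨y, mem_zpowers y⟩)
          exact ⟨i, congrArg Subtype.val hi⟩
        obtain ⟨i, rfl⟩ := h4
        exact fun k hk => mem_centralizer_singleton_iff.2
          (Commute.zpow_right (mem_centralizer_singleton_iff.1 hk.2) i).eq
      · refine (F1 _ (mul_mem (zpowers_le.2 hy.1 ha) (hZ.ge hb).1) h2 fun k hk => van_of_fpf hs hK0 ?_).le.trans bot_le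
        rw [map_mul, map_mul, rho_of_mem hk, show rho K a = 1 from (zpowers_le (H := (rho K).ker)).2 hy1 ha,
          one_mul, mul_one]
        exact hfpf b hb h3
    have hTn : ((S : Subgroup G) ⊓ (L₁.comap f ⊓ (rho K).ker)).Normal := normalizer_eq_top_iff.1
      (eq_top_iff.2 fun x _ => by
        obtain ⟨l, hl, h3⟩ := hT.frattini (H := ⊤) le_normalizer_of_normal (mem_top x)
        obtain ⟨k, hk, a, ha, rfl⟩ := hCT l hl
        exact (mul_mem_cancel_left (mul_mem (centralizer_le_normalizer _ (mem_centralizer_iff.2 fun y hy =>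
          (mem_centralizer_singleton_iff.1 (hTK y hy hk)).symm)) (le_normalizer ha))).1 h3)
    have hT1 : (S : Subgroup G) ⊓ (L₁.comap f ⊓ (rho K).ker) ≤ ⊥ := h.core ▸ le_pCore hT.isPGroup
    have hDS : ∀ s ∈ (L₁.comap f).map (rho K), ∃ a ∈ (S : Subgroup G), f a ∈ L₁ ∧ s = rho K a := by
      rintro _ ⟨d, hd, rfl⟩
      obtain ⟨k, hk, a, ha, rfl⟩ := le_sup_of_pow (K := K) (isSylowIn_inf_normal S (L₁.comap f))
        (fun g hg => ⟨2, hD g hg⟩) hd
      exact ⟨a, ha.1, ha.2, by rw [map_mul, rho_of_mem hk, one_mul]⟩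
    have hcop : ∀ s ∈ (L₁.comap f).map (rho K), ∀ y : K →* ℂˣ, y ^ orderOf s = 1 → y = 1 := by
      rintro _ ⟨d, hd, rfl⟩
      exact coprime_rho hdK (hD d hd)
    obtain ⟨lam, hlam⟩ : ∃ lam : K →* ℂˣ, ∀ s ∈ (L₁.comap f).map (rho K), s lam = lam → s = 1 := by
      by_cases h2 : p = 2
      · subst h2
        refine RegOrb.exists_regular_comm (W := K →* ℂˣ) _ hcop fun a₀ ha₀ b₀ hb₀ => ?_
        obtain ⟨a, ha, ha', rfl⟩ := hDS a₀ ha₀
        obtain ⟨b, hb, hb', rfl⟩ := hDS b₀ hb₀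
        have h3 := G1 _ (mul_mem ha hb) (by rw [map_mul]; exact mul_mem ha' hb')
        have h4 := G1 a ha ha'
        have h5 := G1 b hb hb'
        rw [pow_two, mul_eq_one_iff_eq_inv] at h3 h4 h5
        rw [← map_mul, ← map_mul, h3, mul_inv_rev, ← h4, ← h5]
      refine RegOrb.exists_regular (W := K →* ℂˣ) _ hcop ((zpowers z).map (rho K)) ?_ (map_mono (zpowers_le.2 ?_)) ?_ ?_ ?_
      · rintro _ ⟨e, he, rfl⟩ x hx
        exact or_iff_not_imp_left.2 fun h3 => hfpf e he (fun h4 => h3 (by rw [h4, map_one])) x hx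
      · rw [mem_comap, hfL z hzL]; exact one_mem _
      · rintro _ ⟨_, ⟨i, rfl⟩, rfl⟩ a₀ ha₀
        obtain ⟨a, ha, -, rfl⟩ := hDS a₀ ha₀
        rw [← map_mul, ← map_mul, (Commute.zpow_right (hzc a ha) i).eq]
      · rintro _ ⟨e, he, rfl⟩ h3
        have h4 : rho K e ^ p = 1 := by
          rw [← map_pow, G1 e (hZ.ge he).1 (by rw [hfL e (hZ.ge he).2]; exact one_mem _), map_one]
        exact orderOf_eq_one_iff.1 (Nat.eq_one_of_dvd_coprimes ((Nat.coprime_primes hp.out Nat.prime_two).2 h2)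
          (orderOf_dvd_of_pow_eq_one h4) (orderOf_dvd_of_pow_eq_one ((pow_two _).trans h3)))
      · intro a₀ ha₀ b₀ hb₀
        obtain ⟨a, ha, ha', rfl⟩ := hDS a₀ ha₀
        obtain ⟨b, hb, hb', rfl⟩ := hDS b₀ hb₀
        rw [← map_commutatorElement]
        exact mem_map_of_mem _ (hSK₁ _ (comm_mem ha hb) (by
          rw [map_commutatorElement]; exact hcomm₁ _ ha' _ hb'))
    refine fun g h1 h2 => van_of_regular hlam h1 fun h3 => h2 ?_
    obtain ⟨k, hk, a, ha, rfl⟩ := hCT g ⟨h1, h3⟩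
    rw [mem_bot.1 (hT1 ha), mul_one, hfL k (hKL hk)]
    exact one_mem _
  have hA₁ := isSylowIn_inf_normal (S.mapSurjective hf) L₁
  have hdA₁ : p ∣ Nat.card ↥((S.mapSurjective hf : Subgroup (G ⧸ L)) ⊓ L₁) := by
    rw [card_eq_relIndex_mul_card hA₁.le] at hdL₁
    exact (hp.out.dvd_mul.1 hdL₁).resolve_left hA₁.not_dvd
  obtain ⟨⟨_, ⟨y, hy, rfl⟩, hyL⟩, hy1⟩ := exists_prime_orderOf_dvd_card' p hdA₁
  rw [← orderOf_coe] at hy1
  refine hK0 (le_bot_iff.1 (le_of_pair hdK (G1 y hy hyL) hzp hz1 (fun h1 => hp.out.one_lt.ne ?_) (hzc y hy)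
    fun a ha b hb h1 => le_of_eq ?_))
  · rw [← hy1]
    exact (orderOf_eq_one_iff.2 (hfL y (hZ.ge h1).2)).symm
  have h2 : a * b ∈ (S : Subgroup G) := mul_mem (zpowers_le.2 hy ha) (hZ.ge hb).1
  by_cases h3 : f (a * b) ∈ K₁
  · exact F2 _ h2 (hZ.ge (hSK₁ _ h2 h3)).2 h1
  refine F1 _ h2 h1 fun k hk => V1 _ ?_ (by rwa [map_mul, hfL k (hKL hk), mul_one])
  rw [map_mul, map_mul, hfL k (hKL hk), hfL b (hZ.ge hb).2, mul_one, mul_one]
  exact (zpowers_le (H := L₁.comap f)).2 hyL ha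

/-- If all vanishing `p`-singular elements of a solvable group have the same order then `|P : O_p(G)| ≤ p`. -/
theorem card_map_le (hs : Group.IsSolvable G)
    (h : ∀ x y : G, Van x → Van y → p ∣ orderOf x → p ∣ orderOf y → orderOf x = orderOf y) (P : Sylow p G) :
    Nat.card ((P : Subgroup G).map (QuotientGroup.mk' (pCore p G))) ≤ p := by
  let f := QuotientGroup.mk' (pCore p G)
  have hf : Function.Surjective f := QuotientGroup.mk'_surjective _
  refine Hyp.card_le ⟨inferInstance, pCore_quotient_pCore p G, fun x y hx hy h1 h2 ⟨n, hn⟩ => ?_,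
    fun y hy h1 h2 => ?_⟩ (P.mapSurjective hf)
  · obtain ⟨x, rfl⟩ := hf x
    obtain ⟨y, rfl⟩ := hf y
    obtain ⟨m, hm⟩ := pow_eq_one_of_mem (pCore_isPGroup p G) (x := x ^ p ^ n)
      ((QuotientGroup.eq_one_iff _).1 (by rw [← QuotientGroup.mk'_apply, map_pow]; exact hn))
    have := h x y (hx.of_map f hf) (hy.of_map f hf) ((dvd_orderOf h2 ⟨n, hn⟩).trans (orderOf_map_dvd f x))
      (h1.trans (orderOf_map_dvd f y))
    refine ⟨n + m, ?_⟩
    rw [← map_pow, orderOf_dvd_iff_pow_eq_one.1 (this ▸ orderOf_dvd_of_pow_eq_one (by rwa [pow_add, pow_mul])),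
      map_one]
  · obtain ⟨y, rfl⟩ := hf y
    rw [← map_pow] at h1 h2
    have h3 := h2.trans (orderOf_map_dvd f _)
    have h4 := h3.trans (orderOf_pow_dvd p)
    have := h _ _ (h1.of_map f hf) (hy.of_map f hf) h3 h4
    rw [orderOf_pow_of_dvd hp.out.ne_zero h4] at this
    exact (Nat.div_lt_self (orderOf_pos y) hp.out.one_lt).ne this

end CL.Char.VanOrd
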