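/-
Solvable linear groups: critical subgroups, elements of primitive prime order.
-/
import Cfsg.Agent.Char.VanOrd
import Cfsg.Agent.Char.DegIto
import Cfsg.Agent.Char.ExtraspecialChar
import Cfsg.Agent.Grp.Homog
import Cfsg.Agent.Grp.PGroupCritical

set_option autoImplicit false
set_option linter.unusedSectionVars false

open scoped Pointwise commutatorElement
open Cfsg CL.Grp Subgroup CL.Char.VanOrd CL.Grp.Homog

namespace CL.Char.Palfy

section deg

variable {H : Type*} [Group H] [Finite H]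

/-- Some irreducible degree is divisible by `m`. -/
def Deg (H : Type*) [Group H] (m : ℕ) : Prop := ∃ χ, IsIrrCharacter H χ ∧ m ∣ charDegree χ

theorem Deg.of_map {Q : Type*} [Group Q] (f : H →* Q) (hf : Function.Surjective f) {m : ℕ} (h : Deg Q m) :
    Deg H m := by
  obtain ⟨χ, h1, h2⟩ := h
  refine ⟨_, (isIrrCharacter_comp_iff h1.isCharacter f hf).2 h1, ?_⟩
  have : charDegree (fun g => χ (f g)) = charDegree χ := by
    have h3 := ((isIrrCharacter_comp_iff h1.isCharacter f hf).2 h1).cast_charDegree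
    rw [map_one, ← h1.cast_charDegree] at h3
    exact_mod_cast h3
  rwa [this]

theorem deg_of_inertia {K : Subgroup H} [K.Normal] {θ : K → ℂ} (hθ : IsIrrCharacter K θ) {m : ℕ}
    (h : m ∣ (inertia K θ).index * charDegree θ) : Deg H m := by
  have := Fintype.ofFinite H
  have := Fintype.ofFinite K
  obtain ⟨χ, h1, h2⟩ := exists_irr_over K hθ
  obtain ⟨e, -, -, h3⟩ := exists_charDegree_eq_inertia hθ h1 h2
  exact ⟨χ, h1, by rw [h3, mul_assoc]; exact h.mul_left e⟩

theorem dvd_index_of_not_mem {C : Subgroup H} [C.Normal] {a : H} {q : ℕ} (hq : q.Prime) (ha : orderOf a = q)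
    (h : a ∉ C) : q ∣ C.index := by
  have := Fact.mk hq
  exact (orderOf_eq_prime (x := (a : H ⧸ C)) (p := q) (by rw [← QuotientGroup.mk_pow, ← ha, pow_orderOf_eq_one]; rfl)
    (mt (QuotientGroup.eq_one_iff a).1 h)).symm.dvd.trans (orderOf_dvd_natCard _)

theorem deg_of_cyclic {B : Subgroup H} [B.Normal] [IsCyclic B] {a b : H} {q r : ℕ} (hq : q.Prime) (hr : r.Prime)
    (hqr : q ≠ r) (ha : orderOf a = q) (hb : orderOf b = r) (h1 : a ∉ centralizer (B : Set H))
    (h2 : b ∉ centralizer (B : Set H)) : Deg H (q * r) := by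
  have : NeZero (Nat.card B) := ⟨Nat.card_pos.ne'⟩
  let e : B ≃* rootsOfUnity (Nat.card B) ℂ := mulEquivOfCyclicCardEq (Complex.card_rootsOfUnity _).symm
  let mu : B →* ℂˣ := (Subgroup.subtype _).comp e.toMonoidHom
  have h3 : inertia B (fun x => (mu x : ℂ)) = centralizer (B : Set H) := by
    refine le_antisymm (fun g hg => mem_centralizer_iff.2 fun x hx => ?_) (centralizer_le_inertia _)
    have := e.injective (Subtype.ext (Units.ext (mem_inertia.1 hg ⟨x, hx⟩)))
    exact (mul_inv_eq_iff_eq_mul.1 (congrArg Subtype.val this)).symm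
  refine deg_of_inertia (isIrrCharacter_linear mu) (Dvd.dvd.mul_right ?_ _)
  rw [h3]
  exact ((Nat.coprime_primes hq hr).2 hqr).mul_dvd_of_dvd_of_dvd (dvd_index_of_not_mem hq ha h1)
    (dvd_index_of_not_mem hr hb h2)

theorem relIndex_eq_index_center (C : Subgroup H) :
    (C ⊓ centralizer (C : Set H)).relIndex C = (center C).index := by
  rw [relIndex]
  congr 1
  ext x
  rw [mem_subgroupOf, mem_center_iff, mem_inf, mem_centralizer_iff]
  exact ⟨fun h y => Subtype.ext (h.2 y y.2), fun h => ⟨x.2, fun y hy => congrArg Subtype.val (h ⟨y, hy⟩)⟩⟩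

theorem exists_relIndex_sq {t : ℕ} [Fact t.Prime] {C : Subgroup H} (hC : IsPGroup t C)
    (h : ⁅C, C⁆ ≤ centralizer (C : Set H)) (hc : IsCyclic ↥(C ⊓ centralizer (C : Set H))) :
    ∃ a, (C ⊓ centralizer (C : Set H)).relIndex C = t ^ (2 * a) := by
  have : IsCyclic (center C) := isCyclic_of_injective
    ((C.subtype.comp (center C).subtype).codRestrict (C ⊓ centralizer (C : Set H)) fun x => ⟨x.1.2,
      mem_centralizer_iff.2 fun y hy => congrArg Subtype.val (mem_center_iff.1 x.2 ⟨y, hy⟩)⟩)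
    fun a b e => Subtype.ext (Subtype.ext (congrArg (fun y : ↥(C ⊓ centralizer (C : Set H)) => (y : H)) e))
  obtain ⟨χ, h1, h2⟩ := exists_faithful_irr_of_isCyclic_center hC
  obtain ⟨k, hk⟩ := h1.exists_charDegree_eq_pow hC
  have h3 := irr_charDegree_sq_eq_index_charCenter h1 (by
    rw [h1.charCenter_eq_center h2]
    exact commutator_le.2 fun a _ b _ => mem_center_iff.2 fun y => Subtype.ext
      (mem_centralizer_iff.1 (h (commutator_mem_commutator a.2 b.2)) y y.2))
  exact ⟨k, by rw [relIndex_eq_index_center, ← h1.charCenter_eq_center h2, ← h3, hk, ← pow_mul, mul_comm]⟩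

/-- A critical subgroup of `O_t(H)`. -/
structure Crit (t : ℕ) (C : Subgroup H) : Prop where
  normal : C.Normal
  le : C ≤ pCore t H
  comm : ⁅C, C⁆ ≤ centralizer (C : Set H)
  cent : ∀ x, (orderOf x).Coprime t → x ∈ centralizer (C : Set H) → x ∈ centralizer (pCore t H : Set H)

theorem exists_crit (t : ℕ) (ht : t.Prime) : ∃ C : Subgroup H, Crit t C := by
  have := Fact.mk ht
  obtain ⟨K, h1, -, h2, h3, -, -, h4⟩ := exists_critical_omega_in (pCore_isPGroup t H)
  exact ⟨K, normalizer_eq_top_iff.1 (eq_top_iff.2 (le_normalizer_of_normal.trans h2)), h1,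
    ((commutator_mono le_rfl h1).trans h3).trans inf_le_right, fun x => h4 x (le_normalizer_of_normal (mem_top x))⟩

theorem exists_not_mem_centralizer (hs : Group.IsSolvable H) {a : H} {x : ℕ} (hx : x.Prime) (ha : orderOf a = x)
    (h : pCore x H = ⊥) : ∃ t : ℕ, t.Prime ∧ t ≠ x ∧ a ∉ centralizer (pCore t H : Set H) := by
  by_contra! h1
  have := Fact.mk hx
  have h2 : fittingSubgroup H ≤ centralizer {a} := fittingSubgroup_le_of_forall_pCore_le fun t ht y hy => by
    by_cases h2 : t = x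
    · subst h2
      rw [mem_bot.1 (h.le hy)]; exact one_mem _
    · exact mem_centralizer_singleton_iff.2 (mem_centralizer_iff.1 (h1 t ht.out h2) y hy)
  have h3 : zpowers a ≤ pCore x H := le_pCore_of_le_fittingSubgroup (IsPGroup.of_card (n := 1) (by
    rw [Nat.card_zpowers, ha, pow_one])) (zpowers_le.2 (centralizer_fittingSubgroup_le H
      (mem_centralizer_iff.2 fun y hy => mem_centralizer_singleton_iff.1 (h2 hy))))
  exact hx.one_lt.ne (by rw [← ha, mem_bot.1 (h.le (h3 (mem_zpowers a))), orderOf_one])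

theorem lin_bound {K M : Type*} [Field K] [AddCommGroup M] [Module K M] [Finite M] [Nontrivial M]
    (ρ : H →* Module.End K M) (hf : ∀ x y, ρ x = ρ y → x = y) {C : Subgroup H}
    (hC : ⁅C, C⁆ ≤ centralizer (C : Set H))
    (hZ : ∀ z ∈ C ⊓ centralizer (C : Set H), ∀ v, ρ z v = v → z = 1 ∨ v = 0) :
    (C ⊓ centralizer (C : Set H)).relIndex C ≤ Module.finrank K M ^ 2 ∧
      ((C ⊓ centralizer (C : Set H)).relIndex C = Module.finrank K M ^ 2 → centralizer (C : Set H) ≤ center H) := by
  classical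
  have hz : ∀ a ∈ C, ∀ y ∈ C, ⁅y, a⁆ ∈ C ⊓ centralizer (C : Set H) := fun a ha y hy =>
    ⟨comm_mem hy ha, hC (commutator_mem_commutator hy ha)⟩
  have key : ∀ S : Finset H, (∀ a ∈ S, a ∈ C) → (∀ a ∈ S, ∀ b ∈ S, a⁻¹ * b ∈ centralizer (C : Set H) → a = b) →
      ∀ c : H → Module.End K M, (∀ a ∈ S, ∀ y ∈ C, c a * ρ y = ρ y * c a) →
        ∑ a ∈ S, c a * ρ a = 0 → ∀ a ∈ S, c a = 0 := fun S => by
    induction S using Finset.induction_on with
    | empty => simp
    | insert a₀ S h₀ ih =>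
      intro hS h1 c hc h2
      have hS0 : a₀ ∈ C := hS a₀ (by simp)
      have h3 : ∀ a ∈ S, c a = 0 := fun a ha => by
        obtain ⟨y, hy, h3⟩ : ∃ y ∈ C, ⁅y, a⁆ ≠ ⁅y, a₀⁆ := by
          by_contra! h3
          refine h₀ (h1 a₀ (by simp) a (by simp [ha]) (mem_centralizer_iff.2 fun y hy => ?_) ▸ ha)
          have := h3 y hy
          calc y * (a₀⁻¹ * a) = (y * a₀ * y⁻¹)⁻¹ * (⁅y, a⁆ * a) * y := by rw [commutatorElement_def]; group
            _ = _ := ?_
          have i1 := mem_centralizer_iff.1 (hz a₀ hS0 y hy).2 a₀ hS0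
          rw [this, show (y * a₀ * y⁻¹)⁻¹ = a₀⁻¹ * ⁅y, a₀⁆⁻¹ by rw [commutatorElement_def]; group]
          group
        have h4 := ih (fun a ha => hS a (by simp [ha])) (fun a ha b hb => h1 a (by simp [ha]) b (by simp [hb]))
          (fun b => c b * (ρ ⁅y, b⁆ - ρ ⁅y, a₀⁆)) (fun b hb x hx => by
            have hb' : b ∈ insert a₀ S := by simp [hb]
            rw [mul_assoc, sub_mul, ← ρ.map_mul, ← ρ.map_mul, ← mem_centralizer_iff.1 (hz b (hS b hb') y hy).2 x hx,
              ← mem_centralizer_iff.1 (hz a₀ hS0 y hy).2 x hx, ρ.map_mul x, ρ.map_mul x, ← mul_sub, ← mul_assoc,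
              hc b hb' x hx, mul_assoc]) (by
            have h4 : ∑ b ∈ insert a₀ S, c b * (ρ ⁅y, b⁆ - ρ ⁅y, a₀⁆) * ρ b = 0 := by
              have h5 : ∀ b ∈ insert a₀ S, c b * (ρ ⁅y, b⁆ - ρ ⁅y, a₀⁆) * ρ b =
                  ρ y * (c b * ρ b) * ρ y⁻¹ - ρ ⁅y, a₀⁆ * (c b * ρ b) := fun b hb => by
                rw [← mul_assoc, ← mul_assoc, ← hc b hb y hy, ← hc b hb _ (hz a₀ hS0 y hy).1, mul_sub, sub_mul,
                  mul_assoc, mul_assoc (c b), mul_assoc (c b), mul_assoc (c b), ← ρ.map_mul, ← ρ.map_mul, ← ρ.map_mul,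
                  ← ρ.map_mul, commutatorElement_def y b, inv_mul_cancel_right]
              rw [Finset.sum_congr rfl h5]
              simp only [Finset.sum_sub_distrib, ← Finset.sum_mul, ← Finset.mul_sum, h2, mul_zero, zero_mul,
                sub_zero]
            rwa [Finset.sum_insert h₀, sub_self, mul_zero, zero_mul, zero_add] at h4) a ha
        have ha' := hS a (by simp [ha])
        have h5 : Function.Injective (ρ ⁅y, a⁆ - ρ ⁅y, a₀⁆ : Module.End K M) := (injective_iff_map_eq_zero _).2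
          fun v hv => by
            have h5 : ρ ⁅y, a⁆ v = ρ ⁅y, a₀⁆ v := sub_eq_zero.1 hv
            exact (hZ _ (mul_mem (inv_mem (hz a₀ hS0 y hy)) (hz a ha' y hy)) v (by
              rw [ρ.map_mul, Module.End.mul_apply, h5, ← Module.End.mul_apply, ← ρ.map_mul, inv_mul_cancel,
                ρ.map_one, Module.End.one_apply])).resolve_left fun e => h3 (inv_mul_eq_one.1 e).symm
        refine LinearMap.ext fun v => ?_
        obtain ⟨w, rfl⟩ := Finite.injective_iff_surjective.1 h5 v
        exact LinearMap.congr_fun h4 w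
      rw [Finset.sum_insert h₀, Finset.sum_eq_zero (fun a ha => by rw [h3 a ha, zero_mul]), add_zero] at h2
      have h4 : c a₀ = 0 := by
        rw [← mul_one (c a₀), ← ρ.map_one, ← mul_inv_cancel a₀, ρ.map_mul, ← mul_assoc, h2, zero_mul]
      simpa [h4] using h3
  let Q := C ⧸ (C ⊓ centralizer (C : Set H)).subgroupOf C
  have := Fintype.ofFinite Q
  have hli : LinearIndependent K fun x : Q => ρ (x.out : C) := by
    refine linearIndependent_iff'.2 fun S c hc x hx => ?_
    have hinj : Function.Injective fun x : Q => ((x.out : C) : H) := fun a b e =>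
      Quotient.out_injective (Subtype.ext e)
    have := key (S.image fun x : Q => ((x.out : C) : H)) (fun a ha => by
        obtain ⟨a, -, rfl⟩ := Finset.mem_image.1 ha
        exact a.out.2) (fun a ha b hb h1 => by
        obtain ⟨a, -, rfl⟩ := Finset.mem_image.1 ha
        obtain ⟨b, -, rfl⟩ := Finset.mem_image.1 hb
        have := (QuotientGroup.eq (s := (C ⊓ centralizer (C : Set H)).subgroupOf C)).2 ⟨(a.out⁻¹ * b.out).2, h1⟩
        rw [QuotientGroup.out_eq', QuotientGroup.out_eq'] at this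
        rw [this])
      (fun a => if h : a ∈ C then c ((⟨a, h⟩ : C) : Q) • 1 else 0) (fun a _ y _ => by
        by_cases h : a ∈ C <;> simp [h]) (by
        rw [Finset.sum_image fun a _ b _ e => hinj e]
        simpa using hc) (x.out : C) (Finset.mem_image_of_mem _ hx)
    rw [dif_pos x.out.2, Subtype.coe_eta, QuotientGroup.out_eq'] at this
    exact (smul_eq_zero.1 this).resolve_right one_ne_zero
  have hE : Module.finrank K (Module.End K M) = Module.finrank K M ^ 2 := by
    rw [Module.finrank_linearMap, pow_two]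
  have hQ : Fintype.card Q = (C ⊓ centralizer (C : Set H)).relIndex C := Nat.card_eq_fintype_card.symm
  refine ⟨hQ ▸ hE ▸ hli.fintype_card_le_finrank, fun e g hg => mem_center_iff.2 fun x => ?_⟩
  have h1 := hli.span_eq_top_of_card_eq_finrank' (hQ.trans (e.trans hE.symm))
  refine hf _ _ ?_
  rw [ρ.map_mul, ρ.map_mul]
  refine Submodule.span_induction (p := fun f _ => f * ρ g = ρ g * f) ?_ (by simp) (fun a b _ _ ha hb => ?_)
    (fun c a _ ha => ?_) (h1.ge (Submodule.mem_top (x := ρ x)))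
  · rintro _ ⟨y, rfl⟩
    rw [← ρ.map_mul, ← ρ.map_mul, mem_centralizer_iff.1 hg _ y.out.2]
  · rw [add_mul, mul_add, ha, hb]
  · rw [smul_mul_assoc, mul_smul_comm, ha]

end deg

variable {H V : Type*} [Group H] [Finite H] [CommGroup V] [Finite V] [MulDistribMulAction H V]

variable (V) in
/-- Semiregular action on the nontrivial elements. -/
def SR (B : Subgroup H) : Prop := ∀ b ∈ B, ∀ v : V, b • v = v → b = 1 ∨ v = 1

theorem SR.pq [Nontrivial V] {B : Subgroup H} (h : SR V B) : PQCyclic B :=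
  pqCyclic_of_fpf_action (A := B) (K := V) fun a ha v hv => (h a a.2 v hv).resolve_left fun e => ha (Subtype.ext e)

theorem SR.isCyclic [Nontrivial V] {B : Subgroup H} (h : SR V B) (hc : ∀ a ∈ B, ∀ b ∈ B, a * b = b * a) :
    IsCyclic B :=
  have : IsMulCommutative B := ⟨⟨fun a b => Subtype.ext (hc a a.2 b b.2)⟩⟩
  h.pq.isCyclic_of_comm

theorem Fx_invariant {K : Subgroup H} [hK : K.Normal] (g : H) (v : V) (hv : v ∈ Fx V K) : g • v ∈ Fx V K :=
  fun k hk => by
    have := hv _ (hK.conj_mem k hk g⁻¹)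
    rwa [inv_inv, mul_smul, mul_smul, inv_smul_eq_iff] at this

variable (H V) in
/-- A faithful irreducible module of a solvable group. -/
structure Md (s n : ℕ) : Prop where
  solv : Group.IsSolvable H
  faith : ∀ h : H, (∀ v : V, h • v = v) → h = 1
  irr : ∀ W : Subgroup V, (∀ a : H, ∀ v ∈ W, a • v ∈ W) → W = ⊥ ∨ W = ⊤
  prime : s.Prime
  card : Nat.card V = s ^ n
  pos : 0 < n

namespace Md

variable {s n : ℕ} (h : Md H V s n)
include h

theorem nontrivial : Nontrivial V :=
  Finite.one_lt_card_iff_nontrivial.1 (h.card ▸ Nat.one_lt_pow h.pos.ne' h.prime.one_lt)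

theorem dvd_card : s ∣ Nat.card V := h.card ▸ dvd_pow_self s h.pos.ne'

theorem eq_bot_of_Fx {K : Subgroup H} [K.Normal] (h1 : Fx V K ≠ ⊥) : K = ⊥ :=
  (eq_bot_iff_forall _).2 fun k hk => h.faith k fun v =>
    ((h.irr _ Fx_invariant).resolve_left h1).ge (mem_top v) k hk

theorem pCore_eq_bot : pCore s H = ⊥ := by
  have := Fact.mk h.prime
  obtain ⟨v, h1, h2⟩ := (pCore_isPGroup s H).exists_fixed_point_of_prime_dvd_card_of_fixed_point V h.dvd_card
    (a := 1) fun g => smul_one g
  exact h.eq_bot_of_Fx (ne_bot_iff_exists_ne_one.2 ⟨⟨v, fun k hk => h1 ⟨k, hk⟩⟩, fun e =>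
    h2 (congrArg Subtype.val e).symm⟩)

theorem pow_eq_one (v : V) : v ^ s = 1 := by
  have := Fact.mk h.prime
  obtain ⟨w, hw⟩ := exists_prime_orderOf_dvd_card' s h.dvd_card
  refine ((h.irr (powMonoidHom s : V →* V).ker fun a x hx => ?_).resolve_left (ne_bot_iff_exists_ne_one.2
    ⟨⟨w, hw ▸ pow_orderOf_eq_one w⟩, fun e => h.prime.one_lt.ne ?_⟩)).ge (mem_top v)
  · change (a • x) ^ s = 1
    rw [← smul_pow', show x ^ s = 1 from hx, smul_one]
  · rw [← hw, show w = 1 from congrArg Subtype.val e, orderOf_one]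

theorem bound {C : Subgroup H} (hC : ⁅C, C⁆ ≤ centralizer (C : Set H)) (hZ : SR V (C ⊓ centralizer (C : Set H))) :
    (C ⊓ centralizer (C : Set H)).relIndex C ≤ n ^ 2 ∧
      ((C ⊓ centralizer (C : Set H)).relIndex C = n ^ 2 → centralizer (C : Set H) ≤ center H) := by
  have := Fact.mk h.prime
  have := h.nontrivial
  obtain ⟨_⟩ : Nonempty (Module (ZMod s) (Additive V)) :=
    ⟨AddCommGroup.zmodModule fun v => congrArg Additive.ofMul (h.pow_eq_one v.toMul)⟩
  let ρ : H →* Module.End (ZMod s) (Additive V) :=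
    { toFun := fun g => (MonoidHom.toAdditive (MulDistribMulAction.toMonoidHom V g)).toZModLinearMap s
      map_one' := LinearMap.ext fun v => one_smul H v.toMul
      map_mul' := fun a b => LinearMap.ext fun v => mul_smul a b v.toMul }
  have hn : Module.finrank (ZMod s) (Additive V) = n := Nat.pow_right_injective h.prime.two_le (by
    have := Module.natCard_eq_pow_finrank (K := ZMod s) (V := Additive V)
    rw [Nat.card_zmod] at this
    exact this.symm.trans h.card)
  rw [← hn]
  refine lin_bound ρ (fun x y e => inv_mul_eq_one.1 (h.faith _ fun v => ?_) |>.symm) hC fun z hz v hv => hZ z hz v.toMul hv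
  rw [mul_smul, inv_smul_eq_iff]
  exact LinearMap.congr_fun e (Additive.ofMul v)

theorem wstep {t u : ℕ} (ht : t.Prime) (hu : u.Prime) (htu : t ≠ u) {C : Subgroup H} [hn : C.Normal]
    (hp : IsPGroup t C) (hC : ⁅C, C⁆ ≤ centralizer (C : Set H)) (hZ : SR V (C ⊓ centralizer (C : Set H)))
    {g : H} (hg : orderOf g = u) (h1 : C ⊓ centralizer (C : Set H) ≤ centralizer {g})
    (h2 : g ∉ centralizer (C : Set H)) : ∃ a b, 0 < b ∧ b ≤ a ∧
      (C ⊓ centralizer (C : Set H)).relIndex C = t ^ (2 * a) ∧ u ∣ t ^ (2 * b) - 1 ∧ t ^ a ≤ n := by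
  have := Fact.mk ht
  have := Fact.mk hu
  have := h.nontrivial
  have := h.solv
  have hcy := hZ.isCyclic fun a ha b hb => mem_centralizer_iff.1 hb.2 a ha.1
  obtain ⟨a, ha⟩ := exists_relIndex_sq hp hC hcy
  have hcop : (Nat.card (zpowers g)).Coprime (Nat.card C) := by
    obtain ⟨k, hk⟩ := IsPGroup.iff_card.1 hp
    rw [Nat.card_zpowers, hg, hk]
    exact ((Nat.coprime_primes hu ht).2 htu.symm).pow_right k
  have hcg : centralizer (zpowers g : Set H) = centralizer {g} := by
    rw [zpowers_eq_closure, centralizer_closure]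
  have h3 : (C ⊓ centralizer {g}) ⊓ centralizer ((C ⊓ centralizer {g} : Subgroup H) : Set H) =
      C ⊓ centralizer (C : Set H) := by
    refine le_antisymm (fun x hx => ⟨hx.1.1, ?_⟩) fun x hx => ⟨⟨hx.1, h1 hx⟩, centralizer_le inf_le_left hx.2⟩
    have h3 : C ≤ centralizer {x} := by
      rw [← commutator_sup_centralizer_eq (A := zpowers g) (K := C) le_normalizer_of_normal hcop (Or.inl inferInstance),
        hcg]
      refine sup_le (commutator_le.2 fun c hc y hy => mem_centralizer_singleton_iff.2 ?_) fun c hc =>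
        mem_centralizer_singleton_iff.2 (mem_centralizer_iff.1 hx.2 c hc)
      have i1 : y * x = x * y := mem_centralizer_singleton_iff.1
        ((zpowers_le (H := centralizer {x})).2 (mem_centralizer_singleton_iff.2
          (mem_centralizer_singleton_iff.1 hx.1.2).symm) hy)
      have i2 : ⁅c⁻¹, x⁆ ∈ C ⊓ centralizer (C : Set H) :=
        ⟨comm_mem (inv_mem hc) hx.1.1, hC (commutator_mem_commutator (inv_mem hc) hx.1.1)⟩
      have i3 : y * ⁅c⁻¹, x⁆ = ⁅c⁻¹, x⁆ * y := mem_centralizer_iff.1 (hcg.ge (h1 i2)) y hy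
      have i4 : y * (c⁻¹ * x * c) = (c⁻¹ * x * c) * y := by
        have : c⁻¹ * x * c = ⁅c⁻¹, x⁆ * x := by rw [commutatorElement_def]; group
        rw [this, ← mul_assoc, i3, mul_assoc, i1, mul_assoc]
      calc _ = c * y * c⁻¹ * (y⁻¹ * x) := by rw [commutatorElement_def, mul_assoc]
        _ = c * (y * (c⁻¹ * x * c)) * c⁻¹ * y⁻¹ := by rw [inv_mul_eq_iff_eq_mul.2 (show x = y * (x * y⁻¹) by
              rw [← mul_assoc, i1, mul_inv_cancel_right])]; group
        _ = _ := by rw [i4, commutatorElement_def]; group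
    exact mem_centralizer_iff.2 fun c hc => mem_centralizer_singleton_iff.1 (h3 hc)
  obtain ⟨c, hc⟩ := exists_relIndex_sq (hp.to_le (inf_le_left : C ⊓ centralizer {g} ≤ C))
    ((commutator_mono inf_le_left inf_le_left).trans (hC.trans (centralizer_le inf_le_left))) (h3 ▸ hcy)
  rw [h3] at hc
  have h4 := card_eq_relIndex_mul_card (inf_le_left : C ⊓ centralizer (C : Set H) ≤ C)
  have h5 := card_eq_relIndex_mul_card (le_inf inf_le_left h1 : C ⊓ centralizer (C : Set H) ≤ C ⊓ centralizer {g})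
  rw [ha] at h4
  rw [hc] at h5
  have h6 : c < a := by
    have : Nat.card ↥(C ⊓ centralizer {g}) < Nat.card C := lt_of_le_of_ne (card_le_of_le inf_le_left) fun e =>
      h2 (mem_centralizer_iff.2 fun y hy => mem_centralizer_singleton_iff.1
        (inf_eq_left.1 (eq_of_le_of_card_ge inf_le_left e.ge) hy))
    rw [h4, h5] at this
    have := (Nat.pow_lt_pow_iff_right ht.one_lt).1 (lt_of_mul_lt_mul_right this (Nat.zero_le _))
    omega
  have h7 : Nat.card C ≡ Nat.card ↥(C ⊓ centralizer {g}) [MOD u] := by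
    let := MulDistribMulAction.compHom C ((MulAut.conjNormal : H →* MulAut C).comp (zpowers g).subtype)
    refine ((IsPGroup.of_card (G := zpowers g) (n := 1) (by rw [Nat.card_zpowers, hg, pow_one])).card_modEq_card_fixedPoints
      C).trans (congrArg (· % u) (Nat.card_congr ⟨fun x => ⟨x.1, x.1.2, mem_centralizer_singleton_iff.2
        (mul_inv_eq_iff_eq_mul.1 (congrArg Subtype.val (x.2 ⟨g, mem_zpowers g⟩))).symm⟩,
        fun x => ⟨⟨x, x.2.1⟩, fun y => Subtype.ext (mul_inv_eq_iff_eq_mul.2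
          (mem_centralizer_iff.1 (hcg.ge x.2.2) y y.2))⟩, fun _ => rfl, fun _ => rfl⟩))
  refine ⟨a, a - c, by omega, by omega, ha, ?_, ?_⟩
  · rw [h4, ← mul_one (Nat.card ↥(C ⊓ centralizer {g})), h5, show 2 * a = 2 * c + 2 * (a - c) by omega, pow_add, mul_right_comm] at h7
    refine (Nat.modEq_iff_dvd' (Nat.one_le_pow _ _ ht.pos)).1 (Nat.ModEq.cancel_left_of_coprime ?_ h7).symm
    rw [← h5]
    rw [Nat.card_zpowers, hg] at hcop
    exact hcop.coprime_dvd_right (card_dvd_of_le inf_le_left)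
  · have := (h.bound hC hZ).1
    rwa [ha, mul_comm, pow_mul, Nat.pow_le_pow_iff_left two_ne_zero] at this

end Md

end CL.Char.Palfy
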