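/-
The common divisor graph of the degrees of the irreducible characters whose kernel does not contain a given normal
subgroup `N ≤ G'`.
-/
import Cfsg.Prelude.Def_DegreeGraph
import Cfsg.Agent.Char.Extension
import Cfsg.Agent.Char.Clifford
import Cfsg.Agent.Char.Galois
import Cfsg.Agent.Char.DegGraph2
import Cfsg.Agent.Grp.Gaschutz
import Cfsg.Agent.Grp.SylowIn

set_option autoImplicit false

open Cfsg Subgroup MulAction
open scoped ComplexConjugate Pointwise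

namespace CL.Char.RelDeg

variable {G : Type*} [Group G] {N : Subgroup G} [hN : N.Normal]

/-- The group of linear characters of a subgroup. -/
def Lin (N : Subgroup G) : Type _ := N →* ℂˣ

noncomputable instance instCommGroupLin (N : Subgroup G) : CommGroup (Lin N) := inferInstanceAs (CommGroup (N →* ℂˣ))

instance instFiniteLin (N : Subgroup G) [Finite N] : Finite (Lin N) := inferInstanceAs (Finite (N →* ℂˣ))

/-- The underlying homomorphism. -/
def Lin.h (l : Lin N) : N →* ℂˣ := l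

omit hN in
theorem Lin.ext {l m : Lin N} (h : ∀ n, (l.h n : ℂ) = m.h n) : l = m := MonoidHom.ext fun n => Units.ext (h n)

omit hN in
@[simp] theorem Lin.mul_h (l m : Lin N) (n : N) : (l * m).h n = l.h n * m.h n := rfl

omit hN in
@[simp] theorem Lin.one_h (n : N) : (1 : Lin N).h n = 1 := rfl

omit hN in
@[simp] theorem Lin.pow_h (l : Lin N) (k : ℕ) (n : N) : (l ^ k).h n = l.h n ^ k := rfl

noncomputable instance instActLin (N : Subgroup G) [N.Normal] : MulDistribMulAction G (Lin N) where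
  smul g l := l.h.comp (MulAut.conjNormal g⁻¹).toMonoidHom
  one_smul l := Lin.ext fun n => by show (l.h (MulAut.conjNormal (1 : G)⁻¹ n) : ℂ) = _; simp
  mul_smul g h l := Lin.ext fun n => by
    show (l.h (MulAut.conjNormal (g * h)⁻¹ n) : ℂ) = l.h (MulAut.conjNormal h⁻¹ (MulAut.conjNormal g⁻¹ n))
    rw [mul_inv_rev, map_mul]; rfl
  smul_mul _ _ _ := rfl
  smul_one _ := rfl

/-- The twist by a linear character. -/
def tw (l : Lin N) (θ : N → ℂ) : N → ℂ := fun n => (l.h n : ℂ) * θ n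

/-- `χ` lies over `θ`. -/
def Ov [Fintype N] (χ : G → ℂ) (θ : N → ℂ) : Prop := classInner (fun n : N => χ n) θ ≠ 0

omit hN in
theorem tw_tw (l m : Lin N) (θ : N → ℂ) : tw l (tw m θ) = tw (l * m) θ := by ext n; simp [tw, mul_assoc]

omit hN in
theorem tw_one (θ : N → ℂ) : tw 1 θ = θ := by ext n; simp [tw]

omit hN in
theorem tw_apply_one (l : Lin N) (θ : N → ℂ) : tw l θ 1 = θ 1 := by simp [tw]

theorem conj_tw (g : G) (l : Lin N) (θ : N → ℂ) : conjChar N g⁻¹ (tw l θ) = tw (g • l) (conjChar N g⁻¹ θ) := rfl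

theorem mem_inertia' {θ : N → ℂ} {g : G} : g ∈ inertia N θ ↔ conjChar N g⁻¹ θ = θ := by
  rw [← inv_mem_iff, mem_inertia_iff]

theorem inertia_lin (l : Lin N) : inertia N (tw l 1) = stabilizer G l := by
  ext g
  rw [mem_inertia', conj_tw, mem_stabilizer_iff]
  exact ⟨fun e => Lin.ext fun n => by simpa [tw, conjChar] using congrFun e n, fun e => by rw [e]; rfl⟩

theorem scalar [Finite G] {χ : G → ℂ} (hχ : IsIrrCharacter G χ) {x : G} (hx : x ∈ commutator G) {ω : ℂ}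
    (h1 : ‖ω‖ = 1) (h : χ x = χ 1 * ω) : ω ^ charDegree χ = 1 := by
  have h2 := hχ.isCharacter.mem_charCenter.2 (by rw [h, norm_mul, h1, mul_one] : ‖χ x‖ = ‖χ 1‖)
  have h0 := hχ.one_ne_zero
  obtain ⟨d, ρ, -, rfl⟩ := hχ
  obtain ⟨u, hu⟩ := (mem_charCenter_character ρ).1 h2
  have h3 := congrArg Units.val (mem_commutator_iff_forall_monoidHom.1 hx (detHom ρ))
  have h4 := char_mul_of_scalar ρ hu 1
  rw [mul_one, h, mul_comm] at h4
  rw [detHom_apply, hu, LinearMap.det_smul, LinearMap.det_id, mul_one, ← mul_right_cancel₀ h0 h4] at h3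
  rwa [charDegree_character]

variable [Fintype G] [Fintype N]

omit hN [Fintype G] in
theorem irr_tw {θ : N → ℂ} (hθ : IsIrrCharacter N θ) (l : Lin N) : IsIrrCharacter N (tw l θ) :=
  hθ.monoidHom_mul l.h

omit hN [Fintype G] in
theorem irr_lin (l : Lin N) : IsIrrCharacter N (tw l 1) := irr_tw isIrrCharacter_one' l

theorem deg_eq {χ : G → ℂ} (hχ : IsIrrCharacter G χ) {θ : N → ℂ} (hθ : IsIrrCharacter N θ) (h : Ov χ θ) :
    ∃ e : ℕ, classInner (fun n : N => χ n) θ = e ∧ charDegree χ = e * (inertia N θ).index * charDegree θ := by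
  obtain ⟨e, he⟩ := (hχ.isCharacter.restrict N).exists_nat_classInner hθ.isCharacter
  have := clifford_degree hχ hθ h
  rw [he, ← hχ.cast_charDegree, ← hθ.cast_charDegree] at this
  exact ⟨e, he, by exact_mod_cast this⟩

theorem index_dvd {χ : G → ℂ} (hχ : IsIrrCharacter G χ) {θ : N → ℂ} (hθ : IsIrrCharacter N θ) (h : Ov χ θ) :
    (inertia N θ).index ∣ charDegree χ := by
  obtain ⟨e, -, he⟩ := deg_eq hχ hθ h
  exact ⟨e * charDegree θ, by rw [he]; ring⟩

theorem deg_dvd {χ : G → ℂ} (hχ : IsIrrCharacter G χ) {θ : N → ℂ} (hθ : IsIrrCharacter N θ) (h : Ov χ θ) :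
    charDegree θ ∣ charDegree χ := by
  obtain ⟨e, -, he⟩ := deg_eq hχ hθ h
  exact he ▸ Dvd.intro_left _ rfl

omit hN in
theorem mem_D {χ : G → ℂ} (hχ : IsIrrCharacter G χ) {θ : N → ℂ} (hθ : IsIrrCharacter N θ) (h : Ov χ θ)
    {K : Subgroup G} {x : N} (hx : (x : G) ∈ K) (h1 : θ x ≠ θ 1) : charDegree χ ∈ relCharDegrees K :=
  ⟨⟨χ, hχ⟩, ⟨x, hx, fun e => h1 (hθ.mem_charKer.1 ((hχ.isCharacter.restrict N).charKer_le_of_classInner_ne_zero hθ h
    ((hχ.isCharacter.restrict N).mem_charKer.2 e)))⟩, rfl⟩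

omit hN in
theorem exists_over {θ : N → ℂ} (hθ : IsIrrCharacter N θ) (h1 : θ ≠ 1) :
    ∃ χ, IsIrrCharacter G χ ∧ Ov χ θ ∧ charDegree χ ∈ relCharDegrees N := by
  obtain ⟨χ, hχ, h⟩ := exists_irr_over N hθ
  obtain ⟨x, hx⟩ : ∃ x, θ x ≠ θ 1 := by
    by_contra! e
    exact h1 (hθ.charKer_eq_top_iff.1 (eq_top_iff.2 fun x _ => hθ.mem_charKer.2 (e x)))
  exact ⟨χ, hχ, h, mem_D hχ hθ h x.2 hx⟩

theorem exists_under {a : ℕ} (ha : a ∈ relCharDegrees N) :
    ∃ χ θ, IsIrrCharacter G χ ∧ charDegree χ = a ∧ IsIrrCharacter N θ ∧ Ov χ θ ∧ θ ≠ 1 := by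
  obtain ⟨χ, ⟨x, hx, h1⟩, rfl⟩ := ha
  obtain ⟨θ, hθ, h⟩ := exists_irr_constituent_restrict N χ.2
  exact ⟨χ, θ, χ.2, rfl, hθ, h, fun e => h1 (apply_eq_one_of_classInner_res_one_ne_zero χ.2 (by subst e; exact h) hx)⟩

/-- A point where all conjugates of a linear constituent agree. -/
theorem pow_deg (hG : N ≤ commutator G) {χ : G → ℂ} (hχ : IsIrrCharacter G χ) {θ : N → ℂ} (hθ : IsIrrCharacter N θ)
    (h : Ov χ θ) (h1 : charDegree θ = 1) {x : N} (hx : ∀ g, conjChar N g θ x = θ x) : θ x ^ charDegree χ = 1 := by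
  have h2 := hθ.isCharacter.charDegree_eq_one_iff.1 h1
  obtain ⟨l, rfl⟩ := hθ.isCharacter.exists_monoidHom_of_one h2
  refine scalar hχ (hG x.2) (norm_monoidHom_apply l x) ?_
  have h3 := congrFun (clifford hχ hθ h) x
  rw [Pi.smul_apply, Finset.sum_apply, Finset.sum_congr rfl (g := fun _ => (l x : ℂ)) fun φ hφ => by
    obtain ⟨g, rfl⟩ := mem_conjOrbit.1 hφ
    exact hx g, Finset.sum_const, card_conjOrbit] at h3
  rw [h3, clifford_degree hχ hθ h]
  simp [mul_assoc]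

omit hN [Fintype G] in
theorem tw_free {θ : N → ℂ} (hθ : IsIrrCharacter N θ) {p : ℕ} (hp : p.Prime) (h : ¬ p ∣ charDegree θ)
    {l m : Lin N} (hl : l ^ p = 1) (hm : m ^ p = 1) (e : tw l θ = tw m θ) : l = m := by
  obtain ⟨δ, hδ⟩ := exists_monoidHom_detChar θ
  have h1 := detChar_linear_mul hθ hθ.cast_charDegree.symm l.h
  rw [show (fun g => (l.h g : ℂ) * θ g) = _ from e, show tw m θ = fun g => (m.h g : ℂ) * θ g from rfl,
    detChar_linear_mul hθ hθ.cast_charDegree.symm m.h, hδ] at h1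
  refine eq_of_pow_eq_pow_of_coprime ((Nat.Prime.coprime_iff_not_dvd hp).2 h)
    (by rw [mul_pow, inv_pow, hl, hm]; simp) (Lin.ext fun n => ?_)
  simpa using (mul_right_cancel₀ (δ n).ne_zero (congrFun h1 n)).symm

omit hN [Fintype G] in
theorem mem_of_ker (V : Subgroup (Lin N)) {θ : N → ℂ} (hθ : IsIrrCharacter N θ)
    (h : ∀ x, (∀ l ∈ V, l.h x = 1) → θ x = θ 1) : ∃ l ∈ V, θ = tw l 1 := by
  classical
  have := Fintype.ofFinite V
  by_contra! e
  have h1 : classInner θ (∑ l : V, tw l.1 1) = 0 := by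
    rw [classInner_sum_right]
    exact Finset.sum_eq_zero fun l _ => hθ.classInner_of_ne (irr_lin _) (e l l.2)
  have h2 : ∀ x, θ x * conj ((∑ l : V, tw l.1 1) x) =
      θ 1 * ((if ∀ l ∈ V, l.h x = 1 then Fintype.card V else 0 : ℕ) : ℂ) := fun x => by
    rw [Finset.sum_apply]
    split_ifs with h3
    · rw [h x h3, Finset.sum_congr rfl (g := fun _ => 1) fun l _ => by simp [tw, h3 l l.2]]; simp
    · have := sum_monoidHom_eq_zero (lam := MonoidHom.mk' (fun l : V => l.1.h x) fun _ _ => rfl) fun e1 => h3 fun l hl =>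
        DFunLike.congr_fun e1 ⟨l, hl⟩
      rw [show ∑ l : V, tw l.1 1 x = 0 by simp only [tw, Pi.one_apply, mul_one]; exact this]; simp
  rw [classInner_def, Finset.sum_congr rfl fun x _ => h2 x, ← Finset.mul_sum, ← Nat.cast_sum] at h1
  simp only [mul_eq_zero, inv_eq_zero, hθ.one_ne_zero, false_or, Nat.cast_eq_zero, Finset.sum_eq_zero_iff] at h1
  simpa using h1.resolve_left Nat.card_pos.ne' 1 (Finset.mem_univ _)

/-- An invariant linear character of prime order. -/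
theorem central (hG : N ≤ commutator G) {p : ℕ} (hp : p.Prime) {l : Lin N} (hl : orderOf l = p)
    (hi : ∀ g : G, g • l = l) {a : ℕ} (ha : a ∈ relCharDegrees N) (hpa : ¬ p ∣ a) :
    ∃ c ∈ relCharDegrees N, p ∣ c ∧ ¬ a.Coprime c := by
  classical
  obtain ⟨χ, θ, hχ, rfl, hθ, h, h1⟩ := exists_under ha
  have hc : ∀ g θ, conjChar N g (tw l θ) = tw l (conjChar N g θ) := fun g θ => by
    rw [← inv_inv g, conj_tw, hi]
  have inj : Function.Injective (tw l) := fun a b e => by rw [← tw_one a, ← inv_mul_cancel l, ← tw_tw, e, tw_tw]; simp [tw_one]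
  have h2 : inertia N (tw l θ) = inertia N θ := by
    ext g; rw [mem_inertia_iff, mem_inertia_iff, hc, inj.eq_iff]
  have h3 : ∀ {ξ}, IsIrrCharacter G ξ → Ov ξ (tw l 1) → p ∣ charDegree ξ := fun hξ e => by
    rw [← hl, orderOf_dvd_iff_pow_eq_one]
    exact Lin.ext fun x => (by
      simpa [tw] using pow_deg hG hξ (irr_lin l) e (charDegree_eq_of_eq (by simp [tw])) (x := x) fun g => by
        rw [hc]; rfl)
  have h4 : ∀ {α}, IsCharacter G α → ∃ k : ℕ, classInner (fun n : N => α n) (tw l 1) = (p * k : ℕ) := fun hα => by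
    refine IsCharacter.induction (P := fun α : G → ℂ => ∃ k : ℕ, classInner (fun n : N => α n) (tw l 1) = (p * k : ℕ))
      ⟨0, (classInner_zero_left _).trans (by simp)⟩ (fun ξ β hξ _ ⟨k, hk⟩ => ?_) hα
    rw [show (fun n : N => (ξ + β) n) = (fun n : N => ξ n) + fun n : N => β n from rfl, classInner_add_left, hk]
    by_cases e : Ov ξ (tw l 1)
    · obtain ⟨j, hj⟩ := h3 hξ e
      obtain ⟨d, e1, e2⟩ := deg_eq hξ (irr_lin l) e
      rw [inertia_lin, (eq_top_iff' (stabilizer G l)).2 hi, index_top, charDegree_eq_of_eq (χ := tw l 1) (n := 1) (by simp [tw]), hj] at e2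
      exact ⟨j + k, by rw [e1, mul_add, e2]; simp⟩
    · exact ⟨k, by rw [not_not.1 e, zero_add]⟩
  obtain ⟨χ', hχ', h', hD⟩ := exists_over (irr_tw hθ l) fun e => hpa (by
    have e1 : (fun n : N => conj (θ n)) = tw l 1 := funext fun n => by
      have e2 : (l.h n : ℂ) * θ n = 1 := congrFun e n
      rw [eq_inv_of_mul_eq_one_right e2, map_inv₀, ← inv_eq_conj_of_norm_eq_one (norm_monoidHom_apply l.h n)]
      simp [tw]
    have e2 : IsIrrCharacter G fun g => conj (χ g) := isIrr_gal hχ (starRingEnd ℂ)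
    have := h3 e2 (by
      rw [Ov, ← e1, classInner_conj_conj, ← conj_classInner]; exact (map_ne_zero _).2 h)
    rwa [show charDegree (fun g => conj (χ g)) = charDegree χ from
      charDegree_eq_of_eq (by rw [← hχ.cast_charDegree]; simp)] at this)
  have h5 : p ∣ charDegree χ' := by
    obtain ⟨e, e1, e2⟩ := deg_eq hχ hθ h
    obtain ⟨e', e3, e4⟩ := deg_eq hχ' (irr_tw hθ l) h'
    obtain ⟨k, hk⟩ := h4 (hχ'.isCharacter.mul hχ.isCharacter.conj)
    have h6 : conjOrbit N (tw l θ) = (conjOrbit N θ).image (tw l) := by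
      ext φ
      simp only [Finset.mem_image, mem_conjOrbit, hc]
      exact ⟨fun ⟨g, e⟩ => ⟨_, ⟨g, rfl⟩, e⟩, fun ⟨_, ⟨g, e⟩, e'⟩ => ⟨g, e ▸ e'⟩⟩
    have h7 : (e : ℂ) • (fun n : N => χ' n) = (e' : ℂ) • tw l fun n : N => χ n := by
      rw [clifford hχ' (irr_tw hθ l) h', clifford hχ hθ h, e1, e3, h6, Finset.sum_image inj.injOn]
      ext n
      simp [tw, Finset.mul_sum, mul_left_comm]
    have e0 : e ≠ 0 := fun e0 => h (by rw [e1, e0, Nat.cast_zero])
    have h8 : classInner (fun n : N => χ' n) (tw l fun n : N => χ n) = (p * k : ℕ) := by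
      rw [← hk, show (fun n : N => (χ' * fun g => conj (χ g)) n) = (fun n : N => χ' n) * fun n : N => conj (χ n)
        from rfl, classInner_mul_left]
      congr 1; ext n; simp [tw, mul_comm]
    have h9 := congrArg (classInner · (tw l fun n : N => χ n)) h7
    simp only [classInner_smul_left] at h9
    rw [h8, show classInner (tw l fun n : N => χ n) (tw l fun n : N => χ n) = _ from classInner_mul_monoidHom l.h _ _,
      clifford_norm hχ hθ e1 e0] at h9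
    have h10 : p * k = e' * (e * (inertia N θ).index) := Nat.eq_of_mul_eq_mul_left (Nat.pos_of_ne_zero e0) (by
      have : ((e * (p * k) : ℕ) : ℂ) = (e * (e' * (e * (inertia N θ).index)) : ℕ) := by
        rw [Nat.cast_mul, h9]; push_cast; ring
      exact_mod_cast this)
    rcases (Nat.Prime.dvd_mul hp).1 (Dvd.intro k h10) with e5 | e5
    · rw [e4, mul_assoc]; exact e5.mul_right _
    · exact absurd (e2 ▸ e5.mul_right _) hpa
  refine ⟨_, hD, h5, fun hco => h1 (funext fun x => ?_)⟩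
  have h6 : inertia N θ = ⊤ := index_eq_one.1 (Nat.eq_one_of_dvd_coprimes hco (index_dvd hχ hθ h)
    (h2 ▸ index_dvd hχ' (irr_tw hθ l) h'))
  have h7 : charDegree (tw l θ) = charDegree θ := charDegree_eq_of_eq (by rw [tw_apply_one, hθ.cast_charDegree])
  have h8 : charDegree θ = 1 := Nat.eq_one_of_dvd_coprimes hco (deg_dvd hχ hθ h) (h7 ▸ deg_dvd hχ' (irr_tw hθ l) h')
  have h9 := pow_deg hG hχ' (irr_tw hθ l) h' (h7.trans h8) (x := x) fun g => by
    rw [mem_inertia_iff.1 ((h2.trans h6).ge (mem_top g))]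
  rw [tw, mul_pow, show (l.h x : ℂ) ^ charDegree χ' = 1 by
    simpa using congrArg (fun u : Lin N => (u.h x : ℂ)) (orderOf_dvd_iff_pow_eq_one.1 (hl ▸ h5)), one_mul] at h9
  exact (pow_eq_one_iff_of_coprime hco).1 ⟨pow_deg hG hχ hθ h h8 fun g => by
    rw [mem_inertia_iff.1 (h6.ge (mem_top g))], h9⟩

/-- Invariant sets of linear characters. -/
def Inv (V : Subgroup (Lin N)) : Prop := ∀ g : G, ∀ l ∈ V, g • l ∈ V

omit [Fintype N] in
theorem not_coprime {V : Subgroup (Lin N)} (hV : Inv V) (hm : ∀ W ≤ V, Inv W → W ≠ ⊥ → V ≤ W) {l m : Lin N}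
    (hl : l ∈ V) (hm' : m ∈ V) (l1 : (stabilizer G l).index ≠ 1) (m1 : m ≠ 1)
    (h : (stabilizer G l).index.Coprime (stabilizer G m).index) :
    ¬ (stabilizer G (l * m)).index.Coprime (stabilizer G l).index := fun hc => by
  have hf : (orbit G m).Finite := Set.finite_range _
  obtain ⟨g, hg⟩ : ∃ g : G, g • l ≠ l := by
    by_contra! e
    exact l1 (index_eq_one.2 ((eq_top_iff' _).2 e))
  have h1 := hm (V ⊓ stabilizer (Lin N) (orbit G m)) inf_le_left (fun g v hv => ⟨hV g v hv.1,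
    (mem_stabilizer_set' hf).2 fun _ ⟨k, hk⟩ => by
      have : g • _ ∈ _ := mapsTo_smul_orbit g m ((mem_stabilizer_set' hf).1 hv.2 (mem_orbit m (g⁻¹ * k)))
      rwa [smul_eq_mul, smul_mul', ← mul_smul, mul_inv_cancel_left, show k • m = _ from hk] at this⟩)
    (ne_bot_iff_exists_ne_one.2 ⟨⟨l / g • l, V.div_mem hl (hV g l hl), (mem_stabilizer_set' hf).2 fun _ ⟨k, hk⟩ => by
      obtain ⟨a, ha, b, hb, rfl⟩ := Grp.exists_mul_eq_of_coprime_index h k
      obtain ⟨c, hc, d, hd, e⟩ := Grp.exists_mul_eq_of_coprime_index hc (a⁻¹ * g)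
      have e1 : g • l = a • c • l := by rw [← mul_inv_cancel_left a g, e, mul_smul, mul_smul, mem_stabilizer_iff.1 hd]
      have e2 : c • l * c • m = l * m := (smul_mul' c l m).symm.trans hc
      refine ⟨a * c, ?_⟩
      show (a * c) • m = l / g • l * _
      rw [← hk]
      show _ = _ * (a * b) • m
      rw [mul_smul a b, mem_stabilizer_iff.1 hb, e1, div_mul_eq_mul_div, eq_div_iff_mul_eq', mul_smul, ← smul_mul',
        mul_comm, e2, smul_mul', mem_stabilizer_iff.1 ha]⟩,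
      fun e => hg (div_eq_one.1 (congrArg Subtype.val e)).symm⟩)
  obtain ⟨k, hk⟩ := (mem_stabilizer_set' hf).1 (h1 (inv_mem hm')).2 (mem_orbit_self m)
  exact m1 ((smul_eq_iff_eq_inv_smul k).1 (hk.trans (inv_mul_cancel m)) |>.trans (smul_one _))

omit hN [Fintype G] [Fintype N] in
theorem lin_ne {l : Lin N} (h : l ≠ 1) : tw l 1 ≠ 1 := fun e =>
  h (Lin.ext fun n => by simpa [tw] using congrFun e n)

theorem exists_lin {l : Lin N} (h : l ≠ 1) : ∃ c ∈ relCharDegrees N, (stabilizer G l).index ∣ c := by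
  obtain ⟨χ, hχ, h1, h2⟩ := exists_over (irr_lin l) (lin_ne h)
  exact ⟨_, h2, inertia_lin l ▸ index_dvd hχ (irr_lin l) h1⟩

/-- The action on an invariant subgroup. -/
@[reducible] noncomputable def actV {V : Subgroup (Lin N)} (hV : Inv V) : MulDistribMulAction G V where
  smul g l := ⟨g • l.1, hV g _ l.2⟩
  one_smul l := Subtype.ext (one_smul G l.1)
  mul_smul g h l := Subtype.ext (mul_smul g h l.1)
  smul_mul _ _ _ := rfl
  smul_one _ := rfl

theorem noncentral (hG : N ≤ commutator G) {p : ℕ} (hp : p.Prime) {V : Subgroup (Lin N)} (hV : Inv V)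
    (hVp : ∀ l ∈ V, l ^ p = 1) {χ : G → ℂ} (hχ : IsIrrCharacter G χ) {θ : N → ℂ} (hθ : IsIrrCharacter N θ) (h : Ov χ θ)
    (hpa : ¬ p ∣ charDegree χ) (hne : ∀ m ∈ V, θ ≠ tw m 1) {l : Lin N} (hl : l ∈ V) :
    ∃ c ∈ relCharDegrees N, ¬ (charDegree χ).Coprime c ∧ (stabilizer G l).index ∣ c := by
  have := Fact.mk hp
  have fr := fun {a b} (ha : a ∈ V) (hb : b ∈ V) =>
    tw_free hθ hp (fun e => hpa (e.trans (deg_dvd hχ hθ h))) (hVp a ha) (hVp b hb)
  have cm : ∀ (g k : G) (φ : N → ℂ), conjChar N (g * k)⁻¹ φ = conjChar N g⁻¹ (conjChar N k⁻¹ φ) := fun g k φ => by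
    rw [mul_inv_rev, conjChar_mul]
  let R : Subgroup G :=
    { carrier := {g | ∃ v : V, conjChar N g⁻¹ θ = tw v θ}
      one_mem' := ⟨1, by rw [inv_one, conjChar_one]; exact (tw_one θ).symm⟩
      mul_mem' := fun {a b} ⟨u, hu⟩ ⟨v, hv⟩ => ⟨⟨_, mul_mem (hV a _ v.2) u.2⟩, by rw [cm, hv, conj_tw, hu, tw_tw]⟩
      inv_mem' := fun {a} ⟨u, hu⟩ => ⟨⟨_, inv_mem (hV a⁻¹ _ u.2)⟩, by
        have := congrArg (fun φ => tw (a⁻¹ • u.1)⁻¹ (conjChar N a⁻¹⁻¹ φ)) hu
        simp only [← cm, inv_mul_cancel, inv_one, conjChar_one, conj_tw, tw_tw, tw_one] at this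
        exact this.symm⟩ }
  have hT : inertia N θ ≤ R := fun g hg => ⟨1, (mem_inertia'.1 hg).trans (tw_one θ).symm⟩
  choose ψ hψ using fun g : R => g.2
  let _ := actV hV
  obtain ⟨k, hk⟩ := (IsPGroup.iff_card (p := p) (G := V)).1 fun v => ⟨1, Subtype.ext (by simpa using hVp v v.2)⟩
  obtain ⟨d, hd⟩ := Grp.crossedHom_principal_of_coprime_index ((MulDistribMulAction.toMulAut G V).comp R.subtype)
    ((inertia N θ).subgroupOf R) (by
      rw [hk]
      exact Nat.Coprime.pow_left k ((Nat.Prime.coprime_iff_not_dvd hp).2 fun e => hpa (e.trans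
        ((relIndex_dvd_index_of_le hT).trans (index_dvd hχ hθ h))))) ψ
    (fun g k => Subtype.ext (fr (ψ _).2 (mul_mem (ψ g).2 (hV g _ (ψ k).2)) (by
      show _ = tw (_ * (g : G) • _) θ
      rw [← hψ, coe_mul, cm, hψ, conj_tw, hψ, tw_tw, mul_comm])))
    1 fun u hu => Subtype.ext (fr (ψ _).2 (one_mem _) (by rw [← hψ, tw_one]; exact mem_inertia'.1 hu) |>.trans (by simp))
  have h1 : ∀ g : R, conjChar N (g : G)⁻¹ (tw (l * d.1) θ) = tw ((g : G) • l * d.1) θ := fun g => by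
    rw [conj_tw, hψ, tw_tw, hd, smul_mul', mul_assoc]
    congr 2
    exact mul_inv_cancel_comm_assoc _ _
  have h2 : inertia N (tw (l * d.1) θ) ≤ R := fun g hg => ⟨⟨_, mul_mem (inv_mem (hV g _ (mul_mem hl d.2))) (mul_mem hl d.2)⟩,
    by rw [← tw_tw, ← mem_inertia'.1 hg, conj_tw, tw_tw, inv_mul_cancel, tw_one]⟩
  have h3 : inertia N (tw (l * d.1) θ) ≤ stabilizer G l := fun g hg => mul_right_cancel (fr
    (mul_mem (hV g _ hl) d.2) (mul_mem hl d.2) ((h1 ⟨g, h2 hg⟩).symm.trans (mem_inertia'.1 hg)))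
  have hη := irr_tw hθ (l * d.1)
  obtain ⟨χ', hχ', h', hD⟩ := exists_over hη fun e => hne _ (inv_mem (mul_mem hl d.2)) (by
    rw [← e, tw_tw, inv_mul_cancel, tw_one])
  refine ⟨_, hD, fun hco => ?_, (index_dvd_of_le h3).trans (index_dvd hχ' hη h')⟩
  have h6 : R = ⊤ := index_eq_one.1 (Nat.eq_one_of_dvd_coprimes hco ((index_dvd_of_le hT).trans (index_dvd hχ hθ h))
    ((index_dvd_of_le h2).trans (index_dvd hχ' hη h')))
  have h7 : charDegree (tw (l * d.1) θ) = charDegree θ := charDegree_eq_of_eq (by rw [tw_apply_one, hθ.cast_charDegree])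
  have h8 : charDegree θ = 1 := Nat.eq_one_of_dvd_coprimes hco (deg_dvd hχ hθ h) (h7 ▸ deg_dvd hχ' hη h')
  obtain ⟨m, hm, e⟩ := mem_of_ker V hθ fun x hx => by
    have h9 := pow_deg hG hχ' hη h' (h7.trans h8) (x := x) fun g => by
      rw [← inv_inv g, h1 ⟨g⁻¹, h6.ge (mem_top _)⟩, tw, tw, hx _ (mul_mem (hV _ _ hl) d.2), hx _ (mul_mem hl d.2)]
    rw [tw, hx _ (mul_mem hl d.2), Units.val_one, one_mul] at h9
    rw [hθ.isCharacter.charDegree_eq_one_iff.1 h8]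
    exact (pow_eq_one_iff_of_coprime hco).1 ⟨pow_deg hG hχ hθ h h8 fun g => by
      rw [← inv_inv g, hψ ⟨g⁻¹, h6.ge (mem_top _)⟩, tw, hx _ (ψ _).2, Units.val_one, one_mul], h9⟩
  exact hne m hm e

/-- The index of the stabiliser of a linear character. -/
noncomputable def ix (l : Lin N) : ℕ := (stabilizer G l).index

theorem exists_cross {p q : ℕ} (h : p.Coprime q) {l m : Lin N} (hl : l ^ p = 1) (hm : m ^ q = 1) (h1 : ix l ≠ 1) :
    ∃ c ∈ relCharDegrees N, ix l ∣ c ∧ ix m ∣ c := by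
  have h2 : ∀ {p q : ℕ} {l m : Lin N}, p.Coprime q → l ^ p = 1 → m ^ q = 1 →
      stabilizer G (l * m) ≤ stabilizer G l := fun {p q l m} h hl hm g hg =>
    eq_of_pow_eq_pow_of_coprime h (by rw [mul_pow, inv_pow, ← smul_pow', hl]; simp) (by
      have := congrArg (· ^ q) (mem_stabilizer_iff.1 hg)
      simpa [mul_pow, ← smul_pow', hm] using this)
  obtain ⟨c, hc, e⟩ := exists_lin (l := l * m) fun e => h1 (index_eq_one.2 (eq_top_iff.2 fun g _ =>
    h2 h hl hm (by rw [e]; exact mem_stabilizer_iff.2 (smul_one g))))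
  exact ⟨c, hc, (index_dvd_of_le (h2 h hl hm)).trans e, (index_dvd_of_le (mul_comm l m ▸ h2 h.symm hm hl)).trans e⟩

theorem key (hG : N ≤ commutator G) {p : ℕ} (hp : p.Prime) (hd : p ∣ ⁅N, N⁆.relIndex N) :
    (∀ a ∈ relCharDegrees N, ¬ p ∣ a → ∃ c ∈ relCharDegrees N, p ∣ c ∧ ¬ a.Coprime c) ∨
    ∃ (M : Subgroup G) (_ : M.Normal) (V : Set (Lin N)), M < N ∧ V.Nonempty ∧ (∀ l ∈ V, l ^ p = 1 ∧ ix l ≠ 1) ∧
      (∀ a ∈ relCharDegrees N, a ∈ relCharDegrees M ∨ ∃ l ∈ V, ix l ∣ a) ∧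
      ∀ a ∈ relCharDegrees N, ¬ p ∣ a → ∀ l ∈ V, ∃ c ∈ relCharDegrees N, ¬ a.Coprime c ∧ ¬ c.Coprime (ix l) := by
  have := Fact.mk hp
  obtain ⟨l0, h0⟩ := exists_prime_orderOf_dvd_card' (G := Lin N) p (by
    rwa [Lin, card_monoidHom_eq_index, _root_.commutator_def, ← comap_map_eq_self_of_injective N.subtype_injective ⁅_, _⁆,
      map_commutator, ← MonoidHom.range_eq_map, range_subtype])
  obtain ⟨V, ⟨hV, hVp, hb⟩, hm⟩ := WellFounded.has_min (wellFounded_lt (α := Subgroup (Lin N)))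
    {V | Inv V ∧ (∀ l ∈ V, l ^ p = 1) ∧ V ≠ ⊥} ⟨(powMonoidHom p).ker, fun g l hl => by
      have hl : l ^ p = 1 := hl
      show (g • l) ^ p = 1
      rw [← smul_pow', hl, smul_one], fun _ hl => MonoidHom.mem_ker.1 hl, ne_bot_iff_exists_ne_one.2
        ⟨⟨l0, h0 ▸ pow_orderOf_eq_one l0⟩, fun e => hp.ne_one (by
          rw [← h0, orderOf_eq_one_iff]; exact congrArg Subtype.val e)⟩⟩
  obtain ⟨l1, h1⟩ := ne_bot_iff_exists_ne_one.1 hb
  by_cases hc : ∃ l ∈ V, l ≠ 1 ∧ ix l = 1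
  · obtain ⟨l, hl, h1, h2⟩ := hc
    exact .inl fun a ha hpa => central hG hp (orderOf_eq_prime (hVp l hl) h1)
      ((eq_top_iff' _).1 (index_eq_one.1 h2)) ha hpa
  push Not at hc
  have hm' : ∀ W ≤ V, Inv W → W ≠ ⊥ → V ≤ W := fun W h1 h2 h3 =>
    (eq_of_le_of_not_lt h1 (hm W ⟨h2, fun l hl => hVp l (h1 hl), h3⟩)).ge
  have hM : ∀ x : N, x ∈ ⨅ l : V, l.1.h.ker ↔ ∀ l ∈ V, l.h x = 1 := fun x => by simp [mem_iInf]
  refine .inr ⟨(⨅ l : V, l.1.h.ker).map N.subtype, ⟨?_⟩, {l | l ∈ V ∧ l ≠ 1}, lt_of_le_of_ne (map_subtype_le _) fun e =>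
    h1 (Subtype.ext (Lin.ext fun x => ?_)), ⟨l1, l1.2, fun e => h1 (Subtype.ext e)⟩,
    fun l hl => ⟨hVp l hl.1, hc l hl.1 hl.2⟩, fun a ha => ?_, fun a ha hpa l hl => ?_⟩
  · rintro _ ⟨x, hx, rfl⟩ g
    exact ⟨⟨_, hN.conj_mem _ x.2 g⟩, (hM _).2 fun l hl => by
      have := (hM x).1 hx _ (hV g⁻¹ l hl)
      rwa [show (g⁻¹ • l).h x = l.h (MulAut.conjNormal g⁻¹⁻¹ x) from rfl, inv_inv] at this, rfl⟩
  · obtain ⟨y, hy, e⟩ := e.ge x.2
    exact congrArg Units.val (Subtype.ext e ▸ (hM y).1 hy _ l1.2)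
  · obtain ⟨χ, θ, hχ, rfl, hθ, h, h2⟩ := exists_under ha
    by_cases e : ∀ x, (∀ l ∈ V, l.h x = 1) → θ x = θ 1
    · obtain ⟨l, hl, rfl⟩ := mem_of_ker V hθ e
      exact .inr ⟨l, ⟨hl, fun e => h2 (by rw [e, tw_one])⟩, ix.eq_1 l ▸ inertia_lin l ▸ index_dvd hχ hθ h⟩
    · push Not at e
      obtain ⟨x, h3, h4⟩ := e
      exact .inl (mem_D hχ hθ h (mem_map_of_mem _ ((hM x).2 h3)) h4)
  · obtain ⟨χ, θ, hχ, rfl, hθ, h, h2⟩ := exists_under ha
    by_cases e : ∃ m ∈ V, θ = tw m 1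
    · obtain ⟨m, h3, rfl⟩ := e
      have m1 : m ≠ 1 := fun e => h2 (by rw [e, tw_one])
      have h4 : ix m ∣ charDegree χ := ix.eq_1 m ▸ inertia_lin m ▸ index_dvd hχ hθ h
      by_cases h5 : (ix l).Coprime (ix m)
      · have h6 := not_coprime hV hm' hl.1 h3 (hc l hl.1 hl.2) m1 h5
        have h7 := not_coprime hV hm' h3 hl.1 (hc m h3 m1) hl.2 h5.symm
        obtain ⟨c, h8, h9⟩ := exists_lin (l := l * m) fun e => h6 (by
          rw [e, (eq_top_iff' (stabilizer G (1 : Lin N))).2 smul_one, index_top]; exact Nat.coprime_one_left _)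
        exact ⟨c, h8, fun e => h7 (mul_comm l m ▸ (e.coprime_dvd_left h4).symm.coprime_dvd_left h9),
          fun e => h6 (e.coprime_dvd_left h9)⟩
      · exact ⟨_, ha, fun e => hc m h3 m1 (Nat.eq_one_of_dvd_coprimes e h4 h4),
          fun e => h5 (e.coprime_dvd_left h4).symm⟩
    · push Not at e
      obtain ⟨c, h3, h4, h5⟩ := noncentral hG hp hV hVp hχ hθ h hpa e hl.1
      exact ⟨c, h3, h4, fun e => hc l hl.1 hl.2 (Nat.eq_one_of_dvd_coprimes e h5 dvd_rfl)⟩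

/-- The graph. -/
abbrev Gr (N : Subgroup G) : SimpleGraph (relCharDegrees N) := commonDivisorGraph.induce (relCharDegrees N)

omit hN [Fintype N] in
theorem eq_or_adj {a b : relCharDegrees N} (h : ¬ a.1.Coprime b) : a = b ∨ (Gr N).Adj a b := by
  refine or_iff_not_imp_left.2 fun e => ⟨fun e1 => e (Subtype.ext e1), ?_⟩
  obtain ⟨χ, -, e⟩ := a.2
  exact Nat.lt_of_le_of_ne (Nat.gcd_pos_of_pos_left _ (χ.2.charDegree_pos.trans_eq e)) (Ne.symm h)

omit hN [Fintype N] in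
theorem reach {a b : relCharDegrees N} (h : ¬ a.1.Coprime b) : (Gr N).Reachable a b :=
  (eq_or_adj h).elim (fun e => e ▸ .rfl) SimpleGraph.Adj.reachable

omit hN [Fintype N] in
theorem reach_dvd {a b : relCharDegrees N} {p : ℕ} (hp : p ≠ 1) (ha : p ∣ a) (hb : p ∣ b) : (Gr N).Reachable a b :=
  reach fun e => hp (Nat.eq_one_of_dvd_coprimes e ha hb)

/-- The disconnected case. -/
theorem key' (hG : N ≤ commutator G) {p : ℕ} (hp : p.Prime) (hd : p ∣ ⁅N, N⁆.relIndex N) {u v : relCharDegrees N}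
    (h : ¬ (Gr N).Reachable u v) :
    ∃ (M : Subgroup G) (_ : M.Normal) (V : Set (Lin N)), M < N ∧ V.Nonempty ∧ (∀ l ∈ V, l ^ p = 1 ∧ ix l ≠ 1) ∧
      (∀ a ∈ relCharDegrees N, a ∈ relCharDegrees M ∨ ∃ l ∈ V, ix l ∣ a) ∧
      (∀ a ∈ relCharDegrees N, ¬ p ∣ a → ∀ l ∈ V, ∃ c ∈ relCharDegrees N, ¬ a.Coprime c ∧ ¬ c.Coprime (ix l)) ∧
      ∀ a b : relCharDegrees N, ¬ p ∣ a → ∀ l ∈ V, ix l ∣ b → (Gr N).Reachable a b := by
  obtain h1 | ⟨M, _, V, h1, h2, h3, h4, h5⟩ := key hG hp hd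
  · have h2 : ∀ a : relCharDegrees N, ∃ c : relCharDegrees N, p ∣ c ∧ (Gr N).Reachable a c := fun a => by
      by_cases e : p ∣ a
      · exact ⟨a, e, .rfl⟩
      · obtain ⟨c, hc, h2, h3⟩ := h1 a a.2 e
        exact ⟨⟨c, hc⟩, h2, reach h3⟩
    obtain ⟨c, h3, h4⟩ := h2 u
    obtain ⟨d, h5, h6⟩ := h2 v
    exact absurd (h4.trans ((reach_dvd hp.ne_one h3 h5).trans h6.symm)) h
  · refine ⟨M, inferInstance, V, h1, h2, h3, h4, h5, fun a b ha l hl hb => ?_⟩
    obtain ⟨c, hc, h6, h7⟩ := h5 a a.2 ha l hl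
    exact (reach (b := ⟨c, hc⟩) h6).trans (reach fun e => h7 (e.coprime_dvd_right hb))

theorem dvd_or (hG : N ≤ commutator G) {p : ℕ} (hp : p.Prime) (hd : p ∣ ⁅N, N⁆.relIndex N) {u v : relCharDegrees N}
    (h : ¬ (Gr N).Reachable u v) : p ∣ u ∨ p ∣ v := by
  obtain ⟨M, _, V, -, ⟨l, hl⟩, h3, -, -, h5⟩ := key' hG hp hd h
  obtain ⟨c, hc, e⟩ := exists_lin (l := l) fun e => (h3 l hl).2 (by
    rw [e, ix, (eq_top_iff' (stabilizer G (1 : Lin N))).2 smul_one, index_top])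
  by_contra! e1
  exact h ((h5 u ⟨c, hc⟩ e1.1 l hl e).trans (h5 v ⟨c, hc⟩ e1.2 l hl e).symm)

theorem dvd_all (hG : N ≤ commutator G) {p q : ℕ} (hp : p.Prime) (hq : q.Prime) (hd : p ∣ ⁅N, N⁆.relIndex N)
    (hd' : q ∣ ⁅N, N⁆.relIndex N) {u v : relCharDegrees N} (h : ¬ (Gr N).Reachable u v) (hu : p ∣ u) : ¬ q ∣ v := fun hv => by
  have h1 : ¬ p ∣ v := fun e => h (reach_dvd hp.ne_one hu e)
  obtain ⟨-, -, V, -, ⟨l, hl⟩, h3, -, -, h5⟩ := key' hG hp hd h
  obtain ⟨-, -, W, -, ⟨m, hm⟩, h4, -, -, h6⟩ := key' hG hq hd' h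
  obtain ⟨c, hc, e1, e2⟩ := exists_cross ((Nat.coprime_primes hp hq).2 fun e => h1 (e ▸ hv)) (h3 l hl).1 (h4 m hm).1
    (h3 l hl).2
  exact h ((h6 u ⟨c, hc⟩ (fun e => h (reach_dvd hq.ne_one e hv)) m hm e2).trans (h5 v ⟨c, hc⟩ h1 l hl e1).symm)

omit [Fintype G] [Fintype N] hN in
theorem exists_prime {u : ℕ} (hu : u ∈ relCharDegrees N) (hs : Group.IsSolvable N) :
    ∃ p : ℕ, p.Prime ∧ p ∣ ⁅N, N⁆.relIndex N := by
  obtain ⟨χ, ⟨x, hx, h1⟩, -⟩ := hu
  have : Nontrivial N := ⟨⟨x, hx⟩, 1, fun e => h1 (by rw [show x = 1 from congrArg Subtype.val e])⟩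
  refine Nat.exists_prime_and_dvd fun e => (Group.IsSolvable.commutator_lt_top_of_nontrivial N).ne (eq_top_iff.2 ?_)
  rw [← map_le_map_iff_of_injective N.subtype_injective, _root_.commutator_def, map_commutator,
    ← MonoidHom.range_eq_map, range_subtype]
  exact relIndex_eq_one.1 e

omit [Fintype N] hN in
theorem common (N : Subgroup G) : N.Normal → Group.IsSolvable N → N ≤ commutator G → ∀ a a' b : relCharDegrees N,
    ¬ (Gr N).Reachable a b → ¬ (Gr N).Reachable a' b → ∃ c ∈ relCharDegrees N, ¬ a.1.Coprime c ∧ ¬ a'.1.Coprime c := by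
  induction N using WellFoundedLT.induction with
  | ind N ih =>
  intro _ hs hG a a' b h h'
  have := Fintype.ofFinite N
  obtain ⟨p, hp, hd⟩ := exists_prime a.2 hs
  by_cases hb : p ∣ b
  swap
  · have h1 := (dvd_or hG hp hd h).resolve_right hb
    exact ⟨a, a.2, fun e => hp.ne_one (Nat.eq_one_of_dvd_coprimes e h1 h1), fun e => hp.ne_one
      (Nat.eq_one_of_dvd_coprimes e ((dvd_or hG hp hd h').resolve_right hb) h1)⟩
  have ha : ¬ p ∣ a := fun e => h (reach_dvd hp.ne_one e hb)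
  have ha' : ¬ p ∣ a' := fun e => h' (reach_dvd hp.ne_one e hb)
  obtain ⟨M, hM, V, h1, -, -, h4, h5, h6⟩ := key' hG hp hd h
  obtain h7 | ⟨l, hl, e⟩ := h4 a a.2
  swap
  · obtain ⟨c, hc, h7, h8⟩ := h5 a' a'.2 ha' l hl
    exact ⟨c, hc, fun e1 => h8 (e1.coprime_dvd_left e).symm, h7⟩
  obtain h8 | ⟨l, hl, e⟩ := h4 a' a'.2
  swap
  · obtain ⟨c, hc, h7, h8⟩ := h5 a a.2 ha l hl
    exact ⟨c, hc, h7, fun e1 => h8 (e1.coprime_dvd_left e).symm⟩
  have h9 := (h4 b b.2).resolve_right fun ⟨l, hl, e⟩ => h (h6 a b ha l hl e)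
  have sub : relCharDegrees M ⊆ relCharDegrees N := fun _ ⟨χ, ⟨x, hx, e⟩, e'⟩ => ⟨χ, ⟨x, h1.le hx, e⟩, e'⟩
  have mp := fun {u v} (e : (Gr M).Reachable u v) => e.map (commonDivisorGraph.induceHomOfLE sub).toHom
  obtain ⟨c, hc, e⟩ := ih M h1 hM (Group.isSolvable_of_isSolvable_injective (inclusion_injective h1.le)) (h1.le.trans hG)
    ⟨a, h7⟩ ⟨a', h8⟩ ⟨b, h9⟩ (fun e => h (mp e)) fun e => h' (mp e)
  exact ⟨c, sub hc, e⟩

end CL.Char.RelDeg
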