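/-
Solvable linear groups containing an element of primitive prime order.
-/
import Cfsg.Agent.Char.Palfy1
import Cfsg.Agent.Char.RelDeg
import Cfsg.Agent.S2904

set_option autoImplicit false
set_option linter.unusedSectionVars false

open scoped Pointwise commutatorElement
open Cfsg CL.Grp Subgroup CL.Char.VanOrd CL.Grp.Homog

namespace CL.Char.Palfy

/-- Primitive prime divisor. -/
structure Pp (s n u : ℕ) : Prop where
  prime : u.Prime
  pos : 0 < n
  dvd : u ∣ s ^ n - 1
  not_dvd : ∀ k, 0 < k → k < n → ¬ u ∣ s ^ k - 1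

theorem Pp.coprime {s n u : ℕ} (hs : s.Prime) (h : Pp s n u) : u.Coprime s :=
  h.prime.coprime_iff_not_dvd.2 fun h1 => h.prime.one_lt.ne' (Nat.dvd_one.1 (by
    have := (Nat.dvd_sub (h1.trans (dvd_pow_self s h.pos.ne')) h.dvd)
    rwa [Nat.sub_sub_self (Nat.one_le_pow _ _ hs.pos)] at this))

theorem Pp.lt {s n u : ℕ} (hs : s.Prime) (h : Pp s n u) : n < u := by
  have h1 := Nat.ModEq.pow_totient (h.coprime hs).symm
  rw [Nat.totient_prime h.prime] at h1
  have h2 := h.prime.two_le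
  by_contra h3
  exact h.not_dvd (u - 1) (by omega) (by omega) ((Nat.modEq_iff_dvd' (Nat.one_le_pow _ _ hs.pos)).1 h1.symm)

theorem Pp.eq_of_modEq {s n u : ℕ} (hs : s.Prime) (h : Pp s n u) {a b : ℕ} (hab : a ≤ b) (hb : b ≤ n)
    (e : s ^ b ≡ s ^ a [MOD u]) : a = b ∨ (a = 0 ∧ b = n) := by
  rw [show b = a + (b - a) by omega, pow_add, ← mul_one (s ^ a), mul_assoc, one_mul] at e
  have := (Nat.modEq_iff_dvd' (Nat.one_le_pow _ _ hs.pos)).1
    (Nat.ModEq.cancel_left_of_coprime ((h.coprime hs).pow_right a) e).symm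
  by_contra h1
  exact h.not_dvd (b - a) (by omega) (by omega) this

section grp

variable {H : Type*} [Group H] [Finite H]

theorem mem_zpowers_of_prime {g a : H} (hg : (orderOf g).Prime) (ha : a ∈ zpowers g) (h1 : a ≠ 1) : g ∈ zpowers a :=
  (eq_of_le_of_card_ge (zpowers_le.2 ha) (by
    rw [Nat.card_zpowers, Nat.card_zpowers]
    exact (((Nat.dvd_prime hg).1 (orderOf_dvd_of_mem_zpowers ha)).resolve_left (mt orderOf_eq_one_iff.1 h1)).ge)).ge
    (mem_zpowers g)

theorem dvd_totient {B : Subgroup H} [B.Normal] [IsCyclic B] {a : H} {x : ℕ} (hx : x.Prime) (ha : orderOf a = x)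
    (h : a ∉ centralizer (B : Set H)) : x ∣ (Nat.card B).totient := by
  have := Fact.mk hx
  rw [← IsCyclic.card_mulAut]
  refine (orderOf_eq_prime (x := MulAut.conjNormal (H := B) a) (p := x)
    (by rw [← map_pow, ← ha, pow_orderOf_eq_one, map_one]) fun e => h (mem_centralizer_iff.2 fun y hy => ?_)).symm.dvd.trans
    (orderOf_dvd_natCard _)
  exact (mul_inv_eq_iff_eq_mul.1 (congrArg Subtype.val (MulEquiv.congr_fun e ⟨y, hy⟩))).symm

theorem coprime_zpowers {a : H} {x t : ℕ} (hx : x.Prime) [ht : Fact t.Prime] (ha : orderOf a = x) (hxt : x ≠ t)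
    {C : Subgroup H} (hC : IsPGroup t C) : (Nat.card (zpowers a)).Coprime (Nat.card C) := by
  obtain ⟨k, hk⟩ := IsPGroup.iff_card.1 hC
  rw [Nat.card_zpowers, ha, hk]
  exact ((Nat.coprime_primes hx ht.out).2 hxt).pow_right k

/-- A large normal `2`-subgroup of symplectic type. -/
structure L2 (C : Subgroup H) (d : ℕ) (g : H) : Prop where
  normal : C.Normal
  le : C ≤ pCore 2 H
  comm : ⁅C, C⁆ ≤ centralizer (C : Set H)
  cent : centralizer (C : Set H) ≤ center H
  idx : (C ⊓ centralizer (C : Set H)).relIndex C = 2 ^ (2 * d)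
  prime : (2 ^ d + 1).Prime
  pos : 0 < d
  ord : orderOf g = 2 ^ d + 1
  nm : g ∉ centralizer (C : Set H)

end grp

variable {H V : Type*} [Group H] [Finite H] [CommGroup V] [Finite V] [MulDistribMulAction H V]

theorem mem_Fx_zpowers {g : H} {v : V} : v ∈ Fx V (zpowers g) ↔ g • v = v :=
  ⟨fun h => h g (mem_zpowers g), fun h _ hk => (zpowers_le (H := MulAction.stabilizer H v)).2 h hk⟩

theorem card_modEq {u : ℕ} (hu : u.Prime) {g : H} (hg : orderOf g = u) {W : Subgroup V} (hW : ∀ v ∈ W, g • v ∈ W) :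
    Nat.card W ≡ Nat.card ↥(W ⊓ Fx V (zpowers g)) [MOD u] := by
  have := Fact.mk hu
  let := subAction (A := zpowers g) W fun a v hv => by
    obtain ⟨k, hk⟩ := mem_powers_iff_mem_zpowers.2 a.2
    change (a : H) • v ∈ W
    rw [← hk]
    clear hk
    induction k with
    | zero => simpa using hv
    | succ k ih => simpa only [pow_succ', mul_smul] using hW _ ih
  exact ((IsPGroup.of_card (G := zpowers g) (n := 1) (by rw [Nat.card_zpowers, hg, pow_one])).card_modEq_card_fixedPoints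
    W).trans (congrArg (· % u) (Nat.card_congr ⟨fun x => ⟨x.1, x.1.2, fun k hk => congrArg Subtype.val (x.2 ⟨k, hk⟩)⟩,
      fun x => ⟨⟨x, x.2.1⟩, fun y => Subtype.ext (x.2.2 y y.2)⟩, fun _ => rfl, fun _ => rfl⟩))

theorem SR.dvd {B : Subgroup H} (h : SR V B) {t : ℕ} (ht : t.Prime) (hd : t ∣ Nat.card B) : t ∣ Nat.card V - 1 := by
  have := Fact.mk ht
  obtain ⟨z, hz⟩ := exists_prime_orderOf_dvd_card' t hd
  have h1 := card_modEq ht ((orderOf_coe z).trans hz) (W := (⊤ : Subgroup V)) fun _ _ => mem_top _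
  rw [top_inf_eq, card_top, (eq_bot_iff_forall _).2 fun v hv => (h z z.2 v (mem_Fx_zpowers.1 hv)).resolve_left
    fun e => ht.one_lt.ne (by rw [← hz, show z = 1 from Subtype.ext e, orderOf_one]), card_bot] at h1
  exact (Nat.modEq_iff_dvd' Nat.card_pos).1 h1.symm

section pp

variable {s n u : ℕ} (hs : s.Prime) (hc : Nat.card V = s ^ n) (hu : Pp s n u) {g : H} (hg : orderOf g = u)
  (hne : ∃ v : V, g • v ≠ v)
include hs hc hu hg hne

theorem Pp.fpf : Fx V (zpowers g) = ⊥ := by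
  have h1 := card_modEq hu.prime hg (W := (⊤ : Subgroup V)) fun _ _ => mem_top _
  obtain ⟨k, hk, h2⟩ := (Nat.dvd_prime_pow hs).1 (hc ▸ card_subgroup_dvd_card (Fx V (zpowers g)))
  rw [top_inf_eq, card_top, hc, h2] at h1
  rcases hu.eq_of_modEq hs hk le_rfl h1 with rfl | ⟨rfl, -⟩
  · obtain ⟨v, hv⟩ := hne
    exact (hv (mem_Fx_zpowers.1 ((eq_top_of_card_eq _ (h2.trans hc.symm)).ge (mem_top v)))).elim
  · exact eq_bot_of_card_eq _ h2

theorem Pp.irr (W : Subgroup V) (hW : ∀ v ∈ W, g • v ∈ W) : W = ⊥ ∨ W = ⊤ := by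
  have h1 := card_modEq hu.prime hg hW
  obtain ⟨k, hk, h2⟩ := (Nat.dvd_prime_pow hs).1 (hc ▸ card_subgroup_dvd_card W)
  rw [hu.fpf hs hc hg hne, inf_bot_eq, card_bot, h2, ← pow_zero s] at h1
  rcases hu.eq_of_modEq hs (Nat.zero_le k) hk h1 with rfl | ⟨-, rfl⟩
  · exact Or.inl (eq_bot_of_card_eq _ h2)
  · exact Or.inr (eq_top_of_card_eq _ (h2.trans hc.symm))

end pp

namespace Md

variable {s n u : ℕ} (h : Md H V s n)
include h

theorem moves {g : H} (hg : (orderOf g).Prime) : ∃ v : V, g • v ≠ v := by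
  by_contra! h1
  exact hg.one_lt.ne (by rw [h.faith g h1, orderOf_one])

theorem sr_of_pp (hu : Pp s n u) {g : H} (hg : orderOf g = u) {B : Subgroup H} [B.Normal]
    (hc : ∀ a ∈ B, ∀ b ∈ B, a * b = b * a) : SR V B := by
  classical
  intro b hb v hv
  by_contra! h1
  have hne := h.moves (hg ▸ hu.prime)
  obtain ⟨K, hK⟩ := exists_om (V := V) (zpowers_le.2 hb) (ne_bot_iff_exists_ne_one.2
    ⟨⟨v, mem_Fx_zpowers.2 hv⟩, fun e => h1.2 (congrArg Subtype.val e)⟩)
  by_cases h2 : g • K = K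
  · refine h1.1 (h.faith b fun w => ((hu.irr h.prime h.card hg hne (Fx V K.1) fun w hw => ?_).resolve_left
      K.2.1.2).ge (mem_top w) b (hK (mem_zpowers b)))
    have := smul_mem_Fx hw g
    rwa [← coe_smul, h2] at this
  obtain ⟨⟨w, hw⟩, h3⟩ := ne_bot_iff_exists_ne_one.1 K.2.1.2
  have := Fintype.ofFinite (zpowers g)
  have := Fintype.ofFinite (Om V B)
  have h4 : ∏ a : zpowers g, (a : H) • w = 1 := mem_bot.1 ((hu.fpf h.prime h.card hg hne).le (mem_Fx_zpowers.2 (by
    rw [Finset.smul_prod']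
    exact Fintype.prod_equiv (Equiv.mulLeft ⟨g, mem_zpowers g⟩) _ _ fun a => (mul_smul _ _ _).symm)))
  rw [← Finset.prod_fiberwise _ fun a : zpowers g => (a : H) • K] at h4
  have h5 := indep hc _ _ (fun L => prod_mem fun a ha => by
    rw [← (Finset.mem_filter.1 ha).2]
    exact smul_mem_Fx hw _) h4 K (Finset.mem_univ _)
  rw [Finset.prod_eq_single_of_mem 1 (by simp) fun a ha h6 => by
    exact (h2 ((zpowers_le (H := MulAction.stabilizer H K)).2 (Finset.mem_filter.1 ha).2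
      (mem_zpowers_of_prime (hg ▸ hu.prime) a.2 fun e => h6 (Subtype.ext e)))).elim] at h5
  exact h3 (Subtype.ext (by simpa using h5))

theorem l2 {t : ℕ} {C : Subgroup H} (hC : Crit t C) (hZ : SR V (C ⊓ centralizer (C : Set H))) (ht : t.Prime)
    (hu : u.Prime) (htu : t ≠ u) (hn : n < u) {g : H} (hg : orderOf g = u) (h1 : g ∈ centralizer (C ⊓ centralizer (C : Set H) : Subgroup H))
    (h2 : g ∉ centralizer (C : Set H)) : t = 2 ∧ ∃ d, L2 C d g := by
  have := hC.normal
  have := Fact.mk ht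
  obtain ⟨a, b, h3, h4, h5, h6, h7⟩ := h.wstep ht hu htu ((pCore_isPGroup t H).to_le hC.le) hC.comm hZ hg
    (fun z hz => mem_centralizer_singleton_iff.2 (mem_centralizer_iff.1 h1 z hz)) h2
  have i1 : t ^ b ≤ t ^ a := Nat.pow_le_pow_right ht.pos h4
  have i2 : 1 < t ^ b := Nat.one_lt_pow h3.ne' ht.one_lt
  rw [mul_comm, pow_mul, ← one_pow 2, Nat.sq_sub_sq] at h6
  have i3 : u ≤ t ^ b + 1 := Nat.le_of_dvd (by omega) (((Nat.Prime.dvd_mul hu).1 h6).resolve_right fun e => by
    have := Nat.le_of_dvd (by omega) e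
    omega)
  have i4 : u = t ^ a + 1 := by omega
  obtain rfl : t = 2 := by
    by_contra h8
    have := hu.even_iff.1 (i4 ▸ ((ht.odd_of_ne_two h8).pow.add_one))
    omega
  exact ⟨rfl, a, hC.normal, hC.le, hC.comm, (h.bound hC.comm hZ).2 (by
    rw [h5, mul_comm, pow_mul, show n = 2 ^ a by omega]), h5, i4 ▸ hu, by omega, i4 ▸ hg, h2⟩

theorem zed (hu : Pp s n u) (hd : u ∣ Nat.card H) :
    (∃ U : Subgroup H, U.Normal ∧ Nat.card U = u ∧ SR V (centralizer (U : Set H))) ∨
      (s ≠ 2 ∧ ∃ (C : Subgroup H) (d : ℕ) (g : H), L2 C d g) := by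
  have := Fact.mk hu.prime
  have := h.nontrivial
  obtain ⟨g, hg⟩ := exists_prime_orderOf_dvd_card' u hd
  have hsr : ∀ C : Subgroup H, C.Normal → SR V (C ⊓ centralizer (C : Set H)) := fun C _ =>
    h.sr_of_pp hu hg fun a ha b hb => mem_centralizer_iff.1 hb.2 a ha.1
  by_cases h1 : pCore u H = ⊥
  · obtain ⟨t, ht, htu, h2⟩ := exists_not_mem_centralizer h.solv hu.prime hg h1
    obtain ⟨C, hC⟩ := exists_crit (H := H) t ht
    have := hC.normal
    have := Fact.mk ht
    have h3 : g ∉ centralizer (C : Set H) := mt (hC.cent g (hg ▸ (Nat.coprime_primes hu.prime ht).2 htu.symm)) h2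
    set Z := C ⊓ centralizer (C : Set H) with hZ
    have hcop := coprime_zpowers hu.prime hg htu.symm (((pCore_isPGroup t H).to_le hC.le).to_le (inf_le_left : Z ≤ C))
    have h4 : SR V (Z ⊔ zpowers g) := fun x hx v hv => by
      by_cases h4 : x ∈ Z
      · exact hsr C hC.normal x h4 v hv
      obtain ⟨z, hz, y, hy, rfl⟩ := mem_sup_of_normal_left.1 hx
      have h5 : (z * y) ^ u ∈ Z := by
        rw [← QuotientGroup.eq_one_iff, QuotientGroup.mk_pow, QuotientGroup.mk_mul, (QuotientGroup.eq_one_iff z).2 hz,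
          one_mul, ← QuotientGroup.mk_pow, ← hg, orderOf_dvd_iff_pow_eq_one.1 (orderOf_dvd_of_mem_zpowers hy)]
        rfl
      rcases hsr C hC.normal _ h5 v ((MulAction.stabilizer H v).pow_mem hv u) with h6 | h6
      · have h7 := orderOf_eq_prime h6 fun e => h4 (e ▸ one_mem _)
        exact Or.inr (mem_bot.1 ((hu.fpf h.prime h.card h7 (h.moves (h7 ▸ hu.prime))).le (mem_Fx_zpowers.2 hv)))
      · exact Or.inr h6
    have := (hsr C hC.normal).isCyclic fun a ha b hb => mem_centralizer_iff.1 hb.2 a ha.1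
    have : IsCyclic (Z.subgroupOf (Z ⊔ zpowers g)) := isCyclic_of_surjective _
      (subgroupOfEquivOfLe (le_sup_left : Z ≤ Z ⊔ zpowers g)).symm.surjective
    have h5 := h4.pq.mem_centralizer_of_isCyclic (C := Z.subgroupOf (Z ⊔ zpowers g))
      (x := ⟨g, mem_sup_right (mem_zpowers g)⟩) (by rw [← orderOf_coe]; exact hg ▸ hu.prime)
      (le_normalizer_of_normal (mem_top _)) (by
        rwa [← orderOf_coe, ← Nat.card_zpowers, Nat.card_congr (subgroupOfEquivOfLe le_sup_left).toEquiv])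
    obtain ⟨rfl, d, h6⟩ := h.l2 hC (hsr C hC.normal) ht hu.prime htu (hu.lt h.prime) hg (mem_centralizer_iff.2 fun z hz =>
      congrArg Subtype.val (mem_centralizer_iff.1 h5 ⟨z, mem_sup_left hz⟩ hz)) h3
    refine Or.inr ⟨?_, C, d, g, h6⟩
    rintro rfl
    exact h2 (mem_centralizer_iff.2 fun y hy => by rw [mem_bot.1 (h.pCore_eq_bot.le hy), one_mul, mul_one])
  · have h2 := inf_centralizer_ne_bot_of_isNilpotent (pCore_isPGroup u H).isNilpotent h1
    obtain ⟨k, hk⟩ := IsPGroup.iff_card.1 ((pCore_isPGroup u H).to_le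
      (inf_le_left : pCore u H ⊓ centralizer (pCore u H : Set H) ≤ _))
    obtain ⟨z, hz⟩ := exists_prime_orderOf_dvd_card' u (hk ▸ dvd_pow_self u fun e => h2 (eq_bot_of_card_eq _
      (by rw [hk, e, pow_zero])))
    have := (hsr (pCore u H) inferInstance).isCyclic fun a ha b hb => mem_centralizer_iff.1 hb.2 a ha.1
    have h3 : orderOf (z : H) = u := (orderOf_coe z).trans hz
    refine Or.inl ⟨zpowers (z : H), normalizer_eq_top_iff.1 (eq_top_iff.2 fun x _ =>
      mem_normalizer_zpowers_of_conj_mem_zpowers (conj_mem_zpowers_of_isCyclic z.2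
        (le_normalizer_of_normal (mem_top x)))), by rw [Nat.card_zpowers, h3], fun x hx v hv => ?_⟩
    refine (hu.irr h.prime h.card h3 (h.moves (by rw [h3]; exact hu.prime)) (Fx V (zpowers x)) fun w hw =>
      mem_Fx_zpowers.2 ?_).symm.imp (fun e => h.faith x fun w => mem_Fx_zpowers.1 (e.ge (mem_top w)))
      fun e => mem_bot.1 (e.le (mem_Fx_zpowers.2 hv))
    rw [← mul_smul, ← mem_centralizer_iff.1 hx _ (mem_zpowers _), mul_smul, mem_Fx_zpowers.1 hw]

end Md

end CL.Char.Palfy
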