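/-
Solvable linear groups in which every vector is fixed by a unique Sylow subgroup, for two primes.
-/
import Cfsg.Agent.Char.Palfy2

set_option autoImplicit false
set_option linter.unusedSectionVars false

open scoped Pointwise commutatorElement
open Cfsg CL.Grp Subgroup CL.Char.VanOrd CL.Grp.Homog CL.Char.RelDeg

namespace CL.Char.Palfy

theorem pp_two {d : ℕ} (hd : 0 < d) (h : (2 ^ d + 1).Prime) : Pp 2 (2 * d) (2 ^ d + 1) := by
  have h1 : 2 ^ d + 1 ∣ 2 ^ (2 * d) - 1 := by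
    rw [mul_comm, pow_mul, ← one_pow 2, Nat.sq_sub_sq]
    exact dvd_mul_right _ _
  have h2 : ∀ k, 0 < k → k ≤ d → ¬ 2 ^ d + 1 ∣ 2 ^ k - 1 := fun k h3 h4 h5 => by
    have i1 : 1 < 2 ^ k := Nat.one_lt_pow h3.ne' one_lt_two
    have i2 : 2 ^ k ≤ 2 ^ d := Nat.pow_le_pow_right two_pos h4
    have := Nat.le_of_dvd (by omega) h5
    omega
  refine ⟨h, by omega, h1, fun k h3 h4 h5 => ?_⟩
  by_cases h6 : k ≤ d
  · exact h2 k h3 h6 h5
  refine h2 (2 * d - k) (by omega) (by omega) ((Nat.modEq_iff_dvd' Nat.one_le_two_pow).1 ?_)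
  have i1 := (Nat.modEq_iff_dvd' Nat.one_le_two_pow).2 h1
  rw [show 2 * d = k + (2 * d - k) by omega, pow_add] at i1
  simpa using i1.trans ((((Nat.modEq_iff_dvd' Nat.one_le_two_pow).2 h5).symm.mul_right _))

section dual

variable {G : Type*} [Group G] [Finite G] {K : Subgroup G} [K.Normal]

theorem card_lin (hc : ∀ a ∈ K, ∀ b ∈ K, a * b = b * a) : Nat.card (Lin K) = Nat.card K := by
  refine (card_monoidHom_eq_index (G := K)).trans ?_
  rw [show commutator K = ⊥ from (eq_bot_iff_forall _).2 fun x hx => mem_bot.1 ((commutator_le (H₃ := ⊥)).2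
    (fun a _ b _ => commutatorElement_eq_one_iff_mul_comm.2 (Subtype.ext (hc a a.2 b b.2))) hx), index_bot]

theorem lin_sep (hc : ∀ a ∈ K, ∀ b ∈ K, a * b = b * a) {k : K} (h : ∀ l : Lin K, l.h k = 1) : k = 1 :=
  mem_bot.1 ((commutator_le (H₃ := ⊥)).2 (fun a _ b _ => commutatorElement_eq_one_iff_mul_comm.2
    (Subtype.ext (hc a a.2 b b.2))) (mem_commutator_iff_forall_monoidHom.2 h))

theorem smul_h (g : G) (l : Lin K) (k : K) : (g • l).h k = l.h (MulAut.conjNormal g⁻¹ k) := rfl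

theorem mem_centralizer_of_lin (hc : ∀ a ∈ K, ∀ b ∈ K, a * b = b * a) {g : G} (h : ∀ l : Lin K, g • l = l) :
    g ∈ centralizer (K : Set G) := mem_centralizer_iff.2 fun k hk => by
  have := lin_sep hc (k := (⟨k, hk⟩ : K)⁻¹ * MulAut.conjNormal g⁻¹ ⟨k, hk⟩) fun l => by
    rw [map_mul, ← smul_h, h, map_inv, inv_mul_cancel]
  have h1 : k = g⁻¹ * k * g⁻¹⁻¹ := congrArg Subtype.val (inv_mul_eq_one.1 this)
  rw [inv_inv, mul_assoc, eq_inv_mul_iff_mul_eq] at h1
  exact h1.symm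

theorem deg_of_lin (l : Lin K) {m : ℕ} (h : m ∣ (MulAction.stabilizer G l).index) : Deg G m := by
  have := Fintype.ofFinite G
  have := Fintype.ofFinite K
  exact deg_of_inertia (irr_lin l) (inertia_lin l ▸ h.mul_right _)

end dual

variable {H V : Type*} [Group H] [Finite H] [CommGroup V] [Finite V] [MulDistribMulAction H V]

variable (H V) in
/-- The group of automorphisms induced by an action. -/
abbrev Im : Subgroup (MulAut V) := (MulDistribMulAction.toMulAut H V).range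

variable (V) in
/-- The map onto the group of induced automorphisms. -/
abbrev im : H →* Im H V := (MulDistribMulAction.toMulAut H V).rangeRestrict

theorem im_surj : Function.Surjective (im V : H → Im H V) := MonoidHom.rangeRestrict_surjective _

theorem im_smul (g : H) (v : V) : im V g • v = g • v := rfl

theorem im_faith (y : Im H V) (h : ∀ v : V, y • v = v) : y = 1 := Subtype.ext (MulEquiv.ext h)

theorem orderOf_im {g : H} (hg : (orderOf g).Prime) (h : ∃ v : V, g • v ≠ v) : orderOf (im V g) = orderOf g := by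
  refine ((Nat.dvd_prime hg).1 (orderOf_map_dvd _ g)).resolve_left fun e => ?_
  obtain ⟨v, hv⟩ := h
  exact hv (by rw [← im_smul, orderOf_eq_one_iff.1 e, one_smul])

theorem index_im (v : V) : (MulAction.stabilizer H v).index = (MulAction.stabilizer (Im H V) v).index := by
  rw [← index_comap_of_surjective (MulAction.stabilizer (Im H V) v) im_surj]
  congr 1

theorem L2.deg (hs : Group.IsSolvable H) {C : Subgroup H} {d : ℕ} {g : H} (h : L2 C d g) {q r : ℕ} (hq : q.Prime)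
    (hr : r.Prime) (hqr : q ≠ r) (hq2 : q ≠ 2) (hr2 : r ≠ 2) {a b : H} (ha : orderOf a = q) (hb : orderOf b = r)
    (ha1 : a ∉ center H) (hb1 : b ∉ center H) : Deg H (q * r) := by
  have := h.normal
  set Z := C ⊓ centralizer (C : Set H) with hZ
  have hπ := QuotientGroup.mk'_surjective Z
  let K := C.map (QuotientGroup.mk' Z)
  have : K.Normal := h.normal.map _ hπ
  have hK : ∀ a ∈ K, ∀ b ∈ K, a * b = b * a := by
    rintro _ ⟨x, hx, rfl⟩ _ ⟨y, hy, rfl⟩
    rw [← commutatorElement_eq_one_iff_mul_comm, ← map_commutatorElement]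
    exact (QuotientGroup.eq_one_iff _).2 ⟨comm_mem hx hy, h.comm (commutator_mem_commutator hx hy)⟩
  have hc : Nat.card (Lin K) = 2 ^ (2 * d) := by
    rw [card_lin hK, ← h.idx, ← Nat.card_congr (quotientSubgroupOfEquivMap C Z).toEquiv]
    rfl
  have key : ∀ y : H, (orderOf y).Prime → orderOf y ≠ 2 → y ∉ centralizer (C : Set H) →
      orderOf (im (Lin K) (y : H ⧸ Z)) = orderOf y := fun y h1 h2 h3 => by
    refine ((Nat.dvd_prime h1).1 (orderOf_map_dvd ((im (Lin K)).comp (QuotientGroup.mk' Z)) y)).resolve_left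
      fun e => h3 (mem_centralizer_iff.2 fun c hc => ?_)
    have h4 := mem_centralizer_iff.1 (mem_centralizer_of_lin hK (g := (y : H ⧸ Z)) fun l => by
      rw [← im_smul, show im (Lin K) (y : H ⧸ Z) = 1 from orderOf_eq_one_iff.1 e, one_smul]) _ (mem_map_of_mem _ hc)
    have h5 : ⁅y, c⁆ ∈ Z := (QuotientGroup.eq_one_iff _).1
      ((map_commutatorElement (QuotientGroup.mk' Z) y c).trans (commutatorElement_eq_one_iff_mul_comm.2 h4.symm))
    have h6 : ∀ k : ℕ, y ^ k * c = ⁅y, c⁆ ^ k * c * y ^ k := fun k => by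
      induction k with
      | zero => simp
      | succ k ih =>
        rw [pow_succ', mul_assoc, ih, ← mul_assoc, ← mul_assoc, mem_center_iff.1 (pow_mem (h.cent h5.2) k) y,
          pow_succ, commutatorElement_def]
        group
    have h7 := h6 (orderOf y)
    rw [pow_orderOf_eq_one, one_mul, mul_one, right_eq_mul] at h7
    obtain ⟨k, hk⟩ := pow_eq_one_of_mem (pCore_isPGroup 2 H) (h.le h5.1)
    exact (commutatorElement_eq_one_iff_mul_comm.1 (orderOf_eq_one_iff.1 (Nat.eq_one_of_dvd_coprimes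
      (((Nat.coprime_primes h1 Nat.prime_two).2 h2).pow_right k) (orderOf_dvd_of_pow_eq_one h7)
      (orderOf_dvd_of_pow_eq_one hk)))).symm
  have hu := pp_two h.pos h.prime
  have hu2 : 2 ^ d + 1 ≠ 2 := by
    have : 1 < 2 ^ d := Nat.one_lt_pow h.pos.ne' one_lt_two
    omega
  have hg := (key g (h.ord ▸ h.prime) (h.ord ▸ hu2) h.nm).trans h.ord
  have hm : Md (Im (H ⧸ Z) (Lin K)) (Lin K) 2 (2 * d) := ⟨Group.isSolvable_of_surjective im_surj, im_faith, fun W hW =>
    hu.irr Nat.prime_two hc hg (by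
      by_contra! h1
      exact h.prime.one_lt.ne (by rw [← hg, im_faith _ h1, orderOf_one])) W (hW _), Nat.prime_two, hc, hu.pos⟩
  obtain ⟨U, hU, h1, h2⟩ := (hm.zed hu (hg ▸ orderOf_dvd_natCard _)).resolve_right fun e => e.1 rfl
  have := Fact.mk h.prime
  have := isCyclic_of_prime_card h1
  have := hm.nontrivial
  obtain ⟨w, hw⟩ := exists_ne (1 : Lin K)
  have h3 : ∀ y : H, (orderOf y).Prime → orderOf y ≠ 2 → y ∉ center H →
      orderOf y ∣ (MulAction.stabilizer (H ⧸ Z) w).index := fun y i1 i2 i3 => by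
    have i4 := orderOf_dvd_natCard (im (Lin K) (y : H ⧸ Z))
    rw [key y i1 i2 (mt (h.cent ·) i3), ← (MulAction.stabilizer (Im (H ⧸ Z) (Lin K)) w).card_mul_index] at i4
    rw [index_im]
    refine (i1.dvd_mul.1 i4).resolve_left fun e => ?_
    have := Fact.mk i1
    obtain ⟨z, hz⟩ := exists_prime_orderOf_dvd_card' _ e
    have i5 := dvd_totient i1 ((orderOf_coe z).trans hz) fun e => (h2 _ e w z.2).elim (fun e =>
      i1.one_lt.ne (by rw [← hz, show z = 1 from Subtype.ext e, orderOf_one])) hw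
    rw [h1, Nat.totient_prime h.prime, Nat.add_sub_cancel] at i5
    exact i2 ((Nat.prime_dvd_prime_iff_eq i1 Nat.prime_two).1 (i1.dvd_of_dvd_pow i5))
  exact (deg_of_lin w (((Nat.coprime_primes hq hr).2 hqr).mul_dvd_of_dvd_of_dvd
    (ha ▸ h3 a (ha ▸ hq) (ha ▸ hq2) ha1) (hb ▸ h3 b (hb ▸ hr) (hb ▸ hr2) hb1))).of_map _ hπ

theorem count {I : Type*} [Finite I] (F : I → Subgroup V) (h : ∀ v : V, v ≠ 1 → ∃! i, v ∈ F i) {y : ℕ}
    (hy : ∀ i, Nat.card (F i) = y) : Nat.card I * (y - 1) = Nat.card V - 1 := by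
  classical
  have := Fintype.ofFinite I
  have := Fintype.ofFinite V
  have h1 : Finset.univ.erase (1 : V) = Finset.univ.biUnion fun i => (Finset.univ.filter (· ∈ F i)).erase 1 := by
    ext v
    simp only [Finset.mem_erase, Finset.mem_univ, and_true, Finset.mem_biUnion, Finset.mem_filter, true_and]
    exact ⟨fun hv => (h v hv).exists.imp fun i hi => ⟨hv, hi⟩, fun ⟨_, hi, _⟩ => hi⟩
  have h2 := congrArg Finset.card h1
  rw [Finset.card_erase_of_mem (Finset.mem_univ _), Finset.card_biUnion fun i _ j _ hij => Finset.disjoint_left.2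
    fun v hi hj => hij ((h v (Finset.mem_erase.1 hi).1).unique (Finset.mem_filter.1 (Finset.mem_erase.1 hi).2).2
      (Finset.mem_filter.1 (Finset.mem_erase.1 hj).2).2), Finset.sum_congr rfl (g := fun _ => y - 1) fun i _ => by
      rw [Finset.card_erase_of_mem (by simp), ← hy i, Nat.card_eq_fintype_card, Fintype.card_subtype],
    Finset.sum_const, smul_eq_mul, Finset.card_univ, Finset.card_univ] at h2
  rw [Nat.card_eq_fintype_card, Nat.card_eq_fintype_card, h2]

theorem card_Fx_conj (K : Subgroup H) (g : H) : Nat.card (Fx V (MulAut.conj g • K)) = Nat.card (Fx V K) := by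
  have key : ∀ (K : Subgroup H) (g : H), Nat.card (Fx V K) ≤ Nat.card (Fx V (MulAut.conj g • K)) := fun K g =>
    Nat.card_le_card_of_injective (fun v => ⟨g • (v : V), smul_mem_Fx v.2 g⟩) fun a b e =>
      Subtype.ext (smul_left_cancel g (congrArg Subtype.val e))
  refine le_antisymm ((key _ g⁻¹).trans_eq ?_) (key K g)
  rw [map_inv, inv_smul_smul]

variable (V) in
/-- Every nontrivial element is fixed by a unique Sylow subgroup of the quotient. -/
def NP {X : Type*} [Group X] (φ : H →* X) (x : ℕ) : Prop :=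
  ∀ v : V, v ≠ 1 → ∃! Q : Sylow x X, v ∈ Fx V ((Q : Subgroup X).comap φ)

theorem NP.count {X : Type*} [Group X] [Finite X] {φ : H →* X} (hφ : Function.Surjective φ) {x : ℕ} [Fact x.Prime]
    (h : NP V φ x) (Q : Sylow x X) :
    Nat.card (Sylow x X) * (Nat.card (Fx V ((Q : Subgroup X).comap φ)) - 1) = Nat.card V - 1 :=
  Palfy.count _ h fun R => by
    obtain ⟨g, rfl⟩ := MulAction.exists_smul_eq X Q R
    obtain ⟨g, rfl⟩ := hφ g
    rw [← card_Fx_conj ((Q : Subgroup X).comap φ) g, show ((φ g • Q : Sylow x X) : Subgroup X).comap φ =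
      MulAut.conj g • (Q : Subgroup X).comap φ from Subgroup.ext fun y => by
        rw [mem_comap, mem_conj_smul_iff, mem_comap, Sylow.coe_subgroup_smul, mem_conj_smul_iff, map_mul, map_mul,
          map_inv]]

theorem NP.im {X : Type*} [Group X] [Finite X] {φ : H →* X} (hφ : Function.Surjective φ) {x : ℕ} [Fact x.Prime]
    (h : NP V φ x) (hk : ∀ k ∈ φ.ker, ∀ v : V, k • v = v) : NP V (MonoidHom.id (Im H V)) x := fun v hv => by
  let ψ := φ.liftOfSurjective hφ ⟨Palfy.im V, fun k h1 => im_faith _ (hk k h1)⟩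
  have h1 : ∀ g, ψ (φ g) = Palfy.im V g := fun g => φ.liftOfRightInverse_comp_apply _ _ _ g
  have h2 : Function.Surjective ψ := fun y => by
    obtain ⟨g, rfl⟩ := im_surj y
    exact ⟨_, h1 g⟩
  obtain ⟨Q, h3, h4⟩ := h v hv
  refine ⟨Q.mapSurjective h2, ?_, fun R hR => ?_⟩
  · rintro _ ⟨y, hy, rfl⟩
    obtain ⟨g, rfl⟩ := hφ y
    rw [h1]
    exact h3 g hy
  · obtain ⟨R, rfl⟩ := Sylow.mapSurjective_surjective h2 x R
    rw [h4 R fun g hg => hR (Palfy.im V g) ⟨_, hg, h1 g⟩]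

variable (H V) in
/-- The unique Sylow condition for a prime divisor of the order. -/
structure Nx (x : ℕ) : Prop where
  prime : x.Prime
  np : NP V (MonoidHom.id H) x
  dvd : x ∣ Nat.card H

namespace Md

variable {s n x : ℕ} (h : Md H V s n)
include h

theorem core (k : Nx H V x) : pCore x H = ⊥ := (eq_bot_iff_forall _).2 fun y hy => h.faith y fun v => by
  have := Fact.mk k.prime
  by_cases hv : v = 1
  · rw [hv, smul_one]
  obtain ⟨Q, h1, -⟩ := k.np v hv
  exact h1 y (pCore_le_sylow Q hy)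

theorem elt (k : Nx H V x) (Q : Sylow x H) : ∃ a ∈ Q, orderOf a = x := by
  have := Fact.mk k.prime
  obtain ⟨a, ha⟩ := exists_prime_orderOf_dvd_card' x (Q.dvd_card_of_dvd_card k.dvd)
  exact ⟨a, a.2, (orderOf_coe a).trans ha⟩

theorem not_mem_center (k : Nx H V x) {a : H} (ha : orderOf a = x) : a ∉ center H := fun h1 => by
  have := Fact.mk k.prime
  have := normal_of_le_center' (zpowers_le.2 h1)
  exact k.prime.one_lt.ne (by rw [← ha, mem_bot.1 ((h.core k).le (le_pCore (IsPGroup.of_card (n := 1)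
    (by rw [Nat.card_zpowers, ha, pow_one])) (mem_zpowers a))), orderOf_one])

theorem sr (k : Nx H V x) (hx : x ≠ 2) {B : Subgroup H} [B.Normal] (hc : ∀ a ∈ B, ∀ b ∈ B, a * b = b * a) :
    SR V B := by
  classical
  have := Fact.mk k.prime
  have := Fintype.ofFinite (Om V B)
  intro b hb v hv
  by_contra! h1
  obtain ⟨K, hK⟩ := exists_om (V := V) (zpowers_le.2 hb) (ne_bot_iff_exists_ne_one.2
    ⟨⟨v, mem_Fx_zpowers.2 hv⟩, fun e => h1.2 (congrArg Subtype.val e)⟩)
  have key : ∀ K L : Om V B, K ≠ L → ∀ w ∈ Fx V K.1, ∀ z ∈ Fx V L.1, w ≠ 1 → z ≠ 1 →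
      ∃ Q : Sylow x H, w ∈ Fx V (Q : Subgroup H) ∧ z ∈ Fx V (Q : Subgroup H) := fun K L hKL w hw z hz w1 z1 => by
    let f : Om V B → V := Pi.mulSingle K w * Pi.mulSingle L z
    have f1 : f K = w := by simp [f, hKL]
    have f2 : f L = z := by simp [f, hKL.symm]
    have f3 : ∀ M, f M ∈ Fx V M.1 := fun M => mul_mem (by
      by_cases e : M = K
      · subst e; simpa using hw
      · simp [e]) (by
      by_cases e : M = L
      · subst e; simpa using hz
      · simp [e])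
    have f4 : ∀ M, f M ≠ 1 → M = K ∨ M = L := fun M hM => by
      by_contra! e
      exact hM (by simp [f, e.1, e.2])
    obtain ⟨Q, h2, -⟩ := k.np (∏ M, f M) fun e => w1 (f1 ▸ indep hc _ f f3 e K (Finset.mem_univ _))
    have h3 : ∀ a ∈ Q, ∀ M, a • f M = f (a • M) := fun a ha => uniq hc f3 (h2 a ha)
    have h4 : ∀ a ∈ Q, a • K = K ∧ a • L = L := fun a ha => by
      have i1 := f4 _ (h3 a ha K ▸ smul_ne_one (f1 ▸ w1) a)
      have i2 := f4 _ (h3 a ha L ▸ smul_ne_one (f2 ▸ z1) a)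
      have i3 : a • K ≠ a • L := fun e => hKL (smul_left_cancel a e)
      by_cases i4 : a • K = K
      · exact ⟨i4, i2.resolve_left fun e => i3 (i4.trans e.symm)⟩
      have i5 := i1.resolve_left i4
      have i6 := i2.resolve_right fun e => i3 (i5.trans e.symm)
      obtain ⟨m, hm⟩ := pow_eq_one_of_mem Q.isPGroup' ha
      obtain ⟨j, hj⟩ := (k.prime.odd_of_ne_two hx).pow (n := m)
      refine (i4 ?_).elim
      have i7 : (a ^ 2) ^ (j + 1) ∈ MulAction.stabilizer H K := pow_mem (show a ^ 2 • K = K by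
        rw [pow_two, mul_smul, i5, i6]) _
      rwa [← pow_mul, show 2 * (j + 1) = x ^ m + 1 by omega, pow_succ, hm, one_mul] at i7
    exact ⟨Q, fun a ha => by rw [← f1, h3 a ha, (h4 a ha).1], fun a ha => by rw [← f2, h3 a ha, (h4 a ha).2]⟩
  obtain ⟨g, hg⟩ : ∃ g : H, g • K ≠ K := by
    by_contra! h2
    have : K.1.Normal := ⟨fun y hy g => by
      have := congrArg Subtype.val (h2 g)
      rw [← this, coe_smul, mem_conj_smul_iff]
      simpa [mul_assoc] using hy⟩
    exact h1.1 (mem_bot.1 ((h.eq_bot_of_Fx K.2.1.2).le (hK (mem_zpowers b))))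
  obtain ⟨⟨w, hw⟩, w1⟩ := ne_bot_iff_exists_ne_one.1 K.2.1.2
  replace w1 : w ≠ 1 := fun e => w1 (Subtype.ext e)
  obtain ⟨Q, h2, h3⟩ := k.np w w1
  have h4 : ∀ y : H, y • K ≠ K → y • w ∈ Fx V (Q : Subgroup H) := fun y hy => by
    obtain ⟨R, h4, h5⟩ := key K _ hy.symm w hw _ (smul_mem_Fx hw y) w1 (smul_ne_one w1 y)
    exact h3 R h4 ▸ h5
  have h5 : ∀ y : H, y • w ∈ Fx V (Q : Subgroup H) := fun y => by
    by_cases hy : y • K = K
    · obtain ⟨R, h5, h6⟩ := key (y • K) (g • K) (hy.symm ▸ hg.symm) _ (smul_mem_Fx hw y) _ (smul_mem_Fx hw g)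
        (smul_ne_one w1 y) (smul_ne_one w1 g)
      exact (k.np _ (smul_ne_one w1 g)).unique h6 (h4 g hg) ▸ h5
    · exact h4 y hy
  have : (Q : Subgroup H).Normal := ⟨fun a ha y => by
    have := smul_mem_Fx (h5 y⁻¹) y
    rw [smul_inv_smul] at this
    have h6 : (y • Q : Sylow x H) = Q := h3 _ this
    change _ ∈ Q
    rw [← h6]
    exact smul_mem_pointwise_smul _ _ _ ha⟩
  obtain ⟨a, h6, h7⟩ := h.elt k Q
  exact k.prime.one_lt.ne (by rw [← h7, mem_bot.1 ((h.core k).le (le_pCore Q.isPGroup' h6)), orderOf_one])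

theorem cnt (k : Nx H V x) : ∃ b m, 0 < b ∧ b < n ∧ m ∣ Nat.card H ∧ m * (s ^ b - 1) = s ^ n - 1 := by
  have := Fact.mk k.prime
  obtain ⟨Q⟩ : Nonempty (Sylow x H) := inferInstance
  have h1 := k.np.count Function.surjective_id Q
  obtain ⟨b, hb, h2⟩ := (Nat.dvd_prime_pow h.prime).1 (h.card ▸ card_subgroup_dvd_card (Fx V (Q : Subgroup H)))
  rw [comap_id, h2, h.card] at h1
  refine ⟨b, _, Nat.pos_of_ne_zero ?_, hb.lt_of_ne ?_, Q.card_dvd_index.trans (index_dvd_card _), h1⟩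
  · rintro rfl
    have := Nat.one_lt_pow h.pos.ne' h.prime.one_lt
    rw [pow_zero, Nat.sub_self, mul_zero] at h1
    omega
  · rintro rfl
    obtain ⟨a, h3, h4⟩ := h.elt k Q
    obtain ⟨v, hv⟩ := h.moves (h4 ▸ k.prime)
    exact hv ((eq_top_of_card_eq _ (h2.trans h.card.symm)).ge (mem_top v) a h3)

theorem crit (k : Nx H V x) {a : H} (ha : orderOf a = x) {Cr : ∀ t : ℕ, t.Prime → Subgroup H}
    (hCr : ∀ t ht, Crit t (Cr t ht)) : ∃ (t : ℕ) (ht : t.Prime), t ≠ x ∧ a ∉ centralizer (Cr t ht : Set H) := by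
  obtain ⟨t, ht, h1, h2⟩ := exists_not_mem_centralizer h.solv k.prime ha (h.core k)
  exact ⟨t, ht, h1, mt ((hCr t ht).cent a (ha ▸ (Nat.coprime_primes k.prime ht).2 h1.symm)) h2⟩

omit h in
theorem _root_.CL.Char.Palfy.Crit.card {t : ℕ} (ht : t.Prime) {C : Subgroup H} (hC : Crit t C) {a : H}
    (ha : a ∉ centralizer (C : Set H)) :
    pCore t H ≠ ⊥ ∧ ∃ k, 0 < k ∧ Nat.card ↥(C ⊓ centralizer (C : Set H)) = t ^ k := by
  have := Fact.mk ht
  have := hC.normal
  have h1 : C ≠ ⊥ := fun e => ha (mem_centralizer_iff.2 fun y hy => by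
    rw [mem_bot.1 (e.le hy), one_mul, mul_one])
  have h2 := (pCore_isPGroup t H).to_le hC.le
  obtain ⟨k, hk⟩ := IsPGroup.iff_card.1 (h2.to_le (inf_le_left : C ⊓ centralizer (C : Set H) ≤ C))
  exact ⟨fun e => h1 (eq_bot_iff.2 (hC.le.trans e.le)), k, Nat.pos_of_ne_zero fun e =>
    inf_centralizer_ne_bot_of_isNilpotent h2.isNilpotent h1 (eq_bot_of_card_eq _ (by rw [hk, e, pow_zero])), hk⟩

theorem ml {q r : ℕ} (kq : Nx H V q) (kr : Nx H V r) (hqr : q ≠ r) : Deg H (q * r) := by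
  have := h.nontrivial
  have hsr : ∀ B : Subgroup H, B.Normal → (∀ a ∈ B, ∀ b ∈ B, a * b = b * a) → SR V B := fun B _ hc => by
    by_cases h2 : q = 2
    · exact h.sr kr (h2 ▸ hqr.symm) hc
    · exact h.sr kq h2 hc
  have hZ : ∀ {t C}, Crit t C → SR V (C ⊓ centralizer (C : Set H)) := fun {t C} hC =>
    have := hC.normal
    hsr _ inferInstance fun a ha b hb => mem_centralizer_iff.1 hb.2 a ha.1
  obtain ⟨v, hv⟩ := exists_ne (1 : V)
  obtain ⟨Q, hQ, -⟩ := kq.np v hv
  obtain ⟨R, hR, -⟩ := kr.np v hv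
  obtain ⟨a, a1, ha⟩ := h.elt kq Q
  obtain ⟨b, b1, hb⟩ := h.elt kr R
  have fin : ∀ C d g, L2 (H := H) C d g → Deg H (q * r) := fun C d g h1 => by
    have h2 : pCore 2 H ≠ ⊥ := fun e => h1.nm (mem_centralizer_iff.2 fun y hy => by
      rw [mem_bot.1 (e.le (h1.le hy)), one_mul, mul_one])
    exact h1.deg h.solv kq.prime kr.prime hqr (fun e => h2 (e ▸ h.core kq)) (fun e => h2 (e ▸ h.core kr)) ha hb
      (h.not_mem_center kq ha) (h.not_mem_center kr hb)
  obtain ⟨c, m, c1, c2, c3, c4⟩ := h.cnt kq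
  by_cases hex : ¬ (s = 2 ∧ n = 6) ∧ n ≠ 2
  · obtain ⟨u, u1, u2, u3⟩ := Cfsg.Agent.S2904.result s n h.prime.one_lt (by omega) hex.1 fun e => hex.2 e.1
    rcases h.zed ⟨u1, h.pos, u2, u3⟩ (((u1.dvd_mul.1 (c4 ▸ u2)).resolve_right (u3 c c1 c2)).trans c3) with
      ⟨U, hU, h1, h2⟩ | ⟨-, C, d, g, h1⟩
    · have := Fact.mk u1
      have := isCyclic_of_prime_card h1
      exact deg_of_cyclic (B := U) kq.prime kr.prime hqr ha hb
        (fun e => (h2 a e v (hQ a a1)).elim (fun e => kq.prime.one_lt.ne (by rw [← ha, e, orderOf_one])) hv)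
        (fun e => (h2 b e v (hR b b1)).elim (fun e => kr.prime.one_lt.ne (by rw [← hb, e, orderOf_one])) hv)
    · exact fin C d g h1
  choose Cr hCr using exists_crit (H := H)
  obtain ⟨t, ht, t1, t2⟩ := h.crit kq ha hCr
  obtain ⟨z, hz, z1, z2⟩ := h.crit kr hb hCr
  have hA : ∀ {x t : ℕ} {a : H} {C : Subgroup H}, x.Prime → t.Prime → t ≠ x → orderOf a = x → Crit t C →
      a ∉ centralizer (C : Set H) → a ∈ centralizer (C ⊓ centralizer (C : Set H) : Subgroup H) →
      Deg H (q * r) ∨ (s = 2 ∧ n = 6 ∧ x = 2 ∧ pCore 3 H ≠ ⊥) := fun {x t a C} hx ht htx ha hC h1 h2 => by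
    have := hC.normal
    have := Fact.mk ht
    obtain ⟨i, j, i1, i2, -, i3, i4⟩ := h.wstep ht hx htx ((pCore_isPGroup t H).to_le hC.le) hC.comm (hZ hC) ha
      (fun z hz => mem_centralizer_singleton_iff.2 (mem_centralizer_iff.1 h2 z hz)) h1
    have i5 : t ≤ t ^ i := Nat.le_self_pow (by omega) t
    have i6 := ht.two_le
    by_cases hn : n = 2
    · obtain rfl : t = 2 := by omega
      have i7 : i < 2 := (Nat.pow_lt_pow_iff_right one_lt_two).1 (by omega)
      obtain rfl : j = 1 := by omega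
      obtain ⟨-, d, h3⟩ := h.l2 hC (hZ hC) ht hx htx (by have := hx.two_le; omega) ha h2 h1
      exact Or.inl (fin C d a h3)
    obtain ⟨rfl, rfl⟩ : s = 2 ∧ n = 6 := by tauto
    obtain ⟨i7, k, i8, i9⟩ := hC.card ht h1
    have i10 := (hZ hC).dvd ht (i9 ▸ dvd_pow_self t i8.ne')
    rw [h.card] at i10
    obtain rfl : t = 3 := by
      have : t ≤ 6 := by omega
      interval_cases t <;> first | rfl | omega
    have i11 : i < 2 := (Nat.pow_lt_pow_iff_right (show 1 < 3 by omega)).1 (by omega)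
    obtain rfl : j = 1 := by omega
    exact Or.inr ⟨rfl, rfl, (Nat.prime_dvd_prime_iff_eq hx Nat.prime_two).1 (hx.dvd_of_dvd_pow (n := 3) i3), i7⟩
  have hB : ∀ {x t : ℕ} {a : H} {C : Subgroup H}, Nx H V x → t.Prime → t ≠ x → orderOf a = x → Crit t C →
      a ∉ centralizer (C : Set H) → s = 2 → n = 6 → x ≠ 2 → pCore 3 H ≠ ⊥ → Deg H (q * r) := by
    rintro x t a C hx ht htx ha hC h1 rfl rfl h2 h3
    by_cases h4 : a ∈ centralizer (C ⊓ centralizer (C : Set H) : Subgroup H)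
    · exact (hA hx.prime ht htx ha hC h1 h4).resolve_right fun e => h2 e.2.2.1
    have := hC.normal
    have := (hZ hC).isCyclic fun a ha b hb => mem_centralizer_iff.1 hb.2 a ha.1
    obtain ⟨-, k, i1, i2⟩ := hC.card ht h1
    have i3 := (hZ hC).dvd ht (i2 ▸ dvd_pow_self t i1.ne')
    have i4 := dvd_totient hx.prime ha h4
    rw [i2, Nat.totient_prime_pow ht i1] at i4
    have i5 := (hx.prime.dvd_mul.1 i4).resolve_left fun e =>
      htx ((Nat.prime_dvd_prime_iff_eq hx.prime ht).1 (hx.prime.dvd_of_dvd_pow e)).symm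
    rw [h.card, show 2 ^ 6 - 1 = 3 ^ 2 * 7 by rfl] at i3
    have i6 : x ∣ 2 * 3 := (ht.dvd_mul.1 i3).elim (fun e => by
      rw [(Nat.prime_dvd_prime_iff_eq ht Nat.prime_three).1 (ht.dvd_of_dvd_pow e)] at i5
      exact i5.mul_right 3) fun e => by
      rwa [(Nat.prime_dvd_prime_iff_eq ht (by norm_num)).1 e] at i5
    exact (h3 ((Nat.prime_dvd_prime_iff_eq hx.prime Nat.prime_three).1 ((hx.prime.dvd_mul.1 i6).resolve_left
      (mt (Nat.prime_dvd_prime_iff_eq hx.prime Nat.prime_two).1 h2)) ▸ h.core hx)).elim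
  by_cases h1 : a ∈ centralizer (Cr t ht ⊓ centralizer (Cr t ht : Set H) : Subgroup H)
  · exact (hA kq.prime ht t1 ha (hCr t ht) t2 h1).elim id fun e =>
      hB kr hz z1 hb (hCr z hz) z2 e.1 e.2.1 (e.2.2.1 ▸ hqr.symm) e.2.2.2
  by_cases h2 : b ∈ centralizer (Cr z hz ⊓ centralizer (Cr z hz : Set H) : Subgroup H)
  · exact (hA kr.prime hz z1 hb (hCr z hz) z2 h2).elim id fun e =>
      hB kq ht t1 ha (hCr t ht) t2 e.1 e.2.1 (e.2.2.1 ▸ hqr) e.2.2.2
  have := (hCr t ht).normal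
  have := (hCr z hz).normal
  set Y := Cr t ht ⊓ centralizer (Cr t ht : Set H)
  set Z := Cr z hz ⊓ centralizer (Cr z hz : Set H)
  have h3 : ∀ a ∈ Y, ∀ b ∈ Z, a * b = b * a := fun a ha b hb => by
    by_cases e : t = z
    · subst e
      exact mem_centralizer_iff.1 hb.2 a ha.1
    have := Fact.mk ht
    have := Fact.mk hz
    exact commute_of_normal_of_disjoint _ _ inferInstance inferInstance (IsPGroup.disjoint_of_ne t z e _ _
      (pCore_isPGroup t H) (pCore_isPGroup z H)) a b ((hCr t ht).le ha.1) ((hCr z hz).le hb.1)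
  have h4 : ∀ a ∈ Y ⊔ Z, ∀ b ∈ Y ⊔ Z, a * b = b * a := fun a ha b hb => by
    obtain ⟨a, a1, a', a2, rfl⟩ := mem_sup_of_normal_left.1 ha
    obtain ⟨b, b1, b', b2, rfl⟩ := mem_sup_of_normal_left.1 hb
    exact (((show Commute a b from mem_centralizer_iff.1 b1.2 a a1.1).mul_right (h3 a a1 b' b2)).mul_left
      ((show Commute a' b from (h3 b b1 a' a2).symm).mul_right (mem_centralizer_iff.1 b2.2 a' a2.1))).eq
  have := (hsr _ inferInstance h4).isCyclic h4
  exact deg_of_cyclic (B := Y ⊔ Z) kq.prime kr.prime hqr ha hb (mt (centralizer_le (le_sup_left : Y ≤ Y ⊔ Z) ·) h1)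
    (mt (centralizer_le (le_sup_right : Z ≤ Y ⊔ Z) ·) h2)

end Md

end CL.Char.Palfy
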