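/-
Gallagher–Ito consequences for the character degree graph of a solvable group.
-/
import Cfsg.Agent.Char.Palfy3
import Cfsg.Agent.Char.GlaubSolv
import Cfsg.Agent.Char.DegThompson
import Cfsg.Agent.Fgs.ClassBasic
import Cfsg.Agent.Loc.PSolv

set_option autoImplicit false
set_option linter.unusedSectionVars false

open scoped Pointwise commutatorElement
open Cfsg CL.Grp Subgroup CL.Char.VanOrd CL.Grp.Homog CL.Char.RelDeg

namespace CL.Char.Palfy

theorem num_le {p m a b c d : ℕ} (hp : 1 < p) (hab : b < a) (h1 : m * (p ^ b - 1) = p ^ a - 1)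
    (h2 : m * (p ^ d - 1) = p ^ c - 1) : c ≤ a := by
  by_contra! h
  have i0 : ∀ k, 1 ≤ p ^ k := fun k => Nat.one_le_pow _ _ (by omega)
  have i1 : p ^ a < p ^ c := Nat.pow_lt_pow_right hp h
  have i2 : b < d := by
    by_contra! h3
    have := Nat.mul_le_mul_left m (Nat.sub_le_sub_right (Nat.pow_le_pow_right (show 0 < p by omega) h3) 1)
    have := i0 a
    omega
  zify [i0] at h1 h2
  obtain ⟨x, hx⟩ := pow_dvd_pow (p : ℤ) (show b + 1 ≤ a by omega)
  obtain ⟨y, hy⟩ := pow_dvd_pow (p : ℤ) (show b + 1 ≤ c by omega)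
  obtain ⟨z, hz⟩ := pow_dvd_pow (p : ℤ) (show b + 1 ≤ d by omega)
  have i3 : (p : ℤ) ^ (b + 1) ∣ p ^ b := ⟨x - (m * z - y) * (p ^ b - 1), by
    rw [hx] at h1
    rw [hy, hz] at h2
    linear_combination h1 + (p ^ b - 1) * h2⟩
  have := Nat.le_of_dvd (i0 b) (by exact_mod_cast i3 : p ^ (b + 1) ∣ p ^ b)
  have : p ^ b < p ^ (b + 1) := Nat.pow_lt_pow_right hp (Nat.lt_succ_self b)
  omega

variable {G : Type*} [Group G] [Finite G]

theorem not_deg_of_abelian {B : Subgroup G} [B.Normal] (hc : ∀ a ∈ B, ∀ b ∈ B, a * b = b * a) {x : ℕ}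
    (h : ¬ x ∣ B.index) : ¬ Deg G x := fun ⟨_, h1, h2⟩ =>
  h (h2.trans (isIrr_degree_dvd_index_of_abelian_normal h1 h1.cast_charDegree.symm B hc))

theorem exists_sylow_comap_le {X : Type*} [Group X] [Finite X] {φ : G →* X} (hφ : Function.Surjective φ)
    {T : Subgroup G} (hT : φ.ker ≤ T) {x : ℕ} [Fact x.Prime] (h : ¬ x ∣ T.index) :
    ∃ Q : Sylow x X, (Q : Subgroup X).comap φ ≤ T := by
  obtain ⟨Q, hQ⟩ := CL.Fgs.exists_sylow_le_of_not_dvd_index (H := T.map φ) (by rwa [index_map_eq _ hφ hT])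
  exact ⟨Q, (comap_mono hQ).trans (comap_map_eq_self hT).le⟩

theorem gall (hs : Group.IsSolvable G) {X : Type*} [Group X] [Finite X] {φ : G →* X} (hφ : Function.Surjective φ)
    {N T : Subgroup G} [N.Normal] [Fintype N] {θ : N → ℂ} (hθ : IsIrrCharacter N θ) (hT : T = inertia N θ)
    (hN : N ≤ φ.ker) (hK : φ.ker ≤ T) {ψ : T → ℂ} (hψ : IsIrrCharacter T ψ)
    (h1 : IsIrrCharacter (φ.ker.subgroupOf T) fun k => ψ k)
    (h2 : classInner (fun n : N => ψ ⟨n, hK (hN n.2)⟩) θ ≠ 0) {x y : ℕ} [hx : Fact x.Prime] (hxy : x.Coprime y)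
    (hy : y ∣ T.index * charDegree ψ) (hd : ¬ Deg G (x * y)) :
    (∃! Q : Sylow x X, (Q : Subgroup X).comap φ ≤ T) ∧ ∀ Q : Sylow x X, ∀ a ∈ Q, ∀ b ∈ Q, a * b = b * a := by
  have := Fintype.ofFinite G
  have := Fintype.ofFinite T
  have key : ∀ β, IsIrrCharacter (T.map φ) β → ¬ x ∣ T.index * charDegree β := fun β hβ h3 => by
    have h4 := (isIrrCharacter_comp_iff hβ.isCharacter (φ.subgroupMap T) (φ.subgroupMap_surjective T)).2 hβ
    have h5 : ∀ k : T, (k : G) ∈ φ.ker → φ.subgroupMap T k = 1 := fun k hk => Subtype.ext hk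
    have h6 := gallagher_irr hψ.isCharacter h1 h4 fun k hk => h4.isCharacter.mem_charKer.2 (by
      rw [h5 k hk, map_one])
    have h7 := (clifford_corr_inertia hθ hT (hN.trans hK) h6 (by
      rw [show (fun n : N => ((fun g => β (φ.subgroupMap T g)) * ψ) ⟨n, hK (hN n.2)⟩) =
        β 1 • fun n : N => ψ ⟨n, hK (hN n.2)⟩ from funext fun n => by
          rw [Pi.mul_apply, h5 _ (hN n.2)]; rfl, classInner_smul_left]
      exact mul_ne_zero hβ.one_ne_zero h2)).1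
    refine hd ⟨_, h7, ?_⟩
    rw [charDegree_indFun h6.isCharacter, charDegree_mul h4.isCharacter hψ.isCharacter,
      show charDegree (fun g => β (φ.subgroupMap T g)) = charDegree β from
        charDegree_eq_of_eq (by rw [map_one, hβ.cast_charDegree])]
    exact hxy.mul_dvd_of_dvd_of_dvd (by rw [← mul_assoc]; exact h3.mul_right _)
      (by rw [mul_left_comm]; exact hy.mul_left _)
  have := Group.isSolvable_of_surjective hφ
  obtain ⟨Q, hQ⟩ := exists_sylow_comap_le hφ hK fun e => key _ isIrrCharacter_one (e.mul_right _)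
  have h3 : ∀ R : Sylow x X, (R : Subgroup X).comap φ ≤ T → (R : Subgroup X) ≤ T.map φ := fun R hR =>
    (map_comap_eq_self_of_surjective hφ _).ge.trans (map_mono hR)
  obtain ⟨h4, h5⟩ := (ito_normal_abelian_sylow_iff (CL.Loc.isPSolvable_of_isSolvable inferInstance)
    (Q.subtype (h3 Q hQ))).2 fun β hβ e => key β hβ (e.mul_left _)
  have := Sylow.unique_of_normal _ h4
  refine ⟨⟨Q, hQ, fun R hR => Sylow.subtype_injective (hP := h3 R hR) (hQ := h3 Q hQ) (Subsingleton.elim _ _)⟩,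
    fun R a ha b hb => ?_⟩
  obtain ⟨g, rfl⟩ := MulAction.exists_smul_eq X Q R
  obtain ⟨a, ha, rfl⟩ := ha
  obtain ⟨b, hb, rfl⟩ := hb
  have h6 : a * b = b * a := congrArg Subtype.val (h5 ⟨a, h3 Q hQ ha⟩ ha ⟨b, h3 Q hQ hb⟩ hb)
  exact ((show Commute a b from h6).map (MulAut.conj g)).eq

theorem ext_hall (hs : Group.IsSolvable G) {N P T : Subgroup G} [N.Normal] [P.Normal] [Fintype N] {θ : N → ℂ}
    (hθ : IsIrrCharacter N θ) (hT : T ≤ inertia N θ) (hNP : N ≤ P) (hPT : P ≤ T)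
    (hc : (Nat.card P).Coprime P.index) : ∃ ψ : T → ℂ, IsIrrCharacter T ψ ∧
      IsIrrCharacter (P.subgroupOf T) (fun k => ψ k) ∧ classInner (fun n : N => ψ ⟨n, hPT (hNP n.2)⟩) θ ≠ 0 := by
  have := Fintype.ofFinite (N.subgroupOf P)
  have e := Nat.card_congr (subgroupOfEquivOfLe hPT).toEquiv
  have hc' : (Nat.card (P.subgroupOf T)).Coprime (P.subgroupOf T).index :=
    e ▸ hc.coprime_dvd_right (relIndex_dvd_index_of_le hPT)
  obtain ⟨A, hA⟩ := exists_right_complement'_of_coprime hc'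
  obtain ⟨χ, h1, h2, h3⟩ := gl_exists_inv_over (A := A) (by rw [← hA.symm.index_eq_card, ← e]; exact hc'.symm)
    ((MulAut.conjNormal : G →* MulAut P).comp (T.subtype.comp A.subtype)) (N.subgroupOf P)
    (fun a n hn => ‹N.Normal›.conj_mem _ hn _) (isIrrCharacter_subgroupOf hNP hθ) fun a n => hT a.1.2 ⟨_, n.2⟩
  have h4 : T ≤ inertia P χ := fun t ht => by
    obtain ⟨⟨a, b⟩, h4⟩ := (hA.existsUnique ⟨t, ht⟩).exists
    rw [← show ((a : T) : G) * (b : T) = t from congrArg Subtype.val h4]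
    exact mul_mem (le_inertia h1.isCharacter.isClassFunction a.2) (h2 ⟨_, b.2⟩)
  have h5 := isIrrCharacter_subgroupOf hPT h1
  obtain ⟨ψ, h6, h7⟩ := exists_extension_of_hall h5 (fun g n => h4 g.2 ⟨_, n.2⟩) h5.cast_charDegree.symm
    h5.charDegree_dvd_card hc'
  refine ⟨ψ, h6, funext h7 ▸ h5, ?_⟩
  rw [← classInner_subgroupOf hNP]
  exact funext (fun n : N.subgroupOf P => h7 ⟨⟨n, hPT n.1.2⟩, n.1.2⟩) ▸ h3

theorem lin_smul_of_mem {N : Subgroup G} [N.Normal] {g : G} (hg : g ∈ N ⊔ centralizer (N : Set G)) (l : Lin N) :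
    g • l = l := by
  change g ∈ MulAction.stabilizer G l
  rw [← inertia_lin]
  exact sup_le (le_inertia fun x y => by simp [tw, mul_comm]) (centralizer_le_inertia _) hg

theorem ext_split {N H : Subgroup G} [hN : N.Normal] (hc : N.IsComplement' H) (l : Lin N) :
    ∃ μ : MulAction.stabilizer G l →* ℂˣ, ∀ (n : N) (hn : (n : G) ∈ MulAction.stabilizer G l),
      μ ⟨n, hn⟩ = l.h n := by
  choose f hf hu using hc.existsUnique
  have h1 : ∀ g ∈ MulAction.stabilizer G l, ∀ n : N, l.h (MulAut.conjNormal g n) = l.h n := fun g hg n => by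
    rw [← inv_inv g, ← smul_h, MulAction.mem_stabilizer_iff.1 (inv_mem hg)]
  refine ⟨MonoidHom.mk' (fun t => l.h ⟨(f t).1, (f t).1.2⟩) fun a b => ?_, fun n hn => ?_⟩
  · have h2 : ((f a).2 : G) ∈ MulAction.stabilizer G l := by
      rw [← inv_mul_cancel_left ((f a).1 : G) (f a).2, hf a]
      exact mul_mem (inv_mem (lin_smul_of_mem (mem_sup_left (f a).1.2) l)) a.2
    rw [← h1 _ h2 ⟨(f b).1, (f b).1.2⟩, ← map_mul]
    have h3 := hu (a * b : G) (⟨(f a).1 * ((f a).2 * (f b).1 * ((f a).2 : G)⁻¹),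
      mul_mem (f a).1.2 (hN.conj_mem _ (f b).1.2 _)⟩, ⟨(f a).2 * (f b).2, mul_mem (f a).2.2 (f b).2.2⟩) (by
        refine Eq.trans ?_ (congrArg₂ (· * ·) (hf a) (hf b))
        simp only [mul_assoc, inv_mul_cancel_left])
    exact congrArg l.h (Subtype.ext (congrArg (fun y => (y.1 : G)) h3).symm)
  · change l.h ⟨(f n).1, (f n).1.2⟩ = _
    rw [← hu (n : G) (⟨n, n.2⟩, ⟨1, one_mem H⟩) (mul_one _)]

theorem lin_irr {N : Subgroup G} [N.Normal] (h : IsMinNormal N) (W : Subgroup (Lin N))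
    (hW : ∀ a : G, ∀ v ∈ W, a • v ∈ W) : W = ⊥ ∨ W = ⊤ := by
  have := Fintype.ofFinite G
  have := Fintype.ofFinite N
  let A : Subgroup G := (⨅ l ∈ W, (Lin.h l).ker).map N.subtype
  have : A.Normal := ⟨by
    rintro _ ⟨x, hx, rfl⟩ g
    refine ⟨MulAut.conjNormal g x, mem_iInf.2 fun l => mem_iInf.2 fun hl => ?_, rfl⟩
    have := mem_iInf.1 (mem_iInf.1 hx _) (hW g⁻¹ l hl)
    rwa [MonoidHom.mem_ker, smul_h, inv_inv] at this⟩
  by_cases h1 : A = ⊥
  · refine Or.inr (eq_top_iff.2 fun l _ => ?_)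
    obtain ⟨m, hm, h2⟩ := mem_of_ker W (irr_lin l) fun x hx => by
      rw [show x = 1 from Subtype.ext (mem_bot.1 (h1.le ⟨x, mem_iInf.2 fun l => mem_iInf.2 (hx l), rfl⟩))]
    exact (Lin.ext fun n => by simpa [tw] using congrFun h2 n : l = m) ▸ hm
  · refine Or.inl ((eq_bot_iff_forall _).2 fun l hl => Lin.ext fun n => ?_)
    obtain ⟨x, hx, h2⟩ := (h.eq_of_le h1 (map_subtype_le _)).ge n.2
    rw [← show x = n from Subtype.ext h2, mem_iInf.1 (mem_iInf.1 hx _) hl]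
    rfl

variable {V X : Type*} [CommGroup V] [Finite V] [MulDistribMulAction G V] [Group X] [Finite X] {φ : G →* X}

theorem NP.triv {x : ℕ} [hx : Fact x.Prime] (hk : ∀ k ∈ φ.ker, ∀ v : V, k • v = v) (h : ¬ x ∣ Nat.card (Im G V))
    (Q : Sylow x X) : Fx V ((Q : Subgroup X).comap φ) = ⊤ := eq_top_iff.2 fun v _ y hy => by
  obtain ⟨k, h1⟩ := pow_eq_one_of_mem Q.isPGroup' hy
  have h2 : Palfy.im V y ^ x ^ k = 1 := map_pow (Palfy.im V) y _ ▸ im_faith _ (hk _ ((map_pow φ y _).trans h1))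
  rw [← im_smul, orderOf_eq_one_iff.1 (Nat.eq_one_of_dvd_coprimes ((hx.out.coprime_iff_not_dvd.2 h).pow_left k)
    (orderOf_dvd_of_pow_eq_one h2) (orderOf_dvd_natCard _)), one_smul]

theorem NP.normal [Nontrivial V] {x : ℕ} [Fact x.Prime] (h : NP V φ x) (hk : ∀ k ∈ φ.ker, ∀ v : V, k • v = v)
    (hd : ¬ x ∣ Nat.card (Im G V)) : Subsingleton (Sylow x X) := ⟨fun Q R => by
  obtain ⟨v, hv⟩ := exists_ne (1 : V)
  exact (h v hv).unique ((NP.triv hk hd Q).ge (mem_top v)) ((NP.triv hk hd R).ge (mem_top v))⟩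

theorem ml_lin (hs : Group.IsSolvable G) {N : Subgroup G} [N.Normal] (h : IsMinNormal N) (hφ : Function.Surjective φ)
    (hk : ∀ k ∈ φ.ker, ∀ v : Lin N, k • v = v) {q r : ℕ} [hq : Fact q.Prime] [hr : Fact r.Prime] (hqr : q ≠ r)
    (h1 : NP (Lin N) φ q) (h2 : NP (Lin N) φ r) (h3 : q ∣ Nat.card (Im G (Lin N)))
    (h4 : r ∣ Nat.card (Im G (Lin N))) : Deg G (q * r) := by
  obtain ⟨s, n, hs, hn, hc⟩ := h.exists_card_eq_pow inferInstance
  have := h.isMulCommutative_of_isSolvable inferInstance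
  have hm : Md (Im G (Lin N)) (Lin N) s n := ⟨Group.isSolvable_of_surjective im_surj, im_faith, fun W hW =>
    lin_irr h W fun a => hW (Palfy.im _ a), hs, (card_lin fun a ha b hb => setLike_mul_comm ha hb).trans hc, hn⟩
  exact (hm.ml ⟨hq.out, h1.im hφ hk, h3⟩ ⟨hr.out, h2.im hφ hk, h4⟩ hqr).of_map _ im_surj

end CL.Char.Palfy
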