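/-
A tower of two Frobenius quotients: the group theoretic core of the theorem on solvable groups without divisibility
among the nonlinear character degrees.
-/
import Cfsg.Agent.Char.Palfy4

set_option autoImplicit false
set_option linter.unusedSectionVars false

open scoped commutatorElement
open Cfsg CL.Grp Subgroup CL.Grp.Homog CL.Char.RelDeg CL.Char.Palfy

namespace CL.Char.NDiv

variable {G : Type*} [Group G]

theorem mem_of_cop {H : Subgroup G} {a : G} {m n : ℕ} (h : m.Coprime n) (hm : a ^ m ∈ H) (hn : a ^ n ∈ H) :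
    a ∈ H := by
  have h1 := mul_mem (zpow_mem hm (Nat.gcdA m n)) (zpow_mem hn (Nat.gcdB m n))
  rwa [← zpow_natCast, ← zpow_natCast, ← zpow_mul, ← zpow_mul, ← zpow_add, ← Nat.gcd_eq_gcd_ab, h.gcd_eq_one,
    Nat.cast_one, zpow_one] at h1

section Act

variable {V : Type*} [CommGroup V] [MulDistribMulAction G V]

theorem inv_fix {g : G} {v : V} (h : g • v = v) : g⁻¹ • v = v := inv_smul_eq_iff.2 h.symm

/-- The action of a subgroup on an invariant subgroup. -/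
@[reducible] def actS (E : Subgroup G) (Y : Subgroup V) (hY : ∀ e ∈ E, ∀ v ∈ Y, e • v ∈ Y) :
    MulDistribMulAction E Y where
  smul g l := ⟨g.1 • l.1, hY g g.2 _ l.2⟩
  one_smul l := Subtype.ext (one_smul G l.1)
  mul_smul g h l := Subtype.ext (mul_smul g.1 h.1 l.1)
  smul_mul _ _ _ := Subtype.ext (smul_mul' _ _ _)
  smul_one _ := Subtype.ext (smul_one _)

theorem exists_fix [Finite G] [Finite V] {E : Subgroup G} {Y : Subgroup V} (hY : ∀ e ∈ E, ∀ v ∈ Y, e • v ∈ Y) {y : G}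
    (hy : y ∈ E) {q k : ℕ} (hq : q.Prime) (h1 : orderOf y = q ^ k) (hd : q ∣ Nat.card Y) :
    ∃ v ∈ Y, v ≠ 1 ∧ y • v = v := by
  let := actS E Y hY
  have := Fact.mk hq
  obtain ⟨v, a, b⟩ := (IsPGroup.of_card (G := zpowers (⟨y, hy⟩ : E)) (n := k)
    (by rw [Nat.card_zpowers, ← h1, ← orderOf_coe])).exists_fixed_point_of_prime_dvd_card_of_fixed_point Y hd
    (a := 1) fun g => smul_one g.1
  exact ⟨v, v.2, fun e => b (Subtype.ext e.symm), congrArg Subtype.val (a ⟨_, mem_zpowers _⟩)⟩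

theorem exists_gen [Finite G] [Finite V] {E : Subgroup G} {Y : Subgroup V} (hY : ∀ e ∈ E, ∀ v ∈ Y, e • v ∈ Y)
    (h0 : ∃ v ∈ Y, v ≠ 1) (hc : ∀ a ∈ E, ∀ b ∈ E, ∀ v ∈ Y, a • b • v = b • a • v)
    (hs : ∀ a ∈ E, ∀ v ∈ Y, v ≠ 1 → a • v = v → ∀ w ∈ Y, a • w = w) :
    ∃ a ∈ E, ∀ b ∈ E, ∃ k : ℤ, ∀ w ∈ Y, ((a ^ k)⁻¹ * b) • w = w := by
  let := actS E Y hY
  obtain ⟨v, v1, v2⟩ := h0
  have : Nontrivial Y := ⟨⟨⟨v, v1⟩, 1, fun e => v2 (congrArg Subtype.val e)⟩⟩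
  have := SR.isCyclic (V := Y) (B := (⊤ : Subgroup (Im E Y))) (fun b _ w e => or_iff_not_imp_right.2 fun w1 => by
    obtain ⟨b, rfl⟩ := im_surj b
    exact im_faith _ fun u => Subtype.ext (hs b b.2 w w.2 (fun e => w1 (Subtype.ext e)) (congrArg Subtype.val e) u u.2))
    fun a _ b _ => by
      obtain ⟨a, rfl⟩ := im_surj a
      obtain ⟨b, rfl⟩ := im_surj b
      exact Subtype.ext (MulEquiv.ext fun u => Subtype.ext (hc a a.2 b b.2 u u.2))
  obtain ⟨⟨a, a0⟩, ha⟩ := IsCyclic.exists_generator (α := (⊤ : Subgroup (Im E Y)))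
  obtain ⟨a, rfl⟩ := im_surj a
  refine ⟨a, a.2, fun b hb => ?_⟩
  obtain ⟨k, hk⟩ := ha ⟨im Y ⟨b, hb⟩, trivial⟩
  have e : im Y ((a ^ k)⁻¹ * ⟨b, hb⟩) = 1 := by
    rw [map_mul, map_inv, map_zpow, inv_mul_eq_one]; exact congrArg Subtype.val hk
  exact ⟨k, fun w hw => congrArg Subtype.val ((im_smul _ (⟨w, hw⟩ : Y)).symm.trans (by rw [e, one_smul]))⟩

end Act

section Ev

variable {D : Subgroup G} {z z' : Lin D} {a b w x y g : G}

open Classical in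
/-- The value of a linear character, extended by one. -/
noncomputable def ev (z : Lin D) (w : G) : ℂˣ := if h : w ∈ D then z.h ⟨w, h⟩ else 1

theorem ev_of (z : Lin D) (h : w ∈ D) : ev z w = z.h ⟨w, h⟩ := dif_pos h

theorem ev_coe (z : Lin D) (w : D) : ev z w = z.h w := dif_pos w.2

theorem ev_mul (z : Lin D) (ha : a ∈ D) (hb : b ∈ D) : ev z (a * b) = ev z a * ev z b := by
  rw [ev_of z ha, ev_of z hb, ev_of z (mul_mem ha hb), ← map_mul]; rfl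

theorem ev_inv (z : Lin D) (ha : a ∈ D) : ev z a⁻¹ = (ev z a)⁻¹ := by
  rw [ev_of z ha, ev_of z (inv_mem ha), ← map_inv]; rfl

theorem ev_zpow (z : Lin D) (ha : a ∈ D) (i : ℤ) : ev z (a ^ i) = ev z a ^ i := by
  rw [ev_of z ha, ev_of z (zpow_mem ha i), ← map_zpow]; rfl

theorem ev_one (z : Lin D) : ev z 1 = 1 := by rw [ev_of z (one_mem D)]; exact map_one z.h

theorem ev_lmul (z z' : Lin D) (w : G) : ev (z * z') w = ev z w * ev z' w := by
  unfold ev; split_ifs <;> simp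

theorem ev_lone (w : G) : ev (1 : Lin D) w = 1 := by unfold ev; split_ifs <;> simp

/-- Evaluation at a point. -/
noncomputable def evh (D : Subgroup G) (w : G) : Lin D →* ℂˣ := MonoidHom.mk' (fun z => ev z w) fun a b => ev_lmul a b w

theorem ev_lpow (z : Lin D) (k : ℕ) (w : G) : ev (z ^ k) w = ev z w ^ k := map_pow (evh D w) z k

theorem ev_ldiv (z z' : Lin D) (w : G) : ev (z / z') w = ev z w / ev z' w := map_div (evh D w) z z'

theorem lin_one (h : ∀ w ∈ D, ev z w = 1) : z = 1 :=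
  Lin.ext fun n => by rw [← ev_coe, h n n.2]; rfl

variable [hD : D.Normal]

theorem ev_smul (g : G) (z : Lin D) (w : G) : ev (g • z) w = ev z (g⁻¹ * w * g) := by
  by_cases h : w ∈ D
  · rw [ev_of _ h, ev_of _ (hD.conj_mem' w h g)]
    exact congrArg z.h (Subtype.ext (by simp))
  · rw [ev, ev, dif_neg h, dif_neg fun h1 => h (by simpa [mul_assoc] using hD.conj_mem _ h1 g)]

theorem ev_conj (h : g • z = z) (w : G) : ev z (g * w * g⁻¹) = ev z w := by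
  conv_rhs => rw [← inv_fix h, ev_smul, inv_inv]

variable [Finite G]

theorem smul_of_mem (hg : g ∈ D) (z : Lin D) : g • z = z := lin_smul_of_mem (mem_sup_left hg) z

theorem comm_smul (h : ⁅a, b⁆ ∈ D) (z : Lin D) : a • b • z = b • a • z := by
  rw [← mul_smul, ← mul_smul, show a * b = ⁅a, b⁆ * (b * a) by simp [commutatorElement_def], mul_smul,
    smul_of_mem h]

theorem b_D (hx : x • z = z) (ha : a ∈ D) : ev z ⁅x, a⁆ = 1 := by
  rw [commutatorElement_def, ev_mul z (hD.conj_mem a ha x) (inv_mem ha), ev_conj hx, ev_inv z ha, mul_inv_cancel]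

theorem b_symm (h : ⁅x, y⁆ ∈ D) : ev z ⁅y, x⁆ = (ev z ⁅x, y⁆)⁻¹ := by rw [← ev_inv z h, commutatorElement_inv]

theorem b_right (hy : a • z = z) (h1 : ⁅x, a⁆ ∈ D) (h2 : ⁅x, b⁆ ∈ D) :
    ev z ⁅x, a * b⁆ = ev z ⁅x, a⁆ * ev z ⁅x, b⁆ := by
  rw [show ⁅x, a * b⁆ = ⁅x, a⁆ * (a * ⁅x, b⁆ * a⁻¹) by simp [commutatorElement_def, mul_assoc],
    ev_mul z h1 (hD.conj_mem _ h2 a), ev_conj hy]

theorem b_left (hy : a • z = z) (h1 : ⁅a, x⁆ ∈ D) (h2 : ⁅b, x⁆ ∈ D) :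
    ev z ⁅a * b, x⁆ = ev z ⁅a, x⁆ * ev z ⁅b, x⁆ := by
  rw [show ⁅a * b, x⁆ = a * ⁅b, x⁆ * a⁻¹ * ⁅a, x⁆ by simp [commutatorElement_def, mul_assoc],
    ev_mul z (hD.conj_mem _ h2 a) h1, ev_conj hy, mul_comm]

theorem ord_trick {m : ℕ} (hx : x • z = z) (hw : w ∈ D) (hc : IsConj x (x * w)) (hm : x ^ m = 1) :
    ev z w ^ m = 1 := by
  have h1 : ∀ k : ℕ, ∃ u ∈ D, (x * w) ^ k = x ^ k * u ∧ ev z u = ev z w ^ k := fun k => by
    induction k with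
    | zero => exact ⟨1, one_mem _, by simp, by simp [ev_one]⟩
    | succ k ih =>
      obtain ⟨u, h1, h2, h3⟩ := ih
      refine ⟨x⁻¹ * u * x⁻¹⁻¹ * w, mul_mem (hD.conj_mem u h1 _) hw, ?_, ?_⟩
      · rw [pow_succ, h2, pow_succ]; group
      · rw [ev_mul z (hD.conj_mem u h1 _) hw, ev_conj (inv_fix hx), h3, pow_succ]
  obtain ⟨u, -, h2, h3⟩ := h1 m
  obtain ⟨c, hc⟩ := isConj_iff.1 hc
  rw [← hc, conj_pow, hm, mul_one, mul_inv_cancel, one_mul] at h2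
  rw [← h3, ← h2, ev_one]

end Ev

variable [Finite G]

/-- The data of the tower `E ≤ N ≤ G`. -/
structure Tw (N E : Subgroup G) [N.Normal] [E.Normal] (q r : ℕ) : Prop where
  sol : Group.IsSolvable G
  hq : q.Prime
  hr : r.Prime
  le : E ≤ N
  gn : ∀ a b : G, ⁅a, b⁆ ∈ N
  ne : ∀ a ∈ N, ∀ b ∈ N, ⁅a, b⁆ ∈ E
  qf : ¬ q ∣ E.relIndex N
  rf : ¬ r ∣ E.relIndex N
  rN : r ∣ N.index
  camN : ∀ x ∈ N, (∃ g : G, ⁅g, x⁆ ∉ E) → ∀ w ∈ ⁅E, E⁆, IsConj x (x * w)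
  mov : ∀ g ∉ N, ∃ x ∈ N, ⁅g, x⁆ ∉ E
  reg : ∀ l : Lin E, l ^ q = 1 → ∀ t ∈ N, t ∉ E → t • l = l → ∀ n ∈ N, n • l = l
  ex : ∃ l : Lin E, l ^ q = 1 ∧ ∃ n ∈ N, n • l ≠ l
  covE : ∀ l : Lin E, (∃ n ∈ N, n • l ≠ l) → ¬ r ∣ (MulAction.stabilizer G l).index
  covD : ∀ z : Lin ⁅E, E⁆, z ≠ 1 → ¬ r ∣ (MulAction.stabilizer G z).index
  stD : ∀ z : Lin ⁅E, E⁆, z ≠ 1 → (∀ e ∈ E, e • z = z) → ∃ t ∈ N, t ∉ E ∧ t • z = z
  camE : ∀ A : Subgroup (Lin E), RelDeg.Inv A → (∀ t ∈ N, t ∉ E → ∀ l ∈ A, t • l = l → l = 1) →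
    ∀ x ∈ E, (∃ l ∈ A, ev l x ≠ 1) → ∀ w ∈ ⁅E, E⁆, ∃ y ∈ E, y * x * y⁻¹ = x * w

/-- The linear characters of `E` of exponent `q` moved by `N`. -/
noncomputable def VV (N E : Subgroup G) [E.Normal] (q : ℕ) : Subgroup (Lin E) :=
  closure {v | ∃ n ∈ N, ∃ l : Lin E, l ^ q = 1 ∧ v = n • l / l}

namespace Tw

variable {N E : Subgroup G} [hN : N.Normal] [hE : E.Normal] {q r : ℕ} (h : Tw N E q r)
include h

omit h in
theorem invV : RelDeg.Inv (VV N E q) := fun g v hv => by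
  induction hv using closure_induction with
  | mem v hv =>
    obtain ⟨n, hn, l, hl, rfl⟩ := hv
    exact subset_closure ⟨_, hN.conj_mem n hn g, g • l, by rw [← smul_pow', hl, smul_one], by
      rw [smul_div', ← mul_smul, ← mul_smul, inv_mul_cancel_right]⟩
  | one => rw [smul_one]; exact one_mem _
  | mul a b _ _ ha hb => rw [smul_mul']; exact mul_mem ha hb
  | inv a _ ha => rw [smul_inv']; exact inv_mem ha

omit h hN in
theorem powV {v : Lin E} (hv : v ∈ VV N E q) : v ^ q = 1 := by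
  induction hv using closure_induction with
  | mem v hv =>
    obtain ⟨n, -, l, hl, rfl⟩ := hv
    rw [div_pow, ← smul_pow', hl, smul_one, div_one]
  | one => exact one_pow _
  | mul a b _ _ ha hb => rw [mul_pow, ha, hb, mul_one]
  | inv a _ ha => rw [inv_pow, ha, inv_one]

theorem powE {x : G} (hx : x ∈ N) : x ^ E.relIndex N ∈ E := pow_relIndex_mem E hx

theorem copq : q.Coprime (E.relIndex N) := (Nat.Prime.coprime_iff_not_dvd h.hq).2 h.qf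

theorem fixV {v : Lin E} (hv : v ∈ VV N E q) (h1 : ∀ n ∈ N, n • v = v) : v = 1 := by
  obtain ⟨l0, -, t, ht, h0⟩ := h.ex
  have htE : t ∉ E := fun e => h0 (smul_of_mem e _)
  let Nm : Lin E →* Lin E := MonoidHom.mk' (fun l => ∏ i ∈ Finset.range (E.relIndex N), t ^ i • l)
    fun a b => by simp only [smul_mul', Finset.prod_mul_distrib]
  have h2 : ∀ l, t • Nm l = Nm l := fun l => by
    have e1 := Finset.prod_range_succ (fun i => t ^ i • l) (E.relIndex N)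
    rw [Finset.prod_range_succ', pow_zero, one_smul, smul_of_mem (h.powE ht)] at e1
    refine .trans ?_ (mul_right_cancel e1)
    simp only [Nm, MonoidHom.mk'_apply, Finset.smul_prod', pow_succ', mul_smul]
  have h3 : VV N E q ≤ Nm.ker := (closure_le _).2 fun _ ⟨n, hn, l, hl, e⟩ => by
    rw [e, SetLike.mem_coe, MonoidHom.mem_ker, map_div, div_eq_one,
      ← h.reg (Nm l) (by rw [← map_pow, hl, map_one]) t ht htE (h2 l) n hn]
    simp only [Nm, MonoidHom.mk'_apply, Finset.smul_prod']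
    exact Finset.prod_congr rfl fun i _ => comm_smul (h.ne _ (pow_mem ht i) _ hn) l
  have h4 : Nm v = v ^ E.relIndex N := by
    simp only [Nm, MonoidHom.mk'_apply]
    rw [Finset.prod_congr rfl fun i _ => h1 _ (pow_mem ht i), Finset.prod_const, Finset.card_range]
  exact (pow_eq_one_iff_of_coprime h.copq).1 ⟨powV hv, h4 ▸ h3 hv⟩

theorem fpfV (t : G) (ht : t ∈ N) (htE : t ∉ E) (v : Lin E) (hv : v ∈ VV N E q) (h1 : t • v = v) : v = 1 :=
  h.fixV hv (h.reg v (powV hv) t ht htE h1)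

theorem exV : ∃ v ∈ VV N E q, v ≠ 1 := by
  obtain ⟨l, hl, n, hn, h0⟩ := h.ex
  exact ⟨_, subset_closure ⟨n, hn, l, hl, rfl⟩, fun e => h0 (div_eq_one.1 e)⟩

theorem exN : ∃ g : G, ∃ x ∈ N, ⁅g, x⁆ ∉ E := by
  obtain ⟨g, hg⟩ : ∃ g, g ∉ N := by
    by_contra! e
    have := h.rN
    rw [(eq_top_iff' N).2 e, index_top] at this
    exact h.hr.ne_one (Nat.dvd_one.1 this)
  exact ⟨g, h.mov g hg⟩

theorem cam {x : G} (hx : x ∈ E) (h1 : ∃ l ∈ VV N E q, ev l x ≠ 1) {w : G} (hw : w ∈ ⁅E, E⁆) :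
    ∃ y ∈ E, w = ⁅x, y⁆ := by
  obtain ⟨l, hl, h1⟩ := h1
  obtain ⟨y, hy, e⟩ := h.camE _ invV h.fpfV x⁻¹ (inv_mem hx)
    ⟨l, hl, by rwa [ev_inv l hx, Ne, inv_eq_one]⟩ w hw
  exact ⟨y, hy, by rw [commutatorElement_def, mul_assoc, mul_assoc, ← mul_assoc y, e, mul_inv_cancel_left]⟩

omit h in
theorem cm {a b : G} (ha : a ∈ E) (hb : b ∈ E) : ⁅a, b⁆ ∈ ⁅E, E⁆ := commutator_mem_commutator ha hb

omit h in
theorem ev_cop {l : Lin E} (hl : l ∈ VV N E q) {a : G} (ha : a ∈ E) (hc : (orderOf a).Coprime q) : ev l a = 1 :=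
  (pow_eq_one_iff_of_coprime hc).1 ⟨by rw [← zpow_natCast, ← ev_zpow l ha, zpow_natCast, pow_orderOf_eq_one, ev_one],
    by rw [← ev_lpow, powV hl, ev_lone]⟩

theorem split {g : G} (hg : g ∈ E) (h1 : ∃ l ∈ VV N E q, ev l g ≠ 1) : ∃ x ∈ zpowers g, ∃ a ∈ E,
    (∃ k, orderOf x = q ^ k) ∧ g = x * a ∧ Commute x a ∧ ∃ l ∈ VV N E q, ev l x ≠ 1 := by
  obtain ⟨x, x1, a, a1, x2, a2, e, c⟩ := exists_pPart_mul_pPrimePart h.hq g
  obtain ⟨l, hl, h1⟩ := h1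
  have aE := zpowers_le.2 hg a1
  exact ⟨x, x1, a, aE, x2, e, c, l, hl, by
    rwa [e, ev_mul l (zpowers_le.2 hg x1) aE, ev_cop hl aE a2, mul_one] at h1⟩

theorem tors {x : G} (hx : x ∈ E) (h1 : ∃ l ∈ VV N E q, ev l x ≠ 1) {z : Lin ⁅E, E⁆} (hz : x • z = z) :
    z ^ orderOf x = 1 := lin_one fun w hw => by
  obtain ⟨y, -, e⟩ := h.camE _ invV h.fpfV x hx h1 w hw
  rw [ev_lpow, ord_trick hz hw (isConj_iff.2 ⟨y, e⟩) (pow_orderOf_eq_one x)]

theorem fix_of_comm {x a : G} (hx : x ∈ E) (h1 : ∃ l ∈ VV N E q, ev l x ≠ 1) (ha : a ∈ E) (c : Commute x a)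
    {z : Lin ⁅E, E⁆} (hz : x • z = z) : a • z = z := Lin.ext fun w => by
  obtain ⟨y, hy, e⟩ := h.cam hx h1 w.2
  have e1 : a⁻¹ * ⁅x, y⁆ * a = ⁅x, ⁅a⁻¹, y⁆ * y⁆ := by
    rw [show ⁅a⁻¹, y⁆ * y = a⁻¹ * y * a by simp [commutatorElement_def], commutatorElement_def, commutatorElement_def]
    have := c.eq
    have e2 : x * a⁻¹ = a⁻¹ * x := c.inv_right.eq
    have e3 : a * x⁻¹ = x⁻¹ * a := c.symm.inv_right.eq
    simp only [mul_inv_rev, inv_inv, ← mul_assoc, e2]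
    rw [mul_assoc _ a, e3]
    simp [mul_assoc]
  have d := cm (inv_mem ha) hy
  rw [← ev_coe, ← ev_coe, ev_smul, e, e1, b_right (smul_of_mem d z) (cm hx (commutator_le_left E E d)) (cm hx hy),
    b_D hz d, one_mul]

theorem not_cyc {a : G} (ha : a ∈ E) (h1 : ∀ b ∈ E, ∃ k : ℤ, ∀ l ∈ VV N E q, ev l ((a ^ k)⁻¹ * b) = 1) : False := by
  have := isCyclic_of_injective_ringHom ((Units.coeHom ℂ).comp ((evh E a).comp (VV N E q).subtype))
    ((injective_iff_map_eq_one _).2 fun l e => Subtype.ext (lin_one fun b hb => by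
      obtain ⟨k, hk⟩ := h1 b hb
      have := hk l l.2
      rwa [ev_mul _ (inv_mem (zpow_mem ha k)) hb, ev_inv _ (zpow_mem ha k), ev_zpow _ ha,
        show ev l.1 a = 1 from Units.ext e, one_zpow, inv_one, one_mul] at this))
  obtain ⟨v, hv⟩ := IsCyclic.exists_generator (α := VV N E q)
  have k : ∀ g : G, ∃ i : ℤ, g • v.1 = v.1 ^ i := fun g =>
    (hv ⟨_, invV g _ v.2⟩).imp fun i e => (congrArg Subtype.val e).symm
  obtain ⟨g, x, hx, h2⟩ := h.exN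
  obtain ⟨i, hi⟩ := k g
  obtain ⟨j, hj⟩ := k x
  have c : g • x • v.1 = x • g • v.1 := by
    rw [hj, hi, smul_zpow', smul_zpow', hj, hi, ← zpow_mul, ← zpow_mul, mul_comm]
  have v1 := h.fpfV _ (h.gn g x) h2 _ (invV x _ (invV g _ v.2)) (by
    rw [← mul_smul, ← mul_smul, show ⁅g, x⁆ * x * g = g * x by simp [commutatorElement_def], mul_smul, c])
  rw [smul_eq_iff_eq_inv_smul, smul_one, smul_eq_iff_eq_inv_smul, smul_one] at v1
  obtain ⟨w, w1, w2⟩ := h.exV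
  obtain ⟨n, hn⟩ := hv ⟨w, w1⟩
  exact w2 ((congrArg Subtype.val hn).symm.trans (by simp [v1]))

theorem exZ (hE : ⁅E, E⁆ ≠ ⊥) : ∃ z : Lin ⁅E, E⁆, z ≠ 1 ∧ z ^ q = 1 ∧ ∀ e ∈ E, e • z = z := by
  have := h.sol
  have h0 : ∃ z : Lin ⁅E, E⁆, z ≠ 1 := by
    by_contra! k
    have := (nontrivial_iff_ne_bot _).2 hE
    exact (Group.IsSolvable.commutator_lt_top_of_nontrivial ↥⁅E, E⁆).ne ((eq_top_iff' _).2 fun x =>
      mem_commutator_iff_forall_monoidHom.2 fun l => congrArg (fun z : Lin ⁅E, E⁆ => z.h x) (k l))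
  obtain ⟨z, z1, hz⟩ := (wellFounded_gt (α := Subgroup G)).has_min
    {C | ∃ z : Lin ⁅E, E⁆, z ≠ 1 ∧ C = E ⊓ MulAction.stabilizer G z} (h0.elim fun z e => ⟨_, z, e, rfl⟩)
  obtain ⟨z, z1, rfl⟩ := z1
  let Y := Fx (Lin ⁅E, E⁆) (E ⊓ MulAction.stabilizer G z)
  have zY : z ∈ Y := fun _ k => k.2
  have hY : ∀ e ∈ E, ∀ v ∈ Y, e • v ∈ Y := fun e he v hv k hk => by rw [comm_smul (cm hk.1 he), hv k hk]
  have hs : ∀ a ∈ E, ∀ v ∈ Y, v ≠ 1 → a • v = v → ∀ w ∈ Y, a • w = w := fun a ha v hv v1 e w hw =>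
    hw a ((eq_of_le_of_not_lt (fun k hk => ⟨hk.1, hv k hk⟩) (hz _ ⟨v, v1, rfl⟩)).ge ⟨ha, e⟩)
  obtain ⟨a, ha, h1⟩ := exists_gen hY ⟨z, zY, z1⟩ (fun a ha b hb v _ => comm_smul (cm ha hb) v) hs
  obtain ⟨g, hg, h2, h3⟩ : ∃ g ∈ E, (∃ l ∈ VV N E q, ev l g ≠ 1) ∧ ∀ w ∈ Y, g • w = w := by
    by_contra! k
    refine h.not_cyc ha fun b hb => (h1 b hb).imp fun i e l hl => by_contra fun c => ?_
    obtain ⟨w, w1, w2⟩ := k _ (mul_mem (inv_mem (zpow_mem ha i)) hb) ⟨l, hl, c⟩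
    exact w2 (e w w1)
  obtain ⟨x, x1, -, -, ⟨k, x2⟩, -, -, x3⟩ := h.split hg h2
  have hP : IsPGroup q Y := fun w => ⟨k, Subtype.ext (x2 ▸ h.tors (zpowers_le.2 hg x1) x3
    ((zpowers_le (H := MulAction.stabilizer G w.1)).2 (h3 w w.2) x1))⟩
  have := Fact.mk h.hq
  have : Nontrivial Y := ⟨⟨⟨z, zY⟩, 1, fun e => z1 (congrArg Subtype.val e)⟩⟩
  have hd : q ∣ Nat.card Y := hP.card_eq_or_dvd.resolve_left Finite.one_lt_card.ne'
  have h4 : ∀ b ∈ E, (∃ l ∈ VV N E q, ev l b ≠ 1) → ∀ w ∈ Y, b • w = w := fun b hb c w hw => by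
    obtain ⟨y, y1, u, u1, ⟨j, y2⟩, e, c, y3⟩ := h.split hb c
    have yE := zpowers_le.2 hb y1
    obtain ⟨v, v1, v2, v3⟩ := exists_fix hY yE h.hq y2 hd
    have := hs y yE v v1 v2 v3 w hw
    rw [e, mul_smul, h.fix_of_comm yE y3 u1 c this, this]
  obtain ⟨w, hw⟩ := exists_prime_orderOf_dvd_card' q hd
  refine ⟨w, fun e => h.hq.ne_one (by rw [← hw, show w = 1 from Subtype.ext e, orderOf_one]),
    congrArg Subtype.val (hw ▸ pow_orderOf_eq_one w), fun e he => ?_⟩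
  obtain ⟨l, hl, h2⟩ := h2
  by_cases c : ev l e = 1
  · have := h4 _ (mul_mem he hg) ⟨l, hl, by rwa [ev_mul l he hg, c, one_mul]⟩ w w.2
    rwa [mul_smul, h3 w w.2] at this
  · exact h4 e he ⟨l, hl, c⟩ w w.2

theorem cenN {z : Lin ⁅E, E⁆} (z1 : z ≠ 1) (z2 : z ^ q = 1) {n : G} (hn : n ∈ N) (e : n • z = z) (g : G) :
    ⁅g, n⁆ ∈ E := by
  obtain ⟨x, x1, a, a1, ⟨k, x2⟩, a2, e1, -⟩ := exists_pPart_mul_pPrimePart h.hq n
  have xE : x ∈ E := mem_of_cop (h.copq.pow_left k) (by rw [← x2, pow_orderOf_eq_one]; exact one_mem _)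
    (h.powE (zpowers_le.2 hn x1))
  have h1 : ⁅g, a⁆ ∈ E := by_contra fun c => z1 (lin_one fun w hw => (pow_eq_one_iff_of_coprime a2).1
    ⟨ord_trick ((zpowers_le (H := MulAction.stabilizer G z)).2 e a1) hw
      (h.camN a (zpowers_le.2 hn a1) ⟨g, c⟩ w hw) (pow_orderOf_eq_one a), by rw [← ev_lpow, z2, ev_lone]⟩)
  rw [e1, show ⁅g, x * a⁆ = g * x * g⁻¹ * x⁻¹ * (x * ⁅g, a⁆ * x⁻¹) by simp [commutatorElement_def, mul_assoc]]
  exact mul_mem (mul_mem (hE.conj_mem x xE g) (inv_mem xE)) (hE.conj_mem _ h1 x)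

theorem copr : r.Coprime (E.relIndex N) := (Nat.Prime.coprime_iff_not_dvd h.hr).2 h.rf

theorem np [Fact r.Prime] {W : Type*} [CommGroup W] [Finite W] [MulDistribMulAction G W]
    (h1 : ∀ v : W, v ≠ 1 → ∃ T : Subgroup G, E ≤ T ∧ ¬ r ∣ T.index ∧ ∀ g ∈ T, g • v = v)
    (h2 : ∀ v : W, v ≠ 1 → ∀ n ∈ N, n • v = v → ∀ g : G, ⁅g, n⁆ ∈ E) : NP W (QuotientGroup.mk' E) r := fun v v1 => by
  obtain ⟨T, t1, t2, t3⟩ := h1 v v1
  obtain ⟨Q, hQ⟩ := exists_sylow_comap_le (QuotientGroup.mk'_surjective E) ((QuotientGroup.ker_mk' E).le.trans t1) t2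
  have hv : v ∈ Fx W ((Q : Subgroup (G ⧸ E)).comap (QuotientGroup.mk' E)) := fun g hg => t3 g (hQ hg)
  refine ⟨Q, hv, fun R hR => Sylow.ext (R.is_maximal' Q.isPGroup' fun a ha => ?_).symm⟩
  obtain ⟨g, rfl⟩ := QuotientGroup.mk'_surjective E a
  let M := (Q : Subgroup (G ⧸ E)).comap (QuotientGroup.mk' E) ⊔ N
  have : M.Normal := ⟨fun x hx y => by
    simpa [commutatorElement_def] using mul_mem (mem_sup_right (h.gn y x) : ⁅y, x⁆ ∈ M) hx⟩
  obtain ⟨k, hk⟩ := R.isPGroup' ⟨_, ha⟩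
  have hk : (QuotientGroup.mk' E g) ^ r ^ k = 1 := congrArg Subtype.val hk
  have gM : g ∈ M := mem_of_cop (m := r ^ k) (n := M.index) (((Nat.Prime.coprime_iff_not_dvd h.hr).2 fun c =>
    Q.not_dvd_index (index_comap_of_surjective _ (QuotientGroup.mk'_surjective E) ▸
      c.trans (index_dvd_of_le le_sup_left))).pow_left k)
    (mem_sup_left (by rw [mem_comap, map_pow, hk]; exact one_mem _)) (M.pow_index_mem g)
  obtain ⟨b, hb, n, hn, rfl⟩ := mem_sup_of_normal_right.1 gM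
  have c := (QuotientGroup.eq_one_iff _).2 (h2 v v1 n hn (by
    have := hR _ ha
    rwa [mul_smul, ← eq_inv_smul_iff, inv_fix (hv b hb)] at this) b)
  have c : Commute (QuotientGroup.mk' E b) (QuotientGroup.mk' E n) :=
    commutatorElement_eq_one_iff_commute.1 ((map_commutatorElement _ b n).symm.trans c)
  obtain ⟨j, hj⟩ := Q.isPGroup' ⟨_, hb⟩
  have hj : (QuotientGroup.mk' E b) ^ r ^ j = 1 := congrArg Subtype.val hj
  have e := congrArg (· ^ r ^ j) hk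
  simp only [one_pow, map_mul, c.mul_pow, (c.pow_pow _ _).mul_pow] at e
  rw [← pow_mul, mul_comm, pow_mul, hj, one_pow, one_mul, ← pow_mul, ← pow_add, ← map_pow] at e
  rw [map_mul, show QuotientGroup.mk' E n = 1 from (QuotientGroup.eq_one_iff n).2
    (mem_of_cop (h.copr.pow_left _) ((QuotientGroup.eq_one_iff _).1 e) (h.powE hn)), mul_one]
  exact hb

theorem card_ne [Fact r.Prime] : Nat.card (Sylow r (G ⧸ E)) ≠ 1 := fun e => by
  have := (Nat.card_eq_one_iff_unique.1 e).1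
  let Q : Sylow r (G ⧸ E) := default
  have hQ := Q.normal_of_subsingleton
  obtain ⟨g, g1, g2⟩ := SetLike.not_le_iff_exists.1
    (show ¬ (Q : Subgroup (G ⧸ E)).comap (QuotientGroup.mk' E) ≤ N from fun c => Q.not_dvd_index
      (index_comap_of_surjective _ (QuotientGroup.mk'_surjective E) ▸ h.rN.trans (index_dvd_of_le c)))
  obtain ⟨x, x1, x2⟩ := h.mov g g2
  obtain ⟨k, hk⟩ := Q.isPGroup' ⟨QuotientGroup.mk' E ⁅g, x⁆, by
    rw [map_commutatorElement, commutatorElement_def, mul_assoc, mul_assoc, ← mul_assoc (QuotientGroup.mk' E x)]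
    exact mul_mem g1 (hQ.conj_mem _ (inv_mem g1) _)⟩
  exact x2 (mem_of_cop (h.copr.pow_left k) ((QuotientGroup.eq_one_iff _).1 (congrArg Subtype.val hk)) (h.powE (h.gn g x)))

omit h in
/-- The commutator form. -/
noncomputable def bil (z : Lin ⁅E, E⁆) (hz : ∀ e ∈ E, e • z = z) {x : G} (hx : x ∈ E) : Lin E :=
  MonoidHom.mk' (fun y : E => ev z ⁅x, y.1⁆) fun a b => b_right (hz a a.2) (cm hx a.2) (cm hx b.2)

omit h in
theorem ev_bil (z : Lin ⁅E, E⁆) (hz : ∀ e ∈ E, e • z = z) {x y : G} (hx : x ∈ E) (hy : y ∈ E) :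
    ev (bil z hz hx) y = ev z ⁅x, y⁆ := ev_of _ hy

theorem main : ⁅E, E⁆ = ⊥ := by
  by_contra hE'
  have := Fact.mk h.hq
  have := Fact.mk h.hr
  obtain ⟨z, z1, z2, z3⟩ := h.exZ hE'
  obtain ⟨t, tN, tE, z4⟩ := h.stD z z1 z3
  let Y := Fx (Lin ⁅E, E⁆) (E ⊔ zpowers t) ⊓ (powMonoidHom q).ker
  have mY : ∀ w, w ∈ Y ↔ ((∀ e ∈ E, e • w = w) ∧ t • w = w) ∧ w ^ q = 1 := fun w => and_congr_left' ⟨fun k =>
    ⟨fun e he => k e (mem_sup_left he), k t (mem_sup_right (mem_zpowers t))⟩,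
    fun k => (sup_le k.1 (zpowers_le.2 k.2) : _ ≤ MulAction.stabilizer G w)⟩
  have hY : RelDeg.Inv Y := fun g w hw => by
    obtain ⟨⟨a, b⟩, c⟩ := (mY w).1 hw
    refine (mY _).2 ⟨⟨fun e he => ?_, ?_⟩, by rw [← smul_pow', c, smul_one]⟩
    · rw [← mul_smul, show e * g = g * (g⁻¹ * e * g) by group, mul_smul, a _ (hE.conj_mem' e he g)]
    · rw [← mul_smul, show t * g = g * (⁅g⁻¹, t⁆ * t) by simp [commutatorElement_def, mul_assoc], mul_smul, mul_smul, b,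
        a _ (h.cenN z1 z2 tN z4 _)]
  have c1 := (@np G _ _ N E _ _ q r h _ Y _ _ (actV hY) (fun v v1 => ⟨MulAction.stabilizer G v.1, ((mY v).1 v.2).1.1,
    h.covD v fun e => v1 (Subtype.ext e), fun g hg => Subtype.ext hg⟩) fun v v1 n hn e =>
      h.cenN (fun e => v1 (Subtype.ext e)) ((mY v).1 v.2).2 hn (congrArg Subtype.val e))
  have c2 := (@np G _ _ N E _ _ q r h _ (VV N E q) _ _ (actV invV) (fun v v1 => ⟨MulAction.stabilizer G v.1,
    fun e he => smul_of_mem he _, h.covE v (by_contra fun k => v1 (Subtype.ext (h.fixV v.2 (by simpa using k)))),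
    fun g hg => Subtype.ext hg⟩) fun v v1 n hn e g => by
      have nE : n ∈ E := by_contra fun k => v1 (Subtype.ext (h.fpfV n hn k v v.2 (congrArg Subtype.val e)))
      exact mul_mem (hE.conj_mem n nE g) (inv_mem nE))
  let := actV hY
  let := actV (invV (N := N) (E := E) (q := q))
  replace c1 := c1.count (QuotientGroup.mk'_surjective E) default
  replace c2 := c2.count (QuotientGroup.mk'_surjective E) default
  have pY : IsPGroup q Y := fun w => ⟨1, Subtype.ext ((pow_one q).symm ▸ ((mY w).1 w.2).2)⟩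
  have pV : IsPGroup q (VV N E q) := fun w => ⟨1, Subtype.ext ((pow_one q).symm ▸ powV w.2)⟩
  obtain ⟨a, ha⟩ := pY.exists_card_eq
  obtain ⟨c, hc⟩ := pV.exists_card_eq
  obtain ⟨b, hb⟩ := (pY.to_subgroup (Fx Y (((default : Sylow r (G ⧸ E)) : Subgroup (G ⧸ E)).comap
    (QuotientGroup.mk' E)))).exists_card_eq
  obtain ⟨d, hd⟩ := (pV.to_subgroup (Fx (VV N E q) (((default : Sylow r (G ⧸ E)) : Subgroup (G ⧸ E)).comap
    (QuotientGroup.mk' E)))).exists_card_eq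
  have : Nontrivial Y := ⟨⟨⟨z, (mY z).2 ⟨⟨z3, z4⟩, z2⟩⟩, 1, fun e => z1 (congrArg Subtype.val e)⟩⟩
  have h1 : b < a := lt_of_le_of_ne ((Nat.pow_le_pow_iff_right h.hq.one_lt).1 (ha ▸ hb ▸ card_le_card_group _)) fun e => by
    rw [hb, e, ← ha] at c1
    exact h.card_ne (Nat.eq_of_mul_eq_mul_right (Nat.sub_pos_of_lt Finite.one_lt_card) (c1.trans (one_mul _).symm))
  rw [hb, ha] at c1
  rw [hd, hc] at c2
  have h2 := Nat.pow_le_pow_right h.hq.pos (num_le h.hq.one_lt h1 c1 c2)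
  obtain ⟨l, l1, l2⟩ := h.exV
  obtain ⟨x, hx, x1⟩ : ∃ x ∈ E, ev l ⁅t, x⁆ ≠ 1 := by
    by_contra! k
    refine l2 (h.fpfV t tN tE l l1 (inv_smul_eq_iff.1 (Lin.ext fun w => ?_)).symm)
    have := k w w.2
    rw [commutatorElement_def, ev_mul l (hE.conj_mem _ w.2 t) (inv_mem w.2), ev_inv l w.2, mul_inv_eq_one] at this
    rw [← ev_coe, ← ev_coe, ev_smul, inv_inv, this]
  have x0 : ⁅t, x⁆ ∈ E := mul_mem (hE.conj_mem _ hx t) (inv_mem hx)
  have h3 : ∀ w : Y, bil w.1 ((mY w).1 w.2).1.1 x0 ∈ VV N E q := fun w => by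
    obtain ⟨⟨a, b⟩, c⟩ := (mY w).1 w.2
    refine subset_closure ⟨t, tN, bil w.1 a hx, lin_one fun y hy => ?_, Lin.ext fun y => ?_⟩
    · rw [ev_lpow, ev_bil _ _ _ hy, ← ev_lpow, c, ev_lone]
    · rw [← ev_coe, ← ev_coe, ev_ldiv, ev_smul, ev_bil _ _ _ y.2, ev_bil _ _ _ y.2,
        ev_bil _ _ _ (hE.conj_mem' _ y.2 t), ← ev_conj b ⁅x, t⁻¹ * y * t⁆]
      refine congrArg _ (eq_div_iff_mul_eq'.2 ?_)
      rw [← b_left (a _ x0) (cm x0 y.2) (cm hx y.2)]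
      congr 1
      simp [commutatorElement_def, mul_assoc]
  have h4 : Function.Injective fun w : Y => (⟨_, h3 w⟩ : VV N E q) := fun v w e => Subtype.ext (Lin.ext fun u => by
    obtain ⟨y, hy, e1⟩ := h.cam x0 ⟨l, l1, x1⟩ u.2
    rw [← ev_coe, ← ev_coe, e1, ← ev_bil _ ((mY v).1 v.2).1.1 x0 hy, ← ev_bil _ ((mY w).1 w.2).1.1 x0 hy]
    exact congrArg (fun s : VV N E q => ((ev s.1 y : ℂˣ) : ℂ)) e)
  obtain ⟨w, hw⟩ := ((Nat.bijective_iff_injective_and_card _).2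
    ⟨h4, le_antisymm (Nat.card_le_card_of_injective _ h4) (ha ▸ hc ▸ h2)⟩).2 ⟨l, l1⟩
  exact x1 (by rw [← show bil _ ((mY w).1 w.2).1.1 x0 = l from congrArg Subtype.val hw, ev_bil _ _ x0 x0, commutatorElement_self, ev_one])

end Tw

end CL.Char.NDiv
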