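/-
Solvable groups without divisibility among the nonlinear character degrees: one Frobenius layer.
-/
import Cfsg.Agent.Char.NDiv1
import Cfsg.Agent.Char.Deg4a

set_option autoImplicit false
set_option linter.unusedSectionVars false

open scoped commutatorElement
open Cfsg CL.Grp Subgroup CL.Char.RelDeg CL.Char.D4

namespace CL.Char.NDiv

variable {G : Type*} [Group G] [Finite G]

/-- No nonlinear degree divides a different degree. -/
def ND (G : Type*) [Group G] [Finite G] : Prop := ∀ a ∈ cdSet G, ∀ b ∈ cdSet G, a ≠ 1 → a ∣ b → a = b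

theorem ND.lin (nd : ND G) {E : Subgroup G} [E.Normal] (hf : E.index ∈ cdSet G) (h1 : E.index ≠ 1) {θ : E → ℂ}
    (hθ : IsIrrCharacter E θ) (h : inertia E θ ≤ E) : charDegree θ = 1 := by
  have := Fintype.ofFinite G
  have h2 := (isIrrCharacter_indFun_of_inertia_le hθ h).charDegree_mem_cdSet
  rw [charDegree_indFun hθ.isCharacter] at h2
  exact (Nat.eq_of_mul_eq_mul_left (Nat.pos_of_ne_zero index_ne_zero_of_finite)
    ((mul_one _).trans (nd _ hf _ h2 h1 (dvd_mul_right _ _)))).symm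

theorem ND.reg (nd : ND G) {E : Subgroup G} [E.Normal] (hf : E.index ∈ cdSet G) {θ : E → ℂ}
    (hθ : IsIrrCharacter E θ) (h1 : charDegree θ = 1) : inertia E θ = ⊤ ∨ inertia E θ ≤ E := by
  have := Fintype.ofFinite G
  have := Fintype.ofFinite E
  obtain ⟨ξ, hξ, hc⟩ := exists_irr_over E hθ
  obtain ⟨k, hk, e1⟩ := exists_charDegree_eq_mul hθ hξ hc
  obtain ⟨e, -, e2, e3⟩ := exists_charDegree_eq_inertia hθ hξ hc
  rw [h1, mul_one] at e1 e3
  by_cases h : charDegree ξ = 1
  · exact Or.inl (index_eq_one.1 (Nat.eq_one_of_mul_eq_one_left (e3.symm.trans h)))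
  have h4 : charDegree ξ = E.index := nd _ hξ.charDegree_mem_cdSet _ hf h (e1 ▸ hk)
  have h5 := classInner_indFun_eq_res hθ.isCharacter hξ.isCharacter
  have h6 : indFun E θ = ξ := eq_of_classInner_ne_zero_of_one_eq (isCharacter_indFun hθ.isCharacter) hξ (h5 ▸ hc)
    (by rw [indFun_one, ← hξ.cast_charDegree, h4, ← hθ.cast_charDegree, h1]; simp)
  rw [h6, hξ.classInner_self, e2] at h5
  have h7 : e = 1 := by exact_mod_cast h5.symm
  rw [h7, one_mul, h4, ← relIndex_mul_index (le_inertia hθ.isClassFunction)] at e3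
  exact Or.inr (relIndex_eq_one.1 (Nat.eq_of_mul_eq_mul_right (Nat.pos_of_ne_zero index_ne_zero_of_finite)
    (e3.trans (one_mul _).symm)))

theorem ND.pc (nd : ND G) {p a k : ℕ} (hp : p.Prime) {M : Subgroup G} [M.Normal] (hi : M.index = p ^ a)
    (hc : (Nat.card M).Coprime M.index) {φ : G → ℂ} (hφ : IsIrrCharacter G φ) (hd : charDegree φ = p ^ k)
    (h1 : charDegree φ ≠ 1) (hk : M ≤ charKer φ) : ∀ d ∈ cdSet M, d = 1 := fun d hd' => by
  obtain ⟨θ, hθ, rfl⟩ := mem_cdSet.1 hd'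
  by_contra h2
  have := Fintype.ofFinite G
  have := Fintype.ofFinite M
  have := Fintype.ofFinite (inertia M θ)
  have hT : M ≤ inertia M θ := le_inertia hθ.isClassFunction
  have h5 := isIrrCharacter_subgroupOf hT hθ
  obtain ⟨ψ, h6, h7⟩ := exists_extension_of_hall h5 (fun g n => g.2 ⟨_, n.2⟩) h5.cast_charDegree.symm
    h5.charDegree_dvd_card (Nat.card_congr (subgroupOfEquivOfLe hT).toEquiv ▸
      hc.coprime_dvd_right (relIndex_dvd_index_of_le hT))
  have h8 : charDegree ψ = charDegree θ := charDegree_congr (h7 1)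
  have key : ∀ β, IsIrrCharacter (inertia M θ) β → M.subgroupOf (inertia M θ) ≤ charKer β →
      (inertia M θ).index * (charDegree β * charDegree θ) ∈ cdSet G := fun β hβ h3 => by
    have h9 := gallagher_irr h6.isCharacter (funext h7 ▸ h5) hβ h3
    have h10 := (clifford_corr_inertia hθ rfl hT h9 (by
      rw [show (fun n : M => (β * ψ) ⟨n, hT n.2⟩) = β 1 • θ from funext fun n => by
        rw [Pi.mul_apply, apply_eq_one_of_mem_charKer (h3 (mem_subgroupOf.2 n.2)), h7 ⟨⟨n, hT n.2⟩, n.2⟩]; rfl,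
        classInner_smul_left, hθ.classInner_self, mul_one]
      exact hβ.one_ne_zero)).1.charDegree_mem_cdSet
    rwa [charDegree_indFun h9.isCharacter, charDegree_mul hβ.isCharacter h6.isCharacter, h8] at h10
  have h3 := key _ isIrrCharacter_one fun _ _ _ => rfl
  rw [show charDegree (fun _ : inertia M θ => (1 : ℂ)) = 1 from charDegree_eq_of_eq (by simp), one_mul] at h3
  have h0 : 0 < (inertia M θ).index := Nat.pos_of_ne_zero index_ne_zero_of_finite
  obtain ⟨β, hβ, hb⟩ := exists_irr_constituent_restrict (inertia M θ) hφ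
  have h4 := nd _ h3 _ (key β hβ fun x hx => mem_ker_of_under hβ hφ hb (hk hx))
    (fun e => h2 (Nat.eq_one_of_mul_eq_one_left e)) (mul_dvd_mul_left _ (dvd_mul_left _ _))
  have h9 : charDegree β = 1 := (Nat.eq_of_mul_eq_mul_right hθ.charDegree_pos
    ((one_mul _).trans (Nat.eq_of_mul_eq_mul_left h0 h4))).symm
  have h10 := (isCharacter_indFun hβ.isCharacter).charDegree_le_of_classInner_ne_zero hφ
    (by rwa [classInner_indFun_eq_res hβ.isCharacter hφ.isCharacter])
  rw [charDegree_indFun hβ.isCharacter, h9, mul_one] at h10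
  obtain ⟨j, -, hj⟩ := (Nat.dvd_prime_pow hp).1 (hi ▸ index_dvd_of_le hT)
  have h11 := nd _ hφ.charDegree_mem_cdSet _ h3 h1 (Dvd.dvd.mul_right (by
    rw [hd, hj] at h10 ⊢
    exact pow_dvd_pow p ((Nat.pow_le_pow_iff_right hp.one_lt).1 h10)) _)
  have h12 := hθ.charDegree_pos
  rw [h11] at h10
  exact h2 (by nlinarith)

/-- A Frobenius factor group `G / K` with elementary abelian kernel `N / K`. -/
structure Fr (N K : Subgroup G) (q : ℕ) : Prop where
  hq : q.Prime
  eq : N = commutator G ⊔ K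
  nk : ∀ a ∈ N, ∀ b ∈ N, ⁅a, b⁆ ∈ K
  pw : ∀ a ∈ N, a ^ q ∈ K
  fp : ∀ g ∉ N, ∀ x ∈ N, ⁅g, x⁆ ∈ K → x ∈ K
  ex : ∃ x ∈ N, x ∉ K
  one : N.index ≠ 1
  nd : ¬ q ∣ N.index
  ch : ∃ φ, IsIrrCharacter G φ ∧ charKer φ = K ∧ charDegree φ = N.index
  deg : ∀ d ∈ cdSet N, N.index * d ∈ cdSet G ∨ q ∣ d

theorem Fr.mem {N K : Subgroup G} {q : ℕ} (F : Fr N K q) : N.index ∈ cdSet G :=
  let ⟨_, h1, _, h2⟩ := F.ch
  h2 ▸ h1.charDegree_mem_cdSet

theorem ND.layer (nd : ND G) (hs : Group.IsSolvable G) (h : commutator G ≠ ⊥) :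
    (∀ a ∈ cdSet G, ∀ b ∈ cdSet G, a ≠ 1 → b ≠ 1 → a = b) ∨
      ∃ (N K : Subgroup G) (_ : N.Normal) (q : ℕ), Fr N K q := by
  obtain ⟨K, hK, hJ⟩ := exists_justNonab_quotient h
  have hf := QuotientGroup.mk'_surjective K
  obtain ⟨φ, hφ, hφ1⟩ := exists_irr_charDegree_ne_one hJ.not_comm
  have hφ' := hφ.comp_of_surjective _ hf
  have hk : charKer (fun g => φ (QuotientGroup.mk' K g)) = K := by
    ext x
    rw [hφ'.mem_charKer, map_one, ← hφ.mem_charKer, hJ.charKer_eq_bot hφ hφ1, mem_bot]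
    exact QuotientGroup.eq_one_iff x
  rcases hJ.dichotomy inferInstance with ⟨p, hp, hP, -⟩ | ⟨hfpf, hcop, -⟩
  · left
    have := Fact.mk hp
    obtain ⟨p, hp, hP, Z, hZ, ξ, k, hξ, -, hk0, hd, hi, hm⟩ :=
      (justNonab_degree_dichotomy _ hf hJ inferInstance).resolve_right fun e => e.1 hP.isNilpotent
    have := Fact.mk hp
    have h0 : charDegree ξ ≠ 1 := hd ▸ (Nat.one_lt_pow hk0.ne' hp.one_lt).ne'
    obtain ⟨P, M, hM, hc⟩ := thompson_of_cdSet (G := G) (p := p) fun d hd' h1 => by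
      by_contra h2
      obtain ⟨χ, hχ, rfl⟩ := mem_cdSet.1 hd'
      have h3 : (charDegree χ).Coprime Z.index := by
        rw [hi, hd, ← pow_mul]
        exact Nat.Coprime.pow_right _ ((Nat.Prime.coprime_iff_not_dvd hp).2 h2).symm
      have h4 := (hm χ hχ.isCharacter
        (isIrrCharacter_restrict_of_coprime hχ hχ.cast_charDegree.symm h3)).charDegree_mem_cdSet
      rw [charDegree_mul hχ.isCharacter hξ.isCharacter] at h4
      exact h0 (Nat.eq_of_mul_eq_mul_left hχ.charDegree_pos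
        ((mul_one _).trans (nd _ hd' _ h4 h1 (dvd_mul_right _ _)))).symm
    obtain ⟨a, ha⟩ := IsPGroup.iff_card.1 P.isPGroup'
    have hi' : M.index = p ^ a := hc.symm.index_eq_card.trans ha
    have hc' : (Nat.card M).Coprime p :=
      ((Nat.Prime.coprime_iff_not_dvd hp).2 (hc.index_eq_card ▸ P.not_dvd_index)).symm
    obtain ⟨j, hj⟩ := hφ.exists_charDegree_eq_pow hP
    have h5 := comm_iff_cdSet_subset.2 (nd.pc hp hi' (hi' ▸ hc'.pow_right a) hφ' ((charDegree_comp _ _).trans hj)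
      (fun e => hφ1 ((charDegree_comp φ (QuotientGroup.mk' K)).symm.trans e)) fun x hx => by
        obtain ⟨n, hn⟩ := hP (QuotientGroup.mk' K x)
        rw [hk]
        refine mem_of_cop (hc'.pow_right n) ?_ ((QuotientGroup.eq_one_iff _).1 hn)
        rw [show x ^ Nat.card M = 1 from congrArg Subtype.val (pow_card_eq_one' (x := (⟨x, hx⟩ : M)))]
        exact one_mem K)
    have h6 : ∀ d ∈ cdSet G, ∃ i, d = p ^ i := fun d hd' => by
      obtain ⟨χ, hχ, rfl⟩ := mem_cdSet.1 hd'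
      obtain ⟨i, -, e⟩ := (Nat.dvd_prime_pow hp).1 (hi' ▸ isIrr_degree_dvd_index_of_abelian_normal hχ
        hχ.cast_charDegree.symm M fun a ha b hb => congrArg Subtype.val (h5 ⟨a, ha⟩ ⟨b, hb⟩))
      exact ⟨i, e⟩
    intro a ha b hb a1 b1
    obtain ⟨i, rfl⟩ := h6 a ha
    obtain ⟨j, rfl⟩ := h6 b hb
    rcases le_total i j with e | e
    · exact nd _ ha _ hb a1 (pow_dvd_pow p e)
    · exact (nd _ hb _ ha b1 (pow_dvd_pow p e)).symm
  · obtain ⟨q, hq, hQ, -, hel⟩ := hJ.isMinNormal.exists_isPGroup inferInstance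
    have := Fact.mk hq
    obtain ⟨k, hk'⟩ := IsPGroup.iff_card.1 hQ
    have k0 : k ≠ 0 := fun e => hJ.ne_bot (card_eq_one.1 (by rw [hk', e, pow_zero]))
    have hi := index_comap_of_surjective (commutator (G ⧸ K)) hf
    have hd := hJ.charDegree_eq_index inferInstance hfpf hφ hφ1
    have e1 : ∀ x, x ∈ K ↔ QuotientGroup.mk' K x = 1 := fun x => (QuotientGroup.eq_one_iff x).symm
    refine Or.inr ⟨(commutator (G ⧸ K)).comap (QuotientGroup.mk' K), K, inferInstance, q, hq, ?_,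
      fun a ha b hb => ?_, fun a ha => ?_, fun g hg x hx e => ?_, ?_, by rwa [hi, ← hd], ?_,
      ⟨_, hφ', hk, by rw [charDegree_comp, hi, hd]⟩, fun d hd' => ?_⟩
    · rw [← map_commutator_of_surjective _ hf, comap_map_eq, QuotientGroup.ker_mk']
    · rw [e1, map_commutatorElement, commutatorElement_eq_one_iff_mul_comm]
      exact hJ.comm_commutator inferInstance _ ha _ hb
    · rw [e1, map_pow]; exact hel _ ha
    · rw [e1, map_commutatorElement, commutatorElement_eq_one_iff_mul_comm] at e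
      by_contra e2
      exact hg (hfpf _ _ hx (fun e3 => e2 ((e1 x).2 e3)) e)
    · obtain ⟨⟨b, hb⟩, b1⟩ := ne_bot_iff_exists_ne_one.1 hJ.ne_bot
      obtain ⟨x, rfl⟩ := hf b
      exact ⟨x, hb, fun e => b1 (Subtype.ext ((e1 x).1 e))⟩
    · rw [hi]
      exact (Nat.Prime.coprime_iff_not_dvd hq).1 (Nat.Coprime.coprime_dvd_left (dvd_pow_self q k0) (hk' ▸ hcop))
    · rw [hi]
      exact (frob_quotient_degree _ hf _ (hJ.comm_commutator inferInstance) hfpf hd').imp_right fun e =>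
        hq.dvd_of_dvd_pow ((dvd_pow_self q k0).trans (hk' ▸ e))

end CL.Char.NDiv
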