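/-
Solvable groups without divisibility among the nonlinear character degrees and with disconnected degree graph have
three character degrees.
-/
import Cfsg.Agent.Char.NDiv2

set_option autoImplicit false
set_option linter.unusedSectionVars false

open scoped commutatorElement
open Cfsg CL.Grp Subgroup CL.Char.RelDeg CL.Char.D4

namespace CL.Char.NDiv

variable {G : Type*} [Group G] [Finite G]

/-- The characters with a nonlinear constituent on `N` restrict irreducibly and have degree prime to the index. -/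
def Tp (N : Subgroup G) : Prop := ∀ χ, IsIrrCharacter G χ → ⁅N, N⁆ ≤ charKer χ ∨
  (IsIrrCharacter N (fun n : N => χ n) ∧ (charDegree χ).Coprime N.index)

theorem mem_comm {N : Subgroup G} {x : N} : x ∈ commutator N ↔ (x : G) ∈ ⁅N, N⁆ := by
  rw [← map_subtype_commutator]
  exact ⟨fun e => ⟨_, e, rfl⟩, fun ⟨y, e, e'⟩ => Subtype.ext e' ▸ e⟩

variable {N : Subgroup G} [hN : N.Normal]

theorem Tp.ext (T : Tp N) {ψ : N → ℂ} (hψ : IsIrrCharacter N ψ) (h1 : charDegree ψ ≠ 1) :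
    ∃ χ, IsIrrCharacter G χ ∧ ∀ n : N, χ n = ψ n := by
  have := Fintype.ofFinite G
  have := Fintype.ofFinite N
  obtain ⟨χ, hχ, hc⟩ := exists_irr_over N hψ
  rcases T χ hχ with h | ⟨h, -⟩
  · exact absurd (hψ.isCharacter.charDegree_eq_one_iff.2 (one_of_comm_le hψ hχ hc h)) h1
  · exact ⟨χ, hχ, congrFun (by_contra fun e => hc (h.classInner_of_ne hψ e))⟩

theorem Tp.inv (T : Tp N) {ψ : N → ℂ} (hψ : IsIrrCharacter N ψ) (h1 : charDegree ψ ≠ 1) (g : G) (n : N) :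
    ψ ⟨g * n * g⁻¹, hN.conj_mem n n.2 g⟩ = ψ n := by
  obtain ⟨χ, hχ, e⟩ := T.ext hψ h1
  rw [← e, ← e]
  exact hχ.isClassFunction _ _

theorem Tp.vanish (T : Tp N) {ψ : N → ℂ} (hψ : IsIrrCharacter N ψ) (h1 : charDegree ψ ≠ 1) {g : G} {x : N}
    (h : ⁅g, (x : G)⁆ ∉ ⁅N, N⁆) : ψ x = 0 := by
  obtain ⟨l, -, l2⟩ := exists_monoidHom_of_not_mem (N := commutator N) le_rfl
    (g := ⟨g * x * g⁻¹, hN.conj_mem x x.2 g⟩ * x⁻¹) fun e => h (mem_comm.1 e)
  have i1 := T.inv (hψ.lmul l) (by rwa [charDegree_lmul]) g x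
  rw [lmul_apply, lmul_apply, T.inv hψ h1 g x] at i1
  by_contra h0
  exact l2 (by rw [map_mul, Units.ext (mul_right_cancel₀ h0 i1), map_inv, mul_inv_cancel])

theorem Tp.cov (T : Tp N) {D : Subgroup G} [D.Normal] (l : Lin D) :
    (∀ w ∈ D, w ∈ ⁅N, N⁆ → ev l w = 1) ∨ (MulAction.stabilizer G l).index.Coprime N.index := by
  have := Fintype.ofFinite G
  have := Fintype.ofFinite D
  obtain ⟨χ, hχ, hc⟩ := exists_irr_over D (irr_lin l)
  refine (T χ hχ).imp (fun h w hw hw' => ?_) fun h => h.2.coprime_dvd_left (inertia_lin l ▸ index_dvd hχ (irr_lin l) hc)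
  have := apply_eq_one_of_mem_charKer (mem_ker_of_under (irr_lin l) hχ hc (x := ⟨w, hw⟩) (h hw'))
  rw [ev_of l hw]
  exact Units.ext (by simpa [tw] using this)

section Second

variable {E L : Subgroup G} [hE : E.Normal] {q : ℕ}

theorem exists_inert (nd : ND N) (hEN : E ≤ N) (F : Fr (E.subgroupOf N) (L.subgroupOf N) q) {θ : E → ℂ}
    (hθ : IsIrrCharacter E θ) (h1 : charDegree θ ≠ 1) : ¬ (inertia E θ).subgroupOf N ≤ E.subgroupOf N := fun h =>
  h1 ((charDegree_congr rfl).trans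
    (nd.lin F.mem F.one (isIrrCharacter_subgroupOf hEN hθ) (inertia_subgroupOf hEN ▸ h)))

theorem camE (nd : ND N) (hEN : E ≤ N) (F : Fr (E.subgroupOf N) (L.subgroupOf N) q) (A : Subgroup (Lin E))
    (hA : RelDeg.Inv A) (hf : ∀ t ∈ N, t ∉ E → ∀ l ∈ A, t • l = l → l = 1) (x : G) (hx : x ∈ E)
    (hl : ∃ l ∈ A, ev l x ≠ 1) (w : G) (hw : w ∈ ⁅E, E⁆) : ∃ y ∈ E, y * x * y⁻¹ = x * w := by
  have := Fintype.ofFinite E
  have hwE := commutator_le_left E E hw
  have hw' : (⟨w, hwE⟩ : E) ∈ commutator E := mem_comm.2 hw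
  obtain ⟨y, hy⟩ := isConj_iff.1 ((isConj_iff_forall_irr (⟨x, hx⟩ : E) (⟨x, hx⟩ * ⟨w, hwE⟩)).2 fun ⟨θ, hθ⟩ => by
    show θ _ = θ _
    by_cases h1 : charDegree θ = 1
    · rw [hθ.isClassFunction.mul_comm,
        apply_mul_of_mem_charKer (hθ.one_eq_one_iff.1 (hθ.isCharacter.charDegree_eq_one_iff.1 h1) hw')]
    obtain ⟨l, l1, l2⟩ := hl
    have h2 := (frob_counting (G := N) tw tw_one (fun a b y => (tw_tw a b y).symm)
      (fun g => MulDistribMulAction.toMonoidHom (Lin E) (g : G)⁻¹) (fun a => by simp)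
      (fun g h a => by simp [mul_smul]) (fun g => conjChar E g)
      (fun g a y => by have := conj_tw (g : G)⁻¹ a y; rwa [inv_inv] at this)
      (fun y => (inertia E y).subgroupOf N) mem_inertia_iff (E.subgroupOf N) A (fun g => hA _)
      (fun g hg m hm e => hf _ (inv_mem g.2) (fun e1 => hg (inv_mem_iff.1 e1)) m hm e) (ψ := θ)
      fun a => comap_mono (le_inertia (irr_tw hθ a).isClassFunction)).resolve_left fun ⟨m, _, e⟩ =>
        exists_inert nd hEN F (irr_tw hθ m) (fun e1 => h1 ((charDegree_congr (tw_apply_one m θ)).symm.trans e1)) e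
    have h3 : ∀ u : E, l.h u ≠ 1 → θ u = 0 := fun u hu => by_contra fun h0 =>
      hu (Units.ext (mul_right_cancel₀ h0 ((congrFun (h2 l l1) u).trans (one_mul _).symm)))
    rw [ev_of l hx] at l2
    rw [h3 _ l2, h3 _ (by rwa [map_mul, mem_commutator_iff_forall_monoidHom.1 hw' l.h, mul_one])])
  exact ⟨y, y.2, congrArg Subtype.val hy⟩

theorem stD (nd : ND N) (hEN : E ≤ N) (F : Fr (E.subgroupOf N) (L.subgroupOf N) q) (z : Lin ⁅E, E⁆) (z1 : z ≠ 1)
    (hz : ∀ e ∈ E, e • z = z) : ∃ t ∈ N, t ∉ E ∧ t • z = z := by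
  have := Fintype.ofFinite E
  have := Fintype.ofFinite (⁅E, E⁆ : Subgroup G)
  have := Fintype.ofFinite (⁅E, E⁆.subgroupOf E)
  have hD := commutator_le_left E E
  obtain ⟨θ, hθ, hc⟩ := exists_irr_over _ (isIrrCharacter_subgroupOf hD (irr_lin z))
  have hc' : classInner (fun n : (⁅E, E⁆ : Subgroup G) => θ ⟨n, hD n.2⟩) (tw z 1) ≠ 0 := by
    rw [← classInner_subgroupOf hD]; exact hc
  have h2 := congrFun (res_eq_smul_of_le_inertia hD (irr_lin z) (inertia_lin z ▸ hz) hθ hc')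
  obtain ⟨t, t1, t2⟩ := SetLike.not_le_iff_exists.1 (exists_inert nd hEN F hθ fun h1 => z1 (Lin.ext fun n => by
    have h3 := apply_eq_one_of_mem_charKer (hθ.one_eq_one_iff.1 (hθ.isCharacter.charDegree_eq_one_iff.1 h1)
      (mem_comm.2 n.2 : (⟨n, hD n.2⟩ : E) ∈ commutator E))
    simpa [tw] using mul_left_cancel₀ hc' ((h2 n).symm.trans (h3.trans (h2 1)))))
  refine ⟨t, t.2, t2, ?_⟩
  rw [← MulAction.mem_stabilizer_iff, ← inertia_lin]
  exact fun n => mul_left_cancel₀ hc' ((h2 _).symm.trans ((t1 ⟨n, hD n.2⟩).trans (h2 n)))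

theorem tower (hs : Group.IsSolvable G) {K : Subgroup G} {q0 : ℕ} (F0 : Fr N K q0) (T : Tp N) (nd : ND N)
    (hEN : E ≤ N) (F : Fr (E.subgroupOf N) (L.subgroupOf N) q) (he : E = ⁅N, N⁆ ⊔ L) (hL : L ≤ N) : ⁅E, E⁆ = ⊥ := by
  have := Fintype.ofFinite E
  obtain ⟨r, hr, hr'⟩ := Nat.exists_prime_and_dvd F0.one
  have h1 : ⁅N, N⁆ ≤ E := he ▸ le_sup_left
  have h2 : ⁅N, N⁆ ≤ K := commutator_le.2 F0.nk
  obtain ⟨φ, φ1, φ2, φ3⟩ := F.ch
  have φ4 : charDegree φ ≠ 1 := φ3 ▸ F.one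
  obtain ⟨g, hg⟩ : ∃ g, g ∉ N := by_contra fun e => F0.one (index_eq_one.2 (eq_top_iff.2 fun g _ => by_contra
    fun e1 => e ⟨g, e1⟩))
  have h3 : E ≤ K := he ▸ sup_le h2 fun x hx => F0.fp g hg x (hL hx) (h2 (by_contra fun e => φ1.one_ne_zero
    ((apply_eq_one_of_mem_charKer (φ2.ge (show ⟨x, hL hx⟩ ∈ L.subgroupOf N from hx))).symm.trans (T.vanish φ1 φ4 e))))
  have h4 : ∀ {n : ℕ}, n.Coprime N.index → ¬ r ∣ n := fun h e => hr.ne_one (Nat.eq_one_of_dvd_coprimes h e hr')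
  have h5 : ⁅E, E⁆ ≤ ⁅N, N⁆ := commutator_mono hEN hEN
  refine Tw.main (N := N) (q := q) (r := r) ⟨hs, F.hq, hr, hEN,
    fun a b => F0.eq ▸ mem_sup_left (commutator_mem_commutator (mem_top a) (mem_top b)),
    fun a ha b hb => h1 (commutator_mem_commutator ha hb), F.nd, ?_, hr', fun x hx ⟨g, hg⟩ w hw => ?_,
    fun g hg => ?_, fun l _ t t1 t2 t3 n hn => ?_, ?_, fun l ⟨n, hn, e⟩ => h4 ((T.cov l).resolve_left fun e1 => e ?_),
    fun z z1 => h4 ((T.cov z).resolve_left fun e => z1 (lin_one fun w hw => e w hw (h5 hw))), stD nd hEN F,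
    camE nd hEN F⟩
  · obtain ⟨χ, hχ, e⟩ := T.ext φ1 φ4
    have e1 : charDegree χ = charDegree φ := charDegree_congr (e 1)
    refine h4 (n := (E.subgroupOf N).index) (φ3 ▸ e1 ▸ ((T χ hχ).resolve_left fun e2 => φ4 ?_).2)
    exact φ1.isCharacter.charDegree_eq_one_iff.2 (φ1.one_eq_one_iff.2 fun x hx => φ1.mem_charKer.2 (by
      rw [← e, ← e]; exact apply_eq_one_of_mem_charKer (e2 (mem_comm.1 hx))))
  · refine (isConj_iff_forall_irr _ _).2 fun ⟨χ, hχ⟩ => ?_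
    show χ _ = χ _
    by_cases e : ⁅N, N⁆ ≤ charKer χ
    · rw [hχ.isClassFunction.mul_comm, apply_mul_of_mem_charKer (e (h5 hw))]
    have e1 := ((T χ hχ).resolve_left e).1
    have e2 : charDegree (fun n : N => χ n) ≠ 1 := fun e2 => e fun y hy => hχ.mem_charKer.2
      (apply_eq_one_of_mem_charKer (χ := fun n : N => χ n) (e1.one_eq_one_iff.1 (e1.isCharacter.charDegree_eq_one_iff.1 e2)
        (mem_comm.2 hy : (⟨y, commutator_le_left N N hy⟩ : N) ∈ commutator N)))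
    have hwE := commutator_le_left E E hw
    refine (T.vanish e1 e2 (x := ⟨x, hx⟩) fun e3 => hg (h1 e3)).trans
      (T.vanish e1 e2 (g := g) (x := ⟨x * w, mul_mem hx (hEN hwE)⟩) fun e3 => hg ?_).symm
    have e4 := mul_mem (h1 e3) (hE.conj_mem _ (mul_mem hwE (hE.conj_mem _ (inv_mem hwE) g)) x)
    rwa [show ⁅g, x * w⁆ * (x * (w * (g * w⁻¹ * g⁻¹)) * x⁻¹) = ⁅g, x⁆ by simp [commutatorElement_def, mul_assoc]] at e4
  · obtain ⟨x, x1, x2⟩ := F0.ex
    exact ⟨x, x1, fun e => x2 (F0.fp g hg x x1 (h3 e))⟩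
  · have := nd.reg F.mem (isIrrCharacter_subgroupOf hEN (irr_lin l))
      (charDegree_eq_of_eq ((tw_apply_one l 1).trans Nat.cast_one.symm))
    rw [inertia_subgroupOf hEN, inertia_lin] at this
    rcases this with e | e
    · exact MulAction.mem_stabilizer_iff.1 (subgroupOf_eq_top.1 e hn)
    · exact absurd (e (x := ⟨t, t1⟩) (mem_subgroupOf.2 (MulAction.mem_stabilizer_iff.2 t3))) t2
  · obtain ⟨t, ht⟩ : ∃ t : N, t ∉ E.subgroupOf N := by_contra fun e => F.one (index_eq_one.2 (eq_top_iff.2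
      fun g _ => by_contra fun e1 => e ⟨g, e1⟩))
    obtain ⟨x, x1, x2⟩ := F.ex
    obtain ⟨l, l1, l2⟩ := exists_monoidHom_of_not_mem (N := L.subgroupOf E) (commutator_le.2 fun a _ b _ =>
      F.nk ⟨a, hEN a.2⟩ a.2 ⟨b, hEN b.2⟩ b.2) (g := ⟨t * x * (t : G)⁻¹, hE.conj_mem x x1 t⟩ * (⟨x, x1⟩ : E)⁻¹)
      fun e => x2 (F.fp t ht x x1 e)
    refine ⟨l, Lin.ext fun n => ?_, t, t.2, fun e => l2 ?_⟩
    · exact congrArg Units.val ((map_pow l n q).symm.trans (l1 (F.pw ⟨n, hEN n.2⟩ n.2)))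
    · have e1 := ev_conj e x
      rw [map_mul, map_inv, mul_inv_eq_one]
      exact (ev_of l (hE.conj_mem x x1 t)).symm.trans (e1.trans (ev_of l (show (x : G) ∈ E from x1)))
  · refine Lin.ext fun u => congrArg Units.val ?_
    have e2 := commutator_mem_commutator (inv_mem hn) (hEN u.2)
    rw [← ev_coe, ← ev_coe, ev_smul, show n⁻¹ * u * n = ⁅n⁻¹, (u : G)⁆ * u by simp [commutatorElement_def],
      ev_mul l (h1 e2) u.2, e1 _ (h1 e2) e2, one_mul]

end Second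

theorem second (hs : Group.IsSolvable G) {K : Subgroup G} {q0 : ℕ} (F0 : Fr N K q0) (T : Tp N) (nd : ND N) :
    ∀ a ∈ cdSet N, ∀ b ∈ cdSet N, a ≠ 1 → b ≠ 1 → a = b := fun a ha b hb a1 b1 => by
  rcases nd.layer inferInstance fun e => a1 (comm_iff_cdSet_subset.1 (commutator_eq_bot_iff_comm.1 e) a ha) with
    h | ⟨E, L, hE, q, F⟩
  · exact h a ha b hb a1 b1
  obtain ⟨E, hEN, rfl⟩ : ∃ E' ≤ N, E'.subgroupOf N = E :=
    ⟨E.map N.subtype, map_subtype_le E, comap_map_eq_self_of_injective N.subtype_injective E⟩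
  obtain ⟨φ, φ1, φ2, φ3⟩ := F.ch
  obtain ⟨χ, hχ, e⟩ := T.ext φ1 (φ3 ▸ F.one)
  obtain rfl : (N ⊓ charKer χ).subgroupOf N = L := by
    ext x
    rw [← φ2, inf_subgroupOf_left, mem_subgroupOf, hχ.mem_charKer, φ1.mem_charKer, ← e, ← e, OneMemClass.coe_one]
  have he : E = ⁅N, N⁆ ⊔ N ⊓ charKer χ := by
    have := congrArg (map N.subtype) F.eq
    rwa [Subgroup.map_sup, map_subtype_commutator, subgroupOf_map_subtype, subgroupOf_map_subtype, inf_eq_left.2 hEN,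
      inf_eq_left.2 inf_le_left] at this
  have := hχ.charKer_normal
  have : E.Normal := he ▸ inferInstance
  have h1 := commutator_eq_bot_iff_le_centralizer.1 (tower hs F0 T nd hEN F he inf_le_left)
  have h2 : ∀ d ∈ cdSet N, d ≠ 1 → d = (E.subgroupOf N).index := fun d hd d1 => by
    refine nd _ hd _ F.mem d1 ?_
    obtain ⟨ψ, hψ, rfl⟩ := mem_cdSet.1 hd
    exact isIrr_degree_dvd_index_of_abelian_normal hψ hψ.cast_charDegree.symm _ fun x hx y hy =>
      Subtype.ext (h1 hy x hx)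
  rw [h2 a ha a1, h2 b hb b1]

theorem core (hs : Group.IsSolvable G) (nd : ND G) (sep : ∀ a ∈ cdSet G, ∃ d ∈ cdSet G, d ≠ 1 ∧ a.Coprime d) :
    (cdSet G).card = 3 := by
  obtain ⟨a, ha, a1, -⟩ := sep 1 one_mem_cdSet
  rcases nd.layer hs fun e => a1 (comm_iff_cdSet_subset.1 (commutator_eq_bot_iff_comm.1 e) a ha) with
    h | ⟨N, K, hN, q, F⟩
  · obtain ⟨d, hd, d1, hc⟩ := sep a ha
    exact absurd ((Nat.coprime_self d).1 (h a ha d hd a1 d1 ▸ hc)) d1
  have h1 : ∀ e ∈ cdSet N, e ≠ 1 → q ∣ e := fun e he e1 => (F.deg e he).resolve_left fun h2 =>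
    e1 (Nat.eq_of_mul_eq_mul_left (Nat.pos_of_ne_zero index_ne_zero_of_finite)
      ((mul_one _).trans (nd _ F.mem _ h2 F.one (dvd_mul_right _ _)))).symm
  have h2 : ∀ d ∈ cdSet G, q ∣ d → d.Coprime N.index := fun d hd hq => by
    obtain ⟨c, hc, c1, hdc⟩ := sep d hd
    obtain ⟨k, e, hk, he, rfl⟩ := exists_mem_cdSet_normal N hc
    by_cases e1 : e = 1
    · rwa [← nd _ hc _ F.mem c1 (by rwa [e1, mul_one])]
    · exact absurd (Nat.eq_one_of_dvd_coprimes hdc hq ((h1 e he e1).mul_left k)) F.hq.ne_one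
  have h3 : ∀ k e, k ∣ N.index → e ∈ cdSet N → e ≠ 1 → k * e ∈ cdSet G → k = 1 := fun k e hk he e1 h =>
    Nat.eq_one_of_dvd_coprimes (h2 _ h ((h1 e he e1).mul_left k)) (dvd_mul_right k e) hk
  have h4 : ∀ e ∈ cdSet N, e ≠ 1 → e ∈ cdSet G := fun e he e1 => by
    obtain ⟨k, hk, h⟩ := exists_dvd_of_mem_cdSet_normal he
    rwa [h3 k e hk he e1 h, one_mul] at h
  have h5 : ∀ d ∈ cdSet G, d ≠ 1 → d = N.index ∨ d ∈ cdSet N := fun d hd d1 => by
    obtain ⟨k, e, hk, he, rfl⟩ := exists_mem_cdSet_normal N hd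
    by_cases e1 : e = 1
    · exact Or.inl (nd _ hd _ F.mem d1 (by rwa [e1, mul_one]))
    · exact Or.inr (by rwa [h3 k e hk he e1 hd, one_mul])
  have T : Tp N := fun χ hχ => by
    have := Fintype.ofFinite G
    have := Fintype.ofFinite N
    obtain ⟨θ, hθ, hc⟩ := exists_irr_constituent_restrict N hχ
    by_cases e : charDegree θ = 1
    · exact Or.inl (comm_le_of_one hθ hχ hc (hθ.isCharacter.charDegree_eq_one_iff.1 e))
    have := h2 _ hχ.charDegree_mem_cdSet ((h1 _ hθ.charDegree_mem_cdSet e).trans (deg_dvd hχ hθ hc))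
    exact Or.inr ⟨isIrrCharacter_restrict_of_coprime hχ hχ.cast_charDegree.symm this, this⟩
  have h6 := second hs F T fun a ha b hb a1 hab => nd a (h4 a ha a1) b (h4 b hb fun e =>
    a1 (Nat.dvd_one.1 (e ▸ hab))) a1 hab
  obtain ⟨d, hd, d1, hc⟩ := sep _ F.mem
  have d2 : N.index ≠ d := fun e => d1 ((Nat.coprime_self d).1 (e ▸ hc))
  refine Finset.card_eq_three.2 ⟨1, N.index, d, F.one.symm, d1.symm, d2, Finset.ext fun c => ?_⟩
  simp only [Finset.mem_insert, Finset.mem_singleton]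
  refine ⟨fun h => or_iff_not_imp_left.2 fun c1 => (h5 c h c1).imp_right fun e =>
    h6 c e d ((h5 d hd d1).resolve_left d2.symm) c1 d1, ?_⟩
  rintro (rfl | rfl | rfl)
  exacts [one_mem_cdSet, F.mem, hd]

theorem sep_of_two (h : Nat.card ((degreeGraph G).induce (degreePrimes G)).ConnectedComponent = 2) :
    ∀ a ∈ cdSet G, ∃ d ∈ cdSet G, d ≠ 1 ∧ a.Coprime d := fun a ha => by
  by_contra! e
  have key : ∀ v : degreePrimes G, ∃ s : degreePrimes G, s.1 ∣ a ∧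
      ((degreeGraph G).induce (degreePrimes G)).Reachable v s := fun v => by
    obtain ⟨hv, d, hd, h1⟩ := v.2
    obtain ⟨s, hs, s1, s2⟩ := Nat.Prime.not_coprime_iff_dvd.1 (e d (mem_charDegrees_iff.1 hd) fun e1 =>
      hv.ne_one (Nat.dvd_one.1 (e1 ▸ h1)))
    exact ⟨⟨s, hs, d, hd, s2⟩, s1, degGraph_reach (mem_charDegrees_iff.1 hd) _ _ h1 s2⟩
  have : Subsingleton ((degreeGraph G).induce (degreePrimes G)).ConnectedComponent :=
    ⟨SimpleGraph.ConnectedComponent.ind₂ fun v w => by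
      obtain ⟨s, s1, s2⟩ := key v
      obtain ⟨t, t1, t2⟩ := key w
      exact SimpleGraph.ConnectedComponent.sound (s2.trans ((degGraph_reach ha s t s1 t1).trans t2.symm))⟩
  have := Finite.card_le_one_iff_subsingleton.2 this
  omega

end CL.Char.NDiv
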