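/-
Pálfy's three primes theorem.
-/
import Cfsg.Agent.Char.Palfy4

set_option autoImplicit false
set_option linter.unusedSectionVars false

open scoped Pointwise commutatorElement
open Cfsg CL.Grp Subgroup CL.Char.VanOrd CL.Grp.Homog CL.Char.RelDeg

namespace CL.Char.Palfy

universe u

variable {G : Type*} [Group G] [Finite G]

theorem gall_hall (hs : Group.IsSolvable G) {X : Type*} [Group X] [Finite X] {φ : G →* X} (hφ : Function.Surjective φ)
    {N P : Subgroup G} [N.Normal] [P.Normal] [Fintype N] (hP : φ.ker = P) (hc : (Nat.card P).Coprime P.index)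
    (l : Lin N) (hNP : N ≤ P) (hPT : P ≤ MulAction.stabilizer G l) {x y : ℕ} [hx : Fact x.Prime] (hxy : x.Coprime y)
    (hy : ∀ χ, IsIrrCharacter P χ → classInner (fun n : N => χ ⟨n, hNP n.2⟩) (tw l 1) ≠ 0 →
      y ∣ (MulAction.stabilizer G l).index * charDegree χ) (hd : ¬ Deg G (x * y)) :
    (∃! Q : Sylow x X, l ∈ Fx (Lin N) ((Q : Subgroup X).comap φ)) ∧
      ∀ Q : Sylow x X, ∀ a ∈ Q, ∀ b ∈ Q, a * b = b * a := by
  subst hP
  have := Fintype.ofFinite G
  obtain ⟨ψ, h1, h2, h3⟩ := ext_hall hs (irr_lin l) (inertia_lin l).ge hNP hPT hc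
  exact gall hs hφ (irr_lin l) (inertia_lin l).symm hNP hPT h1 h2 h3 hxy
    (hy _ (isIrrCharacter_of_subgroupOf hPT h2) h3) hd

theorem res_lin {N P : Subgroup G} [N.Normal] [Fintype N] (l : Lin N) (hNP : N ≤ P)
    (hPT : P ≤ MulAction.stabilizer G l) {χ : P → ℂ} (hχ : IsIrrCharacter P χ)
    (h : classInner (fun n : N => χ ⟨n, hNP n.2⟩) (tw l 1) ≠ 0) (n : N) : χ ⟨n, hNP n.2⟩ = χ 1 * l.h n := by
  have := Fintype.ofFinite G
  have h1 := res_eq_smul_of_le_inertia hNP (irr_lin l) (hPT.trans (inertia_lin l).ge) hχ h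
  have h2 : χ 1 = _ := congrFun h1 1
  rw [congrFun h1 n, h2]
  simp [tw]

theorem comm_of_lin {P : Subgroup G} [P.Normal] {a : G} {m : P}
    (h : ∀ μ : Lin P, μ.h (MulAut.conjNormal a m) = μ.h m) : ⁅a, (m : G)⁆ ∈ ⁅P, P⁆ := by
  rw [← map_subtype_commutator]
  exact ⟨MulAut.conjNormal a m * m⁻¹, mem_commutator_iff_forall_monoidHom.2 fun μ => by
    rw [map_mul, map_inv]; exact mul_inv_eq_one.2 (h μ), rfl⟩

theorem le_of_not_dvd {X : Type*} [Group X] [Finite X] {φ : G →* X} (hφ : Function.Surjective φ) {x : ℕ}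
    [Fact x.Prime] [Subsingleton (Sylow x X)] {T : Subgroup G} (hT : φ.ker ≤ T) (h : ¬ x ∣ T.index) (Q : Sylow x X) :
    (Q : Subgroup X).comap φ ≤ T := by
  obtain ⟨R, hR⟩ := exists_sylow_comap_le hφ hT h
  exact Subsingleton.elim R Q ▸ hR

omit [Finite G] in
theorem comm_calc {x y a : G} (i1 : ⁅a⁻¹, y⁆ * x⁻¹ = x⁻¹ * ⁅a⁻¹, y⁆) (i2 : ⁅x⁻¹, y⁆ * a = a * ⁅x⁻¹, y⁆)
    (i3 : y * ⁅x⁻¹, y⁆ = ⁅x⁻¹, y⁆ * y) : ⁅⁅x, a⁆, y⁆ = 1 := by
  rw [commutatorElement_eq_one_iff_mul_comm, commutatorElement_def x a]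
  calc _ = x * a * (x⁻¹ * ⁅a⁻¹, y⁆) * y * a⁻¹ := by rw [commutatorElement_def]; group
    _ = x * y * a * y⁻¹ * (⁅x⁻¹, y⁆ * y) * x⁻¹ * a⁻¹ := by rw [← i1]; simp only [commutatorElement_def]; group
    _ = x * y * (a * ⁅x⁻¹, y⁆) * x⁻¹ * a⁻¹ := by rw [← i3]; group
    _ = x * (y * ⁅x⁻¹, y⁆) * a * x⁻¹ * a⁻¹ := by rw [← i2]; group
    _ = _ := by rw [i3, commutatorElement_def]; group

/-- A normal Sylow subgroup whose derived subgroup is minimal normal. -/
structure CA (p : ℕ) (N P : Subgroup G) : Prop where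
  solv : Group.IsSolvable G
  min : IsMinNormal N
  pg : IsPGroup p P
  cop : ¬ p ∣ P.index
  comm : ⁅P, P⁆ = N

namespace CA

variable {p : ℕ} [hp : Fact p.Prime] {N P : Subgroup G} [N.Normal] [P.Normal] (h : CA p N P)
include h

theorem le : N ≤ P := h.comm ▸ commutator_le_left P P

theorem cent : P ≤ centralizer (N : Set G) := h.min.le_centralizer_of_isNilpotent h.pg.isNilpotent

theorem abel : ∀ a ∈ N, ∀ b ∈ N, a * b = b * a := fun a ha _ hb => mem_centralizer_iff.1 (h.cent (h.le hb)) a ha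

theorem coprime : (Nat.card P).Coprime P.index := by
  obtain ⟨k, hk⟩ := IsPGroup.iff_card.1 h.pg
  exact hk ▸ (hp.out.coprime_iff_not_dvd.2 h.cop).pow_left k

theorem stab (l : Lin N) : P ≤ MulAction.stabilizer G l := fun _ hg => lin_smul_of_mem (mem_sup_right (h.cent hg)) l

theorem ker (k : G) (hk : k ∈ (QuotientGroup.mk' P).ker) (v : Lin N) : k • v = v :=
  h.stab v ((QuotientGroup.eq_one_iff k).1 hk)

theorem dvd_deg [Fintype N] {l : Lin N} (hl : l ≠ 1) {χ : P → ℂ} (hχ : IsIrrCharacter P χ)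
    (h1 : classInner (fun n : N => χ ⟨n, h.le n.2⟩) (tw l 1) ≠ 0) : p ∣ charDegree χ := by
  obtain ⟨k, hk⟩ := hχ.exists_charDegree_eq_pow h.pg
  refine hk ▸ dvd_pow_self p fun e => hl (Lin.ext fun n => ?_)
  have h2 : χ 1 = 1 := by rw [← hχ.cast_charDegree, hk, e, pow_zero, Nat.cast_one]
  obtain ⟨x, hx, h3⟩ := (map_subtype_commutator P).ge (h.comm.ge n.2)
  have h4 := res_lin l h.le (h.stab l) hχ h1 n
  rw [show (⟨n, h.le n.2⟩ : P) = x from Subtype.ext h3.symm,
    hχ.isCharacter.mem_charKer.1 (hχ.one_eq_one_iff.1 h2 hx), h2, one_mul] at h4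
  exact h4.symm

theorem nontrivial : Nontrivial (Lin N) := by
  have := h.min.nontrivial
  rw [← Finite.one_lt_card_iff_nontrivial, card_lin h.abel]
  exact Finite.one_lt_card

theorem np {x : ℕ} [hx : Fact x.Prime] (hxp : x ≠ p) (hd : ¬ Deg G (x * p)) : NP (Lin N) (QuotientGroup.mk' P) x ∧
    ∀ Q : Sylow x (G ⧸ P), ∀ a ∈ Q, ∀ b ∈ Q, a * b = b * a := by
  have := Fintype.ofFinite N
  have key := fun (l : Lin N) (hl : l ≠ 1) => gall_hall h.solv (QuotientGroup.mk'_surjective P)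
    (QuotientGroup.ker_mk' P) h.coprime l h.le (h.stab l) ((Nat.coprime_primes hx.out hp.out).2 hxp)
    (fun χ h1 h2 => (h.dvd_deg hl h1 h2).mul_left _) hd
  have := h.nontrivial
  obtain ⟨l, hl⟩ := exists_ne (1 : Lin N)
  exact ⟨fun l hl => (key l hl).1, (key l hl).2⟩

variable {q : ℕ} [hq : Fact q.Prime] (hqp : q ≠ p) (hd : ¬ Deg G (q * p)) (hi : ¬ q ∣ Nat.card (Im G (Lin N)))
  (Q : Sylow q G)
include hqp hd hi

theorem subs : Subsingleton (Sylow q (G ⧸ P)) :=
  have := h.nontrivial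
  (h.np hqp hd).1.normal h.ker hi

omit h hqp hd hi in
theorem comap_eq : ((Q.mapSurjective (QuotientGroup.mk'_surjective P) : Sylow q (G ⧸ P)) : Subgroup (G ⧸ P)).comap
    (QuotientGroup.mk' P) = (Q : Subgroup G) ⊔ P := by
  rw [Sylow.coe_mapSurjective, comap_map_eq, QuotientGroup.ker_mk']

theorem sup_normal : ((Q : Subgroup G) ⊔ P).Normal := by
  have := h.subs hqp hd hi
  have := (Q.mapSurjective (QuotientGroup.mk'_surjective P)).normal_of_subsingleton
  rw [← comap_eq]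
  infer_instance

theorem sylow_le {T : Subgroup G} (hT : P ≤ T) (h1 : ¬ q ∣ T.index) : (Q : Subgroup G) ≤ T :=
  have := h.subs hqp hd hi
  le_sup_left.trans ((comap_eq Q).ge.trans (le_of_not_dvd (QuotientGroup.mk'_surjective P)
    ((QuotientGroup.ker_mk' P).le.trans hT) h1 _))

theorem sylow_cent : (Q : Subgroup G) ≤ centralizer (N : Set G) := fun a ha =>
  mem_centralizer_of_lin h.abel fun l => (NP.triv h.ker hi _).ge (mem_top l) a ((comap_eq Q).ge (mem_sup_left ha))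

omit hd hi in
theorem cop' : (Nat.card (Q : Subgroup G)).Coprime (Nat.card P) :=
  IsPGroup.coprime_card_of_ne q p hqp _ _ Q.isPGroup' h.pg

theorem moves (hq1 : Deg G q) : ¬ ⁅P, (Q : Subgroup G)⁆ ≤ N := fun h1 => by
  have := h.solv
  have := h.sup_normal hqp hd hi Q
  have h2 : (Q : Subgroup G) ≤ centralizer (P : Set G) := by
    rw [← commutator_eq_bot_iff_le_centralizer, commutator_comm,
      ← commutator_commutator_eq le_normalizer_of_normal (h.cop' hqp Q) (Or.inl inferInstance), eq_bot_iff]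
    refine (commutator_mono h1 le_rfl).trans ?_
    rw [le_bot_iff, commutator_comm, commutator_eq_bot_iff_le_centralizer]
    exact h.sylow_cent hqp hd hi Q
  refine not_deg_of_abelian (B := ((Q : Subgroup G) ⊔ P) ⊓ centralizer (P : Set G)) (fun a ha b hb => ?_)
    (fun e => Q.not_dvd_index (e.trans (index_dvd_of_le (le_inf le_sup_left h2)))) hq1
  obtain ⟨a, a1, a', a2, rfl⟩ := mem_sup_of_normal_right.1 ha.1
  obtain ⟨b, b1, b', b2, rfl⟩ := mem_sup_of_normal_right.1 hb.1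
  have h3 : Commute a b := commutatorElement_eq_one_iff_commute.1 (disjoint_def.1
    (IsPGroup.disjoint_of_ne q p hqp _ _ Q.isPGroup' h.pg) (comm_mem a1 b1) ((QuotientGroup.eq_one_iff _).1
      ((map_commutatorElement (QuotientGroup.mk' P) a b).trans (commutatorElement_eq_one_iff_mul_comm.2
        ((h.np hqp hd).2 (Q.mapSurjective (QuotientGroup.mk'_surjective P)) _ (mem_map_of_mem _ a1) _
          (mem_map_of_mem _ b1))))))
  exact ((h3.mul_right (mem_centralizer_iff.1 (h2 a1) b' b2).symm).mul_left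
    (mem_centralizer_iff.1 hb.2 a' a2)).eq

theorem fx_ne (hq1 : Deg G q) : Fx (Lin P) (Q : Subgroup G) ≠ ⊤ := fun e =>
  h.moves hqp hd hi Q hq1 (by
    rw [commutator_comm, ← h.comm]
    exact commutator_le.2 fun a ha m hm => comm_of_lin (m := ⟨m, hm⟩) fun μ => by
      rw [← inv_inv a, ← smul_h, e.ge (mem_top μ) _ (inv_mem ha)])

theorem dvd_stab {μ : Lin P} (h1 : μ ∉ Fx (Lin P) (Q : Subgroup G)) : q ∣ (MulAction.stabilizer G μ).index := by
  by_contra h2
  exact h1 (h.sylow_le hqp hd hi Q (fun g hg => lin_smul_of_mem (mem_sup_left hg) μ) h2)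

theorem onto {m : G} (hm : m ∈ P) {l : Lin N} (hl : l ≠ 1)
    (h1 : ∀ y (hy : y ∈ P), l.h ⟨⁅m, y⁆, h.comm.le (commutator_mem_commutator hm hy)⟩ = 1) :
    ∀ a ∈ Q, ⁅a, m⁆ ∈ N := fun a ha => by
  have := Fintype.ofFinite G
  have := Fintype.ofFinite N
  have := Fintype.ofFinite P
  have := Fintype.ofFinite (N.subgroupOf P)
  obtain ⟨θ, h2, h3⟩ := exists_irr_over (N.subgroupOf P) (isIrrCharacter_subgroupOf h.le (irr_lin l))
  replace h3 : classInner (fun n : N => θ ⟨n, h.le n.2⟩) (tw l 1) ≠ 0 := by rwa [← classInner_subgroupOf h.le]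
  have h4 : ∀ μ : Lin P, a ∈ inertia P (tw μ θ) := fun μ => h.sylow_le hqp hd hi Q
    (le_inertia (irr_tw h2 μ).isCharacter.isClassFunction) (fun e => hd (deg_of_inertia (irr_tw h2 μ)
      (mul_dvd_mul e (by
        rw [show charDegree (tw μ θ) = charDegree θ from charDegree_eq_of_eq (by rw [tw_apply_one, h2.cast_charDegree])]
        exact h.dvd_deg hl h2 h3)))) ha
  have h5 : θ ⟨m, hm⟩ ≠ 0 := fun e => h2.one_ne_zero (norm_eq_zero.1 (by
    rw [← norm_apply_of_mem_charCenter (g := ⟨m, hm⟩)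
      (h2.mem_charCenter_iff_commutator.2 fun y => h2.isCharacter.mem_charKer.2 (by
      have := res_lin l h.le (h.stab l) h2 h3 ⟨_, h.comm.le (commutator_mem_commutator hm y.2)⟩
      rwa [h1 y y.2, Units.val_one, mul_one] at this)), e, norm_zero]))
  refine h.comm.le (comm_of_lin (m := ⟨m, hm⟩) fun μ => Units.ext (mul_right_cancel₀ h5 ?_))
  have h6 := h4 1 ⟨m, hm⟩
  rw [tw_one] at h6
  exact (congrArg _ h6.symm).trans (h4 μ ⟨m, hm⟩)

theorem mixed (hq1 : Deg G q) {r : ℕ} [hr : Fact r.Prime] (hrp : r ≠ p) (hrq : r ≠ q) (hd' : ¬ Deg G (r * p))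
    (hd'' : ¬ Deg G (r * q)) : ¬ r ∣ Nat.card (Im G (Lin N)) := fun hi' => by
  have := h.solv
  obtain ⟨Q⟩ : Nonempty (Sylow q G) := inferInstance
  have := h.sup_normal hqp hd hi Q
  have := (this.map _ (QuotientGroup.mk'_surjective N))
  let D := P ⊓ (centralizer (((Q : Subgroup G) ⊔ P).map (QuotientGroup.mk' N) : Set (G ⧸ N))).comap
    (QuotientGroup.mk' N)
  have hmk : ∀ a b : G, ⁅a, b⁆ ∈ N ↔ QuotientGroup.mk' N a * QuotientGroup.mk' N b =
      QuotientGroup.mk' N b * QuotientGroup.mk' N a := fun a b => by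
    rw [← commutatorElement_eq_one_iff_mul_comm, ← map_commutatorElement]
    exact (QuotientGroup.eq_one_iff _).symm
  have d1 : ∀ x ∈ P, (∀ a ∈ Q, ⁅a, x⁆ ∈ N) → x ∈ D := fun x hx h1 => ⟨hx, mem_centralizer_iff.2 fun y hy =>
    mem_centralizer_singleton_iff.1 ((map_le_iff_le_comap.2 (sup_le
      (fun a ha => mem_centralizer_singleton_iff.2 ((hmk a x).1 (h1 a ha))) fun a ha =>
      mem_centralizer_singleton_iff.2 ((hmk a x).1 (h.comm.le (commutator_mem_commutator ha hx)))) :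
        _ ≤ centralizer {QuotientGroup.mk' N x}) hy)⟩
  have d2 : ∀ x ∈ D, ∀ a ∈ Q, ⁅a, x⁆ ∈ N := fun x hx a ha =>
    (hmk a x).2 (mem_centralizer_iff.1 hx.2 _ (mem_map_of_mem _ (mem_sup_left ha)))
  have d3 : P ≤ ⁅P, (Q : Subgroup G)⁆ ⊔ D :=
    (commutator_sup_centralizer_eq le_normalizer_of_normal (h.cop' hqp Q) (Or.inl inferInstance)).ge.trans
      (sup_le_sup_left (fun x hx => d1 x hx.1 fun a ha => by
        rw [commutatorElement_eq_one_iff_mul_comm.2 (mem_centralizer_iff.1 hx.2 a ha)]; exact one_mem N) _)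
  have d4 : N ≤ D := fun x hx => d1 x (h.le hx) fun a _ => commutator_le_right ⊤ N
    (commutator_mem_commutator (mem_top a) hx)
  obtain ⟨x, hx, a, ha, hm⟩ : ∃ x ∈ P, ∃ a ∈ Q, ⁅x, a⁆ ∉ D := by
    by_contra! h1
    refine h.moves hqp hd hi Q hq1 (by
      rw [commutator_comm]
      exact commutator_le.2 fun a ha x hx => d2 x (d3.trans (sup_le (commutator_le.2 h1) le_rfl) hx) a ha)
  have hmP : ⁅x, a⁆ ∈ P := commutator_le_left P ⊤ (commutator_mem_commutator hx (mem_top a))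
  have hc : ∀ y ∈ P, ∀ z ∈ P, ∀ w ∈ P, w * ⁅y, z⁆ = ⁅y, z⁆ * w := fun y hy z hz w hw =>
    (mem_centralizer_iff.1 (h.cent hw) _ (h.comm.le (commutator_mem_commutator hy hz))).symm
  let f : P →* N := MonoidHom.mk' (fun y => ⟨⁅⁅x, a⁆, (y : G)⁆, h.comm.le (commutator_mem_commutator hmP y.2)⟩)
    fun y z => Subtype.ext (by
      change ⁅⁅x, a⁆, (y : G) * z⁆ = ⁅⁅x, a⁆, (y : G)⁆ * ⁅⁅x, a⁆, (z : G)⁆
      rw [← mul_inv_cancel_right ⁅⁅x, a⁆, (z : G)⁆ y, ← hc _ hmP _ z.2 _ y.2]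
      generalize ⁅x, a⁆ = m
      simp only [commutatorElement_def]
      group)
  have f1 : f.range = ⊤ := by
    by_contra h1
    obtain ⟨n, hn⟩ := SetLike.exists_not_mem_of_ne_top _ h1
    obtain ⟨l, h2, h3⟩ := exists_monoidHom_of_not_mem (commutator_le.2 fun u _ v _ => by
      rw [commutatorElement_eq_one_iff_mul_comm.2 (Subtype.ext (h.abel u u.2 v v.2))]; exact one_mem _) hn
    exact hm (d1 _ hmP (h.onto hqp hd hi Q hmP (l := l) (fun e => h3 (by rw [show l = 1 from e]; rfl))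
      fun y hy => h2 ⟨⟨y, hy⟩, rfl⟩))
  have f2 : D.subgroupOf P < f.ker := by
    refine lt_of_le_of_ne (fun y hy => Subtype.ext ?_) fun e => hm (e.ge (show (⟨_, hmP⟩ : P) ∈ f.ker from
      Subtype.ext (commutatorElement_self _)))
    change ⁅⁅x, a⁆, (y : G)⁆ = 1
    exact comm_calc (mem_centralizer_iff.1 (h.cent (inv_mem hx)) _ (d2 y hy _ (inv_mem ha)))
      (mem_centralizer_iff.1 (h.sylow_cent hqp hd hi Q ha) _
        (h.comm.le (commutator_mem_commutator (inv_mem hx) y.2))) (hc _ (inv_mem hx) _ y.2 _ y.2)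
  have hπ := QuotientGroup.mk'_surjective D
  let φ : G ⧸ D →* G ⧸ P := QuotientGroup.lift D (QuotientGroup.mk' P) fun y hy => (QuotientGroup.eq_one_iff y).2 hy.1
  have hφ : Function.Surjective φ := fun y => by
    obtain ⟨y, rfl⟩ := QuotientGroup.mk'_surjective P y
    exact ⟨y, rfl⟩
  let K := P.map (QuotientGroup.mk' D)
  have : K.Normal := Normal.map inferInstance _ hπ
  have k1 : φ.ker = K := Subgroup.ext fun y => by
    obtain ⟨y, rfl⟩ := hπ y
    rw [← mem_comap, ← mem_comap, comap_map_eq_self ((QuotientGroup.ker_mk' D).le.trans inf_le_left)]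
    exact QuotientGroup.eq_one_iff y
  have k2 : ∀ a ∈ K, ∀ b ∈ K, a * b = b * a := by
    rintro _ ⟨y, hy, rfl⟩ _ ⟨z, hz, rfl⟩
    rw [← commutatorElement_eq_one_iff_mul_comm, ← map_commutatorElement]
    exact (QuotientGroup.eq_one_iff _).2 (d4 (h.comm.le (commutator_mem_commutator hy hz)))
  obtain ⟨c, k3⟩ := IsPGroup.iff_card.1 (h.pg.map (QuotientGroup.mk' D))
  have k4 : NP (Lin K) φ r := fun μ hμ => by
    have := Fintype.ofFinite K
    have k4 : K ≤ MulAction.stabilizer (G ⧸ D) μ := fun g hg => lin_smul_of_mem (mem_sup_left hg) μ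
    refine (gall_hall inferInstance hφ k1 (by
      rw [k3, index_map_eq _ hπ ((QuotientGroup.ker_mk' D).le.trans inf_le_left)]
      exact (hp.out.coprime_iff_not_dvd.2 h.cop).pow_left c) μ le_rfl k4 ((Nat.coprime_primes hr.out hq.out).2 hrq)
      (fun χ _ _ => Dvd.dvd.mul_right ?_ _) (mt (Deg.of_map _ hπ) hd'')).1
    by_contra k5
    have := h.subs hqp hd hi
    have k6 := le_of_not_dvd hφ (k1.le.trans k4) k5 (Q.mapSurjective (QuotientGroup.mk'_surjective P))
    have k7 : P ≤ (μ.h.ker.map K.subtype).comap (QuotientGroup.mk' D) := d3.trans (sup_le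
      (commutator_le.2 fun y hy b hb => ⟨⟨_, mem_map_of_mem _ hy⟩ * MulAut.conjNormal (b : G ⧸ D)
        ⟨_, mem_map_of_mem _ (inv_mem hy)⟩, by
          rw [SetLike.mem_coe, MonoidHom.mem_ker, map_mul, ← inv_inv (b : G ⧸ D), ← smul_h,
            MulAction.mem_stabilizer_iff.1 (inv_mem (k6 (mem_map_of_mem (QuotientGroup.mk' P) hb))), ← map_mul]
          exact (congrArg μ.h (Subtype.ext (mul_inv_cancel (y : G ⧸ D)))).trans (map_one _), by
          simp [commutatorElement_def, mul_assoc]⟩)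
      fun y hy => by rw [mem_comap, show QuotientGroup.mk' D y = 1 from (QuotientGroup.eq_one_iff y).2 hy]; exact one_mem _)
    refine hμ (Lin.ext ?_)
    rintro ⟨_, y, hy, rfl⟩
    obtain ⟨z, k8, k9⟩ := k7 hy
    rw [← show z = ⟨_, y, hy, rfl⟩ from Subtype.ext k9, show μ.h z = 1 from k8]
    rfl
  obtain ⟨R⟩ : Nonempty (Sylow r (G ⧸ P)) := inferInstance
  have c1 := (h.np hrp hd').1.count (QuotientGroup.mk'_surjective P) R
  have c2 := k4.count hφ R
  obtain ⟨n, c3⟩ := IsPGroup.iff_card.1 (h.pg.to_le h.le)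
  have c4 := (card_lin h.abel).trans c3
  have c5 := (card_lin k2).trans k3
  obtain ⟨b, c6, c7⟩ := (Nat.dvd_prime_pow hp.out).1 (c4 ▸ card_subgroup_dvd_card
    (Fx (Lin N) ((R : Subgroup (G ⧸ P)).comap (QuotientGroup.mk' P))))
  obtain ⟨d, -, c8⟩ := (Nat.dvd_prime_pow hp.out).1 (c5 ▸ card_subgroup_dvd_card
    (Fx (Lin K) ((R : Subgroup (G ⧸ P)).comap φ)))
  rw [c7, c4] at c1
  rw [c8, c5] at c2
  have c9 := num_le hp.out.one_lt (c6.lt_of_ne fun e => R.not_dvd_index (hi'.trans (by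
    rw [← index_ker, ← index_comap_of_surjective _ (QuotientGroup.mk'_surjective P)]
    exact index_dvd_of_le fun y hy => MulEquiv.ext fun l =>
      (eq_top_of_card_eq _ (c7.trans (e ▸ c4.symm))).ge (mem_top l) y hy))) c1 c2
  have c10 := index_strictAnti f2
  rw [index_ker, f1, card_top, c3, index_eq_card, Nat.card_congr (quotientSubgroupOfEquivMap P D).toEquiv,
    k3] at c10
  exact c9.not_gt ((Nat.pow_lt_pow_iff_right hp.out.one_lt).1 c10)

omit hqp hd hi in
theorem main {r : ℕ} [hr : Fact r.Prime] (hqp : q ≠ p) (hrp : r ≠ p) (hqr : q ≠ r) (h1 : Deg G q) (h2 : Deg G r)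
    (hd : ¬ Deg G (q * p)) (hd' : ¬ Deg G (r * p)) : Deg G (q * r) := by
  by_contra h3
  by_cases h4 : q ∣ Nat.card (Im G (Lin N)) <;> by_cases h5 : r ∣ Nat.card (Im G (Lin N))
  · exact h3 (ml_lin h.solv h.min (QuotientGroup.mk'_surjective P) h.ker hqr (h.np hqp hd).1 (h.np hrp hd').1 h4 h5)
  · exact h.mixed hrp hd' h5 h2 hqp hqr hd h3 h4
  · exact h.mixed hqp hd h4 h1 hrp hqr.symm hd' (mul_comm q r ▸ h3) h5
  obtain ⟨Q⟩ : Nonempty (Sylow q G) := inferInstance
  obtain ⟨R⟩ : Nonempty (Sylow r G) := inferInstance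
  obtain ⟨μ, h6⟩ := SetLike.exists_not_mem_of_ne_top _ (h.fx_ne hqp hd h4 Q h1)
  obtain ⟨ν, h7⟩ := SetLike.exists_not_mem_of_ne_top _ (h.fx_ne hrp hd' h5 R h2)
  obtain ⟨l, h8, h9⟩ : ∃ l : Lin P, l ∉ Fx (Lin P) (Q : Subgroup G) ∧ l ∉ Fx (Lin P) (R : Subgroup G) := by
    by_cases h8 : μ ∈ Fx (Lin P) (R : Subgroup G)
    · by_cases h9 : ν ∈ Fx (Lin P) (Q : Subgroup G)
      · exact ⟨μ * ν, mt (mul_mem_cancel_right h9).1 h6, mt (mul_mem_cancel_left h8).1 h7⟩
      · exact ⟨ν, h9, h7⟩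
    · exact ⟨μ, h6, h8⟩
  exact h3 (deg_of_lin l (((Nat.coprime_primes hq.out hr.out).2 hqr).mul_dvd_of_dvd_of_dvd
    (h.dvd_stab hqp hd h4 Q h8) (h.dvd_stab hrp hd' h5 R h9)))

end CA

theorem caseB (hs : Group.IsSolvable G) {N : Subgroup G} [N.Normal] (h : IsMinNormal N) {p q r : ℕ}
    [hp : Fact p.Prime] [hq : Fact q.Prime] [hr : Fact r.Prime] (P : Sylow p G) (hM : ((P : Subgroup G) ⊔ N).Normal)
    (hc : ∀ a ∈ P, ∀ b ∈ P, a * b = b * a) (hqp : q ≠ p) (hrp : r ≠ p) (hqr : q ≠ r) (h0 : Deg G p) (h1 : Deg G q)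
    (h2 : Deg G r) (hd : ¬ Deg G (q * p)) (hd' : ¬ Deg G (r * p)) : Deg G (q * r) := by
  have hN := h.isMulCommutative_of_isSolvable inferInstance
  have hN' : ∀ a ∈ N, ∀ b ∈ N, a * b = b * a := fun a ha b hb => setLike_mul_comm ha hb
  have hπ := QuotientGroup.mk'_surjective N
  have hH : N.IsComplement' (normalizer (P : Set G)) := h.isComplement'_of_sup_eq_top hN
    (fun e => have : (P : Subgroup G).Normal := normalizer_eq_top_iff.1 e
      not_deg_of_abelian hc P.not_dvd_index h0) (by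
    rw [eq_top_iff, ← P.normalizer_sup_eq_top' (le_sup_left : _ ≤ (P : Subgroup G) ⊔ N)]
    exact sup_le le_sup_right (sup_le (le_normalizer.trans le_sup_right) le_sup_left))
  have hk : ∀ k ∈ (QuotientGroup.mk' N).ker, ∀ v : Lin N, k • v = v := fun k hk =>
    lin_smul_of_mem (mem_sup_left ((QuotientGroup.eq_one_iff k).1 hk))
  have hab : ∀ A : Subgroup G, (A ⊔ N).Normal → A ⊔ N ≤ centralizer (N : Set G) →
      (∀ a ∈ A, ∀ b ∈ A, a * b = b * a) → ∀ x, ¬ x ∣ (A ⊔ N).index → ¬ Deg G x := fun A _ i1 i2 x i3 =>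
    not_deg_of_abelian (fun a ha b hb => by
      obtain ⟨a, a1, a', a2, rfl⟩ := mem_sup_of_normal_right.1 ha
      obtain ⟨b, b1, b', b2, rfl⟩ := mem_sup_of_normal_right.1 hb
      exact (((show Commute a b from i2 a a1 b b1).mul_right (mem_centralizer_iff.1 (i1 (mem_sup_left a1)) b' b2).symm).mul_left
        (mem_centralizer_iff.1 (i1 hb) a' a2)).eq) i3
  have hl : ∀ l : Lin N, l ≠ 1 → p ∣ (MulAction.stabilizer G l).index := fun l hl => by
    by_contra h3
    obtain ⟨R, hR⟩ := CL.Fgs.exists_sylow_le_of_not_dvd_index h3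
    obtain ⟨g, rfl⟩ := MulAction.exists_smul_eq G P R
    have h4 : g⁻¹ • l ∈ Fx (Lin N) ((P : Subgroup G) ⊔ N) := (sup_le (fun a ha => by
      have := smul_mem_Fx (K := (g • P : Sylow p G)) hR g⁻¹
      rw [← Sylow.coe_subgroup_smul, inv_smul_smul] at this
      exact this a ha) fun a ha => lin_smul_of_mem (mem_sup_left ha) _ :
        (P : Subgroup G) ⊔ N ≤ MulAction.stabilizer G (g⁻¹ • l))
    have h5 := (lin_irr h _ Fx_invariant).resolve_left fun e => smul_ne_one hl g⁻¹ (mem_bot.1 (e.le h4))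
    exact hab P hM (fun a ha => mem_centralizer_of_lin hN' fun l => h5.ge (mem_top l) a ha) hc p
      (fun e => P.not_dvd_index (e.trans (index_dvd_of_le le_sup_left))) h0
  have : Nontrivial (Lin N) := by
    have := h.nontrivial
    rw [← Finite.one_lt_card_iff_nontrivial, card_lin hN']
    exact Finite.one_lt_card
  have key : ∀ (x : ℕ) [Fact x.Prime], x ≠ p → Deg G x → ¬ Deg G (x * p) →
      NP (Lin N) (QuotientGroup.mk' N) x ∧ x ∣ Nat.card (Im G (Lin N)) := fun x hx i1 i2 i3 => by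
    have := Fintype.ofFinite G
    have := Fintype.ofFinite N
    choose μ hμ using ext_split hH
    have i4 := fun (l : Lin N) (i4 : l ≠ 1) => by
      exact gall hs hπ (irr_lin l) (inertia_lin l).symm (QuotientGroup.ker_mk' N).ge (fun k i5 => hk k i5 l)
        (isIrrCharacter_linear (μ l)) (isIrrCharacter_linear ((μ l).comp (Subgroup.subtype _))) (by
          rw [show (fun n : N => (μ l ⟨n, hk _ ((QuotientGroup.ker_mk' N).ge n.2) l⟩ : ℂ)) = tw l 1 from
            funext fun n => (congrArg Units.val (hμ l n _)).trans (mul_one _).symm, (irr_lin l).classInner_self]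
          exact one_ne_zero) ((Nat.coprime_primes hx.out hp.out).2 i1) ((hl l i4).mul_right _) i3
    have i5 : NP (Lin N) (QuotientGroup.mk' N) x := fun l i5 => (i4 l i5).1
    refine ⟨i5, by_contra fun i6 => ?_⟩
    have := i5.normal hk i6
    obtain ⟨Q⟩ : Nonempty (Sylow x (G ⧸ N)) := inferInstance
    have := Q.normal_of_subsingleton
    obtain ⟨l, i7⟩ := exists_ne (1 : Lin N)
    have i8 : normalizer (P : Set G) ⊓ (Q : Subgroup (G ⧸ N)).comap (QuotientGroup.mk' N) ⊔ N =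
        (Q : Subgroup (G ⧸ N)).comap (QuotientGroup.mk' N) := by
      have i8 : N ≤ (Q : Subgroup (G ⧸ N)).comap (QuotientGroup.mk' N) := (QuotientGroup.ker_mk' N).ge.trans
        (ker_le_comap _ _)
      rw [sup_comm, ← dedekind_right le_normalizer_of_normal i8, hH.sup_eq_top, top_inf_eq]
    refine hab (normalizer (P : Set G) ⊓ (Q : Subgroup (G ⧸ N)).comap (QuotientGroup.mk' N)) (i8.symm ▸ inferInstance)
      (i8.le.trans fun a ha => mem_centralizer_of_lin hN' fun l => (NP.triv hk i6 Q).ge (mem_top l) a ha)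
      (fun a ha b hb => commutatorElement_eq_one_iff_mul_comm.1 (disjoint_def.1 hH.disjoint
        ((QuotientGroup.eq_one_iff _).1 ((map_commutatorElement (QuotientGroup.mk' N) a b).trans
          (commutatorElement_eq_one_iff_mul_comm.2 ((i4 l i7).2 Q _ ha.2 _ hb.2)))) (comm_mem ha.1 hb.1))) x ?_ i2
    rw [i8, index_comap_of_surjective _ hπ]
    exact Q.not_dvd_index
  exact ml_lin hs h hπ hk hqr (key q hqp h1 hd).1 (key r hrp h2 hd').1 (key q hqp h1 hd).2 (key r hrp h2 hd').2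

theorem step (hs : Group.IsSolvable G) {N : Subgroup G} [N.Normal] (h : IsMinNormal N) {p q r : ℕ} (hp : p.Prime)
    (hq : q.Prime) (hr : r.Prime) (hqp : q ≠ p) (hrp : r ≠ p) (hqr : q ≠ r) (h0 : Deg G p) (h1 : Deg G q)
    (h2 : Deg G r) (h3 : ¬ Deg (G ⧸ N) p) (hd : ¬ Deg G (q * p)) (hd' : ¬ Deg G (r * p)) : Deg G (q * r) := by
  have := Fact.mk hp
  have := Fact.mk hq
  have := Fact.mk hr
  have hπ := QuotientGroup.mk'_surjective N
  obtain ⟨P⟩ : Nonempty (Sylow p G) := inferInstance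
  obtain ⟨h4, h5⟩ := (ito_normal_abelian_sylow_iff (CL.Loc.isPSolvable_of_isSolvable inferInstance)
    (P.mapSurjective hπ)).2 fun χ hχ e => h3 ⟨χ, hχ, e⟩
  have h6 : ((P : Subgroup G) ⊔ N).Normal := CA.comap_eq (P := N) P ▸ h4.comap _
  have h7 : ⁅(P : Subgroup G), (P : Subgroup G)⁆ ≤ N := commutator_le.2 fun a ha b hb =>
    (QuotientGroup.eq_one_iff _).1 ((map_commutatorElement (QuotientGroup.mk' N) a b).trans
      (commutatorElement_eq_one_iff_mul_comm.2 (h5 _ (mem_map_of_mem _ ha) _ (mem_map_of_mem _ hb))))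
  by_cases hc : ∀ a ∈ P, ∀ b ∈ P, a * b = b * a
  · exact caseB hs h P h6 hc hqp hrp hqr h0 h1 h2 hd hd'
  have h8 : ⁅(P : Subgroup G), (P : Subgroup G)⁆ ≠ ⊥ := fun e => hc fun a ha b hb =>
    commutatorElement_eq_one_iff_mul_comm.1 (mem_bot.1 (e.le (commutator_mem_commutator ha hb)))
  obtain ⟨s, hs1, hs2, -⟩ := h.exists_isPGroup inferInstance
  have := Fact.mk hs1
  obtain rfl : s = p := by
    by_contra h9
    exact h8 (eq_bot_iff.2 ((IsPGroup.disjoint_of_ne s p h9 _ _ hs2 P.isPGroup') h7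
      (commutator_le.2 fun a ha b hb => comm_mem ha hb)))
  rw [sup_eq_left.2 (hs2.le_sylow_of_normal P)] at h6
  exact CA.main ⟨hs, h, P.isPGroup', P.not_dvd_index, h.eq_of_le h8 h7⟩ hqp hrp hqr h1 h2 hd hd'

theorem palfy {p q r : ℕ} (hp : p.Prime) (hq : q.Prime) (hr : r.Prime) (hpq : p ≠ q) (hqr : q ≠ r) (hpr : p ≠ r)
    (G : Type u) [Group G] [Finite G] : Group.IsSolvable G → Deg G p → Deg G q → Deg G r →
      Deg G (p * q) ∨ Deg G (q * r) ∨ Deg G (p * r) := by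
  refine induction_on_card (P := fun G _ _ => Group.IsSolvable G → Deg G p → Deg G q → Deg G r →
    Deg G (p * q) ∨ Deg G (q * r) ∨ Deg G (p * r)) (fun G _ _ ih hs h1 h2 h3 => ?_) G
  by_contra! h
  have : Nontrivial G := by
    obtain ⟨χ, h4, h5⟩ := h1
    exact Finite.one_lt_card_iff_nontrivial.1 (hp.one_lt.trans_le (Nat.le_of_dvd Nat.card_pos
      (h5.trans h4.charDegree_dvd_card)))
  obtain ⟨N, hN⟩ := exists_isMinNormal G
  have := hN.normal
  have hπ := QuotientGroup.mk'_surjective N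
  by_cases i1 : Deg (G ⧸ N) p
  · by_cases i2 : Deg (G ⧸ N) q
    · by_cases i3 : Deg (G ⧸ N) r
      · rcases ih _ (card_quotient_lt hN.ne_bot) inferInstance i1 i2 i3 with e | e | e
        exacts [h.1 (e.of_map _ hπ), h.2.1 (e.of_map _ hπ), h.2.2 (e.of_map _ hπ)]
      · exact h.1 (step hs hN hr hp hq hpr hqr hpq h3 h1 h2 i3 h.2.2 h.2.1)
    · exact h.2.2 (step hs hN hq hp hr hpq hqr.symm hpr h2 h1 h3 i2 h.1 (mul_comm q r ▸ h.2.1))
  · exact h.2.1 (step hs hN hp hq hr hpq.symm hpr.symm hqr h1 h2 h3 i1 (mul_comm p q ▸ h.1) (mul_comm p r ▸ h.2.2))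

end CL.Char.Palfy
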