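import Cfsg.Agent.Char.GalFix
import Cfsg.Agent.Char.DegPDiv
import Cfsg.Agent.Grp.MinNormal
import Cfsg.Agent.Grp.SylowIn
import Cfsg.Agent.S4784
import Cfsg.Agent.S0160

/-! Groups all of whose real irreducible characters have degree prime to `p`. -/

set_option autoImplicit false
open Cfsg
open scoped ComplexConjugate commutatorElement Pointwise

namespace CL.Char

universe u

variable {G : Type*} [Group G]

/-- The subgroup generated by the `q`-elements. -/
abbrev rppGen (q : ℕ) (G : Type*) [Group G] : Subgroup G :=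
  Subgroup.closure {g : G | ∃ k : ℕ, orderOf g = q ^ k}

instance rppGen_normal (q : ℕ) : (rppGen q G).Normal := by
  refine ⟨fun n hn g => ?_⟩
  induction hn using Subgroup.closure_induction with
  | mem x hx =>
    obtain ⟨k, hk⟩ := hx
    refine Subgroup.subset_closure ⟨k, ?_⟩
    rw [← hk]
    exact (MulAut.conj g).orderOf_eq x
  | one => simp
  | mul x y _ _ hx hy =>
    convert (rppGen q G).mul_mem hx hy using 1
    group
  | inv x _ hx =>
    convert (rppGen q G).inv_mem hx using 1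
    group

theorem rpp_le_gen [Finite G] {q : ℕ} [Fact q.Prime] {S : Subgroup G} (hS : IsPGroup q S) :
    S ≤ rppGen q G := fun x hx => by
  obtain ⟨k, hk⟩ := IsPGroup.iff_orderOf.1 hS ⟨x, hx⟩
  exact Subgroup.subset_closure ⟨k, by rw [← hk]; exact Subgroup.orderOf_mk x hx ▸ rfl⟩

theorem rpp_not_dvd_index [Finite G] (q : ℕ) [Fact q.Prime] : ¬ q ∣ (rppGen q G).index := by
  obtain ⟨S⟩ : Nonempty (Sylow q G) := inferInstance
  exact fun h => S.not_dvd_index (h.trans (Subgroup.index_dvd_of_le (rpp_le_gen S.isPGroup')))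

theorem rpp_odd_index [Finite G] : Odd (rppGen 2 G).index := by
  rw [← Nat.not_even_iff_odd, even_iff_two_dvd]
  exact rpp_not_dvd_index 2

theorem rpp_mem_of_not_dvd_index [Finite G] {q : ℕ} (hq : q.Prime) {M : Subgroup G} [M.Normal]
    (h : ¬ q ∣ M.index) {g : G} {k : ℕ} (hg : orderOf g = q ^ k) : g ∈ M := by
  rw [← QuotientGroup.eq_one_iff, ← orderOf_eq_one_iff]
  have h1 : orderOf (g : G ⧸ M) ∣ q ^ k := hg ▸ orderOf_map_dvd (QuotientGroup.mk' M) g
  exact Nat.eq_one_of_dvd_coprimes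
    (Nat.Coprime.pow_left k ((Nat.Prime.coprime_iff_not_dvd hq).2 h)) h1 (orderOf_dvd_natCard _)

theorem rpp_gen_le_of_not_dvd_index [Finite G] {q : ℕ} (hq : q.Prime) {M : Subgroup G} [M.Normal]
    (h : ¬ q ∣ M.index) : rppGen q G ≤ M :=
  (Subgroup.closure_le _).2 fun _ ⟨_, hk⟩ => rpp_mem_of_not_dvd_index hq h hk

theorem rpp_sylow_le_of_not_dvd_index [Finite G] {p : ℕ} [hp : Fact p.Prime] {M : Subgroup G}
    [M.Normal] (h : ¬ p ∣ M.index) (P : Sylow p G) : (P : Subgroup G) ≤ M :=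
  (rpp_le_gen P.isPGroup').trans (rpp_gen_le_of_not_dvd_index hp.out h)

theorem rpp_exists_sylow_le [Finite G] {p : ℕ} [hp : Fact p.Prime] {T : Subgroup G}
    (h : ¬ p ∣ T.index) : ∃ P : Sylow p G, (P : Subgroup G) ≤ T := by
  obtain ⟨S, hS⟩ := CL.Grp.exists_isSylowIn p T
  obtain ⟨P, hP⟩ := CL.Grp.isSylowIn_top_iff.1 (⟨le_top, hS.isPGroup, fun h1 => by
    rw [Subgroup.relIndex_top_right, ← Subgroup.relIndex_mul_index hS.le] at h1
    exact ((Nat.Prime.dvd_mul hp.out).1 h1).elim hS.not_dvd h⟩ : CL.Grp.IsSylowIn p S ⊤)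
  exact ⟨P, hP ▸ hS.le⟩

/-- Clifford's degree formula with natural numbers. -/
theorem rpp_degree [Fintype G] {N : Subgroup G} [N.Normal] [Fintype N] {χ : G → ℂ}
    (hχ : IsIrrCharacter G χ) {θ : N → ℂ} (hθ : IsIrrCharacter N θ)
    (h : classInner (fun n : N => χ n) θ ≠ 0) :
    ∃ e : ℕ, classInner (fun n : N => χ n) θ = e ∧
      charDegree χ = e * (inertia N θ).index * charDegree θ := by
  obtain ⟨e, he⟩ := (hχ.isCharacter.comp N.subtype).exists_nat_classInner hθ.isCharacter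
  refine ⟨e, he, ?_⟩
  have h1 := clifford_degree hχ hθ h
  rw [← hχ.cast_charDegree, ← hθ.cast_charDegree] at h1
  erw [he] at h1
  exact_mod_cast h1

/-- All real irreducible characters have degree prime to `p`. -/
def RealPP (p : ℕ) (G : Type*) [Group G] : Prop :=
  ∀ χ, IsIrrCharacter G χ → (∀ g, (χ g).im = 0) → ¬ p ∣ charDegree χ

theorem RealPP.subgroup [Finite G] {p : ℕ} (h : RealPP p G) (N : Subgroup G) [N.Normal]
    (hodd : Odd N.index) : RealPP p N := fun θ hθ hr hd => by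
  have := Fintype.ofFinite G
  have := Fintype.ofFinite N
  obtain ⟨χ, hχ, hχr, h1, -⟩ := exists_unique_real_over hodd hθ hr
  obtain ⟨e, -, he⟩ := rpp_degree hχ hθ (h1 ▸ one_ne_zero)
  exact h χ hχ hχr (he ▸ hd.mul_left _)

theorem RealPP.quotient {p : ℕ} (h : RealPP p G) (N : Subgroup G) [N.Normal] :
    RealPP p (G ⧸ N) := fun _ hθ hr hd =>
  h _ hθ.inflate (fun g => hr g) hd

theorem rpp_eq_one_of_le_charKer [Fintype G] {N H : Subgroup G} [N.Normal] [Fintype H]
    (hs : N ⊔ H = ⊤) {χ : G → ℂ} (hχ : IsIrrCharacter G χ) (hN : N ≤ charKer χ)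
    (h : classInner (fun x : H => χ x) (fun _ => 1) ≠ 0) : χ = fun _ => 1 := by
  obtain ⟨ψ, hψ, rfl⟩ := hχ.exists_quotient N hN
  have hf : Function.Surjective ((QuotientGroup.mk' N).comp H.subtype) := fun q => by
    obtain ⟨g, rfl⟩ := QuotientGroup.mk_surjective q
    have h1 : g ∈ H ⊔ N := by rw [sup_comm, hs]; trivial
    obtain ⟨a, ha, b, hb, rfl⟩ := Subgroup.mem_sup_of_normal_right.1 h1
    exact ⟨⟨a, ha⟩, by simp [(QuotientGroup.eq_one_iff b).2 hb]⟩
  have h1 := (isIrrCharacter_comp_iff hψ.isCharacter _ hf).2 hψ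
  have h2 := h1.eq_of_classInner_ne_zero isIrrCharacter_one h
  funext g
  obtain ⟨x, hx⟩ := hf (g : G ⧸ N)
  rw [← hx]
  exact congrFun h2 x

theorem rpp_normal_aux (p : ℕ) [hp : Fact p.Prime] (G : Type u) [Group G] [Finite G] :
    RealPP p G → (∃ L : Subgroup G, L.Normal ∧ Group.IsSolvable L ∧ ¬ p ∣ L.index) →
      (∀ M : Subgroup G, M.Normal → Odd M.index → ∃ a, M.index = p ^ a) →
      ∀ P : Sylow p G, (P : Subgroup G).Normal := by
  refine CL.Grp.induction_on_card (P := fun G _ _ => RealPP p G →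
    (∃ L : Subgroup G, L.Normal ∧ Group.IsSolvable L ∧ ¬ p ∣ L.index) →
      (∀ M : Subgroup G, M.Normal → Odd M.index → ∃ a, M.index = p ^ a) →
      ∀ P : Sylow p G, (P : Subgroup G).Normal) (fun G _ _ ih => ?_) G
  classical
  rintro hR ⟨L, hL, hLs, hLi⟩ hO P
  have := Fintype.ofFinite G
  rcases subsingleton_or_nontrivial G with hG | hG
  · exact ⟨fun n hn g => by rwa [Subsingleton.elim (g * n * g⁻¹) n]⟩
  obtain ⟨N, hN⟩ := CL.Grp.exists_isMinNormal G
  have := hN.normal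
  have hsup : ∀ S : Sylow p G, N ⊔ Subgroup.normalizer ((S : Subgroup G) : Set G) = ⊤ := fun S => by
    have h1 := ih (G ⧸ N) (CL.Grp.card_quotient_lt hN.ne_bot) (hR.quotient N)
      ⟨L.map (QuotientGroup.mk' N), hL.map _ (QuotientGroup.mk'_surjective N),
        Group.isSolvable_of_surjective (MonoidHom.subgroupMap_surjective _ L),
        fun h => hLi (h.trans (L.index_map_dvd (QuotientGroup.mk'_surjective N)))⟩
      (fun M hM hodd => by
        have h2 := M.index_comap_of_surjective (QuotientGroup.mk'_surjective N)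
        rw [← h2] at hodd ⊢
        exact hO _ (hM.comap _) hodd) (S.mapSurjective (QuotientGroup.mk'_surjective N))
    have h2 : ((S : Subgroup G) ⊔ N).Normal := by
      have h3 := h1.comap (QuotientGroup.mk' N)
      rwa [Sylow.coe_mapSurjective, Subgroup.comap_map_eq, QuotientGroup.ker_mk'] at h3
    have h3 := Sylow.normalizer_sup_eq_top' S (le_sup_left : (S : Subgroup G) ≤ (S : Subgroup G) ⊔ N)
    change Subgroup.normalizer ((S : Subgroup G) : Set G) ⊔ _ = ⊤ at h3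
    rw [← sup_assoc, sup_eq_left.2 Subgroup.le_normalizer, sup_comm] at h3
    exact h3
  have hnorm : ∀ S : Sylow p G, N ≤ Subgroup.normalizer ((S : Subgroup G) : Set G) →
      (P : Subgroup G).Normal := fun S h => by
    have h1 := hsup S
    rw [sup_eq_right.2 h, Subgroup.normalizer_eq_top_iff] at h1
    have := Sylow.unique_of_normal S h1
    rwa [Subsingleton.elim P S]
  rcases hN.le_or_commutator_eq_bot L with hNL | hNL
  swap
  · refine hnorm P (CL.Grp.le_normalizer_of_le_centralizer ?_)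
    exact Subgroup.commutator_eq_bot_iff_le_centralizer.1 (le_bot_iff.1 (hNL ▸
      Subgroup.commutator_mono le_rfl (rpp_sylow_le_of_not_dvd_index hLi P)))
  have hNs : Group.IsSolvable N :=
    Group.isSolvable_of_isSolvable_injective (Subgroup.inclusion_injective hNL)
  have := hN.isMulCommutative_of_isSolvable hNs
  obtain ⟨q, hq, hNq, -⟩ := hN.exists_isPGroup hNs
  by_cases hqp : q = p
  · subst hqp
    exact hnorm P ((hNq.le_sylow_of_normal P).trans Subgroup.le_normalizer)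
  by_contra hP
  have h1 : N ⊓ Subgroup.normalizer ((P : Subgroup G) : Set G) = ⊥ := by
    by_contra h
    have := CL.Grp.normal_inf_of_abelian_of_sup_eq_top (hsup P)
    exact hP (hnorm P (inf_eq_left.1 (hN.eq_of_le h inf_le_left)))
  have h2 : ¬ Odd (Subgroup.normalizer ((P : Subgroup G) : Set G)).normalCore.index := fun h => by
    obtain ⟨a, ha⟩ := hO _ inferInstance h
    have h3 : N ≤ (Subgroup.normalizer ((P : Subgroup G) : Set G)).normalCore := by
      have := Fact.mk hq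
      refine (rpp_le_gen hNq).trans (rpp_gen_le_of_not_dvd_index hq ?_)
      rw [ha]
      exact fun h4 => hqp ((Nat.prime_dvd_prime_iff_eq hq hp.out).1 (hq.dvd_of_dvd_pow h4))
    exact hN.ne_bot (le_bot_iff.1 (h1 ▸ le_inf le_rfl (h3.trans (Subgroup.normalCore_le _))))
  rw [← Cfsg.Agent.S4784.result, Nat.card_eq_one_iff_exists] at h2
  have h11 : classInner (indFun (Subgroup.normalizer ((P : Subgroup G) : Set G))
      (fun _ => (1 : ℂ))) (irrOne G : G → ℂ) = 1 := by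
    rw [frobenius_reciprocity _ (irrOne G).2.isClassFunction]
    exact isIrrCharacter_one.classInner_self
  push Not at h2
  obtain ⟨⟨χ, h3, h4, h4'⟩, h5⟩ := h2 ⟨irrOne G, by rw [h11]; exact one_ne_zero, fun g => by simp,
    fsInd_const_one⟩
  rw [classInner_indFun_eq_res isIrrCharacter_one.isCharacter χ.2.isCharacter] at h3
  have h6 : ¬ N ≤ charKer (χ : G → ℂ) := fun h => h5
    (Subtype.ext (Subtype.ext (rpp_eq_one_of_le_charKer (hsup P) χ.2 h h3)))
  obtain ⟨θ, hθ, h7⟩ := exists_irr_constituent_restrict N χ.2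
  obtain ⟨e, -, he⟩ := rpp_degree χ.2 hθ h7
  have h8 := hR _ χ.2 fun g => Complex.conj_eq_iff_im.1 (h4 g)
  obtain ⟨S, hS⟩ := rpp_exists_sylow_le (p := p) (T := inertia N θ) fun h =>
    h8 (he ▸ (h.mul_left _).mul_right _)
  obtain ⟨lam, rfl⟩ := hθ.exists_monoidHom_of_comm fun a b => mul_comm' a b
  have h9 : (⁅N, (S : Subgroup G)⁆).Normal :=
    CL.Grp.normal_of_sup_le_normalizer (hsup S)
      (CL.Grp.le_normalizer_of_isMulCommutative (Subgroup.commutator_le_left _ _)) (by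
        intro g hg
        rw [← CL.Grp.conj_smul_eq_self_iff, CL.Grp.conj_smul_eq_map, Subgroup.map_commutator,
          ← CL.Grp.conj_smul_eq_map, ← CL.Grp.conj_smul_eq_map,
          (CL.Grp.conj_smul_eq_self_iff _ _).2 hg,
          (CL.Grp.conj_smul_eq_self_iff _ _).2 (Subgroup.le_normalizer_of_normal (Subgroup.mem_top g))])
  have h10 : ⁅N, (S : Subgroup G)⁆ = N := by
    refine hN.eq_of_le (fun h => hP (hnorm S ?_)) (Subgroup.commutator_le_left _ _)
    exact CL.Grp.le_normalizer_of_le_centralizer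
      (Subgroup.commutator_eq_bot_iff_le_centralizer.1 h)
  have h12 : ⁅N, (S : Subgroup G)⁆ ≤ lam.ker.map N.subtype := by
    rw [Subgroup.commutator_le]
    intro n hn s hs
    have h13 := mem_inertia.1 (hS hs) ⟨n⁻¹, N.inv_mem hn⟩
    refine ⟨⟨n, hn⟩ * ⟨s * n⁻¹ * s⁻¹, hN.normal.conj_mem _ (N.inv_mem hn) s⟩, ?_, by
      simp [commutatorElement_def, mul_assoc]⟩
    have h14 : lam ⟨s * n⁻¹ * s⁻¹, hN.normal.conj_mem _ (N.inv_mem hn) s⟩ = lam ⟨n, hn⟩⁻¹ :=
      Units.ext h13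
    rw [SetLike.mem_coe, MonoidHom.mem_ker, map_mul, h14, ← map_mul, mul_inv_cancel, map_one]
  refine h6 fun n hn => χ.2.mem_charKer.2
    (apply_eq_one_of_classInner_res_one_ne_zero χ.2 ?_ hn)
  convert h7 using 2
  funext m
  rw [h10] at h12
  obtain ⟨m', h13, h14⟩ := h12 m.2
  rw [← (Subtype.ext h14 : m' = m), MonoidHom.mem_ker.1 h13]
  rfl

theorem rpp_normal_sylow [Finite G] {p : ℕ} [hp : Fact p.Prime] (hs : Group.IsSolvable (rppGen p G))
    (hR : RealPP p G) (U : Subgroup G) [U.Normal] (hKU : rppGen 2 G ≤ U) {a : ℕ}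
    (ha : (rppGen 2 G).relIndex U = p ^ a) (Q : Sylow p U) : (Q : Subgroup U).Normal := by
  refine rpp_normal_aux p U (hR.subgroup U (rpp_odd_index.of_dvd_nat
    (Subgroup.index_dvd_of_le hKU))) ⟨(rppGen p G).subgroupOf U, inferInstance, ?_, fun h => ?_⟩
    (fun M hM hodd => ?_) Q
  · exact Group.isSolvable_of_isSolvable_injective (f := (U.subtype.subgroupComap _))
      (fun x y h => Subtype.ext (Subtype.ext (congrArg (fun z : rppGen p G => (z : G)) h)))
  · exact rpp_not_dvd_index p (h.trans (Subgroup.relIndex_dvd_index_of_normal _ _))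
  · have h1 : (rppGen 2 G).subgroupOf U ≤ M := by
      rw [← Subgroup.map_le_map_iff_of_injective U.subtype_injective,
        Subgroup.subgroupOf_map_subtype, inf_eq_left.2 hKU]
      refine (Subgroup.closure_le _).2 fun g ⟨k, hk⟩ => ?_
      refine ⟨⟨g, hKU (Subgroup.subset_closure ⟨k, hk⟩)⟩, ?_, rfl⟩
      refine rpp_mem_of_not_dvd_index Nat.prime_two (k := k) ?_ (by rw [← hk, Subgroup.orderOf_mk])
      rwa [← even_iff_two_dvd, Nat.not_even_iff_odd]
    obtain ⟨b, -, hb⟩ := (Nat.dvd_prime_pow hp.out).1 ((Subgroup.index_dvd_of_le h1).trans ha.dvd)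
    exact ⟨b, hb⟩

theorem rpp_exists_real_lift [Finite G] {M : Subgroup G} [hM : M.Normal] (hodd : Odd (Nat.card M))
    {x : G} (hx : IsConj (x : G ⧸ M) (x : G ⧸ M)⁻¹) :
    ∃ y : G, (y : G ⧸ M) = x ∧ IsConj y y⁻¹ := by
  classical
  obtain ⟨c, hc⟩ := isConj_iff.1 hx
  obtain ⟨g, rfl⟩ := QuotientGroup.mk_surjective c
  obtain ⟨k, m, hm, hkm⟩ := Nat.exists_eq_two_pow_mul_odd (orderOf_pos g).ne'
  obtain ⟨r, rfl⟩ := hm
  have h1 : ∀ j : ℕ, (g : G ⧸ M) ^ (2 * j + 1) * x * ((g : G ⧸ M) ^ (2 * j + 1))⁻¹ =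
      (x : G ⧸ M)⁻¹ := fun j => by
    induction j with
    | zero => simpa using hc
    | succ j ih =>
      calc _ = g * (g * ((g : G ⧸ M) ^ (2 * j + 1) * x * ((g : G ⧸ M) ^ (2 * j + 1))⁻¹) *
            (g : G ⧸ M)⁻¹) * (g : G ⧸ M)⁻¹ := by group
        _ = g * (g * x * (g : G ⧸ M)⁻¹)⁻¹ * (g : G ⧸ M)⁻¹ := by rw [ih]; group
        _ = _ := by rw [hc, inv_inv, hc]
  set t := g ^ (2 * r + 1) with ht
  have h2 : (t : G ⧸ M) * x * (t : G ⧸ M)⁻¹ = (x : G ⧸ M)⁻¹ := h1 r
  have h3 : t ^ 2 ^ k = 1 := by rw [ht, ← pow_mul, mul_comm, ← hkm, pow_orderOf_eq_one]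
  have := Fintype.ofFinite G
  let f : {y : G // (y : G ⧸ M) = x} → {y : G // (y : G ⧸ M) = x} := fun y =>
    ⟨t * y.1⁻¹ * t⁻¹, by
      rw [QuotientGroup.mk_mul, QuotientGroup.mk_mul, QuotientGroup.mk_inv, QuotientGroup.mk_inv,
        y.2, ← inv_inj]
      exact Eq.trans (by group) h2⟩
  have hf : Function.Injective f := fun a b h => by
    simpa [f, Subtype.ext_iff] using h
  let σ := Equiv.ofBijective f (Finite.injective_iff_bijective.1 hf)
  have h4 : ∀ (j : ℕ) y, ((σ ^ (2 * j)) y).1 = t ^ (2 * j) * y.1 * (t ^ (2 * j))⁻¹ := fun j => by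
    induction j with
    | zero => simp
    | succ j ih =>
      intro y
      rw [mul_add, mul_one, pow_add σ, Equiv.Perm.mul_apply, ih, sq, Equiv.Perm.mul_apply]
      simp only [σ, f, Equiv.ofBijective_apply]
      group
  have h5 : σ ^ 2 ^ (k + 1) = 1 := Equiv.ext fun y => Subtype.ext (by
    rw [pow_succ', h4, mul_comm 2, pow_mul, h3]; simp)
  have h6 : Fintype.card {y : G // (y : G ⧸ M) = x} = Nat.card M := by
    rw [← Nat.card_eq_fintype_card]
    refine Nat.card_congr ⟨fun y => ⟨x⁻¹ * y.1, QuotientGroup.eq.1 y.2.symm⟩, fun m => ⟨x * m, by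
      simp⟩, fun y => by simp, fun m => by simp⟩
  obtain ⟨y, hy⟩ := Equiv.Perm.exists_fixed_point_of_prime (p := 2) (by
    rwa [h6, ← even_iff_two_dvd, Nat.not_even_iff_odd]) h5
  exact ⟨y.1, y.2, (isConj_iff.2 ⟨t, congrArg Subtype.val hy⟩).symm⟩

theorem rpp_real_of_mk_eq {x : G} (hx : IsConj x x⁻¹) (g : G)
    (hg : ConjClasses.mk g = ConjClasses.mk x) : IsConj g g⁻¹ := by
  have h1 := ConjClasses.mk_eq_mk_iff_isConj.1 hg
  refine h1.trans (hx.trans ?_)
  obtain ⟨c, hc⟩ := isConj_iff.1 h1.symm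
  exact isConj_iff.2 ⟨c, by rw [← hc]; group⟩

theorem rpp_exists_real_not_le [Finite G] {M : Subgroup G} [hM : M.Normal]
    (hodd : Odd (Nat.card M)) {y : G} (hy : y ∈ M) (hy1 : y ≠ 1) (hr : IsConj y y⁻¹) :
    ∃ χ, IsIrrCharacter G χ ∧ (∀ g, (χ g).im = 0) ∧ ¬ M ≤ charKer χ := by
  by_contra h
  push Not at h
  have h1 : Nat.card {ψ : IrrCharacter (G ⧸ M) // ∀ g, ((ψ : G ⧸ M → ℂ) g).im = 0} =
      Nat.card {χ : IrrCharacter G // ∀ g, ((χ : G → ℂ) g).im = 0} := by
    refine Nat.card_congr (Equiv.ofBijective (fun ψ => ⟨⟨_, ψ.1.2.inflate⟩, fun g => ψ.2 g⟩)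
      ⟨fun a b hab => Subtype.ext (Subtype.ext (funext fun q => ?_)), fun χ => ?_⟩)
    · obtain ⟨g, rfl⟩ := QuotientGroup.mk_surjective q
      exact congrFun (congrArg (fun z => z.1.1) hab) g
    · obtain ⟨ψ, hψ, he⟩ := χ.1.2.exists_quotient M (h _ χ.1.2 χ.2)
      refine ⟨⟨⟨ψ, hψ⟩, fun q => ?_⟩, Subtype.ext (Subtype.ext he.symm)⟩
      obtain ⟨g, rfl⟩ := QuotientGroup.mk_surjective q
      exact (congrArg Complex.im (congrFun he g)).symm.trans (χ.2 g)
  rw [Cfsg.Agent.S0160.result, Cfsg.Agent.S0160.result] at h1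
  let F : {C : ConjClasses G // ∀ g, ConjClasses.mk g = C → IsConj g g⁻¹} →
      {C : ConjClasses (G ⧸ M) // ∀ g, ConjClasses.mk g = C → IsConj g g⁻¹} := fun C =>
    ⟨ConjClasses.map (QuotientGroup.mk' M) C.1, by
      obtain ⟨C, hC⟩ := C
      obtain ⟨x, rfl⟩ := ConjClasses.mk_surjective C
      exact rpp_real_of_mk_eq ((QuotientGroup.mk' M).map_isConj (hC x rfl))⟩
  have h2 : Function.Surjective F := by
    rintro ⟨C, hC⟩
    obtain ⟨q, rfl⟩ := ConjClasses.mk_surjective C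
    obtain ⟨x, rfl⟩ := QuotientGroup.mk_surjective q
    obtain ⟨z, hz, hzr⟩ := rpp_exists_real_lift hodd (hC _ rfl)
    exact ⟨⟨ConjClasses.mk z, rpp_real_of_mk_eq hzr⟩, Subtype.ext (congrArg ConjClasses.mk hz)⟩
  have h3 := (h2.bijective_of_nat_card_le h1.ge).1 (a₁ := ⟨ConjClasses.mk y, rpp_real_of_mk_eq hr⟩)
    (a₂ := ⟨ConjClasses.mk 1, rpp_real_of_mk_eq (by simp)⟩)
    (Subtype.ext (congrArg ConjClasses.mk ((QuotientGroup.eq_one_iff y).2 hy)))
  exact hy1 (isConj_one_left.1 (ConjClasses.mk_eq_mk_iff_isConj.1 (congrArg Subtype.val h3)))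

theorem rpp_exists_real_mem {M : Subgroup G} [hM : M.Normal] {k : ℕ} :
    ∀ {t : G}, t ^ 2 ^ k = 1 → t ∉ Subgroup.centralizer (M : Set G) →
      ∃ y ∈ M, y ≠ 1 ∧ IsConj y y⁻¹ := by
  induction k with
  | zero =>
    intro t ht h
    rw [pow_zero, pow_one] at ht
    exact absurd (ht ▸ Subgroup.one_mem _) h
  | succ k ih =>
    intro t ht h
    by_cases h2 : t ^ 2 ∈ Subgroup.centralizer (M : Set G)
    · rw [Subgroup.mem_centralizer_iff] at h
      push Not at h
      obtain ⟨m, hm, hmt⟩ := h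
      refine ⟨m⁻¹ * (t * m * t⁻¹), M.mul_mem (M.inv_mem hm) (hM.conj_mem m hm t), fun h3 => hmt ?_,
        isConj_iff.2 ⟨t, ?_⟩⟩
      · rw [inv_mul_eq_one, eq_mul_inv_iff_mul_eq] at h3
        exact h3
      · calc _ = t * m⁻¹ * t⁻¹ * (t ^ 2 * m) * (t ^ 2)⁻¹ := by group
          _ = _ := by rw [← h2 m hm]; group
    · exact ih (by rw [← pow_mul, ← pow_succ', ht]) h2

end CL.Char
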