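/-
Real characters of odd degree of solvable groups, part 1: the relation between real linear characters of a Sylow
2-subgroup and monomial characters, and its transport along quotients, subgroups and conjugation.
-/
import Cfsg.Agent.Char.McK1
import Cfsg.Agent.Char.GalFix
import Cfsg.Agent.Char.GoingDown2
import Cfsg.Agent.Char.RealPPrime

set_option autoImplicit false
set_option linter.unusedSectionVars false
open Cfsg Subgroup Function
open scoped ComplexConjugate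

namespace CL.Char.RO

variable {P G Q : Type*} [Group P] [Group G] [Group Q]

/-- `μ` is conjugate to `μ'`. -/
def Cj (π : P →* G) (μ μ' : P →* ℂˣ) : Prop := ∃ g : G, ∀ x, ∃ y, π y = g * π x * g⁻¹ ∧ μ' y = μ x

/-- the range of `π` is a Sylow 2-subgroup. -/
def Syl (π : P →* G) : Prop := IsPGroup 2 π.range ∧ Odd π.range.index

/-- `lam` is the restriction of `μ`. -/
def Cp {K : Type*} [Group K] (π : P →* G) (μ : P →* ℂˣ) (k : K →* G) (lam : K →* ℂˣ) : Prop :=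
  ∀ a, ∃ x, π x = k a ∧ μ x = lam a

variable {π : P →* G} {μ μ' μ'' : P →* ℂˣ} {χ : G → ℂ}

theorem Cj.refl (π : P →* G) (μ : P →* ℂˣ) : Cj π μ μ := ⟨1, fun x => ⟨x, by simp, rfl⟩⟩

theorem Cj.trans (h : Cj π μ μ') (h' : Cj π μ' μ'') : Cj π μ μ'' := by
  obtain ⟨g, h⟩ := h
  obtain ⟨g', h'⟩ := h'
  refine ⟨g' * g, fun x => ?_⟩
  obtain ⟨y, e1, e2⟩ := h x
  obtain ⟨z, e3, e4⟩ := h' y
  exact ⟨z, by rw [e3, e1]; group, e4.trans e2⟩

theorem Cj.of_sub {T : Subgroup G} {hT : ∀ x, π x ∈ T} (h : Cj (π.codRestrict T hT) μ μ') : Cj π μ μ' := by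
  obtain ⟨g, h⟩ := h
  exact ⟨g, fun x => (h x).imp fun y e => ⟨congrArg Subtype.val e.1, e.2⟩⟩

theorem Syl.sub (h : Syl π) {T : Subgroup G} (hT : ∀ x, π x ∈ T) : Syl (π.codRestrict T hT) := by
  have e : (π.codRestrict T hT).range = π.range.subgroupOf T := by
    ext t
    exact ⟨fun ⟨x, e⟩ => ⟨x, congrArg Subtype.val e⟩, fun ⟨x, e⟩ => ⟨x, Subtype.ext e⟩⟩
  rw [Syl, e]
  exact ⟨h.1.comap_subtype, h.2.of_dvd_nat (relIndex_dvd_index_of_le (by rintro _ ⟨x, rfl⟩; exact hT x))⟩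

theorem Syl.quot (h : Syl π) {f : G →* Q} (hf : Surjective f) : Syl (f.comp π) := by
  rw [Syl, MonoidHom.range_comp]
  exact ⟨h.1.map f, h.2.of_dvd_nat (index_map_dvd _ hf)⟩

theorem Syl.isSylowIn (h : Syl π) {T : Subgroup G} (hT : π.range ≤ T) : CL.Grp.IsSylowIn 2 π.range T :=
  ⟨hT, h.1, fun e => Nat.not_even_iff_odd.2 h.2 (even_iff_two_dvd.2 (e.trans (relIndex_dvd_index_of_le hT)))⟩

theorem Syl.exists_norm [Finite G] (h : Syl π) {T : Subgroup G} (hT : π.range ≤ T) {g : G}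
    (hg : ∀ x, g * π x * g⁻¹ ∈ T) : ∃ t ∈ T, ∀ x, ∃ y, π y = t * g * π x * (t * g)⁻¹ := by
  haveI : Fact (Nat.Prime 2) := ⟨Nat.prime_two⟩
  obtain ⟨t, ht, e⟩ := (h.isSylowIn hT).exists_conj_le (h.1.map (MulAut.conj g).toMonoidHom) (by
    rintro _ ⟨_, ⟨x, rfl⟩, rfl⟩
    exact hg x)
  refine ⟨t, ht, fun x => ?_⟩
  obtain ⟨y, e1⟩ := (CL.Grp.conj_smul_le_iff _ _ _).1 e (g * π x * g⁻¹) ⟨π x, ⟨x, rfl⟩, rfl⟩
  exact ⟨y, by rw [e1]; group⟩

theorem Syl.le_range [Finite G] (h : Syl π) {K : Subgroup G} [K.Normal] (hK : IsPGroup 2 K) : K ≤ π.range :=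
  haveI : Fact (Nat.Prime 2) := ⟨Nat.prime_two⟩
  (h.isSylowIn le_top).le_of_normalized hK le_top (le_top.trans (normalizer_eq_top K).ge)

theorem Cj.of_quot [Finite G] (hS : Syl π) {f : G →* Q} (hf : Surjective f) (hk : (f.comp π).ker ≤ μ'.ker)
    (h : Cj (f.comp π) μ μ') : Cj π μ μ' := by
  obtain ⟨g, h⟩ := h
  obtain ⟨g, rfl⟩ := hf g
  obtain ⟨t, ⟨z, hz⟩, ht⟩ := hS.exists_norm (T := (f.comp π).range.comap f) (by
    rintro _ ⟨x, rfl⟩
    exact ⟨x, rfl⟩) (g := g) fun x => by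
      obtain ⟨y, e, -⟩ := h x
      exact ⟨y, by simpa using e⟩
  refine ⟨t * g, fun x => ?_⟩
  obtain ⟨y, e1, e2⟩ := h x
  obtain ⟨w, e3⟩ := ht x
  refine ⟨w, e3, ?_⟩
  have : μ' (w⁻¹ * (z * y * z⁻¹)) = 1 := hk (by
    simp only [MonoidHom.mem_ker, map_mul, map_inv, hz, e1]
    simp only [MonoidHom.comp_apply, e3, map_mul, map_inv]
    group)
  simp only [map_mul, map_inv, mul_inv_cancel_comm, inv_mul_eq_one] at this
  exact this.trans e2

theorem exists_cp (hk : π.ker ≤ μ.ker) {K : Subgroup G} (hK : K ≤ π.range) : ∃ lam, Cp π μ K.subtype lam := by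
  refine ⟨(π.rangeRestrict.liftOfSurjective π.rangeRestrict_surjective ⟨μ, by simpa using hk⟩).comp
    (inclusion hK), fun a => ?_⟩
  obtain ⟨x, e⟩ := hK a.2
  refine ⟨x, e, ?_⟩
  rw [MonoidHom.comp_apply, show inclusion hK a = π.rangeRestrict x from Subtype.ext e.symm,
    MonoidHom.liftOfRightInverse_comp_apply]

theorem Cp.apply {K : Type*} [Group K] {k : K →* G} {lam : K →* ℂˣ} (h : Cp π μ k lam) (hk : π.ker ≤ μ.ker)
    {x : P} {a : K} (e : π x = k a) : μ x = lam a := by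
  obtain ⟨y, e1, e2⟩ := h a
  have : μ (y⁻¹ * x) = 1 := hk (by simp [MonoidHom.mem_ker, e, e1])
  rw [map_mul, map_inv, inv_mul_eq_one] at this
  exact this.symm.trans e2

theorem conj_of_sq {z : ℂˣ} (h : z ^ 2 = 1) : conj (z : ℂ) = z := by
  have : (z : ℂ) ^ 2 = 1 := by rw [← Units.val_pow_eq_pow_val, h, Units.val_one]
  rcases sq_eq_one_iff_of_ne_zero_aux this with e | e <;> simp [e]
where
  sq_eq_one_iff_of_ne_zero_aux {a : ℂ} (h : a ^ 2 = 1) : a = 1 ∨ a = -1 := sq_eq_one_iff.1 h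

theorem sq_of_real [Finite G] (lam : G →* ℂˣ) (g : G) (h : ((lam g : ℂ)).im = 0) : lam g ^ 2 = 1 := by
  have := monoidHom_mul_conj lam g
  rw [Complex.conj_eq_iff_im.2 h] at this
  exact Units.ext (by rw [Units.val_pow_eq_pow_val, sq, this, Units.val_one])

variable [Fintype G]

/-- `χ` is induced from a real linear character extending `μ`. -/
def RR (π : P →* G) (μ : P →* ℂˣ) (χ : G → ℂ) : Prop :=
  ∃ (U : Subgroup G) (ν : U →* ℂˣ) (h : ∀ x, π x ∈ U), (∀ u, ν u ^ 2 = 1) ∧ (∀ x, ν ⟨π x, h x⟩ = μ x) ∧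
    χ = indFun U fun u => (ν u : ℂ)

theorem RR.ker_le (h : RR π μ χ) : π.ker ≤ μ.ker := fun x hx => by
  obtain ⟨U, ν, h, -, e, -⟩ := h
  rw [MonoidHom.mem_ker, ← e, show (⟨π x, h x⟩ : U) = 1 from Subtype.ext hx, map_one]

theorem RR.sq (h : RR π μ χ) (x : P) : μ x ^ 2 = 1 := by
  obtain ⟨U, ν, h, e1, e, -⟩ := h
  rw [← e, e1]

theorem RR.real (h : RR π μ χ) (g : G) : (χ g).im = 0 := by
  obtain ⟨U, ν, h, e1, -, rfl⟩ := h
  rw [← Complex.conj_eq_iff_im, ← indFun_conjugate]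
  simp only [conj_of_sq (e1 _)]

theorem RR.odd (h : RR π μ χ) (hS : Syl π) : Odd (charDegree χ) := by
  obtain ⟨U, ν, h, -, -, rfl⟩ := h
  rw [charDegree_eq_of_eq (n := U.index) (by simp [indFun_one])]
  exact hS.2.of_dvd_nat (index_dvd_of_le (by rintro _ ⟨x, rfl⟩; exact h x))

theorem RR.isChar (h : RR π μ χ) : IsCharacter G χ := by
  obtain ⟨U, ν, h, -, -, rfl⟩ := h
  exact isCharacter_indFun_unitsHom ν

theorem RR.comap [Fintype Q] {f : G →* Q} (hf : Surjective f) {π' : P →* Q} {ψ : Q → ℂ} (h : RR π' μ' ψ)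
    (e : ∀ x, ∃ y, π' y = f (π x) ∧ μ' y = μ x) : RR π μ fun g => ψ (f g) := by
  obtain ⟨U, ν, h, e1, e2, rfl⟩ := h
  refine ⟨U.comap f, ν.comp (f.subgroupComap U), fun x => ?_, fun u => e1 _, fun x => ?_,
    funext fun g => (indFun_comap f hf U _ g).symm⟩
  · obtain ⟨y, e3, -⟩ := e x
    exact mem_comap.2 (e3 ▸ h y)
  · obtain ⟨y, e3, e4⟩ := e x
    rw [← e4, ← e2]
    exact congrArg ν (Subtype.ext e3.symm)

theorem RR.inflate [Fintype Q] {f : G →* Q} (hf : Surjective f) {ψ : Q → ℂ} (h : RR (f.comp π) μ ψ) :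
    RR π μ fun g => ψ (f g) := h.comap hf fun x => ⟨x, rfl, rfl⟩

theorem RR.of_cj (h : RR π μ' χ) (hc : Cj π μ μ') : RR π μ χ := by
  obtain ⟨g, hc⟩ := hc
  have := h.comap (f := (MulAut.conj g).toMonoidHom) (MulAut.conj g).surjective hc
  rwa [show (fun x => χ ((MulAut.conj g).toMonoidHom x)) = χ from
    funext fun x => h.isChar.isClassFunction.apply_eq_of_isConj (isConj_iff.2 ⟨g⁻¹, by simp [mul_assoc]⟩)] at this

theorem RR.deflate [Fintype Q] {f : G →* Q} (hf : Surjective f) {ψ : Q → ℂ} (h : RR π μ fun g => ψ (f g)) :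
    RR (f.comp π) μ ψ := by
  obtain ⟨U, ν, h, e1, e2, e3⟩ := h
  have hk : ∀ k ∈ f.ker, ∃ hk : k ∈ U, ν ⟨k, hk⟩ = 1 := fun k hk => by
    have := (mem_charKer_indFun_iff (isCharacter_unitsHom ν) (by simp)).1 (e3 ▸ ker_le_charKer_comp ψ f hk) 1
    simpa using this
  have hs : Surjective (f.subgroupMap U) := f.subgroupMap_surjective U
  let ν' := (f.subgroupMap U).liftOfSurjective hs ⟨ν, fun u hu => by
    obtain ⟨_, e⟩ := hk u (congrArg Subtype.val hu)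
    exact e⟩
  have hν : ∀ u, ν' (f.subgroupMap U u) = ν u := fun u => MonoidHom.liftOfRightInverse_comp_apply _ _ _ _ _
  refine ⟨U.map f, ν', fun x => mem_map_of_mem f (h x), fun u => ?_, fun x => (hν ⟨π x, h x⟩).trans (e2 x),
    funext fun q => ?_⟩
  · obtain ⟨u, rfl⟩ := hs u
    rw [hν, e1]
  · obtain ⟨g, rfl⟩ := hf q
    rw [← indFun_comap f hf, congrFun e3 g]
    exact congrFun (indFun_congr (comap_map_eq_self fun k hk' => (hk k hk').1).symm
      fun x hx _ => congrArg Units.val (hν ⟨x, hx⟩).symm) g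

theorem RR.induce {T : Subgroup G} [Fintype T] {hT : ∀ x, π x ∈ T} {ψ : T → ℂ}
    (h : RR (π.codRestrict T hT) μ ψ) : RR π μ (indFun T ψ) := by
  obtain ⟨U, ν, h, e1, e2, rfl⟩ := h
  refine ⟨U.map T.subtype, ν.comp (U.equivMapOfInjective T.subtype T.subtype_injective).symm.toMonoidHom,
    fun x => ⟨_, h x, rfl⟩, fun u => e1 _, fun x => ?_, indFun_trans_map U _⟩
  rw [← e2]
  exact congrArg ν ((MulEquiv.symm_apply_eq _).2 rfl)

theorem RR.ovr {K : Type*} [Group K] [Finite K] {k : K →* G} {lam : K →* ℂˣ} (h : RR π μ χ)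
    (hχ : IsIrrCharacter G χ) (hc : Cp π μ k lam) : Ovr k (fun a => (lam a : ℂ)) χ := by
  obtain ⟨U, ν, h, -, e2, e3⟩ := h
  have := Fintype.ofFinite U
  have hk : ∀ a, k a ∈ U := fun a => by
    obtain ⟨x, e, -⟩ := hc a
    exact e ▸ h x
  have h1 : Ovr U.subtype (fun u => (ν u : ℂ)) χ := by
    rw [ovr_iff]
    erw [← frobenius_reciprocity' _ hχ.isClassFunction]
    rw [← e3, hχ.classInner_self]
    exact one_ne_zero
  refine h1.trans (i := k.codRestrict U hk) (ovr_of_eq (isIrrCharacter_linear lam) fun a => ?_) hχ.isCharacter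
    (isIrrCharacter_linear ν) (isCharacter_unitsHom lam)
  obtain ⟨x, e, e'⟩ := hc a
  rw [← e', ← e2]
  exact congrArg (fun u => (ν u : ℂ)) (Subtype.ext e.symm)

variable {K : Subgroup G} [hK : K.Normal] {lam : K →* ℂˣ}

theorem Cp.mem_inert (hc : Cp π μ K.subtype lam) (hk : π.ker ≤ μ.ker) (x : P) :
    π x ∈ inertia K fun a => (lam a : ℂ) := mem_inertia.2 fun n => by
  obtain ⟨y, e, e'⟩ := hc n
  rw [← e', ← hc.apply hk (x := x * y * x⁻¹) (by simp [e])]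
  simp

theorem RR.exists_sub (h : RR π μ χ) (hc : Cp π μ K.subtype lam) {T : Subgroup G} [Fintype T]
    (hT : inertia K (fun a => (lam a : ℂ)) ≤ T) (hπ : ∀ x, π x ∈ T) :
    ∃ ψ, RR (π.codRestrict T hπ) μ ψ ∧ χ = indFun T ψ := by
  obtain ⟨U, ν, h, e1, e2, rfl⟩ := h
  have hν : ∀ a : K, ∃ ha : (a : G) ∈ U, ν ⟨a, ha⟩ = lam a := fun a => by
    obtain ⟨x, e, e'⟩ := hc a
    exact ⟨(show π x = a from e) ▸ h x, by rw [← e', ← e2]; exact congrArg ν (Subtype.ext e.symm)⟩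
  have hU : U ≤ T := fun u hu => hT (mem_inertia.2 fun n => by
    obtain ⟨h1, e3⟩ := hν n
    obtain ⟨h2, e4⟩ := hν ⟨u * n * u⁻¹, hK.conj_mem n n.2 u⟩
    rw [← e3, ← e4, show (⟨_, h2⟩ : U) = ⟨u, hu⟩ * ⟨n, h1⟩ * ⟨u, hu⟩⁻¹ from rfl, map_mul, map_mul, map_inv,
      mul_inv_cancel_comm])
  exact ⟨_, ⟨U.subgroupOf T, ν.comp (subgroupOfEquivOfLe hU).toMonoidHom, h, fun u => e1 _, e2, rfl⟩,
    (indFun_trans hU _).symm⟩

theorem RR.le_charKer (h : RR π μ χ) (hc : Cp π μ K.subtype lam) {L : Subgroup G} [L.Normal] (hL : L ≤ K)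
    (h1 : ∀ a : K, (a : G) ∈ L → lam a = 1) : L ≤ charKer χ := by
  obtain ⟨U, ν, h, -, e2, rfl⟩ := h
  have hν : ∀ a ∈ L, ∃ ha : a ∈ U, ν ⟨a, ha⟩ = 1 := fun a ha => by
    obtain ⟨x, e, e'⟩ := hc ⟨a, hL ha⟩
    exact ⟨(show π x = a from e) ▸ h x, by rw [← h1 ⟨a, hL ha⟩ ha, ← e', ← e2]; exact congrArg ν (Subtype.ext e.symm)⟩
  exact le_charKer_indFun (isCharacter_unitsHom ν) (fun a ha => (hν a ha).1) fun a ha => by
    rw [(hν a ha).2, map_one]

/-- the kernel of an invariant linear character. -/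
theorem exists_ker (h : inertia K (fun a => (lam a : ℂ)) = ⊤) : ∃ L : Subgroup G, L.Normal ∧ L ≤ K ∧
    (∀ a : K, (a : G) ∈ L ↔ lam a = 1) ∧ (L = ⊥ → centralizer (K : Set G) = ⊤) := by
  have hi : ∀ (g : G) (n : K), lam ⟨g * n * g⁻¹, hK.conj_mem n n.2 g⟩ = lam n := fun g n =>
    Units.ext (inertia_eq_top_iff.1 h g n)
  have hm : ∀ a : K, (a : G) ∈ lam.ker.map K.subtype ↔ lam a = 1 := fun a =>
    mem_map_iff_mem K.subtype_injective
  refine ⟨lam.ker.map K.subtype, ⟨?_⟩, map_subtype_le _, hm, fun e => eq_top_iff.2 fun g _ n hn => ?_⟩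
  · rintro _ ⟨n, hn, rfl⟩ g
    exact (hm ⟨_, hK.conj_mem n n.2 g⟩).2 ((hi g n).trans hn)
  · have := (hm (⟨n, hn⟩⁻¹ * ⟨_, hK.conj_mem n hn g⟩)).2 (by rw [map_mul, map_inv, hi g ⟨n, hn⟩, inv_mul_cancel])
    rw [e, mem_bot, coe_mul, coe_inv, inv_mul_eq_one, eq_mul_inv_iff_mul_eq] at this
    exact this

/-- the constituents of a real character of odd degree on a normal subgroup are real. -/
theorem real_of_under (hχ : IsIrrCharacter G χ) (hr : ∀ g, (χ g).im = 0) (ho : Odd (charDegree χ)) [Fintype K]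
    {θ : K → ℂ} (hθ : IsIrrCharacter K θ) (h : classInner (fun n : K => χ n) θ ≠ 0) (n : K) : (θ n).im = 0 := by
  haveI : Fact (Nat.Prime 2) := ⟨Nat.prime_two⟩
  obtain ⟨e, -, he⟩ := rpp_degree hχ hθ h
  obtain ⟨φ, h1, h2⟩ := (galPow_conj K).exists_fixed (conjOrbit K θ)
    (fun φ hφ => (isIrrCharacter_of_mem_conjOrbit hθ hφ).isGeneralizedCharacter) (fun φ hφ => by
      have h3 := isIrrCharacter_of_mem_conjOrbit hθ hφ
      obtain ⟨g, rfl⟩ := mem_conjOrbit.1 hφ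
      refine mem_conjOrbit_of_classInner_ne_zero hχ hθ h3.conj h ?_
      have := classInner_conj_conj (fun n : K => χ n) (conjChar K g θ)
      simp only [Complex.conj_eq_iff_im.2 (hr _)] at this
      erw [this]
      rw [← conj_classInner, classInner_res_conjChar hχ.isClassFunction]
      simpa using h) (by
      rw [card_conjOrbit]
      intro hd
      rw [he] at ho
      exact Nat.not_even_iff_odd.2 ho (even_iff_two_dvd.2 ((hd.mul_left _).mul_right _)))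
  obtain ⟨g, rfl⟩ := mem_conjOrbit.1 h1
  have := conj_smul_eq_iff.1 h2 ⟨g⁻¹ * n * g⁻¹⁻¹, hK.conj_mem n n.2 g⁻¹⟩
  rw [conjChar_apply] at this
  simpa [mul_assoc] using this

theorem le_charKer_of_odd (hχ : IsIrrCharacter G χ) (hr : ∀ g, (χ g).im = 0) (ho : Odd (charDegree χ))
    (hK' : Odd (Nat.card K)) : K ≤ charKer χ := fun n hn => by
  have := Fintype.ofFinite K
  obtain ⟨θ, hθ, h⟩ := (hχ.isCharacter.restrict K).exists_irr_classInner_ne_zero
    fun e => hχ.one_ne_zero (congrFun e 1)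
  obtain rfl := eq_one_of_real_of_odd hK' hθ (real_of_under hχ hr ho hθ h)
  exact hχ.mem_charKer.2 (apply_eq_one_of_classInner_res_one_ne_zero hχ h hn)

theorem linear_of_odd {H : Type*} [Group H] [Finite H] (hH : IsPGroup 2 H) {θ : H → ℂ} (hθ : IsIrrCharacter H θ)
    (ho : Odd (charDegree θ)) : ∃ lam : H →* ℂˣ, θ = fun g => (lam g : ℂ) := by
  haveI : Fact (Nat.Prime 2) := ⟨Nat.prime_two⟩
  obtain ⟨n, hn⟩ := IsPGroup.iff_card.1 hH
  refine hθ.isCharacter.exists_monoidHom_of_one (hθ.isCharacter.charDegree_eq_one_iff.1 ?_)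
  exact ((Nat.coprime_two_right.2 ho).pow_right n).eq_one_of_dvd (hn ▸ hθ.charDegree_dvd_card)

end CL.Char.RO
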