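/-
Real characters of odd degree of solvable groups, part 2: they correspond to the `N(P)`-classes of real linear
characters of a Sylow 2-subgroup `P`.
-/
import Cfsg.Agent.Char.RealOdd1

set_option autoImplicit false
set_option linter.unusedSectionVars false
open Cfsg Subgroup Function
open scoped ComplexConjugate

namespace CL.Char.RO

universe u

variable {P : Type*} [Group P]

structure Good {G : Type*} [Group G] [Fintype G] (π : P →* G) : Prop where
  ex1 : ∀ χ, IsIrrCharacter G χ → (∀ g, (χ g).im = 0) → Odd (charDegree χ) → ∃ μ, RR π μ χ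
  ex2 : ∀ μ : P →* ℂˣ, (∀ x, μ x ^ 2 = 1) → π.ker ≤ μ.ker → ∃ χ, IsIrrCharacter G χ ∧ RR π μ χ
  un1 : ∀ μ χ χ', IsIrrCharacter G χ → IsIrrCharacter G χ' → RR π μ χ → RR π μ χ' → χ = χ'
  un2 : ∀ μ μ' χ, IsIrrCharacter G χ → RR π μ χ → RR π μ' χ → Cj π μ μ'

section
variable {G Q : Type*} [Group G] [Fintype G] [Group Q] [Fintype Q] {π : P →* G} {μ μ' : P →* ℂˣ} {χ χ' : G → ℂ}

theorem RR.apply_of_surj (h : RR π μ χ) (hs : Surjective π) (x : P) : χ (π x) = μ x := by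
  obtain ⟨U, ν, h, -, e2, rfl⟩ := h
  obtain rfl : U = ⊤ := eq_top_iff.2 fun g _ => by
    obtain ⟨x, rfl⟩ := hs g
    exact h x
  rw [indFun_top (isCharacter_unitsHom ν).isClassFunction, e2]

theorem rr_top (ν : G →* ℂˣ) (h : ∀ g, ν g ^ 2 = 1) : RR π (ν.comp π) fun g => (ν g : ℂ) :=
  ⟨⊤, ν.comp (⊤ : Subgroup G).subtype, fun _ => mem_top _, fun u => h u, fun _ => rfl,
    (indFun_top_res (isCharacter_unitsHom ν).isClassFunction).symm⟩

theorem good_of_surj (hS : Syl π) (hs : Surjective π) : Good π := by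
  refine ⟨fun χ hχ hr ho => ?_, fun μ h1 h2 => ?_, fun μ χ χ' _ _ h h' => funext fun g => ?_,
    fun μ μ' χ _ h h' => ?_⟩
  · obtain ⟨ν, rfl⟩ := linear_of_odd (hS.1.of_surjective π.range.subtype fun g => by
      obtain ⟨x, rfl⟩ := hs g
      exact ⟨⟨_, x, rfl⟩, rfl⟩) hχ ho
    exact ⟨_, rr_top ν fun g => sq_of_real ν g (hr g)⟩
  · have e : (π.liftOfSurjective hs ⟨μ, h2⟩).comp π = μ := MonoidHom.liftOfRightInverse_comp _ _ _ _
    refine ⟨_, isIrrCharacter_linear _, e ▸ rr_top (π.liftOfSurjective hs ⟨μ, h2⟩) fun g => ?_⟩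
    obtain ⟨x, rfl⟩ := hs g
    rw [← MonoidHom.comp_apply, e, h1]
  · obtain ⟨x, rfl⟩ := hs g
    rw [h.apply_of_surj hs, h'.apply_of_surj hs]
  · exact ⟨1, fun x => ⟨x, by simp, Units.ext ((h'.apply_of_surj hs x).symm.trans (h.apply_of_surj hs x))⟩⟩

variable {f : G →* Q}

theorem Good.q1 (h : Good (f.comp π)) (hf : Surjective f) (hχ : IsIrrCharacter G χ) (hr : ∀ g, (χ g).im = 0)
    (ho : Odd (charDegree χ)) (hk : f.ker ≤ charKer χ) : ∃ μ, RR π μ χ := by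
  obtain ⟨ψ, hψ, rfl⟩ := hχ.exists_comp_eq f hf hk
  obtain ⟨μ, hμ⟩ := h.ex1 ψ hψ (fun q => by obtain ⟨g, rfl⟩ := hf q; exact hr g) (by
    simpa [charDegree] using ho)
  exact ⟨μ, hμ.inflate hf⟩

theorem Good.q2 (h : Good (f.comp π)) (hf : Surjective f) (h1 : ∀ x, μ x ^ 2 = 1) (h2 : (f.comp π).ker ≤ μ.ker) :
    ∃ χ, IsIrrCharacter G χ ∧ RR π μ χ := by
  obtain ⟨ψ, hψ, hμ⟩ := h.ex2 μ h1 h2
  exact ⟨_, hψ.comp_of_surjective f hf, hμ.inflate hf⟩

theorem Good.q3 (h : Good (f.comp π)) (hf : Surjective f) (hχ : IsIrrCharacter G χ) (hχ' : IsIrrCharacter G χ')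
    (h1 : RR π μ χ) (h2 : RR π μ χ') (hk : f.ker ≤ charKer χ) (hk' : f.ker ≤ charKer χ') : χ = χ' := by
  obtain ⟨ψ, hψ, rfl⟩ := hχ.exists_comp_eq f hf hk
  obtain ⟨ψ', hψ', rfl⟩ := hχ'.exists_comp_eq f hf hk'
  rw [h.un1 μ ψ ψ' hψ hψ' (h1.deflate hf) (h2.deflate hf)]

theorem Good.q4 (h : Good (f.comp π)) (hf : Surjective f) (hS : Syl π) (hχ : IsIrrCharacter G χ)
    (h1 : RR π μ χ) (h2 : RR π μ' χ) (hk : f.ker ≤ charKer χ) : Cj π μ μ' := by
  obtain ⟨ψ, hψ, rfl⟩ := hχ.exists_comp_eq f hf hk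
  exact (h.un2 μ μ' ψ hψ (h1.deflate hf) (h2.deflate hf)).of_quot hS hf (h2.deflate hf).ker_le

theorem good_of_odd (hS : Syl π) (hf : Surjective f) (ho : Odd (Nat.card f.ker)) (h : Good (f.comp π)) : Good π := by
  refine ⟨fun χ hχ hr hd => h.q1 hf hχ hr hd (le_charKer_of_odd hχ hr hd ho), fun μ h1 h2 => h.q2 hf h1
    fun x hx => h2 ?_, fun μ χ χ' hχ hχ' h1 h2 => h.q3 hf hχ hχ' h1 h2
      (le_charKer_of_odd hχ h1.real (h1.odd hS) ho) (le_charKer_of_odd hχ' h2.real (h2.odd hS) ho),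
    fun μ μ' χ hχ h1 h2 => h.q4 hf hS hχ h1 h2 (le_charKer_of_odd hχ h1.real (h1.odd hS) ho)⟩
  exact CL.Grp.eq_one_of_coprime_of_mem hS.1 ⟨x, rfl⟩
    (Nat.coprime_two_right.2 (ho.of_dvd_nat (f.ker.orderOf_dvd_natCard hx)))

variable {K : Subgroup G} [hK : K.Normal]

theorem exists_inv_under (hS : Syl π) (h2 : IsPGroup 2 K) (hχ : IsIrrCharacter G χ) (hr : ∀ g, (χ g).im = 0)
    (ho : Odd (charDegree χ)) [Fintype K] : ∃ lam : K →* ℂˣ, (∀ x, π x ∈ inertia K fun a => (lam a : ℂ)) ∧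
      (∀ a, ((lam a : ℂ)).im = 0) ∧ classInner (fun n : K => χ n) (fun a => (lam a : ℂ)) ≠ 0 := by
  haveI : Fact (Nat.Prime 2) := ⟨Nat.prime_two⟩
  obtain ⟨θ, hθ, h⟩ := (hχ.isCharacter.restrict K).exists_irr_classInner_ne_zero
    fun e => hχ.one_ne_zero (congrFun e 1)
  obtain ⟨e, -, he⟩ := rpp_degree hχ hθ h
  obtain ⟨S, hle⟩ := rpp_exists_sylow_le (p := 2) (T := inertia K θ) fun hd => by
    rw [he] at ho
    exact Nat.not_even_iff_odd.2 ho (even_iff_two_dvd.2 ((hd.mul_left _).mul_right _))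
  obtain ⟨g, -, hg⟩ := (CL.Grp.isSylowIn_of_le S le_top).exists_conj_le hS.1 le_top
  have h3 := isIrrCharacter_conjChar hθ g
  have h4 : classInner (fun n : K => χ n) (conjChar K g θ) ≠ 0 := by
    rwa [classInner_res_conjChar hχ.isClassFunction]
  obtain ⟨e', -, he'⟩ := rpp_degree hχ h3 h4
  obtain ⟨lam, hl⟩ := linear_of_odd h2 h3 (by rw [he'] at ho; exact (Nat.odd_mul.1 ho).2)
  refine ⟨lam, fun x => ?_, fun a => ?_, hl ▸ h4⟩
  · rw [← hl, mem_inertia_iff, ← conjChar_mul, conjChar_eq_conjChar_iff]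
    exact hle ((CL.Grp.conj_smul_le_iff _ _ _).1 hg _ ⟨x, rfl⟩)
  · exact congrFun hl a ▸ real_of_under hχ hr ho h3 h4 a

/-- the induction hypothesis. -/
structure Ind (π : P →* G) (K : Subgroup G) [K.Normal] : Prop where
  syl : Syl π
  two : IsPGroup 2 K
  quot : ∀ lam : K →* ℂˣ, inertia K (fun a => (lam a : ℂ)) = ⊤ → ∃ (L : Subgroup G) (_ : L.Normal)
    (_ : Fintype (G ⧸ L)), L ≤ K ∧ (∀ a : K, (a : G) ∈ L ↔ lam a = 1) ∧ Good ((QuotientGroup.mk' L).comp π)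
  sub : ∀ (T : Subgroup G) [Fintype T] (hT : ∀ x, π x ∈ T), T ≠ ⊤ → Good (π.codRestrict T hT)

theorem le_inert (lam : K →* ℂˣ) : K ≤ inertia K fun a => (lam a : ℂ) :=
  le_inertia (isCharacter_unitsHom lam).isClassFunction

theorem RR.over [Fintype K] {lam : K →* ℂˣ} {T : Subgroup G} [Fintype T] {hT : ∀ x, π x ∈ T} (hle : K ≤ T)
    {ψ : T → ℂ} (hc : Cp π μ K.subtype lam) (hψ : IsIrrCharacter T ψ) (h : RR (π.codRestrict T hT) μ ψ) :
    classInner (fun n : K => ψ ⟨n, hle n.2⟩) (fun a => (lam a : ℂ)) ≠ 0 := by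
  have := h.ovr (k := inclusion hle) (lam := lam) hψ fun a => (hc a).imp fun _ e => ⟨Subtype.ext e.1, e.2⟩
  rw [ovr_iff] at this
  exact this

theorem RR.over' [Fintype K] {lam : K →* ℂˣ} (hc : Cp π μ K.subtype lam) (hχ : IsIrrCharacter G χ) (h : RR π μ χ) :
    classInner (fun n : K => χ n) (fun a => (lam a : ℂ)) ≠ 0 := by
  have := h.ovr hχ hc
  rw [ovr_iff] at this
  exact this

theorem Ind.un (I : Ind π K) {lam : K →* ℂˣ} (hχ : IsIrrCharacter G χ) (hχ' : IsIrrCharacter G χ') (h : RR π μ χ)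
    (h' : RR π μ' χ') (hc : Cp π μ K.subtype lam) (hc' : Cp π μ' K.subtype lam) :
    (μ = μ' → χ = χ') ∧ (χ = χ' → Cj π μ μ') := by
  have := Fintype.ofFinite K
  by_cases hT : inertia K (fun a => (lam a : ℂ)) = ⊤
  · obtain ⟨L, _, _, h3, h4, h5⟩ := I.quot lam hT
    have k1 := h.le_charKer hc h3 fun a => (h4 a).1
    have k2 := h'.le_charKer hc' h3 fun a => (h4 a).1
    rw [← QuotientGroup.ker_mk' L] at k1 k2
    exact ⟨fun e => h5.q3 (QuotientGroup.mk'_surjective L) hχ hχ' h (e ▸ h') k1 k2,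
      fun e => h5.q4 (QuotientGroup.mk'_surjective L) I.syl hχ h (e ▸ h') k1⟩
  · have := Fintype.ofFinite (inertia K fun a => (lam a : ℂ))
    have hπ := hc.mem_inert h.ker_le
    obtain ⟨ψ, r1, rfl⟩ := h.exists_sub hc le_rfl hπ
    obtain ⟨ψ', r2, rfl⟩ := h'.exists_sub hc' le_rfl hπ
    have i1 := isIrrCharacter_of_indFun r1.isChar hχ
    have i2 := isIrrCharacter_of_indFun r2.isChar hχ'
    refine ⟨fun e => by rw [(I.sub _ hπ hT).un1 μ ψ ψ' i1 i2 r1 (e ▸ r2)], fun e => ?_⟩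
    obtain rfl := clifford_corr_inj (isIrrCharacter_linear lam) le_rfl (le_inert lam) i1 i2 (r1.over _ hc i1)
      (r2.over _ hc' i2) e
    exact ((I.sub _ hπ hT).un2 μ μ' ψ i1 r1 r2).of_sub

theorem Ind.ex1 (I : Ind π K) (hχ : IsIrrCharacter G χ) (hr : ∀ g, (χ g).im = 0) (ho : Odd (charDegree χ)) :
    ∃ μ, RR π μ χ := by
  have := Fintype.ofFinite K
  obtain ⟨lam, hπ, hl, h⟩ := exists_inv_under I.syl I.two hχ hr ho
  by_cases hT : inertia K (fun a => (lam a : ℂ)) = ⊤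
  · obtain ⟨L, _, _, h3, h4, h5⟩ := I.quot lam hT
    refine h5.q1 (QuotientGroup.mk'_surjective L) hχ hr ho fun a ha => hχ.mem_charKer.2 ?_
    rw [QuotientGroup.ker_mk'] at ha
    have e := clifford_of_invariant hχ (isIrrCharacter_linear lam) (inertia_eq_top_iff.1 hT) h
    have e1 := congrFun e ⟨a, h3 ha⟩
    have e2 := congrFun e 1
    simp only [Pi.smul_apply, (h4 ⟨a, h3 ha⟩).1 ha, map_one, OneMemClass.coe_one] at e1 e2
    exact e1.trans e2.symm
  · have := Fintype.ofFinite (inertia K fun a => (lam a : ℂ))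
    obtain ⟨ψ, hψ, rfl, e⟩ := clifford_corr_surj (isIrrCharacter_linear lam) le_rfl (le_inert lam) hχ h
    rw [← e] at h
    have hψr : (fun t => conj (ψ t)) = ψ := by
      refine clifford_corr_inj (isIrrCharacter_linear lam) le_rfl (le_inert lam) hψ.conj hψ ?_ h
        (funext fun g => by rw [indFun_conjugate, Complex.conj_eq_iff_im.2 (hr g)])
      have := classInner_conj_conj (fun n : K => ψ ⟨n, le_inert lam n.2⟩) fun a => (lam a : ℂ)
      simp only [Complex.conj_eq_iff_im.2 (hl _)] at this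
      rw [this, ← conj_classInner]
      simpa using h
    obtain ⟨μ, hμ⟩ := (I.sub _ hπ hT).ex1 ψ hψ (fun t => Complex.conj_eq_iff_im.1 (congrFun hψr t)) (by
      rw [charDegree_eq_of_eq (n := (inertia K fun a => (lam a : ℂ)).index * charDegree ψ) (by
        rw [indFun_one, Nat.cast_mul, hψ.cast_charDegree])] at ho
      exact (Nat.odd_mul.1 ho).2)
    exact ⟨μ, hμ.induce⟩

theorem Ind.ex2 (I : Ind π K) (h1 : ∀ x, μ x ^ 2 = 1) (h3 : π.ker ≤ μ.ker) : ∃ χ, IsIrrCharacter G χ ∧ RR π μ χ := by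
  have := Fintype.ofFinite K
  obtain ⟨lam, hc⟩ := exists_cp h3 (I.syl.le_range I.two)
  by_cases hT : inertia K (fun a => (lam a : ℂ)) = ⊤
  · obtain ⟨L, _, _, h4, h5, h6⟩ := I.quot lam hT
    refine h6.q2 (QuotientGroup.mk'_surjective L) h1 fun x hx => ?_
    have hx' : π x ∈ L := (QuotientGroup.eq_one_iff _).1 hx
    exact (hc.apply h3 (a := ⟨π x, h4 hx'⟩) rfl).trans ((h5 _).1 hx')
  · have := Fintype.ofFinite (inertia K fun a => (lam a : ℂ))
    have hπ := hc.mem_inert h3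
    obtain ⟨ψ, hψ, r⟩ := (I.sub _ hπ hT).ex2 μ h1 fun x hx => h3 (congrArg Subtype.val hx)
    exact ⟨_, (clifford_corr (isIrrCharacter_linear lam) le_rfl (le_inert lam) hψ (r.over _ hc hψ)).1, r.induce⟩

theorem Ind.un2 (I : Ind π K) (hχ : IsIrrCharacter G χ) (h : RR π μ χ) (h' : RR π μ' χ) : Cj π μ μ' := by
  have := Fintype.ofFinite K
  have hKP := I.syl.le_range I.two
  obtain ⟨lam, hc⟩ := exists_cp h.ker_le hKP
  obtain ⟨lam', hc'⟩ := exists_cp h'.ker_le hKP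
  obtain ⟨g, hg⟩ := exists_conjChar_eq_of_classInner_ne_zero hχ (isIrrCharacter_linear lam')
    (isIrrCharacter_linear lam) (h'.over' hc' hχ) (h.over' hc hχ)
  obtain ⟨t, ht, hn⟩ := I.syl.exists_norm (T := inertia K fun a => (lam' a : ℂ)) (by
    rintro _ ⟨x, rfl⟩
    exact hc'.mem_inert h'.ker_le x) (g := g) fun x => by
      rw [← conjChar_eq_conjChar_iff, conjChar_mul, hg]
      exact mem_inertia_iff.1 (hc.mem_inert h.ker_le x)
  obtain ⟨ρ, hρ⟩ := exists_cp h'.ker_le (le_refl π.range)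
  obtain ⟨μ'', h''⟩ : ∃ μ'' : P →* ℂˣ, ∀ x y, π y = t * g * π x * (t * g)⁻¹ → μ' y = μ'' x :=
    ⟨ρ.comp (((MulAut.conj (t * g)).toMonoidHom.comp π).codRestrict π.range hn), fun x y e =>
      hρ.apply h'.ker_le e⟩
  have c1 : Cj π μ'' μ' := ⟨t * g, fun x => (hn x).imp fun y e => ⟨e, h'' x y e⟩⟩
  refine Cj.trans ((I.un hχ hχ h (h'.of_cj c1) hc fun a => ?_).2 rfl) c1
  obtain ⟨x, e⟩ := hKP a.2
  obtain ⟨y, e1⟩ := hn x
  refine ⟨x, e, (h'' x y e1).symm.trans ?_⟩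
  have e2 : conjChar K (t * g) (fun a => (lam' a : ℂ)) = fun a => (lam a : ℂ) := by
    rw [conjChar_mul, mem_inertia_iff.1 ht, hg]
  exact (hc'.apply h'.ker_le (a := ⟨_, hK.conj_mem a a.2 (t * g)⟩) (by rw [e1, e]; rfl)).trans
    (Units.ext (congrFun e2 a))

theorem good_of_two (hS : Syl π) (h2 : IsPGroup 2 K) (hC : centralizer (K : Set G) ≤ K)
    (hq : ∀ (L : Subgroup G) [L.Normal] [Fintype (G ⧸ L)], L ≠ ⊥ → Good ((QuotientGroup.mk' L).comp π))
    (hs : ∀ (T : Subgroup G) [Fintype T] (hT : ∀ x, π x ∈ T), T ≠ ⊤ → Good (π.codRestrict T hT)) : Good π := by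
  by_cases h0 : Surjective π
  · exact good_of_surj hS h0
  have hKP := hS.le_range h2
  have I : Ind π K := ⟨hS, h2, fun lam h => by
    obtain ⟨L, _, h3, h4, h5⟩ := exists_ker h
    have := Fintype.ofFinite (G ⧸ L)
    exact ⟨L, _, _, h3, h4, hq L fun e => h0 (MonoidHom.range_eq_top.1 (eq_top_iff.2
      (((h5 e).ge.trans hC).trans hKP)))⟩, hs⟩
  refine ⟨fun χ => I.ex1, fun μ => I.ex2, fun μ χ χ' hχ hχ' h h' => ?_, fun μ μ' χ => I.un2⟩
  obtain ⟨lam, hc⟩ := exists_cp h.ker_le hKP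
  exact (I.un hχ hχ' h h' hc hc).1 rfl

end

theorem good (n : ℕ) : ∀ (G : Type u) [Group G] [Fintype G] [Group.IsSolvable G] (π : P →* G), Nat.card G = n →
    Syl π → Good π := by
  haveI : Fact (Nat.Prime 2) := ⟨Nat.prime_two⟩
  induction n using Nat.strong_induction_on with
  | _ n ih =>
  intro G _ _ _ π hn hS
  have hq : ∀ (L : Subgroup G) [L.Normal] [Fintype (G ⧸ L)], L ≠ ⊥ → Good ((QuotientGroup.mk' L).comp π) :=
    fun L _ _ hL => ih _ (hn ▸ CL.Grp.card_quotient_lt_of_ne_bot hL) _ _ rfl (hS.quot (QuotientGroup.mk'_surjective L))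
  by_cases hO : pPrimeCore 2 G = ⊥
  · exact good_of_two hS (CL.Grp.pCore_isPGroup 2 G) (CL.Grp.centralizer_pCore_le_of_isSolvable hO) hq
      fun T _ hT h => ih _ (hn ▸ CL.Grp.card_lt_of_ne_top h) _ _ rfl (hS.sub hT)
  · have := Fintype.ofFinite (G ⧸ pPrimeCore 2 G)
    refine good_of_odd hS (QuotientGroup.mk'_surjective _) ?_ (hq _ hO)
    rw [QuotientGroup.ker_mk']
    exact Nat.coprime_two_right.1 (CL.Grp.pPrimeCore_coprime 2 G)

section Count

variable {G : Type*} [Group G] [Finite G]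

/-- the real irreducible characters of odd degree. -/
abbrev RealOdd (G : Type*) [Group G] :=
  {χ : IrrCharacter G // (∀ g : G, ((χ : G → ℂ) g).im = 0) ∧ Odd (charDegree (χ : G → ℂ))}

theorem Cj.symm {π : P →* G} (hπ : Injective π) {μ μ' : P →* ℂˣ} (h : Cj π μ μ') : Cj π μ' μ := by
  obtain ⟨g, h⟩ := h
  have := Finite.of_injective π hπ
  choose f h1 h2 using h
  have hf : Injective f := fun x y e => hπ (by simpa [e, h1 y] using (h1 x).symm)
  refine ⟨g⁻¹, fun y => ?_⟩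
  obtain ⟨x, rfl⟩ := hf.surjective_of_finite (Equiv.refl _) y
  exact ⟨x, by rw [h1]; group, (h2 x).symm⟩

theorem Good.fibers {X : Type*} [Group X] [Fintype X] {ρ : P →* X} (g : Good ρ) (hρ : Injective ρ) (hS : Syl ρ) :
    (∀ a : RealOdd X, ∃ y : {μ : P →* ℂˣ // ∀ x, μ x ^ 2 = 1}, RR ρ y.1 a.1) ∧
    (∀ (a : RealOdd X) (y y' : {μ : P →* ℂˣ // ∀ x, μ x ^ 2 = 1}), RR ρ y.1 a.1 → (RR ρ y'.1 a.1 ↔ Cj ρ y.1 y'.1)) ∧
    ∀ y : {μ : P →* ℂˣ // ∀ x, μ x ^ 2 = 1}, Nat.card {a : RealOdd X // RR ρ y.1 a.1} = 1 := by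
  refine ⟨fun a => ?_, fun a y y' r => ⟨g.un2 _ _ _ a.1.2 r, fun c => r.of_cj (c.symm hρ)⟩, fun y => ?_⟩
  · obtain ⟨μ, r⟩ := g.ex1 _ a.1.2 a.2.1 a.2.2
    exact ⟨⟨μ, r.sq⟩, r⟩
  · obtain ⟨χ, hχ, r⟩ := g.ex2 y.1 y.2 (by rw [(MonoidHom.ker_eq_bot_iff _).2 hρ]; exact bot_le)
    exact Nat.card_eq_one_iff_exists.2 ⟨⟨⟨⟨χ, hχ⟩, r.real, r.odd hS⟩, r⟩, fun a =>
      Subtype.ext (Subtype.ext (Subtype.ext (g.un1 _ _ _ a.1.1.2 hχ a.2 r)))⟩

theorem card_realOdd {H : Type*} [Group H] [Finite H] [Group.IsSolvable G] [Group.IsSolvable H] {π : P →* G}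
    {π' : P →* H} (hπ : Injective π) (hπ' : Injective π') (hS : Syl π) (hS' : Syl π')
    (h : ∀ μ μ', Cj π μ μ' ↔ Cj π' μ μ') : Nat.card (RealOdd G) = Nat.card (RealOdd H) := by
  have := Fintype.ofFinite G
  have := Fintype.ofFinite H
  obtain ⟨a1, a2, a3⟩ := (good _ G π rfl hS).fibers hπ hS
  obtain ⟨b1, b2, b3⟩ := (good _ H π' rfl hS').fibers hπ' hS'
  exact mck_card_eq_of_fibers ⟨fun y y' => Cj π y.1 y'.1, fun y => Cj.refl π y.1, fun c => c.symm hπ, Cj.trans⟩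
    _ _ a1 a2 b1 (fun b y y' r => (b2 b y y' r).trans (h _ _).symm) fun y => (a3 y).trans (b3 y).symm

theorem card_realOdd_normalizer [Group.IsSolvable G] (S : Sylow 2 G) :
    Nat.card (RealOdd G) = Nat.card (RealOdd (normalizer ((S : Subgroup G) : Set G))) := by
  haveI : Fact (Nat.Prime 2) := ⟨Nat.prime_two⟩
  have hS : Syl (S : Subgroup G).subtype := by
    rw [Syl, range_subtype]
    exact ⟨S.2, Nat.not_even_iff_odd.1 fun e => S.not_dvd_index (even_iff_two_dvd.1 e)⟩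
  refine card_realOdd (π' := (S : Subgroup G).subtype.codRestrict _ fun x => le_normalizer x.2)
    (subtype_injective _) (fun x y e => Subtype.ext (by simpa using e)) hS (hS.sub _)
    fun μ μ' => ⟨fun ⟨g, h⟩ => ⟨⟨g, mem_normalizer_fintype fun x hx => ?_⟩, fun x => (h x).imp fun y e =>
      ⟨Subtype.ext e.1, e.2⟩⟩, Cj.of_sub⟩
  obtain ⟨y, e, -⟩ := h ⟨x, hx⟩
  exact (show (y : G) = g * x * g⁻¹ from e) ▸ y.2

/-- a group with a normal Sylow 2-subgroup. -/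
theorem all_real_iff (S : Sylow 2 G) :
    (∀ χ : IrrCharacter (normalizer ((S : Subgroup G) : Set G)), Odd (charDegree χ.1) →
      ∀ g, (χ.1 g).im = 0) ↔
    (commutator (S : Subgroup G) = frattini (S : Subgroup G) ∧ normalizer ((S : Subgroup G) : Set G) = S) := by
  haveI : Fact (Nat.Prime 2) := ⟨Nat.prime_two⟩
  have key : normalizer ((S : Subgroup G) : Set G) = S → ((∀ χ : IrrCharacter (normalizer ((S : Subgroup G) : Set G)),
      Odd (charDegree χ.1) → ∀ g, (χ.1 g).im = 0) ↔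
      commutator (S : Subgroup G) = frattini (S : Subgroup G)) := fun e => by
    rw [e]
    refine ⟨fun h => le_antisymm (CL.Grp.commutator_le_frattini S.2) fun g hg =>
      mem_commutator_iff_forall_monoidHom.2 fun lam => ?_, fun h χ ho g => ?_⟩
    · by_contra h1
      have h2 : ∀ x, lam x = 1 ∨ lam x = -1 := fun x => by
        have := congrArg Units.val (sq_of_real lam x (h ⟨_, isIrrCharacter_linear lam⟩ (by
          rw [charDegree_eq_of_eq (n := 1) (by simp)]; exact odd_one) x))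
        rw [Units.val_pow_eq_pow_val, Units.val_one, sq_eq_one_iff] at this
        exact this.imp Units.ext Units.ext
      have h3 : lam.ker.index = 2 := index_eq_two_iff.2 ⟨g, fun b => by
        simp only [MonoidHom.mem_ker, map_mul, (h2 g).resolve_left h1]
        have h4 : (-1 : ℂˣ) ≠ 1 := fun e => by
          have := congrArg Units.val e
          norm_num at this
        rcases h2 b with e | e <;> simp [e, h4]⟩
      exact h1 (frattini_le_coatom (CL.Grp.isCoatom_of_index_prime (h3 ▸ Nat.prime_two)) hg)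
    · obtain ⟨lam, hl⟩ := linear_of_odd S.2 χ.2 ho
      rw [hl, ← Complex.conj_eq_iff_im]
      refine conj_of_sq ?_
      rw [← map_pow]
      exact mem_commutator_iff_forall_monoidHom.1 (h ▸ CL.Grp.pow_mem_frattini S.2 g) lam
  refine ⟨fun h => ?_, fun h => (key h.2).2 h.1⟩
  suffices e : normalizer ((S : Subgroup G) : Set G) = S from ⟨(key e).1 h, e⟩
  refine le_antisymm (fun g hg => by_contra fun h1 => ?_) le_normalizer
  let M := (S : Subgroup G).subgroupOf (normalizer ((S : Subgroup G) : Set G))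
  have hM : Odd (Nat.card (normalizer ((S : Subgroup G) : Set G) ⧸ M)) :=
    Nat.not_even_iff_odd.1 fun e => S.not_dvd_index ((even_iff_two_dvd.1 e).trans
      (relIndex_dvd_index_of_le le_normalizer))
  obtain ⟨ψ, hψ, h2⟩ := exists_irr_not_mem_charKer (g := ((⟨g, hg⟩ : normalizer ((S : Subgroup G) : Set G)) :
    _ ⧸ M)) fun e => h1 ((QuotientGroup.eq_one_iff (N := M) _).1 e)
  obtain rfl := eq_one_of_real_of_odd hM hψ fun q => by
    obtain ⟨x, rfl⟩ := QuotientGroup.mk_surjective q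
    exact h ⟨_, hψ.inflate⟩ (hM.of_dvd_nat hψ.charDegree_dvd_card) x
  exact h2 fun _ => rfl

end Count

end CL.Char.RO
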