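import Cfsg.Agent.Char.Brauer
import Cfsg.Agent.Char.BrauerPerm
import Cfsg.Agent.Char.ClassAlg
import Cfsg.Agent.Char.Linear
import Cfsg.Agent.Char.Kernel
import Cfsg.Agent.Char.Orth2

/-!
Tools for writing down a character table by hand.

* `irrSum f Φ = ∑ χ, ⟨f, χ⟩ Φ χ` is linear in `f`; for a decomposition of the regular character into known irreducible
  characters this evaluates sums over all irreducible characters without counting orbits of parameters.
* `TICC K`: trivial-intersection subgroups containing the centralisers of their non-identity elements, values and norms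
  of induced characters on them, sums of class functions over the elements conjugate into them.
* Brauer's characterisation in the form "check on subgroups containing the centralisers".
-/

set_option autoImplicit false

open Cfsg
open scoped ComplexConjugate

namespace CL.Char

variable {G : Type*} [Group G]

section IrrSum
variable [Fintype G]

/-- `∑ χ, ⟨f, χ⟩ Φ χ`. -/
noncomputable def irrSum (f : G → ℂ) (Φ : (G → ℂ) → ℂ) : ℂ :=
  ∑ χ : IrrCharacter G, classInner f χ * Φ χ

theorem irrSum_add (f f' : G → ℂ) (Φ : (G → ℂ) → ℂ) : irrSum (f + f') Φ = irrSum f Φ + irrSum f' Φ := by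
  simp only [irrSum, classInner_add_left, add_mul, Finset.sum_add_distrib]

theorem irrSum_smul (c : ℂ) (f : G → ℂ) (Φ : (G → ℂ) → ℂ) : irrSum (c • f) Φ = c * irrSum f Φ := by
  simp only [irrSum, classInner_smul_left, Finset.mul_sum, mul_assoc]

theorem irrSum_sum {ι : Type*} (s : Finset ι) (f : ι → G → ℂ) (Φ : (G → ℂ) → ℂ) :
    irrSum (∑ i ∈ s, f i) Φ = ∑ i ∈ s, irrSum (f i) Φ := by
  simp only [irrSum, classInner_sum_left, Finset.sum_mul]
  exact Finset.sum_comm

theorem irrSum_irr {θ : G → ℂ} (h : IsIrrCharacter G θ) (Φ : (G → ℂ) → ℂ) : irrSum θ Φ = Φ θ := by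
  classical
  rw [irrSum, Finset.sum_eq_single (⟨θ, h⟩ : IrrCharacter G)]
  · rw [h.classInner_self, one_mul]
  · intro χ _ hne
    rw [h.classInner_of_ne χ.2 (fun e => hne (Subtype.ext e.symm)), zero_mul]
  · simp

theorem irrSum_regChar (Φ : (G → ℂ) → ℂ) :
    irrSum (regChar G) Φ = ∑ χ : IrrCharacter G, (χ : G → ℂ) 1 * Φ χ := by
  refine Finset.sum_congr rfl fun χ _ => ?_
  rw [classInner_regChar_left, χ.2.conj_apply, inv_one]

end IrrSum

section Reg

theorem sum_monoidHom_apply [Finite G] [Fintype (G →* ℂˣ)] (hG : ∀ a b : G, a * b = b * a) (g : G) :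
    ∑ lam : G →* ℂˣ, (lam g : ℂ) = regChar G g := by
  rw [← sum_irr_one_mul_apply, ← Equiv.sum_comp (irrEquivOfComm hG)]
  refine Finset.sum_congr rfl fun lam _ => ?_
  rw [irrEquivOfComm_apply, irrEquivOfComm_apply]; simp

theorem card_monoidHom_of_comm [Finite G] (hG : ∀ a b : G, a * b = b * a) : Nat.card (G →* ℂˣ) = Nat.card G := by
  rw [Nat.card_congr (irrEquivOfComm hG), card_irr_of_comm hG]

theorem indFun_regChar [Fintype G] (K : Subgroup G) : indFun K (regChar K) = regChar G := by
  funext g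
  by_cases h : g = 1
  · subst h
    rw [indFun_one, regChar_one, regChar_one, ← Nat.cast_mul, Subgroup.index_mul_card]
  · rw [regChar_of_ne_one h]
    refine indFun_eq_zero_of_conj _ fun x hx => regChar_of_ne_one fun e => h ?_
    have e' : x⁻¹ * g * x = 1 := congrArg Subtype.val e
    calc g = x * (x⁻¹ * g * x) * x⁻¹ := by group
      _ = 1 := by rw [e']; group

theorem sum_indFun_monoidHom [Fintype G] (K : Subgroup G) [Fintype (K →* ℂˣ)] (hK : ∀ a b : K, a * b = b * a)
    (g : G) : ∑ lam : K →* ℂˣ, indFun K (fun k => (lam k : ℂ)) g = regChar G g := by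
  rw [← indFun_regChar K, ← Finset.sum_apply, ← indFun_sum]
  congr 1
  funext k
  rw [Finset.sum_apply, sum_monoidHom_apply hK]

/-- Changing the value at `1` of a generalized character by a multiple of the group order. -/
theorem isGeneralizedCharacter_of_eq_off_one [Finite G] {θ f : G → ℂ} (hf : IsGeneralizedCharacter G f)
    (h : ∀ g, g ≠ 1 → θ g = f g) (n : ℤ) (h1 : θ 1 = f 1 + n * Nat.card G) : IsGeneralizedCharacter G θ := by
  have : θ = f + (n : ℂ) • regChar G := by
    funext g
    by_cases e : g = 1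
    · subst e; simp [regChar_one, h1]
    · simp [regChar_of_ne_one e, h g e]
  rw [this]
  exact hf.add (isCharacter_regChar.isGeneralizedCharacter.intCast_smul n)

theorem isGeneralizedCharacter_const (n : ℤ) : IsGeneralizedCharacter G (fun _ => (n : ℂ)) := by
  have := (isCharacter_one (G := G)).isGeneralizedCharacter.intCast_smul n
  convert this using 1
  funext g; simp

end Reg

section Sharp
variable [Fintype G]

open Classical in
/-- The sum of `f` over the non-identity elements of `K`. -/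
noncomputable def shSum (K : Subgroup G) (f : G → ℂ) : ℂ :=
  ∑ g : G, if g ∈ K ∧ g ≠ 1 then f g else 0

variable {K : Subgroup G}

theorem shSum_congr {f f' : G → ℂ} (h : ∀ k ∈ K, k ≠ 1 → f k = f' k) : shSum K f = shSum K f' := by
  unfold shSum
  refine Finset.sum_congr rfl fun g _ => ?_
  split_ifs with hg
  · exact h g hg.1 hg.2
  · rfl

theorem shSum_eq [Fintype K] (f : G → ℂ) : shSum K f = ∑ k : K, f k - f 1 := by
  classical
  unfold shSum
  rw [eq_sub_iff_add_eq]
  have h1 : ∑ k : K, f k = ∑ g : G, if g ∈ K then f g else 0 := by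
    rw [← Finset.sum_filter]
    exact (Finset.sum_subtype _ (by simp) f).symm
  have h2 : f 1 = ∑ g : G, if g = 1 then f g else 0 := by simp
  rw [h1, h2, ← Finset.sum_add_distrib]
  refine Finset.sum_congr rfl fun g _ => ?_
  by_cases e : g = 1
  · subst e; simp [K.one_mem]
  · simp [e]

theorem shSum_const (c : ℂ) : shSum K (fun _ => c) = (Nat.card K - 1) * c := by
  classical
  have : Fintype K := Fintype.ofFinite K
  rw [shSum_eq, Finset.sum_const, Finset.card_univ, Nat.card_eq_fintype_card, nsmul_eq_mul]; ring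

theorem shSum_add (f f' : G → ℂ) : shSum K (fun g => f g + f' g) = shSum K f + shSum K f' := by
  have : Fintype K := Fintype.ofFinite K
  simp only [shSum_eq, Finset.sum_add_distrib]; ring

theorem shSum_mul_left (c : ℂ) (f : G → ℂ) : shSum K (fun g => c * f g) = c * shSum K f := by
  have : Fintype K := Fintype.ofFinite K
  simp only [shSum_eq, ← Finset.mul_sum]; ring

end Sharp

/-- `K` is a trivial-intersection subgroup containing the centralisers of its non-identity elements. -/
structure TICC (K : Subgroup G) : Prop where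
  ti : ∀ k ∈ K, k ≠ 1 → ∀ x : G, x⁻¹ * k * x ∈ K → x ∈ Subgroup.normalizer (K : Set G)
  cent : ∀ k ∈ K, k ≠ 1 → ∀ g : G, g * k = k * g → g ∈ K

/-- The non-identity elements conjugate into `K`. -/
def cjInto (K : Subgroup G) : Set G := {x : G | x ≠ 1 ∧ ∃ g, g⁻¹ * x * g ∈ K}

theorem mem_cjInto_of_mem {K : Subgroup G} {k : G} (hk : k ∈ K) (h1 : k ≠ 1) : k ∈ cjInto K :=
  ⟨h1, 1, by simpa using hk⟩

theorem conj_ne_one {x : G} (h : x ≠ 1) (g : G) : g⁻¹ * x * g ≠ 1 := fun e => h <| by
  calc x = g * (g⁻¹ * x * g) * g⁻¹ := by group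
    _ = 1 := by rw [e]; group

theorem conj_mem_cjInto {K : Subgroup G} {x : G} (g : G) : g * x * g⁻¹ ∈ cjInto K ↔ x ∈ cjInto K := by
  constructor
  · rintro ⟨h1, y, hy⟩
    refine ⟨fun e => h1 (by rw [e]; group), g⁻¹ * y, ?_⟩
    convert hy using 1; group
  · rintro ⟨h1, y, hy⟩
    refine ⟨by simpa using conj_ne_one h1 g⁻¹, g * y, ?_⟩
    convert hy using 1; group

theorem mem_cjInto_of_isConj {K : Subgroup G} {x y : G} (h : IsConj x y) (hx : x ∈ cjInto K) : y ∈ cjInto K := by
  obtain ⟨c, rfl⟩ := isConj_iff.1 h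
  exact (conj_mem_cjInto c).2 hx

namespace TICC
variable {K : Subgroup G}

theorem of_selfCent (hA : ∀ a ∈ K, a ≠ 1 → Subgroup.centralizer {a} = K) : TICC K where
  ti k hk h1 x hx := by
    have e1 := hA k hk h1
    have e2 := hA _ hx (conj_ne_one h1 x)
    rw [← Subgroup.inv_mem_iff, Subgroup.mem_normalizer_iff]
    intro y
    conv_lhs => rw [← e1]
    conv_rhs => rw [← e2]
    simp only [Subgroup.mem_centralizer_singleton_iff, inv_inv]
    constructor
    · intro h
      calc x⁻¹ * y * x * (x⁻¹ * k * x) = x⁻¹ * (y * k) * x := by group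
        _ = x⁻¹ * k * x * (x⁻¹ * y * x) := by rw [h]; group
    · intro h
      calc y * k = x * (x⁻¹ * y * x * (x⁻¹ * k * x)) * x⁻¹ := by group
        _ = k * y := by rw [h]; group
  cent k hk h1 g hg := by rw [← hA k hk h1]; exact Subgroup.mem_centralizer_singleton_iff.2 hg

theorem conj_mem (K : Subgroup G) {x k : G} (hx : x ∈ Subgroup.normalizer (K : Set G)) (hk : k ∈ K) :
    x⁻¹ * k * x ∈ K := by
  have := (Subgroup.mem_normalizer_iff.1 (inv_mem hx) k).1 hk
  simpa using this

variable [Fintype G]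

theorem indFun_eq (hK : TICC K) [Fintype (Subgroup.normalizer (K : Set G))] (θ : K → ℂ) {k : G} (hk : k ∈ K)
    (h1 : k ≠ 1) : indFun K θ k =
      (Nat.card K : ℂ)⁻¹ * ∑ x : Subgroup.normalizer (K : Set G), extendByZero K θ ((x : G)⁻¹ * k * x) := by
  classical
  rw [indFun_apply]
  congr 1
  rw [← Finset.sum_subtype (Finset.univ.filter (· ∈ Subgroup.normalizer (K : Set G))) (by simp)
    (fun x => extendByZero K θ (x⁻¹ * k * x))]
  symm
  refine Finset.sum_subset (Finset.filter_subset _ _) fun x _ hx => ?_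
  refine extendByZero_of_not_mem _ fun e => hx ?_
  simpa using hK.ti k hk h1 x e

theorem norm_indFun_le (hK : TICC K) {θ : K → ℂ} {C : ℝ} (hθ : ∀ k, ‖θ k‖ ≤ C) {k : G} (hk : k ∈ K)
    (h1 : k ≠ 1) : ‖indFun K θ k‖ ≤ Nat.card (Subgroup.normalizer (K : Set G)) / Nat.card K * C := by
  classical
  have : Fintype (Subgroup.normalizer (K : Set G)) := Fintype.ofFinite _
  rw [hK.indFun_eq θ hk h1, norm_mul, norm_inv, Complex.norm_natCast, div_mul_eq_mul_div, div_eq_inv_mul]
  refine mul_le_mul_of_nonneg_left ?_ (by positivity)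
  refine (norm_sum_le _ _).trans ?_
  refine (Finset.sum_le_sum (g := fun _ => C) fun x _ => ?_).trans ?_
  · rw [extendByZero_of_mem θ (conj_mem K x.2 hk)]; exact hθ _
  · rw [Finset.sum_const, Finset.card_univ, Nat.card_eq_fintype_card, nsmul_eq_mul]

/-- The induced function of a function that is invariant under the normaliser on the non-identity elements. -/
theorem indFun_of_invariant (hK : TICC K) {θ : K → ℂ} {k : G} (hk : k ∈ K) (h1 : k ≠ 1) {c : ℂ}
    (h : ∀ x ∈ Subgroup.normalizer (K : Set G), ∀ hx : x⁻¹ * k * x ∈ K, θ ⟨_, hx⟩ = c) :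
    indFun K θ k = Nat.card (Subgroup.normalizer (K : Set G)) / Nat.card K * c := by
  classical
  have : Fintype (Subgroup.normalizer (K : Set G)) := Fintype.ofFinite _
  rw [hK.indFun_eq θ hk h1, Finset.sum_congr rfl (g := fun _ => c) fun x _ => by
    rw [extendByZero_of_mem θ (conj_mem K x.2 hk)]; exact h x x.2 _]
  rw [Finset.sum_const, Finset.card_univ, Nat.card_eq_fintype_card (α := Subgroup.normalizer (K : Set G)),
    nsmul_eq_mul]
  ring

theorem indFun_one_eq (hK : TICC K) {k : G} (hk : k ∈ K) (h1 : k ≠ 1) :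
    indFun K (fun _ => 1) k = Nat.card (Subgroup.normalizer (K : Set G)) / Nat.card K := by
  rw [hK.indFun_of_invariant hk h1 (c := 1) fun _ _ _ => rfl, mul_one]

omit [Fintype G] in
theorem _root_.CL.Char.indFun_eq_zero_of_not_cjInto [Fintype G] (θ : K → ℂ) {g : G} (h1 : g ≠ 1)
    (hg : g ∉ cjInto K) : indFun K θ g = 0 :=
  indFun_eq_zero_of_not_conj_mem θ fun x hx => hg ⟨h1, x, hx⟩

/-- The sum of a class function over the elements conjugate into `K`. -/
theorem sum_cjInto (hK : TICC K) {f : G → ℂ} (hf : IsClassFunction G f) :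
    (Nat.card G : ℂ)⁻¹ * ∑ g : G, (cjInto K).indicator f g =
      (Nat.card (Subgroup.normalizer (K : Set G)) : ℂ)⁻¹ * shSum K f := by
  classical
  have : Fintype K := Fintype.ofFinite _
  have hN : (Nat.card (Subgroup.normalizer (K : Set G)) : ℂ) ≠ 0 := natCard_subgroup_ne_zero _
  have hKc : (Nat.card K : ℂ) ≠ 0 := natCard_subgroup_ne_zero _
  have key := sum_indFun_mul (H := K) (fun k => if k = 1 then (0 : ℂ) else 1) hf
  have e1 : ∀ g : G, indFun K (fun k => if k = 1 then (0 : ℂ) else 1) g * f g =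
      Nat.card (Subgroup.normalizer (K : Set G)) / Nat.card K * (cjInto K).indicator f g := by
    intro g
    by_cases hg : g ∈ cjInto K
    · rw [Set.indicator_of_mem hg]
      obtain ⟨h1, x, hx⟩ := hg
      rw [← indFun_conj' _ g x, hK.indFun_of_invariant hx (conj_ne_one h1 x) (c := 1), mul_one]
      intro y _ hy
      rw [if_neg]
      exact fun e => conj_ne_one (conj_ne_one h1 x) y (congrArg Subtype.val e)
    · rw [Set.indicator_of_notMem hg, mul_zero]
      by_cases h1 : g = 1
      · subst h1; rw [indFun_one]; simp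
      · rw [indFun_eq_zero_of_not_cjInto _ h1 hg, zero_mul]
  have e2 : ∑ k : K, (if k = 1 then (0 : ℂ) else 1) * f k = shSum K f := by
    rw [shSum_eq, eq_sub_iff_add_eq]
    have : f 1 = ∑ k : K, if k = 1 then f k else 0 := by simp
    rw [this, ← Finset.sum_add_distrib]
    refine Finset.sum_congr rfl fun k _ => ?_
    split_ifs <;> simp
  simp only [e1, ← Finset.mul_sum, e2] at key
  field_simp at key ⊢
  linear_combination key

/-- The norm on `K \ 1` of the character induced from a non-principal irreducible character of `K`. -/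
theorem shSum_indFun_mul_conj (hK : TICC K) {θ : K → ℂ} (hθ : IsIrrCharacter K θ) (hθ1 : θ ≠ fun _ => 1) :
    shSum K (fun g => indFun K θ g * conj (indFun K θ g)) = Nat.card (Subgroup.normalizer (K : Set G)) -
      (Nat.card (Subgroup.normalizer (K : Set G)) / Nat.card K * θ 1) ^ 2 := by
  classical
  set N := Subgroup.normalizer (K : Set G) with hN
  have : Fintype N := Fintype.ofFinite _
  have : Fintype K := Fintype.ofFinite _
  have hle : K ≤ N := Subgroup.le_normalizer
  let e : K.subgroupOf N ≃* K := Subgroup.subgroupOfEquivOfLe hle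
  let θ' : K.subgroupOf N → ℂ := fun y => θ (e y)
  have hθ' : IsIrrCharacter _ θ' := hθ.comp_mulEquiv e
  have hθ'1 : θ' ≠ fun _ => 1 := fun h => hθ1 (funext fun k => by simpa [θ'] using congrFun h (e.symm k))
  have hirr : IsIrrCharacter N (indFun (K.subgroupOf N) θ') := by
    refine frob_isIrrCharacter_indFun (fun g k hk h1 h => ?_) hθ' hθ'1
    exact hK.cent k hk (fun e => h1 (Subtype.ext e)) g (congrArg Subtype.val h)
  set Ψ := indFun (K.subgroupOf N) θ' with hΨ
  have hext : ∀ y : N, extendByZero (K.subgroupOf N) θ' y = extendByZero K θ y := by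
    intro y
    by_cases hy : (y : G) ∈ K
    · rw [extendByZero_of_mem θ' (Subgroup.mem_subgroupOf.2 hy), extendByZero_of_mem θ hy]; rfl
    · rw [extendByZero_of_not_mem θ' (fun h => hy (Subgroup.mem_subgroupOf.1 h)), extendByZero_of_not_mem θ hy]
  have hcard : Nat.card (K.subgroupOf N) = Nat.card K := Nat.card_congr e.toEquiv
  have hval : ∀ k : K, k ≠ 1 → Ψ ⟨k, hle k.2⟩ = indFun K θ k := by
    intro k h1
    rw [hK.indFun_eq θ k.2 (fun e => h1 (Subtype.ext e)), hΨ, indFun_apply, hcard]
    congr 1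
    refine Finset.sum_congr rfl fun x _ => ?_
    rw [hext]; rfl
  have hone : Ψ 1 = Nat.card N / Nat.card K * θ 1 := by
    rw [hΨ, indFun_one]
    have h2 : θ' 1 = θ 1 := by simp [θ']
    rw [h2, ← hcard, ← Subgroup.index_mul_card (K.subgroupOf N), Nat.cast_mul,
      mul_div_cancel_right₀ _ (natCard_subgroup_ne_zero _)]
  have hsum : ∑ y : N, Ψ y * conj (Ψ y) = Nat.card N := by
    have h := hirr.classInner_self
    rw [classInner_def] at h
    have hN0 : (Nat.card N : ℂ) ≠ 0 := natCard_subgroup_ne_zero _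
    field_simp at h
    exact h
  have hsum2 : ∑ y : N, Ψ y * conj (Ψ y) = ∑ k : K, Ψ ⟨k, hle k.2⟩ * conj (Ψ ⟨k, hle k.2⟩) := by
    symm
    refine Finset.sum_of_injOn (fun k : K => (⟨k, hle k.2⟩ : N)) ?_ (fun _ _ => Finset.mem_univ _) ?_ fun _ _ => rfl
    · intro a _ b _ h
      exact Subtype.ext (congrArg (fun y : N => (y : G)) h)
    · intro y _ hy
      rw [hΨ, indFun_eq_zero_of_not_mem θ' fun h => hy ⟨⟨y, Subgroup.mem_subgroupOf.1 h⟩, by simp, rfl⟩, zero_mul]
  have hconj : conj (Ψ 1) = Ψ 1 := by rw [hirr.conj_apply, inv_one]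
  rw [← hone, ← hsum, hsum2, shSum_eq, sub_eq_sub_iff_add_eq_add]
  have h3 : Ψ 1 ^ 2 = ∑ k : K, if k = 1 then Ψ ⟨k, hle k.2⟩ * conj (Ψ ⟨k, hle k.2⟩) else 0 := by
    rw [Finset.sum_ite_eq']
    simp only [Finset.mem_univ, if_true]
    change _ = Ψ 1 * conj (Ψ 1)
    rw [hconj, sq]
  have h4 : indFun K θ 1 * conj (indFun K θ 1) =
      ∑ k : K, if k = 1 then indFun K θ k * conj (indFun K θ k) else 0 := by simp
  rw [h3, h4, ← Finset.sum_add_distrib, ← Finset.sum_add_distrib]
  refine Finset.sum_congr rfl fun k _ => ?_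
  split_ifs with h1
  · ring
  · rw [hval k h1]

end TICC

/-- Brauer's characterisation of characters, checked on subgroups containing conjugates of all centralisers. -/
theorem isGeneralizedCharacter_of_centralizers [Finite G] {θ : G → ℂ} (hθ : IsClassFunction G θ)
    (h1 : ∃ n : ℤ, θ 1 = n)
    (h : ∀ g : G, g ≠ 1 → ∃ (K : Subgroup G) (x : G), (∀ y : G, y * g = g * y → x⁻¹ * y * x ∈ K) ∧
      IsGeneralizedCharacter K (fun k : K => θ k)) : IsGeneralizedCharacter G θ := by
  refine brauer_characterization_nilpotent hθ fun E hE => ?_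
  by_cases hbot : E = ⊥
  · obtain ⟨n, hn⟩ := h1
    convert isGeneralizedCharacter_const (G := E) n using 1
    funext e
    have : (e : G) = 1 := (Subgroup.eq_bot_iff_forall E).1 hbot e e.2
    rw [this, hn]
  · have : Nontrivial E := (Subgroup.nontrivial_iff_ne_bot E).2 hbot
    obtain ⟨c, hc, hc1⟩ : ∃ c ∈ Subgroup.center E, c ≠ 1 := by
      by_contra hcon
      push Not at hcon
      exact (Group.IsNilpotent.center_ne_bot E) ((Subgroup.eq_bot_iff_forall _).2 hcon)
    obtain ⟨K, x, hK, hgen⟩ := h c (fun e => hc1 (Subtype.ext e))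
    have hmem : ∀ e : E, x⁻¹ * e * x ∈ K := fun e =>
      hK e (congrArg Subtype.val (Subgroup.mem_center_iff.1 hc e))
    let f : E →* K :=
      { toFun := fun e => ⟨x⁻¹ * e * x, hmem e⟩
        map_one' := Subtype.ext (by simp)
        map_mul' := fun a b => Subtype.ext (by simp [mul_assoc]) }
    convert hgen.comp f using 1
    funext e
    exact (hθ.inv_conj e x).symm

theorem exists_gaussian_of_pow_four [Finite G] {χ : G → ℂ} (h : IsCharacter G χ) {g : G} (hg : g ^ 4 = 1) :
    ∃ x y : ℤ, χ g = x + y * Complex.I := by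
  obtain ⟨n, μ, -, hμ, hs⟩ := isChar_exists_eigenvalues h g
  have h1 := hs 1
  simp only [pow_one] at h1
  rw [h1]
  have h4 : ∀ i, ∃ x y : ℤ, μ i = x + y * Complex.I := by
    intro i
    obtain ⟨k, hk⟩ := orderOf_dvd_of_pow_eq_one hg
    have e : μ i ^ 4 = 1 := by rw [hk, pow_mul, hμ, one_pow]
    have e2 : (μ i - 1) * (μ i + 1) * (μ i - Complex.I) * (μ i + Complex.I) = 0 := by
      have := Complex.I_sq
      linear_combination e - (μ i ^ 2 - 1) * this
    rcases mul_eq_zero.1 e2 with e2 | e2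
    · rcases mul_eq_zero.1 e2 with e2 | e2
      · rcases mul_eq_zero.1 e2 with e2 | e2
        · exact ⟨1, 0, by simpa using sub_eq_zero.1 e2⟩
        · exact ⟨-1, 0, by simpa using eq_neg_of_add_eq_zero_left e2⟩
      · exact ⟨0, 1, by simpa using sub_eq_zero.1 e2⟩
    · exact ⟨0, -1, by simpa using eq_neg_of_add_eq_zero_left e2⟩
  choose x y hxy using h4
  refine ⟨∑ i, x i, ∑ i, y i, ?_⟩
  simp only [hxy, Finset.sum_add_distrib, ← Finset.sum_mul, Int.cast_sum]

theorem sq_eq_of_sq_add_sq (m : ℕ) : ∀ a b : ℤ, a ^ 2 + b ^ 2 = 2 ^ (2 * m + 1) → a ^ 2 = (2 ^ m) ^ 2 := by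
  induction m with
  | zero =>
    intro a b h
    replace h : a ^ 2 + b ^ 2 = 2 := by simpa using h
    have h1 : a ^ 2 ≤ 2 := by nlinarith [sq_nonneg b]
    have h2 : b ^ 2 ≤ 2 := by nlinarith [sq_nonneg a]
    have h3 : -1 ≤ a ∧ a ≤ 1 := ⟨by nlinarith, by nlinarith⟩
    have h4 : -1 ≤ b ∧ b ≤ 1 := ⟨by nlinarith, by nlinarith⟩
    obtain ⟨h3, h3'⟩ := h3
    obtain ⟨h4, h4'⟩ := h4
    interval_cases a <;> interval_cases b <;> simp_all
  | succ m ih =>
    intro a b h
    have h8 : (2 : ℤ) ^ (2 * (m + 1) + 1) = 4 * 2 ^ (2 * m + 1) := by ring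
    rw [h8] at h
    obtain ⟨a', ha | ha⟩ := Int.even_or_odd' a <;> obtain ⟨b', hb | hb⟩ := Int.even_or_odd' b <;> subst ha hb
    · have := ih a' b' (by nlinarith)
      rw [pow_succ 2 m]; nlinarith
    · exfalso; ring_nf at h; omega
    · exfalso; ring_nf at h; omega
    · exfalso; ring_nf at h; omega

end CL.Char
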