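/-
Characters of direct powers and regular wreath products; the Kaloujnine–Krasner embedding;
Dade's embedding of a solvable group in an M-group.
-/
import Mathlib.GroupTheory.RegularWreathProduct
import Cfsg.Agent.Char.MGroup
import Cfsg.Agent.Char.Triple
import Cfsg.Agent.Char.LinGrp1
import Cfsg.Agent.Char.DegThompson
import Cfsg.Agent.Grp.PGroupBasic
import Cfsg.Agent.Grp.MinNormal

set_option autoImplicit false
set_option linter.unusedSectionVars false

open scoped ComplexConjugate Pointwise commutatorElement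
open Cfsg CL.Grp Subgroup RegularWreathProduct

namespace CL.Char.Wr

universe u

section Pi

variable {ι : Type*} [Fintype ι] {M : ι → Type*} [∀ i, Group (M i)]

/-- The outer product of a family of functions. -/
noncomputable def piChar (φ : ∀ i, M i → ℂ) : (∀ i, M i) → ℂ := fun f => ∏ i, φ i (f i)

theorem isCharacter_piChar {φ : ∀ i, M i → ℂ} (h : ∀ i, IsCharacter (M i) (φ i)) :
    IsCharacter (∀ i, M i) (piChar φ) := by
  classical
  have : ∀ s : Finset ι, IsCharacter (∀ i, M i) (fun f => ∏ i ∈ s, φ i (f i)) := fun s => by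
    induction s using Finset.induction_on with
    | empty => simpa using isCharacter_one
    | insert i s hi ih =>
      simp only [Finset.prod_insert hi]
      exact ((h i).comp (Pi.evalMonoidHom M i)).mul ih
  exact this _

theorem classInner_piChar [∀ i, Fintype (M i)] [Fintype (∀ i, M i)] (φ ψ : ∀ i, M i → ℂ) :
    classInner (piChar φ) (piChar ψ) = ∏ i, classInner (φ i) (ψ i) := by
  classical
  rw [classInner_congr_fintype _ Pi.instFintype]
  simp only [classInner_def, piChar, map_prod, ← Finset.prod_mul_distrib, Nat.card_pi, Nat.cast_prod]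
  rw [Finset.prod_mul_distrib, Finset.prod_inv_distrib, Finset.prod_univ_sum, Fintype.piFinset_univ]

variable [∀ i, Finite (M i)]

theorem isIrr_piChar {φ : ∀ i, M i → ℂ} (h : ∀ i, IsIrrCharacter (M i) (φ i)) :
    IsIrrCharacter (∀ i, M i) (piChar φ) := by
  have := fun i => Fintype.ofFinite (M i)
  have := Fintype.ofFinite (∀ i, M i)
  refine (isCharacter_piChar fun i => (h i).isCharacter).isIrrCharacter_of_norm_one ?_
  rw [classInner_piChar]
  exact Finset.prod_eq_one fun i _ => (h i).classInner_self

theorem exists_piChar {θ : (∀ i, M i) → ℂ} (hθ : IsIrrCharacter (∀ i, M i) θ) :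
    ∃ φ : ∀ i, M i → ℂ, (∀ i, IsIrrCharacter (M i) (φ i)) ∧ θ = piChar φ := by
  classical
  have := Fintype.ofFinite (∀ i, M i)
  have h1 : regChar (∀ i, M i) = ∑ φ : ∀ i, IrrCharacter (M i),
      (∏ i, (φ i : M i → ℂ) 1) • piChar fun i => (φ i : M i → ℂ) := by
    funext f
    simp only [Finset.sum_apply, Pi.smul_apply, smul_eq_mul, piChar, ← Finset.prod_mul_distrib]
    rw [← Fintype.piFinset_univ, ← Finset.prod_univ_sum (fun i => Finset.univ)
      (fun i (χ : IrrCharacter (M i)) => (χ : M i → ℂ) 1 * (χ : M i → ℂ) (f i))]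
    simp only [sum_irr_one_mul_apply]
    by_cases hf : f = 1
    · subst hf
      simp only [Pi.one_apply, regChar_one, Nat.card_pi, Nat.cast_prod]
    · obtain ⟨i, hi⟩ := Function.ne_iff.1 hf
      rw [regChar_of_ne_one hf, Finset.prod_eq_zero (f := fun i => regChar (M i) (f i)) (Finset.mem_univ i)
        (regChar_of_ne_one hi)]
  by_contra hn
  push Not at hn
  have h2 := classInner_regChar_left θ
  rw [h1, classInner_sum_left, Finset.sum_eq_zero fun φ _ => by
    rw [classInner_smul_left, (isIrr_piChar fun i => (φ i).2).classInner_of_ne hθ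
      (hn _ fun i => (φ i).2).symm, mul_zero], eq_comm, map_eq_zero] at h2
  exact hθ.one_ne_zero h2

theorem piChar_inj {φ ψ : ∀ i, M i → ℂ} (hφ : ∀ i, IsIrrCharacter (M i) (φ i))
    (hψ : ∀ i, IsIrrCharacter (M i) (ψ i)) (h : piChar φ = piChar ψ) (i : ι) : φ i = ψ i := by
  have := fun i => Fintype.ofFinite (M i)
  have := Fintype.ofFinite (∀ i, M i)
  have h1 := classInner_piChar φ ψ
  rw [h, (isIrr_piChar hψ).classInner_self] at h1
  exact (hφ i).eq_of_classInner_ne_zero (hψ i) fun h0 =>
    one_ne_zero (h1.trans (Finset.prod_eq_zero (Finset.mem_univ i) h0))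

end Pi

/-- A criterion for a character to be monomial. -/
theorem isMonomialChar_of_hom {G K : Type*} [Group G] [Fintype G] [Group K] [Fintype K] (j : K →* G)
    (hj : Function.Injective j) (μ : K →* ℂˣ) {χ : G → ℂ} (hχ : IsIrrCharacter G χ)
    (h : classInner (fun k => χ (j k)) (fun k => (μ k : ℂ)) ≠ 0)
    (hc : Nat.card G ≤ charDegree χ * Nat.card K) : IsMonomialChar χ := by
  have := Fintype.ofFinite j.range
  let e := (MonoidHom.ofInjective hj).symm
  let lam : j.range →* ℂˣ := μ.comp e.toMonoidHom
  have hl := isCharacter_unitsHom lam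
  have h1 : classInner (indFun j.range fun x => (lam x : ℂ)) χ ≠ 0 := by
    rw [classInner_indFun_eq_res hl hχ.isCharacter, ← classInner_comp_mulEquiv e.symm]
    simpa [lam, e, MonoidHom.ofInjective_apply] using h
  have h2 := (isCharacter_indFun hl).charDegree_le_of_classInner_ne_zero hχ h1
  have h3 : charDegree (indFun j.range fun x => (lam x : ℂ)) = j.range.index := by
    rw [charDegree_indFun hl, charDegree_monoidHom, mul_one]
  have h4 : j.range.index ≤ charDegree χ := by
    rw [← j.range.index_mul_card, Nat.card_congr e.toEquiv] at hc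
    exact Nat.le_of_mul_le_mul_right hc Nat.card_pos
  refine ⟨j.range, lam, ((isCharacter_indFun hl).eq_of_classInner_ne_zero_of_one_eq hχ h1 ?_).symm⟩
  rw [← (isCharacter_indFun hl).cast_charDegree, ← hχ.cast_charDegree, h3, le_antisymm h4 (h3 ▸ h2)]

theorem IsMonomialChar.data {G : Type*} [Group G] [Fintype G] {χ : G → ℂ} (hχ : IsIrrCharacter G χ)
    (h : IsMonomialChar χ) : ∃ (H : Subgroup G) (lam : H →* ℂˣ), charDegree χ * Nat.card H = Nat.card G ∧
      ∀ [Fintype H], classInner (fun x : H => χ x) (fun x => (lam x : ℂ)) ≠ 0 := by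
  obtain ⟨H, lam, rfl⟩ := h
  have hl := isCharacter_unitsHom lam
  refine ⟨H, lam, by rw [charDegree_indFun hl, charDegree_monoidHom, mul_one, index_mul_card], ?_⟩
  intro _
  rw [← classInner_indFun_eq_res hl hχ.isCharacter, hχ.classInner_self]
  exact one_ne_zero

section Wreath

variable {D D' Q : Type*} [Group D] [Group D'] [Group Q]

/-- The map of wreath products induced by a homomorphism. -/
def wrMap (f : D →* D') : D ≀ᵣ Q →* D' ≀ᵣ Q where
  toFun w := ⟨fun x => f (w.left x), w.right⟩
  map_one' := by ext <;> simp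
  map_mul' a b := by ext <;> simp

theorem wrMap_injective {f : D →* D'} (hf : Function.Injective f) :
    Function.Injective (wrMap f : D ≀ᵣ Q →* D' ≀ᵣ Q) := fun _ _ e =>
  RegularWreathProduct.ext (funext fun x => hf (congrFun (congrArg left e) x)) (congrArg right e :)

theorem wrMap_surjective {f : D →* D'} (hf : Function.Surjective f) :
    Function.Surjective (wrMap f : D ≀ᵣ Q →* D' ≀ᵣ Q) := fun w =>
  ⟨⟨fun x => (hf (w.left x)).choose, w.right⟩,
    RegularWreathProduct.ext (funext fun x => (hf (w.left x)).choose_spec) rfl⟩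

/-- The Kaloujnine–Krasner embedding. -/
noncomputable def kk {G : Type*} [Group G] (N : Subgroup G) [N.Normal] : G →* N ≀ᵣ (G ⧸ N) where
  toFun g := ⟨fun x => ⟨x.out⁻¹ * g * ((g : G ⧸ N)⁻¹ * x).out, by
    rw [← QuotientGroup.eq_one_iff]; simp⟩, g⟩
  map_one' := by ext <;> simp
  map_mul' a b := by ext <;> simp [mul_assoc]

theorem kk_injective {G : Type*} [Group G] (N : Subgroup G) [N.Normal] : Function.Injective (kk N) := by
  refine (injective_iff_map_eq_one _).2 fun g hg => ?_
  have h1 : (g : G ⧸ N) = 1 := congrArg right hg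
  have h2 : (1 : G ⧸ N).out⁻¹ * g * ((g : G ⧸ N)⁻¹ * 1).out = 1 :=
    congrArg Subtype.val (congrFun (congrArg left hg) 1)
  rw [h1, inv_one, mul_one] at h2
  rwa [mul_assoc, inv_mul_eq_one, right_eq_mul] at h2

variable (D Q) in
/-- The base group. -/
abbrev base : Subgroup (D ≀ᵣ Q) := (rightHom : D ≀ᵣ Q →* Q).ker

variable (D Q) in
/-- The base group is the direct power. -/
def baseEquiv : (Q → D) ≃* base D Q where
  toFun f := ⟨⟨f, 1⟩, rfl⟩
  invFun b := b.1.left
  left_inv _ := rfl
  right_inv b := Subtype.ext (RegularWreathProduct.ext rfl b.2.symm)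
  map_mul' a b := Subtype.ext (by ext <;> simp)

theorem conj_left (w : D ≀ᵣ Q) (b : base D Q) (x : Q) :
    (w * b * w⁻¹).left x = w.left x * b.1.left (w.right⁻¹ * x) * (w.left x)⁻¹ := by
  have : b.1.right = 1 := b.2
  simp [this]

theorem index_base : (base D Q).index = Nat.card Q := by
  rw [index_ker, MonoidHom.range_eq_top.2 fun q => ⟨inl q, rfl⟩, card_top]

variable [Fintype Q]

theorem piChar_conj {φ : Q → D → ℂ} (h : ∀ x, IsClassFunction D (φ x)) (w : D ≀ᵣ Q) (b : base D Q) :
    piChar φ (w * b * w⁻¹).left = piChar (fun x => φ (w.right * x)) b.1.left := by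
  simp only [piChar, conj_left, h _ _]
  exact Fintype.prod_equiv (Equiv.mulLeft w.right⁻¹) _ _ fun x => by simp

/-- The product of the coordinates under a homomorphism to a commutative group. -/
def prodHom {A : Type*} [CommGroup A] (f : D →* A) : D ≀ᵣ Q →* A where
  toFun w := ∏ x, f (w.left x)
  map_one' := by simp
  map_mul' a b := by
    simp only [mul_left, Pi.mul_apply, map_mul, Finset.prod_mul_distrib]
    congr 1
    exact Fintype.prod_equiv (Equiv.mulLeft a.right⁻¹) _ _ fun x => rfl

/-- The wreath product of an M-group with a group of prime order is an M-group. -/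
theorem isMonomialChar_wreath [Fintype D] [Fintype (D ≀ᵣ Q)] (hQ : (Nat.card Q).Prime)
    (hD : ∀ χ, IsIrrCharacter D χ → IsMonomialChar χ) {χ : D ≀ᵣ Q → ℂ} (hχ : IsIrrCharacter _ χ) :
    IsMonomialChar χ := by
  classical
  have := Fintype.ofFinite (base D Q)
  obtain ⟨θ, hθ, h1⟩ := exists_irr_constituent_restrict (base D Q) hχ
  obtain ⟨φ, hφ, h2⟩ := exists_piChar (hθ.comp_mulEquiv (baseEquiv D Q))
  have h3 : ∀ b : base D Q, θ b = piChar φ b.1.left := fun b => by
    rw [← h2]; exact congrArg θ ((baseEquiv D Q).apply_symm_apply b).symm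
  have h4 : classInner (fun f => χ (baseEquiv D Q f)) (piChar φ) ≠ 0 := by
    rwa [← h2, classInner_comp_mulEquiv (baseEquiv D Q) (fun b => χ b)]
  have hd : charDegree θ = ∏ x, charDegree (φ x) := charDegree_eq_of_eq (by
    rw [h3, Nat.cast_prod]
    exact Finset.prod_congr rfl fun x _ => (hφ x).cast_charDegree.symm)
  obtain ⟨e, he⟩ := (hχ.isCharacter.restrict (base D Q)).exists_nat_classInner hθ.isCharacter
  have h5 := clifford_degree hχ hθ h1
  rw [he, ← hχ.cast_charDegree, ← hθ.cast_charDegree] at h5
  have h6 : charDegree χ = e * (inertia (base D Q) θ).index * charDegree θ := by exact_mod_cast h5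
  have he0 : 1 ≤ e := Nat.pos_of_ne_zero fun h0 => h1 (by rw [he, h0, Nat.cast_zero])
  have hW : Nat.card (D ≀ᵣ Q) = Nat.card D ^ Nat.card Q * Nat.card Q := RegularWreathProduct.card
  -- the constituent over a product of linear characters
  have key : ∀ (H : Q → Subgroup D) (lam : ∀ x, H x →* ℂˣ) [∀ x, Fintype (H x)],
      (∀ x, classInner (fun y : H x => φ x y) (fun y => (lam x y : ℂ)) ≠ 0) →
      classInner (fun f : ∀ x, H x => χ (baseEquiv D Q fun x => f x))
        (piChar fun x y => (lam x y : ℂ)) ≠ 0 := fun H lam _ h => by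
    refine classInner_comp_ne_zero_of_constituent (MonoidHom.pi fun x => (H x).subtype.comp
      (Pi.evalMonoidHom _ x)) (hχ.isCharacter.comp ((base D Q).subtype.comp (baseEquiv D Q).toMonoidHom))
      (isIrr_piChar hφ) (isCharacter_piChar fun x => isCharacter_unitsHom _) h4 ?_
    have := classInner_piChar (fun x (y : H x) => φ x y) fun x y => (lam x y : ℂ)
    exact fun h0 => Finset.prod_ne_zero_iff.2 (fun x _ => h x) (this.symm.trans h0)
  have hco := isCoatom_of_index_prime (H := base D Q) (index_base (D := D) (Q := Q) ▸ hQ)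
  rcases (le_inertia hθ.isClassFunction).eq_or_lt with hT | hT
  · choose H lam h7 h8 using fun x => IsMonomialChar.data (hφ x) (hD _ (hφ x))
    have := fun x => Fintype.ofFinite (H x)
    let j : (∀ x, H x) →* D ≀ᵣ Q := ((base D Q).subtype.comp (baseEquiv D Q).toMonoidHom).comp
      (MonoidHom.pi fun x => (H x).subtype.comp (Pi.evalMonoidHom _ x))
    refine isMonomialChar_of_hom j (fun a b h => funext fun x => Subtype.ext (congrFun (congrArg left h) x))
      (∏ x, (lam x).comp (Pi.evalMonoidHom _ x)) hχ ?_ ?_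
    · have := key H lam fun x => h8 x
      have h9 : (fun f : ∀ x, H x => ((∏ x, (lam x).comp (Pi.evalMonoidHom _ x)) f : ℂ)) =
          piChar fun x y => (lam x y : ℂ) := by
        funext f; simp [piChar]
      rw [h9]
      exact this
    · rw [hW, h6, ← hT, index_base, hd, Nat.card_pi, mul_assoc, mul_assoc, ← Finset.prod_mul_distrib,
        Finset.prod_congr rfl fun x _ => h7 x, Finset.prod_const, Finset.card_univ,
        ← Nat.card_eq_fintype_card, mul_comm]
      exact Nat.le_mul_of_pos_left _ he0
  · have hT' := hco.2 _ hT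
    have h7 : ∀ x, φ x = φ 1 := fun x => by
      have := piChar_inj (φ := fun y => φ (x * y)) (fun y => hφ _) hφ (funext fun f => by
        have := (inertia_eq_top_iff.1 hT') (inl x) (baseEquiv D Q f)
        rw [h3, h3, piChar_conj fun x => (hφ x).isClassFunction] at this
        exact this) 1
      rwa [mul_one] at this
    obtain ⟨H, lam, h8, h9⟩ := IsMonomialChar.data (hφ 1) (hD _ (hφ 1))
    have := Fintype.ofFinite H
    have := Fintype.ofFinite (H ≀ᵣ Q)
    have h10 := key (fun _ => H) (fun _ => lam) fun x => by rw [h7]; exact h9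
    let i : (Q → H) →* H ≀ᵣ Q := (base H Q).subtype.comp (baseEquiv H Q).toMonoidHom
    have hi : i.range = base H Q := by
      rw [MonoidHom.range_comp, MonoidHom.range_eq_top.2 (baseEquiv H Q).surjective,
        ← MonoidHom.range_eq_map, range_subtype]
    have h11 : (fun f => (prodHom lam (i f) : ℂ)) = piChar fun _ y => (lam y : ℂ) := by
      funext f; simp [piChar, prodHom, i, baseEquiv]
    obtain ⟨ψ, hψ, h12, h13⟩ := exists_irr_constituent_comp_ne_zero i
      (hχ.isCharacter.comp (wrMap H.subtype)).isClassFunction h10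
    obtain ⟨β, hβ, h14, rfl⟩ := gallagher_surj_hom i
      ((base H Q).subtype_injective.comp (baseEquiv H Q).injective) (hi ▸ inferInstance)
      (isCharacter_unitsHom (prodHom lam)) (isIrrCharacter_linear ((prodHom lam).comp i)) hψ
      (by rwa [h11])
    have := Fact.mk hQ
    have hc := (isCyclic_of_prime_card (α := Q) rfl).isMulCommutative
    obtain ⟨ν, rfl⟩ := hβ.isCharacter.exists_monoidHom_of_one (hβ.one_eq_one_iff.2 (le_trans (by
      rw [hi]
      exact commutator_le.2 fun a _ b _ => by
        rw [MonoidHom.mem_ker, map_commutatorElement, commutatorElement_eq_one_iff_mul_comm]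
        exact hc.1.1 _ _) h14))
    refine isMonomialChar_of_hom (wrMap H.subtype) (wrMap_injective H.subtype_injective)
      (ν * prodHom lam) hχ (by
        have h15 : (fun k : H ≀ᵣ Q => ((ν * prodHom lam : H ≀ᵣ Q →* ℂˣ) k : ℂ)) =
            (fun g => (ν g : ℂ)) * fun g => (prodHom lam g : ℂ) := by
          funext g; simp
        rw [h15]
        exact h12) ?_
    rw [hW, h6, hT', index_top, mul_one, hd, Finset.prod_congr rfl fun x _ => by rw [h7 x],
      Finset.prod_const, Finset.card_univ, ← Nat.card_eq_fintype_card, RegularWreathProduct.card, mul_assoc,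
      ← mul_assoc (_ ^ _), ← mul_pow, h8]
    exact Nat.le_mul_of_pos_left _ he0

end Wreath

theorem exists_normal_index_prime (G : Type*) [Group G] [Finite G] [Nontrivial G] [Group.IsSolvable G] :
    ∃ N : Subgroup G, N.Normal ∧ N.index.Prime := by
  obtain ⟨p, N, hp, h1, -, h2⟩ := exists_normal_index_prime_of_commutator_ne_top
    (Group.IsSolvable.commutator_lt_top_of_nontrivial G).ne
  exact ⟨N, h1, h2 ▸ hp⟩

/-- Dade: every finite solvable group embeds in an M-group. -/
theorem exists_mgroup (G : Type u) [Group G] [Finite G] : Group.IsSolvable G →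
    ∃ (M : Type u) (_ : Group M) (_ : Fintype M), (∀ χ : M → ℂ, IsIrrCharacter M χ → IsMonomialChar χ) ∧
      ∃ f : G →* M, Function.Injective f := by
  refine induction_on_card (P := fun G _ _ => Group.IsSolvable G →
    ∃ (M : Type u) (_ : Group M) (_ : Fintype M), (∀ χ : M → ℂ, IsIrrCharacter M χ → IsMonomialChar χ) ∧
      ∃ f : G →* M, Function.Injective f) (fun G _ _ ih h => ?_) G
  rcases subsingleton_or_nontrivial G with hG | hG
  · have := Fintype.ofFinite G
    exact ⟨G, inferInstance, this, fun χ hχ => isMonomialChar_of_isNilpotent hχ,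
      MonoidHom.id G, Function.injective_id⟩
  obtain ⟨N, hN, hp⟩ := exists_normal_index_prime G
  obtain ⟨M, _, _, h1, f, hf⟩ := ih N (card_subgroup_lt fun e => hp.one_lt.ne' (by rw [e, index_top]))
    inferInstance
  have := Fintype.ofFinite (G ⧸ N)
  exact ⟨M ≀ᵣ (G ⧸ N), inferInstance, Fintype.ofFinite _, fun χ hχ =>
    @isMonomialChar_wreath _ _ _ _ _ _ (Fintype.ofFinite _) hp h1 _ hχ,
    (wrMap f).comp (kk N), (wrMap_injective hf).comp (kk_injective N)⟩

end CL.Char.Wr
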